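import Mathlib
import Cfsg.Agent.Lib.Helper6.Nc.Defs

/-!
# Nc hive (S3894, helper6), leaf NC-NFP2 (Mathlib only)
-/

set_option autoImplicit false

namespace Cfsg.Agent.Lib.Helper6.Nc

open Matrix
open scoped commutatorElement

variable {F : Type*} [Field F]

/-- iterated commutators `⁅b, ·⁆` go down the lower central series of `A` -/
theorem ncnfp2_lcs {Δ : Type*} [Group Δ] (A : Subgroup Δ) (b x : Δ) (hb : b ∈ A) (hx : x ∈ A)
    (k : ℕ) : (fun y => b * y * b⁻¹ * y⁻¹)^[k] x ∈ A.lowerCentralSeries k := by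
  induction k with
  | zero => simpa using hx
  | succ k ih =>
    rw [Function.iterate_succ_apply', Subgroup.mem_lowerCentralSeries_succ_iff]
    set y := (fun y => b * y * b⁻¹ * y⁻¹)^[k] x with hy
    have h1 : ⁅y, b⁆ ∈ Subgroup.closure {z | ∃ p ∈ A.lowerCentralSeries k, ∃ q ∈ A, ⁅p, q⁆ = z} :=
      Subgroup.subset_closure ⟨y, ih, b, hb, rfl⟩
    have h2 := Subgroup.inv_mem _ h1
    have e : (⁅y, b⁆)⁻¹ = b * y * b⁻¹ * y⁻¹ := by
      rw [commutatorElement_def]; group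
    rw [e] at h2
    exact h2

/-- if `b s b⁻¹ = s⁻¹`, the iterated commutators of `s` with `b` are the powers `s ^ ((-2)^k)` -/
theorem ncnfp2_iter {Δ : Type*} [Group Δ] (b s : Δ) (hbs : b * s * b⁻¹ = s⁻¹) (k : ℕ) :
    (fun y => b * y * b⁻¹ * y⁻¹)^[k] s = s ^ ((-2 : ℤ) ^ k) := by
  induction k with
  | zero => simp
  | succ k ih =>
    rw [Function.iterate_succ_apply', ih]
    show b * s ^ ((-2 : ℤ) ^ k) * b⁻¹ * (s ^ ((-2 : ℤ) ^ k))⁻¹ = s ^ ((-2 : ℤ) ^ (k + 1))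
    have h1 : b * s ^ ((-2 : ℤ) ^ k) * b⁻¹ = (s⁻¹) ^ ((-2 : ℤ) ^ k) := by
      rw [← hbs, conj_zpow]
    rw [h1, _root_.inv_zpow, ← _root_.zpow_neg, ← _root_.zpow_add]
    congr 1
    ring

/-- NC-NFP2. -/
theorem nc_nfp2 {Γ : Type*} [Group Γ] (A D : Subgroup Γ) (hA : Group.IsNilpotent ↥A) (s : Γ)
    (hsA : s ∈ A) (hsD : s ∈ D)
    (h : ∀ g ∈ A, g⁻¹ * s * g ∈ D → g ∉ D → g * s * g⁻¹ = s⁻¹) (hs : ∀ k : ℕ, s ^ (2 ^ k) ≠ 1) :
    A ≤ D := by
  by_contra hAD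
  -- the subgroup `H = D ⊓ A` inside `↥A`
  set H : Subgroup ↥A := D.subgroupOf A with hH
  have hHtop : H ≠ ⊤ := by
    intro htop
    apply hAD
    intro a ha
    have : (⟨a, ha⟩ : ↥A) ∈ H := by rw [htop]; exact Subgroup.mem_top _
    exact Subgroup.mem_subgroupOf.mp this
  have hnc := Group.normalizerCondition_of_isNilpotent (G := ↥A)
  have hlt : H < Subgroup.normalizer (H : Set ↥A) := hnc H (lt_top_iff_ne_top.mpr hHtop)
  obtain ⟨b, hbN, hbH⟩ := SetLike.exists_of_lt hlt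
  have hbD : (b : Γ) ∉ D := fun hb => hbH (Subgroup.mem_subgroupOf.mpr hb)
  -- `b⁻¹ s b ∈ D`
  have hsH : (⟨s, hsA⟩ : ↥A) ∈ H := Subgroup.mem_subgroupOf.mpr hsD
  have hbinvN : b⁻¹ ∈ Subgroup.normalizer (H : Set ↥A) := Subgroup.inv_mem _ hbN
  have h1 : b⁻¹ * ⟨s, hsA⟩ * b⁻¹⁻¹ ∈ H := (Subgroup.mem_normalizer_iff.mp hbinvN _).mp hsH
  have h2 : (b : Γ)⁻¹ * s * (b : Γ) ∈ D := by
    have := Subgroup.mem_subgroupOf.mp h1
    simpa using this
  have hbs : (b : Γ) * s * (b : Γ)⁻¹ = s⁻¹ := h (b : Γ) b.2 h2 hbD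
  -- nilpotency kills the iterated commutators
  obtain ⟨n, hn⟩ := (Subgroup.isNilpotent_iff_lowerCentralSeries A).mp hA
  have h3 := ncnfp2_lcs A (b : Γ) s b.2 hsA n
  rw [hn, Subgroup.mem_bot, ncnfp2_iter (b : Γ) s hbs n] at h3
  have h5 : s ^ (2 ^ n) = 1 := by
    rcases Nat.even_or_odd n with hev | hodd
    · have e : ((-2 : ℤ) ^ n) = ((2 ^ n : ℕ) : ℤ) := by
        rw [Even.neg_pow hev]; push_cast; rfl
      rw [e, zpow_natCast] at h3
      exact h3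
    · have e : ((-2 : ℤ) ^ n) = -((2 ^ n : ℕ) : ℤ) := by
        rw [Odd.neg_pow hodd]; push_cast; rfl
      rw [e, _root_.zpow_neg, zpow_natCast, inv_eq_one] at h3
      exact h3
  exact hs n h5

end Cfsg.Agent.Lib.Helper6.Nc
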