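import Mathlib
import Cfsg.Agent.Lib.Helper67.OgDefs

/-! # Og hive (S2413 / S2414 / S2415), leaf OG-SCAL, core version: the three OG-EE facts used
(`Ee_conj`, `Ee_smul_left`, `Ee_zero`) are hypotheses. -/

set_option autoImplicit false
set_option linter.unusedSectionVars false
set_option linter.unusedVariables false

namespace Cfsg.Agent.Lib.Helper67.Og

open Matrix Module QuadraticMap
open Cfsg.Agent.Lib.Helper37 Cfsg.Agent.Lib.Helper8

variable {ι : Type} [Fintype ι] [DecidableEq ι] {F : Type*} [Field F]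
variable (Q : QuadraticForm F (ι → F)) (hQ : (QuadraticMap.polarBilin Q).Nondegenerate)
variable {k : ℕ} {e f : Fin k → ι → F}
variable {L : Matrix.SpecialLinearGroup (Fin k) F →* ↥(Cfsg.isometryGroup F ⇑Q)}

/-- the diagonal entries of the torus element -/
def scal_d {k : ℕ} (i j : Fin k) (c : F) : Fin k → F :=
  fun l => if l = i then c else if l = j then c⁻¹ else 1

theorem scal_det {k : ℕ} (i j : Fin k) (hij : i ≠ j) (c : F) (hc : c ≠ 0) :
    (Matrix.diagonal (scal_d i j c)).det = 1 := by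
  rw [Matrix.det_diagonal, Finset.prod_eq_mul i j hij]
  · simp only [scal_d, if_true]
    rw [if_neg (Ne.symm hij), mul_inv_cancel₀ hc]
  · intro l _ hl
    simp only [scal_d]
    rw [if_neg hl.1, if_neg hl.2]
  · intro h; exact absurd (Finset.mem_univ i) h
  · intro h; exact absurd (Finset.mem_univ j) h

/-- the torus element `diag(c at i, c⁻¹ at j, 1 elsewhere)` of `SL_k` -/
def scal_t {k : ℕ} (i j : Fin k) (hij : i ≠ j) (c : F) (hc : c ≠ 0) :
    Matrix.SpecialLinearGroup (Fin k) F :=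
  ⟨Matrix.diagonal (scal_d i j c), scal_det i j hij c hc⟩

theorem scal_act_e (D : LeviData Q k e f L) (i j : Fin k) (hij : i ≠ j) (c : F) (hc : c ≠ 0) :
    act Q (L (scal_t i j hij c hc)) (e i) = c • e i := by
  rw [D.act_e]
  rw [Finset.sum_eq_single i]
  · show (Matrix.diagonal (scal_d i j c)) i i • e i = c • e i
    rw [Matrix.diagonal_apply_eq]
    simp only [scal_d, if_true]
  · intro l _ hl
    show (Matrix.diagonal (scal_d i j c)) l i • e l = 0
    rw [Matrix.diagonal_apply_ne _ hl, zero_smul]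
  · intro h; exact absurd (Finset.mem_univ i) h

/-- OG-SCAL, core version. -/
theorem scal_core
    (hconj : ∀ (g : ↥(Cfsg.isometryGroup F ⇑Q)) (u v : ι → F),
      g * Ee Q hQ u v * g⁻¹ = Ee Q hQ (act Q g u) (act Q g v))
    (hsmul : ∀ {u v : ι → F}, Q u = 0 → polar ⇑Q u v = 0 → ∀ c : F,
      Ee Q hQ (c • u) v = Ee Q hQ u (c • v))
    (hzero : ∀ u : ι → F, Ee Q hQ u 0 = 1)
    (D : LeviData Q k e f L) (hk : 2 ≤ k)
    (H : Subgroup ↥(Cfsg.isometryGroup F ⇑Q)) (hLH : ∀ A, L A ∈ H) (i : Fin k) {w : ι → F}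
    (hw : InW Q e f w) (h : Ee Q hQ (e i) w ∈ H) (c : F) : Ee Q hQ (e i) (c • w) ∈ H := by
  by_cases hc : c = 0
  · subst hc
    rw [zero_smul, hzero]
    exact H.one_mem
  obtain ⟨j, hij⟩ : ∃ j : Fin k, i ≠ j := by
    by_cases hi : i.val = 0
    · exact ⟨⟨1, by omega⟩, fun h => by have := congrArg Fin.val h; simp at this; omega⟩
    · exact ⟨⟨0, by omega⟩, fun h => by have := congrArg Fin.val h; simp at this; omega⟩
  have h1 : L (scal_t i j hij c hc) * Ee Q hQ (e i) w * (L (scal_t i j hij c hc))⁻¹ ∈ H :=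
    H.mul_mem (H.mul_mem (hLH _) h) (H.inv_mem (hLH _))
  rw [hconj, scal_act_e Q D i j hij c hc, D.act_w _ w hw,
    hsmul (D.fam.qe i) (hw i).1 c] at h1
  exact h1
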