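import Mathlib
import Cfsg.Agent.Lib.Helper67.OgDefs
import Cfsg.Agent.Lib.Helper54.OgEE
import Cfsg.Agent.Lib.Helper27.OgSCALcore

/-! # Og hive (S2413 / S2414 / S2415), leaf OG-SCAL: `Ee_smul_W_mem` (wrapper of `scal_core`). -/

set_option autoImplicit false
set_option linter.unusedSectionVars false
set_option linter.unusedVariables false

namespace Cfsg.Agent.Lib.Helper67.Og

open Matrix Module QuadraticMap
open Cfsg.Agent.Lib.Helper37 Cfsg.Agent.Lib.Helper8

variable {ι : Type} [Fintype ι] [DecidableEq ι] {F : Type*} [Field F]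
variable (Q : QuadraticForm F (ι → F)) (hQ : (QuadraticMap.polarBilin Q).Nondegenerate)
variable {k : ℕ} {e f : Fin k → ι → F}
variable {L : Matrix.SpecialLinearGroup (Fin k) F →* ↥(Cfsg.isometryGroup F ⇑Q)}

/-- OG-SCAL : scaling the `W`-argument by conjugation with a Levi torus element -/
theorem Ee_smul_W_mem (D : LeviData Q k e f L) (hk : 2 ≤ k)
    (H : Subgroup ↥(Cfsg.isometryGroup F ⇑Q)) (hLH : ∀ A, L A ∈ H) (i : Fin k) {w : ι → F}
    (hw : InW Q e f w) (h : Ee Q hQ (e i) w ∈ H) (c : F) : Ee Q hQ (e i) (c • w) ∈ H :=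
  scal_core Q hQ (Ee_conj Q hQ) (fun hu huv c => Ee_smul_left Q hQ hu huv c) (Ee_zero Q hQ)
    D hk H hLH i hw h c

end Cfsg.Agent.Lib.Helper67.Og
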