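import Cfsg.Agent.Lib.Helper22.CgDefs

/-!
# Cg hive (S4257, helper22), leaf CG7: `q`-part and `q'`-part of an element (helper27)
-/

set_option autoImplicit false

namespace Cfsg.Agent.Lib.Helper22.Cg

open Subgroup

universe u

/-- CG7. `q`-part and `q'`-part of an element. -/
theorem cg7 {G : Type u} [Group G] [Finite G] (q : ℕ) [Fact q.Prime] (g : G) :
    ∃ a b : G, a * b = g ∧ a ∈ zpowers g ∧ b ∈ zpowers g ∧ (∃ n : ℕ, orderOf a = q ^ n) ∧
      ¬ q ∣ orderOf b := by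
  have hq : q.Prime := Fact.out
  have hn0 : orderOf g ≠ 0 := (orderOf_pos g).ne'
  obtain ⟨k, m, hqm, hnm⟩ := Nat.exists_eq_pow_mul_and_not_dvd hn0 q hq.ne_one
  have hcop : Nat.Coprime (q ^ k) m := by
    apply Nat.Coprime.pow_left
    exact (Nat.Prime.coprime_iff_not_dvd hq).mpr hqm
  obtain ⟨x, hx1, hx0⟩ := Nat.chineseRemainder hcop 1 0
  obtain ⟨y, hy0, hy1⟩ := Nat.chineseRemainder hcop 0 1
  have hmx : m ∣ x := (Nat.modEq_zero_iff_dvd).mp hx0
  have hqy : q ^ k ∣ y := (Nat.modEq_zero_iff_dvd).mp hy0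
  refine ⟨g ^ x, g ^ y, ?_, Subgroup.npow_mem_zpowers g x, Subgroup.npow_mem_zpowers g y, ?_, ?_⟩
  · rw [← pow_add]
    have h1 : x + y ≡ 1 [MOD q ^ k] := by
      have := Nat.ModEq.add hx1 hy0
      simpa using this
    have h2 : x + y ≡ 1 [MOD m] := by
      have := Nat.ModEq.add hx0 hy1
      simpa using this
    have h3 : x + y ≡ 1 [MOD q ^ k * m] := (Nat.modEq_and_modEq_iff_modEq_mul hcop).mp ⟨h1, h2⟩
    rw [← hnm] at h3
    have := (pow_eq_pow_iff_modEq (x := g)).mpr h3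
    rw [this, pow_one]
  · have h1 : (g ^ x) ^ (q ^ k) = 1 := by
      rw [← pow_mul]
      apply orderOf_dvd_iff_pow_eq_one.mp
      rw [hnm, mul_comm x]
      exact Nat.mul_dvd_mul_left _ hmx
    have h2 : orderOf (g ^ x) ∣ q ^ k := orderOf_dvd_of_pow_eq_one h1
    obtain ⟨j, _, hj⟩ := (Nat.dvd_prime_pow hq).mp h2
    exact ⟨j, hj⟩
  · intro hdvd
    have h1 : (g ^ y) ^ m = 1 := by
      rw [← pow_mul]
      apply orderOf_dvd_iff_pow_eq_one.mp
      rw [hnm]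
      exact Nat.mul_dvd_mul_right hqy _
    have h2 : orderOf (g ^ y) ∣ m := orderOf_dvd_of_pow_eq_one h1
    exact hqm (dvd_trans hdvd h2)

end Cfsg.Agent.Lib.Helper22.Cg
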