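import Cfsg.Agent.Lib.Helper41.PsDefs

/-!
# Ps hive (S4321, helper41), leaf PS20 (E): a non-abelian `p`-group has an element of `Z₂ \ Z` (helper27)
-/

set_option autoImplicit false

namespace Cfsg.Agent.Lib.Helper41.Ps

open Subgroup
open Cfsg.Agent.Lib.Helper22.Cg

universe u

/-- PS20 (E). a non-abelian `p`-group `P` has an element of `Z₂(P) \\ Z(P)`. -/
theorem ps_cE {G : Type u} [Group G] [Finite G] (p : ℕ) [Fact p.Prime] (P : Sylow p G)
    (α : G) (hα : α ∈ P) (hnc : ¬ ∀ y ∈ P, α * y = y * α) :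
    ∃ a ∈ P, (¬ ∀ y ∈ P, a * y = y * a) ∧
      ∀ y ∈ P, ∀ u ∈ P, (y * a * y⁻¹ * a⁻¹) * u = u * (y * a * y⁻¹ * a⁻¹) := by
  -- the quotient `P / Z(P)` is a nontrivial finite `p`-group
  have hP : IsPGroup p ↥(P : Subgroup G) := P.isPGroup'
  have hQ : IsPGroup p (↥(P : Subgroup G) ⧸ Subgroup.center ↥(P : Subgroup G)) :=
    hP.to_quotient (Subgroup.center ↥(P : Subgroup G))
  have hαZ : (⟨α, hα⟩ : ↥(P : Subgroup G)) ∉ Subgroup.center ↥(P : Subgroup G) := by
    intro hmem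
    apply hnc
    intro y hy
    have := (Subgroup.mem_center_iff.mp hmem) ⟨y, hy⟩
    have h2 := congrArg Subtype.val this
    exact h2.symm
  have hne : (QuotientGroup.mk (⟨α, hα⟩ : ↥(P : Subgroup G)) :
      ↥(P : Subgroup G) ⧸ Subgroup.center ↥(P : Subgroup G)) ≠ 1 := by
    intro h
    exact hαZ ((QuotientGroup.eq_one_iff _).mp h)
  have : Nontrivial (↥(P : Subgroup G) ⧸ Subgroup.center ↥(P : Subgroup G)) :=
    nontrivial_of_ne _ _ hne
  have : Nontrivial ↥(Subgroup.center (↥(P : Subgroup G) ⧸ Subgroup.center ↥(P : Subgroup G))) :=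
    hQ.center_nontrivial
  obtain ⟨z, hz⟩ := exists_ne (1 :
    ↥(Subgroup.center (↥(P : Subgroup G) ⧸ Subgroup.center ↥(P : Subgroup G))))
  obtain ⟨zv, hzc⟩ := z
  obtain ⟨a', rfl⟩ := QuotientGroup.mk_surjective zv
  have ha'Z : a' ∉ Subgroup.center ↥(P : Subgroup G) := by
    intro hmem
    apply hz
    apply Subtype.ext
    exact (QuotientGroup.eq_one_iff _).mpr hmem
  refine ⟨a'.1, a'.2, ?_, ?_⟩
  · intro hall
    apply ha'Z
    rw [Subgroup.mem_center_iff]
    intro g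
    apply Subtype.ext
    exact (hall g.1 g.2).symm
  · intro y hy u hu
    have hcomm : (QuotientGroup.mk (⟨y, hy⟩ : ↥(P : Subgroup G)) :
        ↥(P : Subgroup G) ⧸ Subgroup.center ↥(P : Subgroup G)) * QuotientGroup.mk a' =
        QuotientGroup.mk a' * QuotientGroup.mk (⟨y, hy⟩ : ↥(P : Subgroup G)) :=
      (Subgroup.mem_center_iff.mp hzc) _
    have hc : (⟨y, hy⟩ : ↥(P : Subgroup G)) * a' * (⟨y, hy⟩ : ↥(P : Subgroup G))⁻¹ * a'⁻¹ ∈
        Subgroup.center ↥(P : Subgroup G) := by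
      rw [← QuotientGroup.eq_one_iff]
      rw [QuotientGroup.mk_mul, QuotientGroup.mk_mul, QuotientGroup.mk_mul, QuotientGroup.mk_inv,
        QuotientGroup.mk_inv, hcomm]
      group
    have := (Subgroup.mem_center_iff.mp hc) ⟨u, hu⟩
    have h2 := congrArg Subtype.val this
    exact h2.symm

end Cfsg.Agent.Lib.Helper41.Ps
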