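import Mathlib
import Cfsg.Prelude.Def_ClassicalGeometry
import Cfsg.Prelude.Def_GeometricClasses
import Cfsg.Agent.Lib.Helper5.HyDefs

/-! # HY-T5, part (a) (helper27, for helper5's S5992/S5993 hive): Witt extension by reflections

For a symmetric bilinear form `B` on `V` (`2 ≠ 0`), a nondegenerate subspace `C` and two nondegenerate subspaces
`W, W' ≤ C` which are isometric, there is a bijective isometry of `V` which fixes `C^⊥` pointwise, maps `C` into
itself and `W` onto `W'`. -/

set_option autoImplicit false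

namespace Cfsg.Agent.Lib.Helper5.Hy

open Polynomial Module
open Cfsg.Agent.Lib.Helper2.BG Cfsg.Agent.Lib.Helper99 Cfsg.Agent.Lib.Helper48.Ti

section witt

variable {F V : Type*} [Field F] [AddCommGroup V] [Module F V]
variable {B : V →ₗ[F] V →ₗ[F] F}

/-- the reflection in the vector `a` -/
noncomputable def t5_refl (B : V →ₗ[F] V →ₗ[F] F) (a : V) : V →ₗ[F] V :=
  LinearMap.id - (2 * (B a a)⁻¹) • (B a).smulRight a

theorem t5_refl_apply (a v : V) : t5_refl B a v = v - (2 * (B a a)⁻¹ * B a v) • a := by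
  unfold t5_refl
  rw [LinearMap.sub_apply, LinearMap.smul_apply, LinearMap.smulRight_apply, LinearMap.id_apply,
    smul_smul]

theorem t5_refl_refl (a : V) (ha : B a a ≠ 0) (v : V) : t5_refl B a (t5_refl B a v) = v := by
  rw [t5_refl_apply, t5_refl_apply, map_sub, map_smul, smul_eq_mul]
  have h : (2 * (B a a)⁻¹ * (B a v - 2 * (B a a)⁻¹ * B a v * B a a)) =
      - (2 * (B a a)⁻¹ * B a v) := by
    field_simp
    ring
  rw [h, neg_smul]
  abel

theorem t5_refl_isom (hs : ∀ u v, B u v = B v u) (a : V) (ha : B a a ≠ 0) (u v : V) :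
    B (t5_refl B a u) (t5_refl B a v) = B u v := by
  rw [t5_refl_apply, t5_refl_apply]
  simp only [map_sub, map_smul, LinearMap.sub_apply, LinearMap.smul_apply, smul_eq_mul]
  rw [hs u a]
  field_simp
  ring

theorem t5_refl_fix (a v : V) (h : B a v = 0) : t5_refl B a v = v := by
  rw [t5_refl_apply, h, mul_zero, zero_smul, sub_zero]

theorem t5_refl_mem (a : V) {N : Submodule F V} (ha : a ∈ N) {v : V} (hv : v ∈ N) :
    t5_refl B a v ∈ N := by
  rw [t5_refl_apply]
  exact N.sub_mem hv (N.smul_mem _ ha)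

/-- the reflection as a linear equivalence -/
noncomputable def t5_reflE (B : V →ₗ[F] V →ₗ[F] F) (a : V) (ha : B a a ≠ 0) : V ≃ₗ[F] V :=
  LinearEquiv.ofInvolutive (t5_refl B a) (t5_refl_refl a ha)

theorem t5_reflE_apply (a : V) (ha : B a a ≠ 0) (v : V) : t5_reflE B a ha v = t5_refl B a v := rfl

/-- a bijective isometry of `V` fixing `C^⊥` pointwise and mapping `C` into itself -/
def t5_Good (B : V →ₗ[F] V →ₗ[F] F) (C : Submodule F V) (g : V ≃ₗ[F] V) : Prop :=
  (∀ u v, B (g u) (g v) = B u v) ∧ (∀ v, (∀ u ∈ C, B u v = 0) → g v = v) ∧ ∀ c ∈ C, g c ∈ C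

theorem t5_good_refl (C : Submodule F V) : t5_Good B C (LinearEquiv.refl F V) :=
  ⟨fun _ _ => rfl, fun _ _ => rfl, fun _ hc => hc⟩

theorem t5_good_trans {C : Submodule F V} {g₁ g₂ : V ≃ₗ[F] V} (h₁ : t5_Good B C g₁)
    (h₂ : t5_Good B C g₂) : t5_Good B C (g₁.trans g₂) := by
  refine ⟨fun u v => ?_, fun v hv => ?_, fun c hc => ?_⟩
  · rw [LinearEquiv.trans_apply, LinearEquiv.trans_apply, h₂.1, h₁.1]
  · rw [LinearEquiv.trans_apply, h₁.2.1 v hv, h₂.2.1 v hv]
  · rw [LinearEquiv.trans_apply]
    exact h₂.2.2 _ (h₁.2.2 c hc)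

theorem t5_good_reflE (hs : ∀ u v, B u v = B v u) {C : Submodule F V} (a : V) (haC : a ∈ C)
    (ha : B a a ≠ 0) : t5_Good B C (t5_reflE B a ha) := by
  refine ⟨fun u v => t5_refl_isom hs a ha u v, fun v hv => ?_, fun c hc => t5_refl_mem a haC hc⟩
  exact t5_refl_fix a v (hv a haC)

/-- moving an anisotropic vector to another one of the same norm -/
theorem t5_move (hs : ∀ u v, B u v = B v u) (h2 : (2 : F) ≠ 0) {C : Submodule F V} {u u' : V}
    (hu : u ∈ C) (hu' : u' ∈ C) (hnorm : B u' u' = B u u) (huu : B u u ≠ 0) :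
    ∃ τ : V ≃ₗ[F] V, t5_Good B C τ ∧ τ u = u' := by
  by_cases h : B (u - u') (u - u') = 0
  · -- then `u + u'` is anisotropic
    have hsum : B (u + u') (u + u') ≠ 0 := by
      intro h'
      have e : B (u - u') (u - u') + B (u + u') (u + u') = 2 * B u u + 2 * B u' u' := by
        simp only [map_sub, map_add, LinearMap.sub_apply, LinearMap.add_apply]
        ring
      rw [h, h', hnorm, add_zero] at e
      have : (2 * 2 : F) * B u u = 0 := by linear_combination -e
      rcases mul_eq_zero.1 this with h4 | h4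
      · exact h2 ((mul_self_eq_zero).1 h4)
      · exact huu h4
    have hu'u' : B u' u' ≠ 0 := by rw [hnorm]; exact huu
    refine ⟨(t5_reflE B (u + u') hsum).trans (t5_reflE B u' hu'u'),
      t5_good_trans (t5_good_reflE hs _ (C.add_mem hu hu') hsum) (t5_good_reflE hs _ hu' hu'u'), ?_⟩
    rw [LinearEquiv.trans_apply, t5_reflE_apply, t5_reflE_apply]
    have h1 : t5_refl B (u + u') u = - u' := by
      rw [t5_refl_apply]
      have hc : 2 * (B (u + u') (u + u'))⁻¹ * B (u + u') u = 1 := by
        have e : B (u + u') (u + u') = 2 * B (u + u') u := by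
          have e2 : B (u - u') (u - u') = 2 * B u u - 2 * B u u' := by
            simp only [map_sub, LinearMap.sub_apply]
            rw [hs u' u, hnorm]
            ring
          rw [h] at e2
          simp only [map_add, LinearMap.add_apply]
          rw [hs u' u, hnorm]
          ring
        rw [e] at hsum ⊢
        have hx : B (u + u') u ≠ 0 := by
          intro h0
          apply hsum
          rw [h0, mul_zero]
        field_simp
      rw [hc, one_smul]
      abel
    rw [h1, t5_refl_apply, map_neg]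
    have hc : 2 * (B u' u')⁻¹ * -(B u' u') = -2 := by
      field_simp
    rw [hc]
    rw [neg_smul, two_smul]
    abel
  · refine ⟨t5_reflE B (u - u') h, t5_good_reflE hs _ (C.sub_mem hu hu') h, ?_⟩
    rw [t5_reflE_apply, t5_refl_apply]
    have hc : 2 * (B (u - u') (u - u'))⁻¹ * B (u - u') u = 1 := by
      have e : B (u - u') (u - u') = 2 * B (u - u') u := by
        simp only [map_sub, LinearMap.sub_apply]
        rw [hs u' u, hnorm]
        ring
      rw [e] at h ⊢
      have hx : B (u - u') u ≠ 0 := by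
        intro h0
        apply h
        rw [h0, mul_zero]
      field_simp
    rw [hc, one_smul]
    abel

end witt

end Cfsg.Agent.Lib.Helper5.Hy
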