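import Mathlib
import Cfsg.Prelude.Def_ClassicalGeometry
import Cfsg.Prelude.Def_GeometricClasses
import Cfsg.Agent.Lib.Helper5.HyDefs
import Cfsg.Agent.Lib.Helper27.HyT5a

/-! # HY-T5, part (b) (helper27, for helper5's S5992/S5993 hive): Witt extension, the induction -/

set_option autoImplicit false

namespace Cfsg.Agent.Lib.Helper5.Hy

open Polynomial Module
open Cfsg.Agent.Lib.Helper2.BG Cfsg.Agent.Lib.Helper99 Cfsg.Agent.Lib.Helper48.Ti

section witt2

variable {F V : Type*} [Field F] [AddCommGroup V] [Module F V]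
variable {B : V →ₗ[F] V →ₗ[F] F}

/-- a nonzero nondegenerate subspace contains an anisotropic vector -/
theorem t5_exists_aniso (hs : ∀ u v, B u v = B v u) (h2 : (2 : F) ≠ 0) {W : Submodule F V}
    (hW : Nd B W) (hne : W ≠ ⊥) : ∃ u ∈ W, B u u ≠ 0 := by
  by_contra hcon
  push Not at hcon
  apply hne
  rw [Submodule.eq_bot_iff]
  intro u hu
  apply hW u hu
  intro v hv
  have h1 := hcon (u + v) (W.add_mem hu hv)
  simp only [map_add, LinearMap.add_apply] at h1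
  rw [hcon u hu, hcon v hv, hs v u] at h1
  have : (2 : F) * B u v = 0 := by linear_combination h1
  exact (mul_eq_zero.1 this).resolve_left h2

/-- decomposition along an anisotropic vector -/
theorem t5_decomp (a : V) (ha : B a a ≠ 0) (x : V) :
    B a (x - ((B a a)⁻¹ * B a x) • a) = 0 := by
  rw [map_sub, map_smul, smul_eq_mul]
  field_simp
  ring

theorem t5_decomp_mem (a : V) (ha : B a a ≠ 0) {N : Submodule F V} (haN : a ∈ N) {x : V}
    (hx : x ∈ N) : x - ((B a a)⁻¹ * B a x) • a ∈ N ⊓ LinearMap.ker (B a) :=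
  ⟨N.sub_mem hx (N.smul_mem _ haN), LinearMap.mem_ker.2 (t5_decomp a ha x)⟩

theorem t5_nd_inf (hs : ∀ u v, B u v = B v u) {N : Submodule F V} (hN : Nd B N) {a : V}
    (haN : a ∈ N) (ha : B a a ≠ 0) : Nd B (N ⊓ LinearMap.ker (B a)) := by
  intro x hx hx0
  apply hN x hx.1
  intro z hz
  have h := hx0 _ (t5_decomp_mem a ha haN hz)
  rw [map_sub, map_smul, smul_eq_mul] at h
  have hxa : B x a = 0 := by rw [hs]; exact LinearMap.mem_ker.1 hx.2
  rw [hxa, mul_zero, sub_zero] at h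
  exact h

theorem t5_nd_map {W : Submodule F V} (hW : Nd B W) (τ : V ≃ₗ[F] V)
    (hτ : ∀ u v, B (τ u) (τ v) = B u v) : Nd B (W.map (τ : V →ₗ[F] V)) := by
  rintro _ ⟨x, hx, rfl⟩ h
  have hx0 : x = 0 := hW x hx (fun v hv => by
    have := h _ ⟨v, hv, rfl⟩
    rw [LinearEquiv.coe_coe, hτ] at this
    exact this)
  rw [hx0, map_zero]

variable [FiniteDimensional F V]

/-- Witt's extension theorem, in the form needed here -/
theorem t5_witt (hs : ∀ u v, B u v = B v u) (h2 : (2 : F) ≠ 0) :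
    ∀ (n : ℕ) (C W W' : Submodule F V) (φ : V →ₗ[F] V), finrank F W ≤ n → W ≤ C → W' ≤ C →
      Nd B W → (∀ w ∈ W, φ w ∈ W') → (∀ w₁ ∈ W, ∀ w₂ ∈ W, B (φ w₁) (φ w₂) = B w₁ w₂) →
      ∃ g : V ≃ₗ[F] V, t5_Good B C g ∧ W.map (g : V →ₗ[F] V) ≤ W' := by
  intro n
  induction n with
  | zero =>
    intro C W W' φ hn hWC hW'C hW hφ hiso
    have hbot : W = ⊥ := by
      apply Submodule.finrank_eq_zero.1
      omega
    refine ⟨LinearEquiv.refl F V, t5_good_refl C, ?_⟩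
    rw [hbot, Submodule.map_bot]
    exact bot_le
  | succ n ih =>
    intro C W W' φ hn hWC hW'C hW hφ hiso
    by_cases hne : W = ⊥
    · refine ⟨LinearEquiv.refl F V, t5_good_refl C, ?_⟩
      rw [hne, Submodule.map_bot]
      exact bot_le
    obtain ⟨u, huW, huu⟩ := t5_exists_aniso hs h2 hW hne
    have hu'W' : φ u ∈ W' := hφ u huW
    have hnorm : B (φ u) (φ u) = B u u := hiso u huW u huW
    obtain ⟨τ, hτ, hτu⟩ := t5_move hs h2 (hWC huW) (hW'C hu'W') hnorm huu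
    have hu'u' : B (φ u) (φ u) ≠ 0 := by rw [hnorm]; exact huu
    have hW₂C : W.map (τ : V →ₗ[F] V) ≤ C := by
      rintro _ ⟨x, hx, rfl⟩
      exact hτ.2.2 x (hWC hx)
    have hu'W₂ : φ u ∈ W.map (τ : V →ₗ[F] V) := ⟨u, huW, hτu⟩
    have hW₂ : Nd B (W.map (τ : V →ₗ[F] V)) := t5_nd_map hW τ hτ.1
    have hlt : finrank F ↥(W.map (τ : V →ₗ[F] V) ⊓ LinearMap.ker (B (φ u))) <
        finrank F ↥(W.map (τ : V →ₗ[F] V)) := by
      apply Submodule.finrank_lt_finrank_of_lt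
      refine lt_of_le_of_ne inf_le_left ?_
      intro h
      have hmem : φ u ∈ W.map (τ : V →ₗ[F] V) ⊓ LinearMap.ker (B (φ u)) := by
        rw [h]; exact hu'W₂
      exact hu'u' (LinearMap.mem_ker.1 hmem.2)
    have hfr : finrank F ↥(W.map (τ : V →ₗ[F] V)) = finrank F W := LinearEquiv.finrank_map_eq τ W
    obtain ⟨g₁, hg₁, hmap⟩ := ih (C ⊓ LinearMap.ker (B (φ u)))
      (W.map (τ : V →ₗ[F] V) ⊓ LinearMap.ker (B (φ u))) (W' ⊓ LinearMap.ker (B (φ u)))
      (φ ∘ₗ (τ.symm : V →ₗ[F] V)) (by omega) (inf_le_inf_right _ hW₂C)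
      (inf_le_inf_right _ hW'C) (t5_nd_inf hs hW₂ hu'W₂ hu'u')
      (by
        rintro w ⟨⟨x, hx, rfl⟩, hwP⟩
        rw [LinearMap.comp_apply, LinearEquiv.coe_coe, LinearEquiv.coe_coe,
          LinearEquiv.symm_apply_apply]
        have hwP' : B (φ u) (τ x) = 0 := LinearMap.mem_ker.1 hwP
        refine ⟨hφ x hx, LinearMap.mem_ker.2 ?_⟩
        rw [hiso u huW x hx, ← hτ.1 u x, hτu]
        exact hwP')
      (by
        rintro w₁ ⟨⟨x₁, hx₁, rfl⟩, -⟩ w₂ ⟨⟨x₂, hx₂, rfl⟩, -⟩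
        rw [LinearMap.comp_apply, LinearMap.comp_apply, LinearEquiv.coe_coe, LinearEquiv.coe_coe,
          LinearEquiv.symm_apply_apply, LinearEquiv.symm_apply_apply, hiso x₁ hx₁ x₂ hx₂, hτ.1])
    -- `g₁` fixes `φ u`
    have hg₁u : g₁ (φ u) = φ u := by
      apply hg₁.2.1
      intro c hc
      rw [hs]
      exact LinearMap.mem_ker.1 hc.2
    have hsplit : ∀ x : V, x = ((B (φ u) (φ u))⁻¹ * B (φ u) x) • φ u +
        (x - ((B (φ u) (φ u))⁻¹ * B (φ u) x) • φ u) := by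
      intro x; abel
    have hg₁C : t5_Good B C g₁ := by
      refine ⟨hg₁.1, fun v hv => hg₁.2.1 v (fun c hc => hv c hc.1), fun c hc => ?_⟩
      rw [hsplit c, map_add, map_smul, hg₁u]
      exact C.add_mem (C.smul_mem _ (hW'C hu'W'))
        (hg₁.2.2 _ (t5_decomp_mem (φ u) hu'u' (hW'C hu'W') hc)).1
    refine ⟨τ.trans g₁, t5_good_trans hτ hg₁C, ?_⟩
    rintro _ ⟨x, hx, rfl⟩
    rw [LinearEquiv.coe_coe, LinearEquiv.trans_apply]
    have hτx : τ x ∈ W.map (τ : V →ₗ[F] V) := ⟨x, hx, rfl⟩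
    rw [hsplit (τ x), map_add, map_smul, hg₁u]
    refine W'.add_mem (W'.smul_mem _ hu'W') ?_
    exact (hmap ⟨_, t5_decomp_mem (φ u) hu'u' hu'W₂ hτx, rfl⟩).1

end witt2

end Cfsg.Agent.Lib.Helper5.Hy
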