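import Mathlib
import Cfsg.Prelude.Def_ClassicalGeometry
import Cfsg.Prelude.Def_GeometricClasses
import Cfsg.Agent.Lib.Helper5.HyDefs
import Cfsg.Agent.Lib.Helper14.FiniteQuad2
import Cfsg.Agent.Lib.Helper27.HyT5b

/-! # HY-T5, part (c) (helper27, for helper5's S5992/S5993 hive): isometry classes of nondegenerate
subspaces, and the orbit count -/

set_option autoImplicit false

namespace Cfsg.Agent.Lib.Helper5.Hy

open Polynomial Module
open Cfsg.Agent.Lib.Helper2.BG Cfsg.Agent.Lib.Helper99 Cfsg.Agent.Lib.Helper48.Ti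

section classes

variable {F V : Type*} [Field F] [AddCommGroup V] [Module F V]
variable {B : V →ₗ[F] V →ₗ[F] F}

/-- two subspaces are isometric -/
def t5_Iso (B : V →ₗ[F] V →ₗ[F] F) (W W' : Submodule F V) : Prop :=
  ∃ g : ↥W ≃ₗ[F] ↥W', ∀ x y : W, B (g x : V) (g y : V) = B (x : V) (y : V)

theorem t5_iso_symm {W W' : Submodule F V} (h : t5_Iso B W W') : t5_Iso B W' W := by
  obtain ⟨g, hg⟩ := h
  refine ⟨g.symm, fun x y => ?_⟩
  rw [← hg, g.apply_symm_apply, g.apply_symm_apply]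

theorem t5_plus_of_iso {W W' : Submodule F V} (h : t5_Iso B W W') (hP : Plus B W) :
    Plus B W' := by
  obtain ⟨g, hg⟩ := h
  obtain ⟨U, hUW, hTI, hdim⟩ := hP
  have hf : Function.Injective (W'.subtype ∘ₗ (g : ↥W →ₗ[F] ↥W')) :=
    W'.injective_subtype.comp g.injective
  refine ⟨(U.comap W.subtype).map (W'.subtype ∘ₗ (g : ↥W →ₗ[F] ↥W')), ?_, ?_, ?_⟩
  · rintro _ ⟨x, -, rfl⟩
    exact (g x).2
  · rintro _ ⟨x, hx, rfl⟩ _ ⟨y, hy, rfl⟩
    show B (g x : V) (g y : V) = 0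
    rw [hg]
    exact hTI _ hx _ hy
  · have h1 : finrank F ↥((U.comap W.subtype).map (W'.subtype ∘ₗ (g : ↥W →ₗ[F] ↥W'))) =
        finrank F ↥(U.comap W.subtype) :=
      (Submodule.equivMapOfInjective _ hf _).finrank_eq.symm
    have h2 : finrank F ↥(U.comap W.subtype) = finrank F U :=
      (Submodule.comapSubtypeEquivOfLe hUW).finrank_eq
    have h3 : finrank F W' = finrank F W := g.finrank_eq.symm
    rw [h1, h2, h3, hdim]

theorem t5_plus_iff_of_iso {W W' : Submodule F V} (h : t5_Iso B W W') : Plus B W ↔ Plus B W' :=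
  ⟨t5_plus_of_iso h, t5_plus_of_iso (t5_iso_symm h)⟩

theorem t5_iso_extend {W W' : Submodule F V} (h : t5_Iso B W W') :
    ∃ φ : V →ₗ[F] V, (∀ w ∈ W, φ w ∈ W') ∧
      ∀ w₁ ∈ W, ∀ w₂ ∈ W, B (φ w₁) (φ w₂) = B w₁ w₂ := by
  obtain ⟨g, hg⟩ := h
  obtain ⟨φ, hφ⟩ := LinearMap.exists_extend (W'.subtype ∘ₗ (g : ↥W →ₗ[F] ↥W'))
  have key : ∀ w (hw : w ∈ W), φ w = (g ⟨w, hw⟩ : V) := by
    intro w hw
    have := LinearMap.congr_fun hφ ⟨w, hw⟩
    simpa using this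
  refine ⟨φ, fun w hw => ?_, fun w₁ h₁ w₂ h₂ => ?_⟩
  · rw [key w hw]
    exact (g _).2
  · rw [key w₁ h₁, key w₂ h₂, hg]

theorem t5_iso_map (W : Submodule F V) (g : V ≃ₗ[F] V) (hg : ∀ u v, B (g u) (g v) = B u v) :
    t5_Iso B W (W.map (g : V →ₗ[F] V)) := by
  refine ⟨g.submoduleMap W, fun x y => ?_⟩
  rw [LinearEquiv.submoduleMap_apply, LinearEquiv.submoduleMap_apply, hg]

/-- the restriction of `B` to a subspace -/
def t5_res (B : V →ₗ[F] V →ₗ[F] F) (W : Submodule F V) : LinearMap.BilinForm F W :=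
  B.domRestrict₁₂ W W

theorem t5_res_apply (W : Submodule F V) (x y : W) : t5_res B W x y = B (x : V) (y : V) := rfl

theorem t5_res_symm (hs : ∀ u v, B u v = B v u) (W : Submodule F V) : (t5_res B W).IsSymm :=
  ⟨fun x y => by rw [t5_res_apply, t5_res_apply, hs]⟩

theorem t5_res_nondeg (hs : ∀ u v, B u v = B v u) {W : Submodule F V} (hW : Nd B W) :
    (t5_res B W).Nondegenerate := by
  constructor
  · intro x hx
    have : (x : V) = 0 := hW x x.2 (fun v hv => hx ⟨v, hv⟩)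
    exact Subtype.ext this
  · intro y hy
    have : (y : V) = 0 := hW y y.2 (fun v hv => by
      rw [hs]
      exact hy ⟨v, hv⟩)
    exact Subtype.ext this

end classes

section three

variable {F : Type*} [Field F] [Fintype F]

omit [Fintype F] in
theorem t5_ringChar (h2 : (2 : F) ≠ 0) : ringChar F ≠ 2 := by
  intro h
  apply h2
  have := ringChar.Nat.cast_ringChar (R := F)
  rw [h] at this
  exact_mod_cast this

theorem t5_sq_of_pow (h2 : (2 : F) ≠ 0) {a b : F} (ha : a ≠ 0) (hb : b ≠ 0)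
    (h : (a / b) ^ (Fintype.card F / 2) = 1) : ∃ s : F, s ≠ 0 ∧ a = s ^ 2 * b := by
  have hab : a / b ≠ 0 := div_ne_zero ha hb
  obtain ⟨s, hs⟩ := (FiniteField.isSquare_iff (t5_ringChar h2) hab).2 h
  refine ⟨s, ?_, ?_⟩
  · rintro rfl
    rw [mul_zero] at hs
    exact hab hs
  · rw [pow_two, ← hs]
    field_simp

/-- among three nonzero elements, two differ by a square -/
theorem t5_three (h2 : (2 : F) ≠ 0) {d₁ d₂ d₃ : F} (h₁ : d₁ ≠ 0) (h₂ : d₂ ≠ 0) (h₃ : d₃ ≠ 0) :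
    (∃ s : F, s ≠ 0 ∧ d₁ = s ^ 2 * d₂) ∨ (∃ s : F, s ≠ 0 ∧ d₁ = s ^ 2 * d₃) ∨
      (∃ s : F, s ≠ 0 ∧ d₂ = s ^ 2 * d₃) := by
  rcases FiniteField.pow_dichotomy (t5_ringChar h2) (div_ne_zero h₁ h₂) with h12 | h12
  · exact Or.inl (t5_sq_of_pow h2 h₁ h₂ h12)
  rcases FiniteField.pow_dichotomy (t5_ringChar h2) (div_ne_zero h₁ h₃) with h13 | h13
  · exact Or.inr (Or.inl (t5_sq_of_pow h2 h₁ h₃ h13))
  refine Or.inr (Or.inr (t5_sq_of_pow h2 h₂ h₃ ?_))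
  have e : d₂ / d₃ = (d₁ / d₃) / (d₁ / d₂) := by
    field_simp
  rw [e, div_pow, h12, h13]
  norm_num

end three

section classes2

variable {F V : Type*} [Field F] [Fintype F] [AddCommGroup V] [Module F V] [FiniteDimensional F V]
variable {B : V →ₗ[F] V →ₗ[F] F}

theorem t5_iso_of_disc (hs : ∀ u v, B u v = B v u) (h2 : (2 : F) ≠ 0) {W₁ W₂ : Submodule F V}
    (h₁ : Nd B W₁) (h₂ : Nd B W₂) {m : ℕ} (hm : 0 < m) (b₁ : Basis (Fin m) F W₁)
    (b₂ : Basis (Fin m) F W₂) (s : F) (hs0 : s ≠ 0)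
    (hd : (LinearMap.BilinForm.toMatrix b₁ (t5_res B W₁)).det =
      s ^ 2 * (LinearMap.BilinForm.toMatrix b₂ (t5_res B W₂)).det) : t5_Iso B W₁ W₂ := by
  have : Nonempty (Fin m) := ⟨⟨0, hm⟩⟩
  obtain ⟨g, hg⟩ := Cfsg.Agent.Lib.Helper14.exists_isometry_of_disc' h2 rfl (t5_res B W₁)
    (t5_res_symm hs W₁) (t5_res_nondeg hs h₁) (t5_res B W₂) (t5_res_symm hs W₂)
    (t5_res_nondeg hs h₂) b₁ b₂ s hs0 hd
  exact ⟨g, fun x y => hg x y⟩

/-- among three nondegenerate subspaces of the same positive dimension, two are isometric -/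
theorem t5_iso_of_three (hs : ∀ u v, B u v = B v u) (h2 : (2 : F) ≠ 0) {W₁ W₂ W₃ : Submodule F V}
    (h₁ : Nd B W₁) (h₂ : Nd B W₂) (h₃ : Nd B W₃) {m : ℕ} (hm : 0 < m)
    (e₁ : finrank F W₁ = m) (e₂ : finrank F W₂ = m) (e₃ : finrank F W₃ = m) :
    t5_Iso B W₁ W₂ ∨ t5_Iso B W₁ W₃ ∨ t5_Iso B W₂ W₃ := by
  have b₁ : Basis (Fin m) F W₁ := Module.finBasisOfFinrankEq F W₁ e₁
  have b₂ : Basis (Fin m) F W₂ := Module.finBasisOfFinrankEq F W₂ e₂
  have b₃ : Basis (Fin m) F W₃ := Module.finBasisOfFinrankEq F W₃ e₃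
  have d₁ := (LinearMap.BilinForm.nondegenerate_iff_det_ne_zero b₁).1 (t5_res_nondeg hs h₁)
  have d₂ := (LinearMap.BilinForm.nondegenerate_iff_det_ne_zero b₂).1 (t5_res_nondeg hs h₂)
  have d₃ := (LinearMap.BilinForm.nondegenerate_iff_det_ne_zero b₃).1 (t5_res_nondeg hs h₃)
  rcases t5_three h2 d₁ d₂ d₃ with ⟨s, hs0, hd⟩ | ⟨s, hs0, hd⟩ | ⟨s, hs0, hd⟩
  · exact Or.inl (t5_iso_of_disc hs h2 h₁ h₂ hm b₁ b₂ s hs0 hd)
  · exact Or.inr (Or.inl (t5_iso_of_disc hs h2 h₁ h₃ hm b₁ b₃ s hs0 hd))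
  · exact Or.inr (Or.inr (t5_iso_of_disc hs h2 h₂ h₃ hm b₂ b₃ s hs0 hd))

end classes2

end Cfsg.Agent.Lib.Helper5.Hy
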