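import Mathlib
import Cfsg.Prelude.Def_ClassicalGeometry
import Cfsg.Prelude.Def_GeometricClasses
import Cfsg.Agent.Lib.Helper5.HyDefs
import Cfsg.Agent.Lib.Helper27.HyT5c

/-! # HY-T5, part (d) (helper27, for helper5's S5992/S5993 hive): the orbit count.

`t5_main` is HY-T5 `not_dvd_card_type` with HY-T3 `exists_nd_of_type` (for the given dimension) as a
hypothesis. -/

set_option autoImplicit false

namespace Cfsg.Agent.Lib.Helper5.Hy

open Polynomial Module
open Cfsg.Agent.Lib.Helper2.BG Cfsg.Agent.Lib.Helper99 Cfsg.Agent.Lib.Helper48.Ti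

section count

variable {F V : Type*} [Field F] [AddCommGroup V] [Module F V] [FiniteDimensional F V]
variable {B : V →ₗ[F] V →ₗ[F] F}

theorem t5_good_symm {C : Submodule F V} {g : V ≃ₗ[F] V} (h : t5_Good B C g) :
    t5_Good B C g.symm := by
  refine ⟨fun u v => ?_, fun v hv => ?_, fun c hc => ?_⟩
  · rw [← h.1 (g.symm u) (g.symm v), g.apply_symm_apply, g.apply_symm_apply]
  · have := h.2.1 v hv
    conv_lhs => rw [← this]
    exact g.symm_apply_apply v
  · have hle : C.map (g : V →ₗ[F] V) ≤ C := by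
      rintro _ ⟨x, hx, rfl⟩
      exact h.2.2 x hx
    have heq : C.map (g : V →ₗ[F] V) = C :=
      Submodule.eq_of_le_of_finrank_eq hle (LinearEquiv.finrank_map_eq g C)
    have hc' : c ∈ C.map (g : V →ₗ[F] V) := by
      rw [heq]
      exact hc
    obtain ⟨x, hx, rfl⟩ := hc'
    rw [LinearEquiv.coe_coe, g.symm_apply_apply]
    exact hx

/-- the group of good isometries -/
def t5_G (B : V →ₗ[F] V →ₗ[F] F) (C : Submodule F V) : Subgroup (V ≃ₗ[F] V) where
  carrier := {g | t5_Good B C g}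
  mul_mem' := fun {a b} ha hb => by
    show t5_Good B C (b.trans a)
    exact t5_good_trans hb ha
  one_mem' := t5_good_refl C
  inv_mem' := fun {a} ha => by
    show t5_Good B C a.symm
    exact t5_good_symm ha

theorem t5_mem_G {C : Submodule F V} {g : V ≃ₗ[F] V} : g ∈ t5_G B C ↔ t5_Good B C g := Iff.rfl

/-- the action on subspaces -/
@[reducible] def t5_act (B : V →ₗ[F] V →ₗ[F] F) (C : Submodule F V) :
    MulAction (t5_G B C) (Submodule F V) where
  smul g W := W.map ((g : V ≃ₗ[F] V) : V →ₗ[F] V)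
  one_smul W := by
    show W.map (((1 : t5_G B C) : V ≃ₗ[F] V) : V →ₗ[F] V) = W
    rw [Subgroup.coe_one]
    exact Submodule.map_id W
  mul_smul g h W := by
    show W.map (((g * h : t5_G B C) : V ≃ₗ[F] V) : V →ₗ[F] V) =
      (W.map ((h : V ≃ₗ[F] V) : V →ₗ[F] V)).map ((g : V ≃ₗ[F] V) : V →ₗ[F] V)
    rw [Subgroup.coe_mul, ← Submodule.map_comp]
    rfl

end count

section main

variable {F V : Type*} [Field F] [Fintype F] [AddCommGroup V] [Module F V] [FiniteDimensional F V]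
variable {B : V →ₗ[F] V →ₗ[F] F}

theorem t5_finite : Finite (V ≃ₗ[F] V) := by
  have : Finite V := Module.finite_of_finite F
  exact Finite.of_injective (fun g : V ≃ₗ[F] V => (g : V → V)) DFunLike.coe_injective

theorem t5_main (h2 : (2 : F) ≠ 0) (hs : ∀ u v, B u v = B v u) {C : Submodule F V}
    (r : ℕ) [Fact r.Prime]
    (hno : ∀ g : Module.End F V, Isom B g → g ^ r = 1 →
      (∀ v, (∀ u ∈ C, B u v = 0) → g v = v) → g = 1)
    (m : ℕ) (h0 : 0 < m) (b : Prop)
    (hT3 : ∀ b' : Prop, ∃ W₀ : Submodule F V, W₀ ≤ C ∧ Nd B W₀ ∧ finrank F W₀ = m ∧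
      (Plus B W₀ ↔ b')) :
    ¬ r ∣ Nat.card {W : Submodule F V // W ≤ C ∧ Nd B W ∧ finrank F W = m ∧ (Plus B W ↔ b)} := by
  obtain ⟨W₁, hW₁C, hW₁, hW₁m, hW₁b⟩ := hT3 b
  obtain ⟨W₀, hW₀C, hW₀, hW₀m, hW₀b⟩ := hT3 (¬ b)
  let _ := t5_act B C
  have key : ∀ W : Submodule F V, (W ≤ C ∧ Nd B W ∧ finrank F W = m ∧ (Plus B W ↔ b)) ↔
      W ∈ MulAction.orbit (t5_G B C) W₁ := by
    intro W
    constructor
    · rintro ⟨hWC, hW, hWm, hWb⟩
      have hiso : t5_Iso B W₁ W := by
        rcases t5_iso_of_three hs h2 hW₁ hW hW₀ h0 hW₁m hWm hW₀m with h | h | h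
        · exact h
        · exfalso
          have := t5_plus_iff_of_iso h
          rw [hW₁b, hW₀b] at this
          exact iff_not_self this
        · exfalso
          have := t5_plus_iff_of_iso h
          rw [hWb, hW₀b] at this
          exact iff_not_self this
      obtain ⟨φ, hφ, hφiso⟩ := t5_iso_extend hiso
      obtain ⟨g, hg, hmap⟩ := t5_witt hs h2 (finrank F W₁) C W₁ W φ le_rfl hW₁C hWC hW₁ hφ hφiso
      have heq : W₁.map (g : V →ₗ[F] V) = W := by
        apply Submodule.eq_of_le_of_finrank_eq hmap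
        rw [LinearEquiv.finrank_map_eq g W₁, hW₁m, hWm]
      exact ⟨⟨g, t5_mem_G.2 hg⟩, heq⟩
    · rintro ⟨g, hgW⟩
      have hgW' : W₁.map ((g : V ≃ₗ[F] V) : V →ₗ[F] V) = W := hgW
      subst hgW'
      have hg : t5_Good B C (g : V ≃ₗ[F] V) := g.2
      refine ⟨?_, t5_nd_map hW₁ _ hg.1, ?_, ?_⟩
      · rintro _ ⟨x, hx, rfl⟩
        exact hg.2.2 x (hW₁C hx)
      · rw [LinearEquiv.finrank_map_eq (g : V ≃ₗ[F] V) W₁, hW₁m]
      · rw [← t5_plus_iff_of_iso (t5_iso_map W₁ (g : V ≃ₗ[F] V) hg.1)]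
        exact hW₁b
  have hcard : Nat.card {W : Submodule F V // W ≤ C ∧ Nd B W ∧ finrank F W = m ∧ (Plus B W ↔ b)} =
      (MulAction.orbit (t5_G B C) W₁).ncard := by
    rw [← Nat.card_coe_set_eq]
    exact Nat.card_congr (Equiv.subtypeEquivRight key)
  rw [hcard, ← MulAction.index_stabilizer]
  intro hdvd
  have hdvd' : r ∣ Nat.card (t5_G B C) := dvd_trans hdvd (Subgroup.index_dvd_card _)
  have : Finite (V ≃ₗ[F] V) := t5_finite
  obtain ⟨x, hx⟩ := exists_prime_orderOf_dvd_card' r hdvd'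
  have hxr : x ^ r = 1 := by rw [← hx]; exact pow_orderOf_eq_one x
  have hg : t5_Good B C (x : V ≃ₗ[F] V) := x.2
  have hpow : (((x : V ≃ₗ[F] V) : V →ₗ[F] V) : Module.End F V) ^ r = 1 := by
    have h1 : ((x : V ≃ₗ[F] V)) ^ r = 1 := by
      rw [← Subgroup.coe_pow, hxr, Subgroup.coe_one]
    have h3 := congrArg (LinearEquiv.automorphismGroup.toLinearMapMonoidHom (R := F) (M := V)) h1
    rw [map_pow, map_one] at h3
    exact h3
  have hone := hno _ (fun u v => hg.1 u v) hpow (fun v hv => hg.2.1 v hv)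
  have hx1 : x = 1 := by
    apply Subtype.ext
    apply LinearEquiv.ext
    intro v
    have := LinearMap.congr_fun hone v
    rw [Subgroup.coe_one]
    exact this
  rw [hx1, orderOf_one] at hx
  exact (Fact.out : r.Prime).one_lt.ne hx

end main

end Cfsg.Agent.Lib.Helper5.Hy
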