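import Mathlib
import Cfsg.Prelude.Def_ClassicalGeometry
import Cfsg.Prelude.Def_GeometricClasses
import Cfsg.Agent.Lib.Helper5.HyDefs
import Cfsg.Agent.Lib.Helper83.HyT3
import Cfsg.Agent.Lib.Helper27.HyT5d

/-! # HY-T5 `not_dvd_card_type` (helper27, for helper5's S5992/S5993 hive)

The nondegenerate `m`-subspaces of `C` of a given type form one orbit under the group of isometries of `V`
which fix `C^⊥` pointwise (Witt, `HyT5a`-`HyT5d`), and that group has no element of order `r`. Both types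
occur by HY-T3 (helper83). -/

set_option autoImplicit false

namespace Cfsg.Agent.Lib.Helper5.Hy

open Polynomial Module
open Cfsg.Agent.Lib.Helper2.BG Cfsg.Agent.Lib.Helper99 Cfsg.Agent.Lib.Helper48.Ti
open Cfsg.Agent.Lib.Helper67.Ts

section abstract

variable {F V : Type*} [Field F] [Fintype F] [AddCommGroup V] [Module F V] [FiniteDimensional F V]
variable {B : V →ₗ[F] V →ₗ[F] F}

theorem not_dvd_card_type (h2 : (2 : F) ≠ 0) (hs : ∀ u v, B u v = B v u) (hV : Nd B ⊤)
    {C : Submodule F V} (hC : Nd B C) (r : ℕ) [Fact r.Prime]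
    (hno : ∀ g : Module.End F V, Isom B g → g ^ r = 1 →
      (∀ v, (∀ u ∈ C, B u v = 0) → g v = v) → g = 1)
    (m : ℕ) (hme : Even m) (h0 : 0 < m) (hlt : m < finrank F C) (b : Prop) :
    ¬ r ∣ Nat.card {W : Submodule F V // W ≤ C ∧ Nd B W ∧ finrank F W = m ∧ (Plus B W ↔ b)} :=
  t5_main h2 hs r hno m h0 b (fun b' => exists_nd_of_type h2 hs hC m hme h0 hlt b')

end abstract

end Cfsg.Agent.Lib.Helper5.Hy
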