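import Mathlib
import Cfsg.Prelude.Def_ClassicalGeometry
import Cfsg.Prelude.Def_GeometricClasses
import Cfsg.Agent.Lib.Helper65.QeDefs
import Cfsg.Agent.Lib.Helper43.ClassifyEven
import Cfsg.Agent.Lib.Helper43.QbarFacts
import Cfsg.Agent.Lib.Helper8.WittQuad

/-! # QE-T5, part (a) (helper27, for helper65's Qe hive S5988): isometry classes, ALL characteristics

Nondegenerate subspaces of the same even dimension and the same type of a quadratic space over a finite
field are isometric (`t5_iso_of_type`).  Coordinates from helper43's Witt decomposition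
(`witt_family`); the type is read off from the anisotropic kernel by Witt's lemma
(`Helper8.witt_family_quad`): with a `2`-dimensional anisotropic kernel there is no totally singular
subspace of half the dimension (`t5_ts_le`).  Universe polymorphic in `F` and `V`. -/

set_option autoImplicit false

namespace Cfsg.Agent.Lib.Helper65.Qe

open Polynomial Module
open Cfsg.Agent.Lib.Helper2.BG Cfsg.Agent.Lib.Helper99 Cfsg.Agent.Lib.Helper48.Ti
open Cfsg.Agent.Lib.Helper5.Hy

section classes

variable {F V : Type*} [Field F] [AddCommGroup V] [Module F V]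

/-- an isometry preserves the polar form -/
theorem t5_polar_of_isom (Q : QuadraticForm F V) (g : V ≃ₗ[F] V) (hg : ∀ v, Q (g v) = Q v)
    (a b : V) : QuadraticMap.polar Q (g a) (g b) = QuadraticMap.polar Q a b := by
  unfold QuadraticMap.polar
  rw [← map_add, hg, hg, hg]

/-- totally singular vectors are pairwise orthogonal -/
theorem t5_polar_of_ts (Q : QuadraticForm F V) {U : Submodule F V} (hU : ∀ u ∈ U, Q u = 0)
    {a b : V} (ha : a ∈ U) (hb : b ∈ U) : QuadraticMap.polar Q a b = 0 := by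
  unfold QuadraticMap.polar
  rw [hU _ (U.add_mem ha hb), hU a ha, hU b hb]
  simp

/-- the span of pairwise orthogonal singular vectors is totally singular -/
theorem t5_ts_span {κ : Type*} (Q : QuadraticForm F V) (v : κ → V) (hs : ∀ i, Q (v i) = 0)
    (ho : ∀ i j, QuadraticMap.polar Q (v i) (v j) = 0) :
    ∀ u ∈ Submodule.span F (Set.range v), Q u = 0 := by
  have h1 : ∀ x ∈ Submodule.span F (Set.range v), ∀ j, QuadraticMap.polar Q x (v j) = 0 := by
    intro x hx j
    have hle : Submodule.span F (Set.range v) ≤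
        LinearMap.ker ((QuadraticMap.polarBilin Q).flip (v j)) := by
      rw [Submodule.span_le]
      rintro _ ⟨i, rfl⟩
      exact LinearMap.mem_ker.2 (ho i j)
    exact LinearMap.mem_ker.1 (hle hx)
  have h2 : ∀ x ∈ Submodule.span F (Set.range v), ∀ y ∈ Submodule.span F (Set.range v),
      QuadraticMap.polar Q x y = 0 := by
    intro x hx y hy
    have hle : Submodule.span F (Set.range v) ≤ LinearMap.ker (QuadraticMap.polarBilin Q x) := by
      rw [Submodule.span_le]
      rintro _ ⟨j, rfl⟩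
      exact LinearMap.mem_ker.2 (h1 x hx j)
    exact LinearMap.mem_ker.1 (hle hy)
  intro u hu
  induction hu using Submodule.span_induction with
  | mem x hx =>
    obtain ⟨i, rfl⟩ := hx
    exact hs i
  | zero => exact QuadraticMap.map_zero Q
  | add x y hx hy hQx hQy =>
    have := h2 x hx y hy
    unfold QuadraticMap.polar at this
    rw [hQx, hQy, sub_zero, sub_zero] at this
    exact this
  | smul c x hx hQx =>
    rw [QuadraticMap.map_smul, hQx, smul_zero]

variable [FiniteDimensional F V]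

/-- Witt index bound: with a hyperbolic family of `k` pairs and an anisotropic complement, totally
singular subspaces have dimension at most `k` -/
theorem t5_ts_le (Q : QuadraticForm F V) (hQ : (QuadraticMap.polarBilin Q).Nondegenerate)
    {k : ℕ} {e f : Fin k → V} {W : Submodule F V}
    (H : Cfsg.Agent.Lib.Helper43.IsHypFamily Q (Q.comp W.subtype) W.subtype k e f)
    (haniso : ∀ w : W, (Q.comp W.subtype) w = 0 → w = 0) {U : Submodule F V}
    (hU : ∀ u ∈ U, Q u = 0) : finrank F U ≤ k := by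
  by_contra hcon
  have hk : k + 1 ≤ finrank F U := by omega
  have Hfam := H.toFam
  have hli : LinearIndependent F (fun i : Fin (finrank F U) => ((finBasis F U i : U) : V)) :=
    (finBasis F U).linearIndependent.map' U.subtype (Submodule.ker_subtype U)
  have huli : LinearIndependent F
      (fun i : Fin (k + 1) => ((finBasis F U (Fin.castLE hk i) : U) : V)) :=
    hli.comp _ (Fin.castLE_injective hk)
  have huU : ∀ i : Fin (k + 1), ((finBasis F U (Fin.castLE hk i) : U) : V) ∈ U :=
    fun i => (finBasis F U (Fin.castLE hk i)).2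
  obtain ⟨u, huli, huU⟩ : ∃ u : Fin (k + 1) → V, LinearIndependent F u ∧ ∀ i, u i ∈ U :=
    ⟨_, huli, huU⟩
  rw [linearIndependent_finSucc'] at huli
  obtain ⟨hx, hlast⟩ := huli
  have hinit : ∀ i : Fin k, Fin.init u i ∈ U := fun i => huU i.castSucc
  have heli : LinearIndependent F e :=
    Cfsg.Agent.Lib.Helper43.linearIndependent_of_dual Q e f (fun j l => Hfam.fe j l)
  obtain ⟨g, hg, hgx⟩ := Cfsg.Agent.Lib.Helper8.witt_family_quad Q hQ k (Fin.init u) e hx heli
    (fun i => by rw [Hfam.qe, hU _ (hinit i)])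
    (fun i j => by rw [Hfam.ee, t5_polar_of_ts Q hU (hinit i) (hinit j)])
  -- the image of the last vector
  set v := g (u (Fin.last k)) with hv
  have hQv : Q v = 0 := by rw [hv, hg, hU _ (huU _)]
  have hev : ∀ i, QuadraticMap.polar Q (e i) v = 0 := by
    intro i
    rw [hv, ← hgx i, t5_polar_of_isom Q g hg]
    exact t5_polar_of_ts Q hU (hinit i) (huU _)
  -- subtract the `e`-component
  set s := ∑ i, QuadraticMap.polar Q (f i) v • e i with hs
  have hsmem : s ∈ Submodule.span F (Set.range e) :=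
    Submodule.sum_mem _ (fun i _ => Submodule.smul_mem _ _ (Submodule.subset_span ⟨i, rfl⟩))
  have hQs : Q s = 0 := t5_ts_span Q e Hfam.qe Hfam.ee s hsmem
  have hes : ∀ j, QuadraticMap.polar Q (e j) s = 0 := by
    intro j
    rw [hs, Cfsg.Agent.Lib.Helper43.polar_sum_smul]
    simp only [Hfam.ee, mul_zero, Finset.sum_const_zero]
  have hfs : ∀ j, QuadraticMap.polar Q (f j) s = QuadraticMap.polar Q (f j) v := by
    intro j
    rw [hs, Cfsg.Agent.Lib.Helper43.polar_sum_smul]
    simp only [Hfam.fe, mul_ite, mul_one, mul_zero, Finset.sum_ite_eq, Finset.mem_univ, if_true]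
  obtain ⟨w, hw⟩ := H.surj (v - s)
    (fun i => by rw [QuadraticMap.polar_sub_right, hev, hes, sub_zero])
    (fun i => by rw [QuadraticMap.polar_sub_right, hfs, sub_self])
  have hvs : QuadraticMap.polar Q v s = 0 := by
    rw [hs, Cfsg.Agent.Lib.Helper43.polar_sum_smul]
    apply Finset.sum_eq_zero
    intro i _
    rw [QuadraticMap.polar_comm Q v (e i), hev, mul_zero]
  have hQw : (Q.comp W.subtype) w = 0 := by
    show Q (W.subtype w) = 0
    rw [hw, sub_eq_add_neg, Cfsg.Agent.Lib.Helper43.qmap_add, QuadraticMap.map_neg,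
      QuadraticMap.polar_neg_right, hQv, hQs, hvs]
    simp
  have hw0 := haniso w hQw
  rw [hw0, map_zero] at hw
  have hvs' : v = s := (sub_eq_zero.1 hw.symm)
  -- so the last vector lies in the span of the first `k`
  apply hlast
  have hle : Submodule.span F (Set.range e) ≤
      (Submodule.span F (Set.range (Fin.init u))).map (g : V →ₗ[F] V) := by
    rw [Submodule.span_le]
    rintro _ ⟨i, rfl⟩
    exact ⟨Fin.init u i, Submodule.subset_span ⟨i, rfl⟩, hgx i⟩
  have hvmem : v ∈ (Submodule.span F (Set.range (Fin.init u))).map (g : V →ₗ[F] V) := by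
    rw [hvs']
    exact hle hsmem
  obtain ⟨z, hz, hzv⟩ := hvmem
  have : z = u (Fin.last k) := g.injective hzv
  rw [← this]
  exact hz

/-- plus type of the whole space, intrinsically -/
def t5_PlusTop (Q : QuadraticForm F V) : Prop :=
  ∃ U : Submodule F V, (∀ u ∈ U, Q u = 0) ∧ 2 * finrank F U = finrank F V

/-- the two cases: coordinates of plus type (and plus type), or of minus type (and not plus type) -/
theorem t5_cases [Fintype F] (a c : F)
    (hac : ∀ z₁ z₂ : F, z₁ ^ 2 + a * z₁ * z₂ + c * z₂ ^ 2 = 0 → z₁ = 0 ∧ z₂ = 0)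
    (Q : QuadraticForm F V) (hQ : (QuadraticMap.polarBilin Q).Nondegenerate) (M : ℕ)
    (hdim : finrank F V = 2 * M) :
    (t5_PlusTop Q ∧ ∃ Θ : V ≃ₗ[F] (Fin M ⊕ Fin M → F), ∀ v, Cfsg.quadFormPlus M F (Θ v) = Q v) ∨
    (¬ t5_PlusTop Q ∧ ∃ M' : ℕ, M = M' + 1 ∧ ∃ Θ : V ≃ₗ[F] ((Fin M' ⊕ Fin M') ⊕ Fin 2 → F),
      ∀ v, Cfsg.quadFormMinus M' F a c (Θ v) = Q v) := by
  obtain ⟨k, e, f, W, H, hW2, haniso, hnd⟩ := Cfsg.Agent.Lib.Helper43.witt_family V Q hQ
  obtain ⟨hd, -, -⟩ :=
    Cfsg.Agent.Lib.Helper43.card_OG_family (Q.comp W.subtype) hnd k V Q W.subtype e f H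
  have Hfam := H.toFam
  have hcases : finrank F W = 0 ∨ finrank F W = 1 ∨ finrank F W = 2 := by omega
  rcases hcases with h0 | h1 | h2
  · left
    have hk : k = M := by omega
    subst hk
    refine ⟨?_, Cfsg.Agent.Lib.Helper44.hyperbolic_coords k V Q hdim e f H.qe H.qf H.ee H.ff H.ef⟩
    have heli : LinearIndependent F e :=
      Cfsg.Agent.Lib.Helper43.linearIndependent_of_dual Q e f (fun j l => Hfam.fe j l)
    refine ⟨Submodule.span F (Set.range e), t5_ts_span Q e Hfam.qe Hfam.ee, ?_⟩
    rw [finrank_span_eq_card heli, Fintype.card_fin, hdim]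
  · omega
  · right
    refine ⟨?_, k, by omega, ?_⟩
    · rintro ⟨U, hU, hUd⟩
      have hle := t5_ts_le Q hQ H haniso hU
      omega
    · obtain ⟨Θ₁, hΘ₁⟩ := Cfsg.Agent.Lib.Helper43.ZeroCount.aniso_plane_coords_gen a c hac W
        (Q.comp W.subtype) h2 haniso
      obtain ⟨Θ, hΘ⟩ := H.exists_coords hnd Θ₁
      refine ⟨Θ, fun v => ?_⟩
      rw [hΘ v, hΘ₁]
      rfl

/-- nondegenerate quadratic spaces of the same even dimension and the same type over a finite field
are isometric (universe polymorphic) -/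
theorem t5_iso_abs [Fintype F] {V' : Type*} [AddCommGroup V'] [Module F V']
    [FiniteDimensional F V'] (Q : QuadraticForm F V) (Q' : QuadraticForm F V')
    (hQ : (QuadraticMap.polarBilin Q).Nondegenerate)
    (hQ' : (QuadraticMap.polarBilin Q').Nondegenerate)
    (hdim : finrank F V = finrank F V') (hev : Even (finrank F V))
    (ht : t5_PlusTop Q ↔ t5_PlusTop Q') : ∃ Θ : V ≃ₗ[F] V', ∀ v, Q' (Θ v) = Q v := by
  obtain ⟨M, hM⟩ := hev
  have hM2 : finrank F V = 2 * M := by omega
  have hM2' : finrank F V' = 2 * M := by omega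
  obtain ⟨a, c, hac⟩ := Cfsg.Agent.Lib.Helper43.OrthGen.exists_aniso F
  rcases t5_cases a c hac Q hQ M hM2 with ⟨hp, Θ, hΘ⟩ | ⟨hp, M₁, hM₁, Θ, hΘ⟩
  · rcases t5_cases a c hac Q' hQ' M hM2' with ⟨hp', Θ', hΘ'⟩ | ⟨hp', M₂, hM₂, Θ', hΘ'⟩
    · refine ⟨Θ.trans Θ'.symm, fun v => ?_⟩
      rw [← hΘ' (Θ.trans Θ'.symm v), LinearEquiv.trans_apply, LinearEquiv.apply_symm_apply, hΘ]
    · exact absurd (ht.1 hp) hp'
  · rcases t5_cases a c hac Q' hQ' M hM2' with ⟨hp', Θ', hΘ'⟩ | ⟨hp', M₂, hM₂, Θ', hΘ'⟩
    · exact absurd (ht.2 hp') hp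
    · have hMM : M₁ = M₂ := by omega
      subst hMM
      refine ⟨Θ.trans Θ'.symm, fun v => ?_⟩
      rw [← hΘ' (Θ.trans Θ'.symm v), LinearEquiv.trans_apply, LinearEquiv.apply_symm_apply, hΘ]

omit [FiniteDimensional F V] in
/-- `PlusQ` of a subspace, intrinsically -/
theorem t5_plusTop_iff (Q : QuadraticForm F V) (W : Submodule F V) :
    t5_PlusTop (Q.comp W.subtype) ↔ PlusQ Q W := by
  constructor
  · rintro ⟨U, hU, hd⟩
    refine ⟨U.map W.subtype, Submodule.map_subtype_le W U, ?_, ?_⟩
    · rintro _ ⟨u, hu, rfl⟩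
      exact hU u hu
    · rw [Submodule.finrank_map_subtype_eq]
      exact hd
  · rintro ⟨U, hUW, hU, hd⟩
    refine ⟨U.comap W.subtype, fun u hu => hU _ hu, ?_⟩
    rw [(Submodule.comapSubtypeEquivOfLe hUW).finrank_eq]
    exact hd

/-- subspaces of the same even dimension and the same type are isometric -/
theorem t5_iso_of_type [Fintype F] (Q : QuadraticForm F V) {W W' : Submodule F V}
    (hW : Nd (pol Q) W) (hW' : Nd (pol Q) W') (hdim : finrank F W = finrank F W')
    (hev : Even (finrank F W)) (ht : PlusQ Q W ↔ PlusQ Q W') :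
    ∃ e : W ≃ₗ[F] W', ∀ x : W, Q (e x : V) = Q (x : V) := by
  obtain ⟨e, he⟩ := t5_iso_abs (Q.comp W.subtype) (Q.comp W'.subtype)
    (Cfsg.Agent.Lib.Helper43.nondegenerate_comp_subtype Q W (fun w hw h => hW w hw h))
    (Cfsg.Agent.Lib.Helper43.nondegenerate_comp_subtype Q W' (fun w hw h => hW' w hw h))
    hdim hev (by rw [t5_plusTop_iff, t5_plusTop_iff]; exact ht)
  exact ⟨e, fun x => he x⟩

end classes

end Cfsg.Agent.Lib.Helper65.Qe
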