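import Mathlib
import Cfsg.Prelude.Def_ClassicalGeometry
import Cfsg.Prelude.Def_GeometricClasses
import Cfsg.Agent.Lib.Helper65.QeDefs
import Cfsg.Agent.Lib.Helper27.QeT5a

/-! # QE-T5, part (b) (helper27, for helper65's Qe hive S5988): Witt extension and the orbit count,
ALL characteristics

`t5_core` is the Witt transitivity count `not_dvd_card_typeQ` for a quadratic form over a finite field of
ANY characteristic, with the nonemptiness of the family as a hypothesis. -/

set_option autoImplicit false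

namespace Cfsg.Agent.Lib.Helper65.Qe

open Polynomial Module
open Cfsg.Agent.Lib.Helper2.BG Cfsg.Agent.Lib.Helper99 Cfsg.Agent.Lib.Helper48.Ti
open Cfsg.Agent.Lib.Helper5.Hy

section witt

variable {F V : Type*} [Field F] [AddCommGroup V] [Module F V]

theorem t5_pol_apply (Q : QuadraticForm F V) (u v : V) : pol Q u v = QuadraticMap.polar Q u v := rfl

theorem t5_pol_comm (Q : QuadraticForm F V) (u v : V) : pol Q u v = pol Q v u := by
  rw [t5_pol_apply, t5_pol_apply, QuadraticMap.polar_comm]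

theorem t5_nondeg (Q : QuadraticForm F V) (hQ : Nd (pol Q) ⊤) :
    (QuadraticMap.polarBilin Q).Nondegenerate := by
  constructor
  · intro x hx
    exact hQ x Submodule.mem_top (fun v _ => hx v)
  · intro y hy
    exact hQ y Submodule.mem_top (fun v _ => by
      rw [t5_pol_comm]
      exact hy v)

theorem t5_qadd (Q : QuadraticForm F V) (x y : V) :
    Q (x + y) = Q x + Q y + QuadraticMap.polar Q x y := by
  unfold QuadraticMap.polar
  ring

variable [FiniteDimensional F V]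

/-- Witt's lemma for a pair of injective maps -/
theorem t5_witt_maps (Q : QuadraticForm F V) (hQ : (QuadraticMap.polarBilin Q).Nondegenerate)
    {M : Type*} [AddCommGroup M] [Module F M] [FiniteDimensional F M] (α β : M →ₗ[F] V)
    (hα : Function.Injective α) (hβ : Function.Injective β) (h : ∀ z, Q (β z) = Q (α z)) :
    ∃ g : V ≃ₗ[F] V, (∀ v, Q (g v) = Q v) ∧ ∀ z, g (α z) = β z := by
  obtain ⟨g, hg, hgx⟩ := Cfsg.Agent.Lib.Helper8.witt_family_quad Q hQ (finrank F M)
    (fun i => α (finBasis F M i)) (fun i => β (finBasis F M i))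
    ((finBasis F M).linearIndependent.map' α (LinearMap.ker_eq_bot.2 hα))
    ((finBasis F M).linearIndependent.map' β (LinearMap.ker_eq_bot.2 hβ))
    (fun i => h _)
    (fun i j => by
      unfold QuadraticMap.polar
      rw [← β.map_add, ← α.map_add, h, h, h])
  refine ⟨g, hg, fun z => ?_⟩
  have hcomp : (g : V →ₗ[F] V) ∘ₗ α = β := (finBasis F M).ext (fun i => hgx i)
  exact LinearMap.congr_fun hcomp z

/-- Witt extension: an isometry between two subspaces of a nondegenerate subspace `C` of a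
nondegenerate space extends to an isometry of the space that fixes `C^⊥` pointwise -/
theorem t5_extend (Q : QuadraticForm F V) (hV : (QuadraticMap.polarBilin Q).Nondegenerate)
    {C W W' : Submodule F V} (hC : Nd (pol Q) C) (hWC : W ≤ C) (hW'C : W' ≤ C)
    (e : W ≃ₗ[F] W') (he : ∀ x : W, Q (e x : V) = Q (x : V)) :
    ∃ g : V ≃ₗ[F] V, (∀ v, Q (g v) = Q v) ∧ (∀ v, (∀ u ∈ C, pol Q u v = 0) → g v = v) ∧
      W.map (g : V →ₗ[F] V) = W' := by
  set P : Submodule F V := LinearMap.BilinForm.orthogonal (pol Q) C with hP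
  have hPmem : ∀ v, v ∈ P ↔ ∀ u ∈ C, pol Q u v = 0 := fun v => Iff.rfl
  -- `C ∩ C^⊥ = 0`
  have hdisj : ∀ x, x ∈ C → x ∈ P → x = 0 := by
    intro x hxC hxP
    apply hC x hxC
    intro v hv
    rw [t5_pol_comm]
    exact (hPmem x).1 hxP v hv
  have hinj : ∀ (N : Submodule F V) (φ : N →ₗ[F] V), (∀ x, φ x ∈ C) → Function.Injective φ →
      Function.Injective (LinearMap.coprod φ P.subtype) := by
    intro N φ hφC hφ
    rw [← LinearMap.ker_eq_bot, LinearMap.ker_eq_bot']
    rintro ⟨w, p⟩ hwp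
    rw [LinearMap.coprod_apply, Submodule.subtype_apply] at hwp
    have hw : φ w = -(p : V) := eq_neg_of_add_eq_zero_left hwp
    have hw0 : φ w = 0 := hdisj _ (hφC w) (by rw [hw]; exact P.neg_mem p.2)
    have hp0 : (p : V) = 0 := by
      rw [hw0, zero_add] at hwp
      exact hwp
    have h1 : w = 0 := hφ (by rw [hw0, map_zero])
    have h2 : p = 0 := Subtype.ext hp0
    rw [h1, h2]
    rfl
  have hα := hinj W W.subtype (fun x => hWC x.2) W.injective_subtype
  have hβ := hinj W (W'.subtype ∘ₗ (e : W →ₗ[F] W')) (fun x => hW'C (e x).2)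
    (W'.injective_subtype.comp e.injective)
  obtain ⟨g, hg, hgz⟩ := t5_witt_maps Q hV (LinearMap.coprod W.subtype P.subtype)
    (LinearMap.coprod (W'.subtype ∘ₗ (e : W →ₗ[F] W')) P.subtype) hα hβ (by
      rintro ⟨w, p⟩
      rw [LinearMap.coprod_apply, LinearMap.coprod_apply, t5_qadd, t5_qadd]
      have h1 : QuadraticMap.polar Q ((W'.subtype ∘ₗ (e : W →ₗ[F] W')) w) (P.subtype p) = 0 :=
        (hPmem p).1 p.2 _ (hW'C (e w).2)
      have h2 : QuadraticMap.polar Q (W.subtype w) (P.subtype p) = 0 :=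
        (hPmem p).1 p.2 _ (hWC w.2)
      rw [h1, h2]
      congr 2
      exact he w)
  have hgw : ∀ w : W, g (w : V) = (e w : V) := by
    intro w
    have := hgz (w, 0)
    simpa using this
  have hgp : ∀ p : P, g (p : V) = (p : V) := by
    intro p
    have := hgz (0, p)
    simpa using this
  refine ⟨g, hg, fun v hv => hgp ⟨v, (hPmem v).2 hv⟩, ?_⟩
  have hle : W.map (g : V →ₗ[F] V) ≤ W' := by
    rintro _ ⟨w, hw, rfl⟩
    rw [LinearEquiv.coe_coe, hgw ⟨w, hw⟩]
    exact (e ⟨w, hw⟩).2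
  apply Submodule.eq_of_le_of_finrank_eq hle
  rw [LinearEquiv.finrank_map_eq g W, e.finrank_eq]

/-- a bijective isometry of `Q` fixing `C^⊥` pointwise -/
def t5_GoodQ (Q : QuadraticForm F V) (C : Submodule F V) (g : V ≃ₗ[F] V) : Prop :=
  (∀ v, Q (g v) = Q v) ∧ ∀ v, (∀ u ∈ C, pol Q u v = 0) → g v = v

/-- a good isometry maps `C` into itself -/
theorem t5_good_map_le (Q : QuadraticForm F V) (hV : (QuadraticMap.polarBilin Q).Nondegenerate)
    {C : Submodule F V} {g : V ≃ₗ[F] V} (hg : t5_GoodQ Q C g) {c : V} (hc : c ∈ C) : g c ∈ C := by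
  have hrefl : LinearMap.BilinForm.IsRefl (pol Q) := by
    intro x y h
    rw [t5_pol_comm]
    exact h
  have hCC := LinearMap.BilinForm.orthogonal_orthogonal hV hrefl C
  rw [← hCC]
  intro p hp
  have hp' : ∀ u ∈ C, pol Q u p = 0 := hp
  show pol Q p (g c) = 0
  rw [← hg.2 p hp', t5_pol_apply, t5_polar_of_isom Q g hg.1, ← t5_pol_apply, t5_pol_comm]
  exact hp' c hc

omit [FiniteDimensional F V] in
theorem t5_qnd_map (Q : QuadraticForm F V) {W : Submodule F V} (hW : Nd (pol Q) W)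
    (g : V ≃ₗ[F] V) (hg : ∀ v, Q (g v) = Q v) : Nd (pol Q) (W.map (g : V →ₗ[F] V)) := by
  rintro _ ⟨x, hx, rfl⟩ h
  have hx0 : x = 0 := hW x hx (fun v hv => by
    have := h _ ⟨v, hv, rfl⟩
    have h2 : QuadraticMap.polar Q (g x) (g v) = 0 := this
    rw [t5_polar_of_isom Q g hg] at h2
    exact h2)
  rw [hx0, map_zero]

omit [FiniteDimensional F V] in
theorem t5_plusQ_map (Q : QuadraticForm F V) (W : Submodule F V) (g : V ≃ₗ[F] V)
    (hg : ∀ v, Q (g v) = Q v) (h : PlusQ Q W) : PlusQ Q (W.map (g : V →ₗ[F] V)) := by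
  obtain ⟨U, hUW, hU, hd⟩ := h
  refine ⟨U.map (g : V →ₗ[F] V), Submodule.map_mono hUW, ?_, ?_⟩
  · rintro _ ⟨u, hu, rfl⟩
    rw [LinearEquiv.coe_coe, hg]
    exact hU u hu
  · rw [LinearEquiv.finrank_map_eq g U, LinearEquiv.finrank_map_eq g W]
    exact hd

omit [FiniteDimensional F V] in
theorem t5_plusQ_map_iff (Q : QuadraticForm F V) (W : Submodule F V) (g : V ≃ₗ[F] V)
    (hg : ∀ v, Q (g v) = Q v) : PlusQ Q (W.map (g : V →ₗ[F] V)) ↔ PlusQ Q W := by
  refine ⟨fun h => ?_, t5_plusQ_map Q W g hg⟩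
  have h' := t5_plusQ_map Q _ g.symm (fun v => by
    rw [← hg (g.symm v), LinearEquiv.apply_symm_apply]) h
  have hid : (W.map (g : V →ₗ[F] V)).map (g.symm : V →ₗ[F] V) = W := by
    rw [← Submodule.map_comp]
    have : (g.symm : V →ₗ[F] V) ∘ₗ (g : V →ₗ[F] V) = LinearMap.id := by
      ext v
      simp
    rw [this, Submodule.map_id]
  rw [hid] at h'
  exact h'

/-- the group of good isometries -/
def t5_qG (Q : QuadraticForm F V) (C : Submodule F V) : Subgroup (V ≃ₗ[F] V) where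
  carrier := {g | t5_GoodQ Q C g}
  mul_mem' := fun {a b} ha hb => by
    refine ⟨fun v => ?_, fun v hv => ?_⟩
    · show Q (a (b v)) = Q v
      rw [ha.1, hb.1]
    · show a (b v) = v
      rw [hb.2 v hv, ha.2 v hv]
  one_mem' := ⟨fun _ => rfl, fun _ _ => rfl⟩
  inv_mem' := fun {a} ha => by
    refine ⟨fun v => ?_, fun v hv => ?_⟩
    · show Q (a.symm v) = Q v
      rw [← ha.1 (a.symm v), LinearEquiv.apply_symm_apply]
    · show a.symm v = v
      have := ha.2 v hv
      conv_lhs => rw [← this]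
      exact a.symm_apply_apply v

omit [FiniteDimensional F V] in
theorem t5_mem_qG {Q : QuadraticForm F V} {C : Submodule F V} {g : V ≃ₗ[F] V} :
    g ∈ t5_qG Q C ↔ t5_GoodQ Q C g := Iff.rfl

/-- the action on subspaces -/
@[reducible] def t5_qact (Q : QuadraticForm F V) (C : Submodule F V) :
    MulAction (t5_qG Q C) (Submodule F V) where
  smul g W := W.map ((g : V ≃ₗ[F] V) : V →ₗ[F] V)
  one_smul W := by
    show W.map (((1 : t5_qG Q C) : V ≃ₗ[F] V) : V →ₗ[F] V) = W
    rw [Subgroup.coe_one]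
    exact Submodule.map_id W
  mul_smul g h W := by
    show W.map (((g * h : t5_qG Q C) : V ≃ₗ[F] V) : V →ₗ[F] V) =
      (W.map ((h : V ≃ₗ[F] V) : V →ₗ[F] V)).map ((g : V ≃ₗ[F] V) : V →ₗ[F] V)
    rw [Subgroup.coe_mul, ← Submodule.map_comp]
    rfl

end witt

section main

variable {F V : Type*} [Field F] [Fintype F] [AddCommGroup V] [Module F V] [FiniteDimensional F V]
variable {Q : QuadraticForm F V}

theorem t5_qfinite : Finite (V ≃ₗ[F] V) := by
  have : Finite V := Module.finite_of_finite F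
  exact Finite.of_injective (fun g : V ≃ₗ[F] V => (g : V → V)) DFunLike.coe_injective

/-- the Witt transitivity count in ALL characteristics, with the nonemptiness of the family as a
hypothesis -/
theorem t5_core (hV : Nd (pol Q) ⊤) {C : Submodule F V} (hC : Nd (pol Q) C) (r : ℕ)
    [Fact r.Prime]
    (hno : ∀ g : Module.End F V, IsomQ Q g → g ^ r = 1 →
      (∀ v, (∀ u ∈ C, pol Q u v = 0) → g v = v) → g = 1)
    (m : ℕ) (hme : Even m) (b : Prop)
    (hne : ∃ W₁ : Submodule F V, W₁ ≤ C ∧ Nd (pol Q) W₁ ∧ finrank F W₁ = m ∧ (PlusQ Q W₁ ↔ b)) :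
    ¬ r ∣ Nat.card {W : Submodule F V // W ≤ C ∧ Nd (pol Q) W ∧ finrank F W = m ∧
      (PlusQ Q W ↔ b)} := by
  obtain ⟨W₁, hW₁C, hW₁, hW₁m, hW₁b⟩ := hne
  have hVn := t5_nondeg Q hV
  let _ := t5_qact Q C
  have key : ∀ W : Submodule F V, (W ≤ C ∧ Nd (pol Q) W ∧ finrank F W = m ∧ (PlusQ Q W ↔ b)) ↔
      W ∈ MulAction.orbit (t5_qG Q C) W₁ := by
    intro W
    constructor
    · rintro ⟨hWC, hW, hWm, hWb⟩
      obtain ⟨e, he⟩ := t5_iso_of_type Q hW₁ hW (by rw [hW₁m, hWm]) (by rw [hW₁m]; exact hme)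
        (by rw [hW₁b, hWb])
      obtain ⟨g, hg1, hg2, hgW⟩ := t5_extend Q hVn hC hW₁C hWC e he
      exact ⟨⟨g, t5_mem_qG.2 ⟨hg1, hg2⟩⟩, hgW⟩
    · rintro ⟨g, hgW⟩
      have hgW' : W₁.map ((g : V ≃ₗ[F] V) : V →ₗ[F] V) = W := hgW
      subst hgW'
      have hg : t5_GoodQ Q C (g : V ≃ₗ[F] V) := g.2
      refine ⟨?_, t5_qnd_map Q hW₁ _ hg.1, ?_, ?_⟩
      · rintro _ ⟨x, hx, rfl⟩
        exact t5_good_map_le Q hVn hg (hW₁C hx)
      · rw [LinearEquiv.finrank_map_eq (g : V ≃ₗ[F] V) W₁, hW₁m]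
      · rw [t5_plusQ_map_iff Q W₁ (g : V ≃ₗ[F] V) hg.1]
        exact hW₁b
  have hcard : Nat.card {W : Submodule F V // W ≤ C ∧ Nd (pol Q) W ∧ finrank F W = m ∧
      (PlusQ Q W ↔ b)} = (MulAction.orbit (t5_qG Q C) W₁).ncard := by
    rw [← Nat.card_coe_set_eq]
    exact Nat.card_congr (Equiv.subtypeEquivRight key)
  rw [hcard, ← MulAction.index_stabilizer]
  intro hdvd
  have hdvd' : r ∣ Nat.card (t5_qG Q C) := dvd_trans hdvd (Subgroup.index_dvd_card _)
  have : Finite (V ≃ₗ[F] V) := t5_qfinite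
  obtain ⟨x, hx⟩ := exists_prime_orderOf_dvd_card' r hdvd'
  have hxr : x ^ r = 1 := by rw [← hx]; exact pow_orderOf_eq_one x
  have hg : t5_GoodQ Q C (x : V ≃ₗ[F] V) := x.2
  have hpow : (((x : V ≃ₗ[F] V) : V →ₗ[F] V) : Module.End F V) ^ r = 1 := by
    have h1 : ((x : V ≃ₗ[F] V)) ^ r = 1 := by
      rw [← Subgroup.coe_pow, hxr, Subgroup.coe_one]
    have h3 := congrArg (LinearEquiv.automorphismGroup.toLinearMapMonoidHom (R := F) (M := V)) h1
    rw [map_pow, map_one] at h3
    exact h3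
  have hone := hno _ (fun v => hg.1 v) hpow (fun v hv => hg.2 v hv)
  have hx1 : x = 1 := by
    apply Subtype.ext
    apply LinearEquiv.ext
    intro v
    have := LinearMap.congr_fun hone v
    rw [Subgroup.coe_one]
    exact this
  rw [hx1, orderOf_one] at hx
  exact (Fact.out : r.Prime).one_lt.ne hx

end main

end Cfsg.Agent.Lib.Helper65.Qe
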