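import Mathlib
import Cfsg.Prelude.Def_ClassicalGeometry
import Cfsg.Prelude.Def_GeometricClasses
import Cfsg.Agent.Lib.Helper65.QeDefs
import Cfsg.Agent.Lib.Helper83.QeT3
import Cfsg.Agent.Lib.Helper27.QeT5b

/-! # QE-T5 `not_dvd_card_typeQ_two` (helper27, for helper65's Qe hive S5988)

The Witt transitivity count in characteristic `2`: `t5_core` (all characteristics, `QeT5b`) with the
nonemptiness from QE-T3 `exists_ndQ_of_type_two` (helper83). -/

set_option autoImplicit false

namespace Cfsg.Agent.Lib.Helper65.Qe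

open Polynomial Module
open Cfsg.Agent.Lib.Helper2.BG Cfsg.Agent.Lib.Helper99 Cfsg.Agent.Lib.Helper48.Ti
open Cfsg.Agent.Lib.Helper5.Hy

section abstract

variable {F V : Type*} [Field F] [Fintype F] [AddCommGroup V] [Module F V] [FiniteDimensional F V]
variable {Q : QuadraticForm F V}

theorem not_dvd_card_typeQ_two (h2 : (2 : F) = 0) (hV : Nd (pol Q) ⊤) {C : Submodule F V}
    (hC : Nd (pol Q) C) (r : ℕ) [Fact r.Prime]
    (hno : ∀ g : Module.End F V, IsomQ Q g → g ^ r = 1 →
      (∀ v, (∀ u ∈ C, pol Q u v = 0) → g v = v) → g = 1)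
    (m : ℕ) (hme : Even m) (h0 : 0 < m) (hlt : m < finrank F C) (b : Prop) :
    ¬ r ∣ Nat.card {W : Submodule F V // W ≤ C ∧ Nd (pol Q) W ∧ finrank F W = m ∧
      (PlusQ Q W ↔ b)} :=
  t5_core hV hC r hno m hme b (exists_ndQ_of_type_two h2 hC m hme h0 hlt b)

end abstract

end Cfsg.Agent.Lib.Helper65.Qe
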