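import Cfsg.Agent.Lib.Helper16.GagDefs

/-! # Gag hive (S4561), leaf GAG-BASE: `base_good` -/

set_option autoImplicit false
universe u v

namespace Cfsg.Agent.Lib.Helper16.Gag
open scoped IsMulCommutative

theorem base_card (m : ℕ) (hm : m ≠ 0) :
    Nat.card (ULift.{u} (Multiplicative (ZMod m))) = m := by
  haveI : NeZero m := ⟨hm⟩
  rw [Nat.card_congr Equiv.ulift, Nat.card_congr Multiplicative.toAdd, Nat.card_zmod]

/-- Base -/
theorem base_good (m : ℕ) (hm : m ≠ 0) : ∃ (H : Type u) (_ : Group H), Good m H := by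
  haveI : NeZero m := ⟨hm⟩
  refine ⟨ULift.{u} (Multiplicative (ZMod m)), inferInstance, ?_⟩
  have hcomm : ∀ a b : ULift.{u} (Multiplicative (ZMod m)), a * b = b * a := fun a b => mul_comm a b
  have hcenter : Subgroup.center (ULift.{u} (Multiplicative (ZMod m))) = ⊤ := by
    rw [eq_top_iff]
    intro x _
    rw [Subgroup.mem_center_iff]
    intro g
    exact hcomm g x
  haveI hcycH : IsCyclic (ULift.{u} (Multiplicative (ZMod m))) :=
    isCyclic_of_surjective (MulEquiv.ulift.symm : Multiplicative (ZMod m) ≃* ULift.{u} _)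
      (MulEquiv.surjective _)
  refine ⟨inferInstance, inferInstance, ?_, ?_, ?_⟩
  · rw [hcenter, Subgroup.card_top, base_card m hm]
  · intro h hh
    exact absurd (by rw [hcenter]; trivial) hh
  · intro q _ hq
    rwa [base_card m hm] at hq
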