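import Cfsg.Agent.Lib.Helper37.D4O8Defs

/-! # Do hive (S1082, owner helper37), leaf DO-HDIAG-b: the image of `h_r(t)`, `8 ≤ r < 16`, is diagonal. -/

set_option autoImplicit false
set_option linter.unusedSectionVars false
set_option linter.unusedVariables false

namespace Cfsg.Agent.Lib.Helper37.D4O8

open Matrix Module QuadraticMap
open Cfsg.Agent.Lib.Helper8 Cfsg.Agent.Lib.Helper13 Cfsg.Agent.Lib.Helper37

variable {F : Type*} [Field F]

/-- the word `h_r(t)` as a product of six root elements -/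
theorem hdiagb_wprod (r : Fin 24) (t : F) :
    wprod (Cfsg.Lie.chevD4.hWord (r : ℕ) t) =
      X r t * X (Fin.rev r) (-t⁻¹) * X r t * X r (-1) * X (Fin.rev r) (-(-1 : F)⁻¹) * X r (-1) := by
  have hneg : Cfsg.Lie.chevD4.neg (r : ℕ) = ((Fin.rev r : Fin 24) : ℕ) := by
    fin_cases r <;> decide
  unfold wprod Cfsg.Lie.ChevalleyDatum.hWord Cfsg.Lie.ChevalleyDatum.nWord
  rw [hneg]
  simp only [List.cons_append, List.nil_append, List.map_cons, List.map_nil, List.prod_cons,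
    List.prod_nil, mul_one]
  simp only [Xn_of_lt r.2, Xn_of_lt (Fin.rev r).2, Fin.eta, mul_assoc]

/-- DO-HDIAG-b. -/
theorem act_H_b (r : Fin 24) (hr : 8 ≤ r.val) (hr' : r.val < 16) (t : F) (ht : t ≠ 0) (x : I8 → F) :
    act (Q8 F) (wprod (Cfsg.Lie.chevD4.hWord (r : ℕ) t)) x =
      mk8 (ha1 r t * ca1 x) (ha2 r t * ca2 x) (ha3 r t * ca3 x) (ha4 r t * ca4 x)
        ((ha1 r t)⁻¹ * cb1 x) ((ha2 r t)⁻¹ * cb2 x) ((ha3 r t)⁻¹ * cb3 x) ((ha4 r t)⁻¹ * cb4 x) := by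
  rw [hdiagb_wprod]
  simp only [act_mul]
  fin_cases r
  · exact absurd hr (by decide)
  · exact absurd hr (by decide)
  · exact absurd hr (by decide)
  · exact absurd hr (by decide)
  · exact absurd hr (by decide)
  · exact absurd hr (by decide)
  · exact absurd hr (by decide)
  · exact absurd hr (by decide)
  · show act (Q8 F) (X 8 t) (act (Q8 F) (X 15 (-t⁻¹)) (act (Q8 F) (X 8 t) (act (Q8 F) (X 8 (-1))
      (act (Q8 F) (X 15 (-(-1 : F)⁻¹)) (act (Q8 F) (X 8 (-1)) x))))) = _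
    simp only [act_X8, act_X15]
    apply ext8 <;> simp [ha1, ha2, ha3, ha4] <;> (try field_simp) <;> (try ring)
  · show act (Q8 F) (X 9 t) (act (Q8 F) (X 14 (-t⁻¹)) (act (Q8 F) (X 9 t) (act (Q8 F) (X 9 (-1))
      (act (Q8 F) (X 14 (-(-1 : F)⁻¹)) (act (Q8 F) (X 9 (-1)) x))))) = _
    simp only [act_X9, act_X14]
    apply ext8 <;> simp [ha1, ha2, ha3, ha4] <;> (try field_simp) <;> (try ring)
  · show act (Q8 F) (X 10 t) (act (Q8 F) (X 13 (-t⁻¹)) (act (Q8 F) (X 10 t) (act (Q8 F) (X 10 (-1))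
      (act (Q8 F) (X 13 (-(-1 : F)⁻¹)) (act (Q8 F) (X 10 (-1)) x))))) = _
    simp only [act_X10, act_X13]
    apply ext8 <;> simp [ha1, ha2, ha3, ha4] <;> (try field_simp) <;> (try ring)
  · show act (Q8 F) (X 11 t) (act (Q8 F) (X 12 (-t⁻¹)) (act (Q8 F) (X 11 t) (act (Q8 F) (X 11 (-1))
      (act (Q8 F) (X 12 (-(-1 : F)⁻¹)) (act (Q8 F) (X 11 (-1)) x))))) = _
    simp only [act_X11, act_X12]
    apply ext8 <;> simp [ha1, ha2, ha3, ha4] <;> (try field_simp) <;> (try ring)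
  · show act (Q8 F) (X 12 t) (act (Q8 F) (X 11 (-t⁻¹)) (act (Q8 F) (X 12 t) (act (Q8 F) (X 12 (-1))
      (act (Q8 F) (X 11 (-(-1 : F)⁻¹)) (act (Q8 F) (X 12 (-1)) x))))) = _
    simp only [act_X12, act_X11]
    apply ext8 <;> simp [ha1, ha2, ha3, ha4] <;> (try field_simp) <;> (try ring)
  · show act (Q8 F) (X 13 t) (act (Q8 F) (X 10 (-t⁻¹)) (act (Q8 F) (X 13 t) (act (Q8 F) (X 13 (-1))
      (act (Q8 F) (X 10 (-(-1 : F)⁻¹)) (act (Q8 F) (X 13 (-1)) x))))) = _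
    simp only [act_X13, act_X10]
    apply ext8 <;> simp [ha1, ha2, ha3, ha4] <;> (try field_simp) <;> (try ring)
  · show act (Q8 F) (X 14 t) (act (Q8 F) (X 9 (-t⁻¹)) (act (Q8 F) (X 14 t) (act (Q8 F) (X 14 (-1))
      (act (Q8 F) (X 9 (-(-1 : F)⁻¹)) (act (Q8 F) (X 14 (-1)) x))))) = _
    simp only [act_X14, act_X9]
    apply ext8 <;> simp [ha1, ha2, ha3, ha4] <;> (try field_simp) <;> (try ring)
  · show act (Q8 F) (X 15 t) (act (Q8 F) (X 8 (-t⁻¹)) (act (Q8 F) (X 15 t) (act (Q8 F) (X 15 (-1))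
      (act (Q8 F) (X 8 (-(-1 : F)⁻¹)) (act (Q8 F) (X 15 (-1)) x))))) = _
    simp only [act_X15, act_X8]
    apply ext8 <;> simp [ha1, ha2, ha3, ha4] <;> (try field_simp) <;> (try ring)
  · exact absurd hr' (by decide)
  · exact absurd hr' (by decide)
  · exact absurd hr' (by decide)
  · exact absurd hr' (by decide)
  · exact absurd hr' (by decide)
  · exact absurd hr' (by decide)
  · exact absurd hr' (by decide)
  · exact absurd hr' (by decide)

end Cfsg.Agent.Lib.Helper37.D4O8
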