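import Mathlib
import Cfsg.Agent.Lib.Helper90.PsuDefs

set_option autoImplicit false

/-! # Psu hive (S2412), leaves PSU-SPLIT `utv_and_z_mem` and PSU-FULL `e0_mem_Tset`. -/

namespace Cfsg.Agent.Lib.Helper90.Psu

open Matrix Cfsg.Agent.Lib.Helper99 Cfsg.Agent.Lib.Helper13

variable {F : Type*} [Field F] [Fintype F] {q n : ℕ}

local notation "hh" => Cfsg.hermForm n F q

theorem split_q_cast (hF : Fintype.card F = q ^ 2) : (q : F) = 0 := by
  have h1 : ((Fintype.card F : ℕ) : F) = 0 := Nat.cast_card_eq_zero F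
  rw [hF, Nat.cast_pow] at h1
  exact pow_eq_zero_iff (two_ne_zero) |>.mp h1

theorem split_utv_pow (e0 : Fin n → F) (he0 : hh e0 e0 = 0) (c0 : F) (k : ℕ) :
    utv q e0 c0 ^ k = utv q e0 ((k : F) * c0) := by
  induction k with
  | zero => rw [pow_zero, Nat.cast_zero, zero_mul, utv_zero e0 he0]
  | succ k ih =>
    rw [pow_succ, ih, utv_add e0 he0]
    congr 1
    push_cast
    ring

/-- PSU-SPLIT. -/
theorem utv_and_z_mem (hF : Fintype.card F = q ^ 2) (e0 : Fin n → F) (he0 : hh e0 e0 = 0) (c0 : F)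
    (hc0 : c0 + c0 ^ q = 0) (z : GL (Fin n) F) (hzU : z ∈ Cfsg.GU n F q) (hz : z ^ (q + 1) = 1)
    (hze : (z : Matrix (Fin n) (Fin n) F) *ᵥ e0 = e0) (H : Subgroup (GL (Fin n) F))
    (hy : utv q e0 c0 * z ∈ H) : utv q e0 c0 ∈ H ∧ z ∈ H := by
  have hconj := conj_utv z hzU e0 he0 c0
  rw [hze] at hconj
  have hcomm : Commute (utv q e0 c0) z := by
    have h1 : z * utv q e0 c0 = utv q e0 c0 * z := mul_inv_eq_iff_eq_mul.mp hconj
    exact h1.symm
  have hpow : (utv q e0 c0 * z) ^ (q + 1) = utv q e0 c0 := by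
    rw [hcomm.mul_pow, hz, mul_one, split_utv_pow e0 he0]
    congr 1
    push_cast
    rw [split_q_cast hF]
    ring
  have ht : utv q e0 c0 ∈ H := by
    rw [← hpow]
    exact Subgroup.pow_mem _ hy _
  refine ⟨ht, ?_⟩
  have h2 : z = (utv q e0 c0)⁻¹ * (utv q e0 c0 * z) := by group
  rw [h2]
  exact Subgroup.mul_mem _ (Subgroup.inv_mem _ ht) hy

/-- PSU-FULL. -/
theorem e0_mem_Tset (hF : Fintype.card F = q ^ 2) {H : Subgroup (GL (Fin n) F)} (e0 : Fin n → F)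
    (he0 : hh e0 e0 = 0) (c0 : F) (hc0 : c0 + c0 ^ q = 0) (hc00 : c0 ≠ 0) (ht : utv q e0 c0 ∈ H)
    (htr : ∀ l : F, l ≠ 0 → ∃ g : GL (Fin n) F, g ∈ H ∧ g ∈ Cfsg.GU n F q ∧
      (g : Matrix (Fin n) (Fin n) F) *ᵥ e0 = l • e0) : e0 ∈ Tset q H := by
  refine ⟨he0, ?_⟩
  intro c hc
  by_cases hc00' : c = 0
  · subst hc00'
    rw [utv_zero e0 he0]
    exact Subgroup.one_mem _
  have hcq : c ^ q = -c := eq_neg_of_add_eq_zero_right hc
  have hc0q : c0 ^ q = -c0 := eq_neg_of_add_eq_zero_right hc0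
  have hr0 : c / c0 ≠ 0 := div_ne_zero hc00' hc00
  have hrq : frobU hF (c / c0) = c / c0 := by
    rw [frobU_apply, div_pow, hcq, hc0q, neg_div_neg_eq]
  obtain ⟨l, hl⟩ := exists_mul_conj_eq (frobU hF) (frobU_ne_id hF) (frobU_frobU hF) (c / c0) hr0 hrq
  rw [frobU_apply] at hl
  have hl0 : l ≠ 0 := by
    rintro rfl
    rw [zero_mul] at hl
    exact hr0 hl.symm
  obtain ⟨g, hgH, hgU, hge⟩ := htr l hl0
  have hconj := conj_utv g hgU e0 he0 c0
  rw [hge, utv_smul e0 he0] at hconj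
  have hcc : c0 * l ^ (q + 1) = c := by
    rw [pow_succ', hl]
    field_simp
  rw [hcc] at hconj
  rw [← hconj]
  exact Subgroup.mul_mem _ (Subgroup.mul_mem _ hgH ht) (Subgroup.inv_mem _ hgH)
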