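import Mathlib
import Cfsg.Agent.Lib.Helper21.S11Defs

/-!
# S11 mini-hive (S3911, helper21), leaf S11-FRAT: `sylow_normal_of_isMinSupp`
-/

set_option autoImplicit false

namespace Cfsg.Agent.Lib.Helper21.S11

variable {G : Type*} [Group G] [Finite G]

/-- S11-FRAT. Every Sylow subgroup of a minimal supplement `X` over an abelian `Ab` is normal in `X`. -/
theorem sylow_normal_of_isMinSupp (M : Subgroup G) [M.Normal] (Ab : Subgroup (G ⧸ M))
    (hAb : IsMulCommutative ↥Ab) (X : Subgroup G) (hX : IsMinSupp M Ab X) (q : ℕ) [Fact q.Prime]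
    (Q : Sylow q ↥X) : (Q : Subgroup ↥X).Normal := by
  obtain ⟨hmap, hmin⟩ := hX
  -- commutators of elements of `X` lie in `M`
  have hcomm : ∀ x y : G, x ∈ X → y ∈ X → x * y * x⁻¹ * y⁻¹ ∈ M := by
    intro x y hx hy
    have hx' : (QuotientGroup.mk' M x) ∈ Ab := by rw [← hmap]; exact Subgroup.mem_map_of_mem _ hx
    have hy' : (QuotientGroup.mk' M y) ∈ Ab := by rw [← hmap]; exact Subgroup.mem_map_of_mem _ hy
    have hc : (QuotientGroup.mk' M x) * (QuotientGroup.mk' M y) =
        (QuotientGroup.mk' M y) * (QuotientGroup.mk' M x) := by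
      have := hAb.is_comm.comm (⟨_, hx'⟩ : ↥Ab) ⟨_, hy'⟩
      exact congrArg Subtype.val this
    rw [← QuotientGroup.eq_one_iff]
    have : ((x * y * x⁻¹ * y⁻¹ : G) : G ⧸ M) = QuotientGroup.mk' M x * QuotientGroup.mk' M y *
        (QuotientGroup.mk' M x)⁻¹ * (QuotientGroup.mk' M y)⁻¹ := by
      simp
    rw [this, hc]
    group
  set K : Subgroup ↥X := M.subgroupOf X with hK
  set E : Subgroup ↥X := (Q : Subgroup ↥X) ⊔ K with hE
  have hEn : E.Normal := by
    constructor
    intro e he x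
    have h1 : x * e * x⁻¹ * e⁻¹ ∈ K := by
      rw [hK, Subgroup.mem_subgroupOf]
      have := hcomm x e x.2 e.2
      simpa using this
    have : x * e * x⁻¹ = (x * e * x⁻¹ * e⁻¹) * e := by group
    rw [this]
    exact E.mul_mem ((le_sup_right : K ≤ E) h1) he
  have hQE : (Q : Subgroup ↥X) ≤ E := le_sup_left
  have hfr := Sylow.normalizer_sup_eq_top' Q hQE
  -- `N ⊔ K = ⊤`
  have hNK : Subgroup.normalizer ((Q : Subgroup ↥X) : Set ↥X) ⊔ K = ⊤ := by
    rw [eq_top_iff, ← hfr]
    apply sup_le le_sup_left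
    apply sup_le (le_trans Subgroup.le_normalizer le_sup_left) le_sup_right
  set Y : Subgroup G := (Subgroup.normalizer ((Q : Subgroup ↥X) : Set ↥X)).map X.subtype with hY
  have hYX : Y ≤ X := by
    rw [hY]; exact Subgroup.map_subtype_le _
  have hYmap : Y.map (QuotientGroup.mk' M) = Ab := by
    rw [← hmap]
    apply le_antisymm (Subgroup.map_mono hYX)
    rintro z ⟨x, hx, rfl⟩
    have hxtop : (⟨x, hx⟩ : ↥X) ∈ Subgroup.normalizer ((Q : Subgroup ↥X) : Set ↥X) ⊔ K := by
      rw [hNK]; exact Subgroup.mem_top _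
    have : K.Normal := by rw [hK]; infer_instance
    rw [← SetLike.mem_coe, Subgroup.mul_normal, Set.mem_mul] at hxtop
    obtain ⟨n, hn, k, hk, hnk⟩ := hxtop
    refine ⟨(n : G), ⟨n, hn, rfl⟩, ?_⟩
    have hkM : (k : G) ∈ M := Subgroup.mem_subgroupOf.mp hk
    have hx_eq : x = (n : G) * (k : G) := by
      have := congrArg Subtype.val hnk
      simpa using this.symm
    rw [hx_eq, map_mul]
    have : QuotientGroup.mk' M (k : G) = 1 := (QuotientGroup.eq_one_iff _).mpr hkM
    rw [this, mul_one]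
  have hYeq : Y = X := hmin Y hYX hYmap
  have htop : Subgroup.normalizer ((Q : Subgroup ↥X) : Set ↥X) = ⊤ := by
    rw [eq_top_iff]
    intro x _
    have hxY : (x : G) ∈ Y := by rw [hYeq]; exact x.2
    obtain ⟨n, hn, hnx⟩ := hxY
    have : n = x := Subtype.ext hnx
    rw [← this]; exact hn
  exact Subgroup.normalizer_eq_top_iff.mp htop

end Cfsg.Agent.Lib.Helper21.S11
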