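import Cfsg.Agent.Lib.Helper27.U3Line3Defs
import Cfsg.Agent.Lib.Helper74.U3L3WITT
import Cfsg.Agent.Lib.Helper11.U3L3TRACE
import Cfsg.Agent.Lib.Helper11.U3L3PIGEON
import Cfsg.Agent.Lib.Helper49.U3L3IND

/-!
# U3 hive (S2283, owner helper23), leaf U3-LINE3 `line3` (sub-architect helper27)

COUNTING PROOF.  `P = Tset q H` is closed under scalars (`smul_mem_Tset`) and hyperbolic lines (`lemmaA`).
Two independent isotropic vectors of `F^3` are never orthogonal (`l3_witt`, helper74).  The family
`l3cone q u v w` consists of `t + t²` pairwise independent vectors of `P`, `t ≥ q` the number of trace-zero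
elements (`l3_trace`, helper11; `l3_ind`, helper49).  There are only `q² + 1` lines through a point `x`, so two
members `p i ≠ p j` of the family are collinear with `x` (`l3_pigeon`, helper11), `x ∈ span{p i, p j}` and
`lemmaA` gives `x ∈ P`.
-/

set_option autoImplicit false

namespace Cfsg.Agent.Lib.Helper23.U3

open Matrix Cfsg.Agent.Lib.Helper99 Cfsg.Agent.Lib.Helper13 Cfsg.Agent.Lib.Helper90.Psu

variable {F : Type*} [Field F] [Fintype F] {q : ℕ}

local notation "hh" => Cfsg.hermForm 3 F q

/-- U3-LINE3 (general): a line-closed set of isotropic points containing a triangle is everything -/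
theorem line3 (hF : Fintype.card F = q ^ 2) {H : Subgroup (GL (Fin 3) F)} {u v w : Fin 3 → F}
    (hu : u ∈ Tset q H) (hv : v ∈ Tset q H) (hw : w ∈ Tset q H)
    (hind : LinearIndependent F ![u, v, w]) (x : Fin 3 → F) (hx : hh x x = 0) : x ∈ Tset q H := by
  classical
  by_cases hx0 : x = 0
  · subst hx0; exact zero_mem_Tset H
  have hwitt : ∀ a b : Fin 3 → F, hh a a = 0 → hh b b = 0 → LinearIndependent F ![a, b] → hh a b ≠ 0 :=
    fun a b ha hb hab => l3_witt hF a b ha hb hab
  have hmem : ∀ i, l3cone q u v w i ∈ Tset q H := by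
    rintro (c | ⟨c, d⟩)
    · exact rule_mem_Tset hF hv hu c.2
    · exact rule_mem_Tset hF (rule_mem_Tset hF hw hv c.2) hu d.2
  have hpind : ∀ i j, i ≠ j → LinearIndependent F ![l3cone q u v w i, l3cone q u v w j] :=
    fun i j hij => l3_ind hF hu.1 hv.1 hw.1 hind hwitt
      (fun c => (rule_mem_Tset hF hw hv c.2).1) i j hij
  -- the cardinality of the family
  have hq2 : 2 ≤ q := by
    by_contra h
    have h1 := Fintype.one_lt_card (α := F)
    rw [hF] at h1
    have h2 : q ≤ 1 := by omega
    interval_cases q <;> simp at h1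
  have ht := l3_trace hF
  have hcard : Nat.card F + 1 <
      Nat.card ({c : F // c + c ^ q = 0} ⊕ ({c : F // c + c ^ q = 0} × {c : F // c + c ^ q = 0})) := by
    rw [Nat.card_sum, Nat.card_prod, Nat.card_eq_fintype_card (α := F), hF]
    nlinarith
  have hne : ∀ i, l3cone q u v w i ≠ 0 := by
    intro i
    have h1 : 1 < Nat.card ({c : F // c + c ^ q = 0} ⊕
        ({c : F // c + c ^ q = 0} × {c : F // c + c ^ q = 0})) := by omega
    have := Finite.one_lt_card_iff_nontrivial.mp h1
    obtain ⟨j, hj⟩ := exists_ne i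
    exact (hpind i j hj.symm).ne_zero 0
  by_cases hex : ∃ i, ∃ t : F, l3cone q u v w i = t • x
  · obtain ⟨i, t, hit⟩ := hex
    have ht0 : t ≠ 0 := by
      rintro rfl
      rw [zero_smul] at hit
      exact hne i hit
    have hxi : x = t⁻¹ • l3cone q u v w i := by
      rw [hit, smul_smul, inv_mul_cancel₀ ht0, one_smul]
    rw [hxi]
    exact smul_mem_Tset hF (hmem i) _
  · have hex' : ∀ i, ∀ t : F, l3cone q u v w i ≠ t • x := fun i t h => hex ⟨i, t, h⟩
    obtain ⟨i, j, hij, l, m, hlm⟩ := l3_pigeon x hx0 (l3cone q u v w) hcard hex'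
    have hm0 : m ≠ 0 := by
      rintro rfl
      rw [zero_smul, add_zero] at hlm
      have h1 := hpind i j hij
      rw [LinearIndependent.pair_iff] at h1
      have h2 := h1 1 (-l) (by rw [hlm]; module)
      exact one_ne_zero h2.1
    have hxs : x = m⁻¹ • l3cone q u v w i + (-(m⁻¹ * l)) • l3cone q u v w j := by
      rw [hlm]
      match_scalars <;> field_simp <;> ring
    refine lemmaA hF (hmem i) (hmem j) (hwitt _ _ (hmem i).1 (hmem j).1 (hpind i j hij)) ?_ hx
    rw [Submodule.mem_span_pair]
    exact ⟨m⁻¹, -(m⁻¹ * l), hxs.symm⟩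

end Cfsg.Agent.Lib.Helper23.U3
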