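import Mathlib

/-!
# Lb hive (S1301, owner helper22), leaf LB-TR: the core transport lemma (Mathlib only)

`lbtr_core`: the statement of LB-TR with the statements of LB-A1 (`hA1`) and LB-ZS (`hZS`) as hypotheses;
they are applied to the group `↥(K ⊔ zpowers u)` with `K.subgroupOf`, `R.subgroupOf`, `⟨u, _⟩`, and the
witness is mapped back with `subtype`.
-/

set_option autoImplicit false

namespace Cfsg.Agent.Lib.Helper22.Lb

open Subgroup

universe u

/-- the conclusion "local witness" of LB-A1 / LB-TR for a group `H`, `K`, `R`, `u` -/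
def lbtr_Wit {H : Type*} [Group H] (K R : Subgroup H) (u : H) : Prop :=
  ∃ D : Subgroup H, D ≤ R ∧ ∃ k ∈ K, k ∈ normalizer (D : Set H) ∧
      k⁻¹ * u * k * u⁻¹ ∈ D ∧ k⁻¹ * u * k * u⁻¹ ∈ centralizer (D : Set H) ∧
      k⁻¹ * u * k * u⁻¹ ≠ 1 ∧
      ∀ x ∈ K, x ∈ centralizer (D : Set H) → (∃ n : ℕ, x ^ 2 ^ n = 1) → x ∈ D

section core

variable {X : Type u} [Group X]

/-- `K ≤ M`: the image of `K.subgroupOf M` is `K` -/
theorem lbtr_map_subgroupOf {K M : Subgroup X} (h : K ≤ M) :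
    (K.subgroupOf M).map M.subtype = K := by
  rw [Subgroup.subgroupOf_map_subtype, inf_eq_left.mpr h]

/-- transport of the Sylow hypothesis -/
theorem lbtr_sylow {K M R : Subgroup X} (hKM : K ≤ M)
    (hRsyl : ∃ S : Sylow 2 ↥K, (S : Subgroup ↥K).map K.subtype = R) :
    ∃ S : Sylow 2 ↥(K.subgroupOf M),
      (S : Subgroup ↥(K.subgroupOf M)).map (K.subgroupOf M).subtype = R.subgroupOf M := by
  obtain ⟨S, hS⟩ := hRsyl
  let e : ↥(K.subgroupOf M) ≃* ↥K := Subgroup.subgroupOfEquivOfLe hKM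
  have hrange : (S : Subgroup ↥K) ≤ e.toMonoidHom.range := by
    intro x _
    exact ⟨e.symm x, e.apply_symm_apply x⟩
  refine ⟨S.comapOfInjective e.toMonoidHom e.injective hrange, ?_⟩
  ext x
  rw [Subgroup.mem_subgroupOf, ← hS]
  constructor
  · rintro ⟨y, hy, rfl⟩
    refine ⟨e y, hy, ?_⟩
    rfl
  · rintro ⟨z, hz, hzx⟩
    have hxK : x ∈ K.subgroupOf M := by
      rw [Subgroup.mem_subgroupOf, ← hzx]
      exact z.2
    refine ⟨⟨x, hxK⟩, ?_, rfl⟩
    have : e ⟨x, hxK⟩ = z := by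
      apply Subtype.ext
      exact hzx.symm
    show e ⟨x, hxK⟩ ∈ (S : Subgroup ↥K)
    rw [this]
    exact hz

/-- LB-TR with the statements of LB-A1 and LB-ZS as hypotheses -/
theorem lbtr_core [Finite X]
    (hA1 : ∀ {H : Type u} [Group H] [Finite H] (K : Subgroup H) [K.Normal] (u : H)
      (_ : orderOf u = 2) (_ : K ⊔ zpowers u = ⊤) (R : Subgroup H) (_ : R ≤ K)
      (_ : ∃ S : Sylow 2 ↥K, (S : Subgroup ↥K).map K.subtype = R)
      (_ : u ∈ centralizer (R : Set H))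
      (_ : ∃ g : H, g * u * g⁻¹ ∈ R ⊔ zpowers u ∧ g * u * g⁻¹ ≠ u), lbtr_Wit K R u)
    (hZS : ∀ {H : Type u} [Group H] [Finite H] (K : Subgroup H) [K.Normal]
      (_ : ∀ N : Subgroup H, N ≤ K → K ≤ normalizer (N : Set H) → Odd (Nat.card N) → N = ⊥)
      (u : H) (_ : orderOf u = 2) (_ : K ⊔ zpowers u = ⊤) (R : Subgroup H) (_ : R ≤ K)
      (_ : ∃ S : Sylow 2 ↥K, (S : Subgroup ↥K).map K.subtype = R)
      (_ : u ∈ centralizer (R : Set H))
      (_ : ∀ g : H, g * u * g⁻¹ ∈ R ⊔ zpowers u → g * u * g⁻¹ = u),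
      u ∈ centralizer (K : Set H))
    (K : Subgroup X) [K.Normal]
    (hOK : ∀ N : Subgroup X, N ≤ K → K ≤ normalizer (N : Set X) → Odd (Nat.card N) → N = ⊥)
    (u : X) (hu : orderOf u = 2)
    (R : Subgroup X) (hRK : R ≤ K)
    (hRsyl : ∃ S : Sylow 2 ↥K, (S : Subgroup ↥K).map K.subtype = R)
    (huR : u ∈ centralizer (R : Set X)) :
    u ∈ centralizer (K : Set X) ∨ lbtr_Wit K R u := by
  -- the group `M = K<u>`
  set M : Subgroup X := K ⊔ zpowers u with hM
  have hKM : K ≤ M := le_sup_left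
  have huM : u ∈ M := (le_sup_right : zpowers u ≤ M) (mem_zpowers u)
  set K' : Subgroup ↥M := K.subgroupOf M with hK'
  set R' : Subgroup ↥M := R.subgroupOf M with hR'
  set u' : ↥M := ⟨u, huM⟩ with hu'
  have hu'o : orderOf u' = 2 := by
    rw [← hu, ← Subgroup.orderOf_coe]
  have hKu' : K' ⊔ zpowers u' = ⊤ := by
    apply Subgroup.map_injective M.subtype_injective
    rw [Subgroup.map_sup, lbtr_map_subgroupOf hKM, MonoidHom.map_zpowers, ← MonoidHom.range_eq_map,
      Subgroup.range_subtype]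
    rfl
  have hRK' : R' ≤ K' := Subgroup.comap_mono hRK
  have hRsyl' := lbtr_sylow (M := M) hKM hRsyl
  have huR' : u' ∈ centralizer (R' : Set ↥M) := by
    rw [Subgroup.mem_centralizer_iff]
    intro r hr
    apply Subtype.ext
    exact (Subgroup.mem_centralizer_iff.mp huR) (r : X) hr
  have hOK' : ∀ N : Subgroup ↥M, N ≤ K' → K' ≤ normalizer (N : Set ↥M) → Odd (Nat.card N) →
      N = ⊥ := by
    intro N hNK hKN hodd
    have h1 : N.map M.subtype ≤ K := by
      rw [← lbtr_map_subgroupOf hKM]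
      exact Subgroup.map_mono hNK
    have h2 : K ≤ normalizer ((N.map M.subtype : Subgroup X) : Set X) := by
      calc K = K'.map M.subtype := (lbtr_map_subgroupOf hKM).symm
        _ ≤ (normalizer (N : Set ↥M)).map M.subtype := Subgroup.map_mono hKN
        _ ≤ normalizer ((N.map M.subtype : Subgroup X) : Set X) := Subgroup.le_normalizer_map _
    have h3 : Odd (Nat.card (N.map M.subtype)) := by
      rw [Nat.card_congr (N.equivMapOfInjective M.subtype M.subtype_injective).symm.toEquiv]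
      exact hodd
    have h4 := hOK _ h1 h2 h3
    exact (Subgroup.map_eq_bot_iff_of_injective N M.subtype_injective).mp h4
  by_cases hni : ∃ g : ↥M, g * u' * g⁻¹ ∈ R' ⊔ zpowers u' ∧ g * u' * g⁻¹ ≠ u'
  · right
    obtain ⟨D', hD'R, k', hk'K, hk'N, htD, htC, ht1, hcent⟩ :=
      hA1 K' u' hu'o hKu' R' hRK' hRsyl' huR' hni
    refine ⟨D'.map M.subtype, ?_, (k' : X), hk'K, ?_, ?_, ?_, ?_, ?_⟩
    · rintro x ⟨d, hd, rfl⟩
      exact hD'R hd
    · exact Subgroup.le_normalizer_map M.subtype ⟨k', hk'N, rfl⟩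
    · exact ⟨_, htD, rfl⟩
    · rw [Subgroup.mem_centralizer_iff]
      rintro x ⟨d, hd, rfl⟩
      have := (Subgroup.mem_centralizer_iff.mp htC) d hd
      exact congrArg Subtype.val this
    · intro h
      apply ht1
      apply Subtype.ext
      exact h
    · intro x hxK hxC hx2
      have hxM : x ∈ M := hKM hxK
      have h1 : (⟨x, hxM⟩ : ↥M) ∈ centralizer (D' : Set ↥M) := by
        rw [Subgroup.mem_centralizer_iff]
        intro d hd
        apply Subtype.ext
        exact (Subgroup.mem_centralizer_iff.mp hxC) (d : X) ⟨d, hd, rfl⟩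
      have h2 : ∃ n : ℕ, (⟨x, hxM⟩ : ↥M) ^ 2 ^ n = 1 := by
        obtain ⟨n, hn⟩ := hx2
        exact ⟨n, Subtype.ext hn⟩
      exact ⟨_, hcent ⟨x, hxM⟩ hxK h1 h2, rfl⟩
  · left
    have hiso : ∀ g : ↥M, g * u' * g⁻¹ ∈ R' ⊔ zpowers u' → g * u' * g⁻¹ = u' := by
      intro g hg
      by_contra hne
      exact hni ⟨g, hg, hne⟩
    have hc := hZS K' hOK' u' hu'o hKu' R' hRK' hRsyl' huR' hiso
    rw [Subgroup.mem_centralizer_iff] at hc ⊢
    intro k hk
    have := hc ⟨k, hKM hk⟩ hk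
    exact congrArg Subtype.val this

end core

end Cfsg.Agent.Lib.Helper22.Lb
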