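import Cfsg.Agent.Lib.Helper27.M2025Data

set_option autoImplicit false

/-!
Every one of the 2025 points is the root or lies in one of the three classes.
-/

namespace Cfsg.Agent.Lib.Helper27.M2025

open Cfsg.Agent.Lib.Helper27.LL

set_option maxRecDepth 1000000 in
theorem cover_check : X2P.all (fun n => Nat.beq n r0P || Nat.beq (dig n 0) (dig n 1) ||
    Nat.beq (dig n 0 + 4) (dig n 1) || Nat.beq (dig n 0 + 2) (dig n 1)) = true := by
  decide +kernel

end Cfsg.Agent.Lib.Helper27.M2025
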