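import Cfsg.Agent.Lib.Helper27.M2025

set_option autoImplicit false

/-!
The general statement on the 2025 points: reduction of an arbitrary pair of minimal vectors with
scalar product `-8` to the standard one.
-/

namespace Cfsg.Agent.Lib.Helper27.M2025

open Cfsg Cfsg.Agent.Lib.Conway Cfsg.Agent.Lib.Helper93.Leech Cfsg.Agent.Lib.Helper93.Golay
open Cfsg.Agent.Lib.Golay.LeechBasis Cfsg.Agent.Lib.Helper27.LL
open Cfsg.Agent.Lib.Helper27.McL (U0 K mem_K co0_sub')
open scoped Pointwise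

theorem dot_neg_right (a b : Vec) : dotInt a (-b) = -dotInt a b := by
  unfold dotInt
  rw [← Finset.sum_neg_distrib]
  exact Finset.sum_congr rfl (fun i _ => by simp only [Pi.neg_apply]; ring)

theorem sqNorm_neg (a : Vec) : sqNorm (-a) = sqNorm a := by
  unfold sqNorm
  exact Finset.sum_congr rfl (fun i _ => by simp only [Pi.neg_apply]; ring)

/-- the points attached to `v` and `w` -/
def ptsV (v w : leechLattice) : Set leechLattice :=
  {x : leechLattice | sqNorm (x : Vec) = 32 ∧ dotInt (v : Vec) (x : Vec) = 0 ∧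
    dotInt (w : Vec) (x : Vec) = 16}

/-- the sum of the two vectors has sum of squares 48 -/
theorem norm_add (v w : leechLattice) (hv : sqNorm (v : Vec) = 32) (hw : sqNorm (w : Vec) = 32)
    (hvw : dotInt (v : Vec) (w : Vec) = -8) : sqNorm ((v + w : leechLattice) : Vec) = 48 := by
  rw [AddSubgroup.coe_add, Cfsg.Agent.S0393.sqNorm_add, hv, hw, hvw]
  norm_num

/-- every admissible pair is conjugate to the standard one -/
theorem exists_to_std (v w : leechLattice) (hv : sqNorm (v : Vec) = 32)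
    (hw : sqNorm (w : Vec) = 32) (hvw : dotInt (v : Vec) (w : Vec) = -8) :
    ∃ g : Co0, g • v = McL.V0 ∧ g • w = U0 - McL.V0 := by
  obtain ⟨g, hgu, hgv⟩ := McL.exists_to_std (v + w) v (norm_add v w hv hw hvw) hv
    (by rw [add_sub_cancel_left]; exact hw)
  refine ⟨g, hgv, ?_⟩
  have : w = (v + w) - v := by rw [add_sub_cancel_left]
  rw [this, co0_sub', hgu, hgv]

/-- the map `x ↦ -(g x)` carries the points of `v`, `w` to the standard negated points -/
theorem neg_smul_mem {g : Co0} {v w x : leechLattice} (hgv : g • v = McL.V0)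
    (hgw : g • w = U0 - McL.V0) : -(g • x) ∈ ptsN ↔ x ∈ ptsV v w := by
  have hU : g • (v + w) = U0 := by rw [co0_add, hgv, hgw]; abel
  have e1 : sqNorm ((-(g • x) : leechLattice) : Vec) = sqNorm (x : Vec) := by
    rw [AddSubgroup.coe_neg, sqNorm_neg, co0_norm]
  have e2 : dotInt (McL.V0 : Vec) ((-(g • x) : leechLattice) : Vec) = -dotInt (v : Vec) (x : Vec) := by
    rw [AddSubgroup.coe_neg, dot_neg_right, ← hgv, Cfsg.Agent.Lib.Conway.co0_dot]
  have e3 : dotInt (U0 : Vec) ((-(g • x) : leechLattice) : Vec) =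
      -(dotInt (v : Vec) (x : Vec) + dotInt (w : Vec) (x : Vec)) := by
    rw [AddSubgroup.coe_neg, dot_neg_right, ← hU, Cfsg.Agent.Lib.Conway.co0_dot,
      AddSubgroup.coe_add, dotInt_add_left]
  constructor
  · rintro ⟨⟨h1, h2⟩, h3⟩
    rw [e1] at h1
    rw [e2] at h3
    rw [e3] at h2
    exact ⟨h1, by omega, by omega⟩
  · rintro ⟨h1, h2, h3⟩
    exact ⟨⟨by rw [e1]; exact h1, by rw [e3]; omega⟩, by rw [e2]; omega⟩

/-- the count and the transitivity -/
theorem main (v w : leechLattice) (hv : sqNorm (v : Vec) = 32) (hw : sqNorm (w : Vec) = 32)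
    (hvw : dotInt (v : Vec) (w : Vec) = -8) :
    (ptsV v w).ncard = 2025 ∧
    ∀ x ∈ ptsV v w, ∀ x' ∈ ptsV v w, ∃ g : Co0, g • v = v ∧ g • w = w ∧ g • x = x' := by
  obtain ⟨g, hgv, hgw⟩ := exists_to_std v w hv hw hvw
  have hgU : g • (v + w) = U0 := by rw [co0_add, hgv, hgw]; abel
  constructor
  · rw [← main0.1]
    have : ptsN = (fun x => -(g • x)) '' ptsV v w := by
      ext y
      constructor
      · intro hy
        refine ⟨g⁻¹ • (-y), ?_, ?_⟩
        · rw [← neg_smul_mem hgv hgw, smul_inv_smul, neg_neg]; exact hy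
        · simp only [smul_inv_smul, neg_neg]
      · rintro ⟨x, hx, rfl⟩
        exact (neg_smul_mem hgv hgw).mpr hx
    rw [this]
    refine (Set.ncard_image_of_injective _ ?_).symm
    intro a b hab
    exact MulAction.injective g (neg_injective hab)
  · intro x hx x' hx'
    obtain ⟨k, hk, e⟩ := main0.2 (-(g • x)) ((neg_smul_mem hgv hgw).mpr hx) (-(g • x'))
      ((neg_smul_mem hgv hgw).mpr hx')
    obtain ⟨ku, kv⟩ := mem_K.mp hk
    rw [co0_neg, neg_inj] at e
    have kw : k • (U0 - McL.V0) = U0 - McL.V0 := by rw [co0_sub', ku, kv]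
    refine ⟨g⁻¹ * k * g, ?_, ?_, ?_⟩
    · rw [mul_smul, mul_smul, hgv, kv, ← hgv, inv_smul_smul]
    · rw [mul_smul, mul_smul, hgw, kw, ← hgw, inv_smul_smul]
    · rw [mul_smul, mul_smul, e, inv_smul_smul]

/-- the orbit of a subgroup as a set -/
theorem orbit_eq (H : Subgroup Co0) (y : leechLattice) :
    MulAction.orbit ↥H y = {z | ∃ g ∈ H, g • y = z} := by
  ext z
  constructor
  · rintro ⟨⟨g, hg⟩, rfl⟩
    exact ⟨g, hg, rfl⟩
  · rintro ⟨g, hg, rfl⟩
    exact ⟨⟨g, hg⟩, rfl⟩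

/-- transport of an orbit of the stabiliser of `v`, `w`, `x` to the standard situation -/
theorem ncard_orbit {h : Co0} {v w x y : leechLattice} (hv : h • v = McL.V0)
    (hw : h • w = U0 - McL.V0) (hx : h • x = -R0) (d : ℤ) (hy : -(h • y) ∈ ptsD d)
    (htr : ∀ z ∈ ptsD d, ∀ z' ∈ ptsD d, ∃ g ∈ KR, g • z = z') :
    (MulAction.orbit ↥(MulAction.stabilizer Co0 v ⊓ MulAction.stabilizer Co0 w ⊓
      MulAction.stabilizer Co0 x) y).ncard = (ptsD d).ncard := by
  set H : Subgroup Co0 := MulAction.stabilizer Co0 v ⊓ MulAction.stabilizer Co0 w ⊓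
    MulAction.stabilizer Co0 x with hH
  have memH : ∀ g : Co0, g ∈ H ↔ g • v = v ∧ g • w = w ∧ g • x = x := by
    intro g
    simp [hH, Subgroup.mem_inf, MulAction.mem_stabilizer_iff, and_assoc]
  have hU : h • (v + w) = U0 := by rw [co0_add, hv, hw]; abel
  -- conjugation between `H` and `KR`
  have toKR : ∀ g ∈ H, h * g * h⁻¹ ∈ KR := by
    intro g hg
    obtain ⟨g1, g2, g3⟩ := (memH g).mp hg
    have fV : (h * g * h⁻¹) • McL.V0 = McL.V0 := by
      rw [mul_smul, mul_smul, ← hv, inv_smul_smul, g1]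
    have fW : (h * g * h⁻¹) • (U0 - McL.V0) = U0 - McL.V0 := by
      rw [mul_smul, mul_smul, ← hw, inv_smul_smul, g2]
    have fR : (h * g * h⁻¹) • (-R0) = -R0 := by
      rw [mul_smul, mul_smul, ← hx, inv_smul_smul, g3]
    refine mem_KR.mpr ⟨?_, fV, ?_⟩
    · have : U0 = McL.V0 + (U0 - McL.V0) := by abel
      rw [this, co0_add, fV, fW]
    · rw [co0_neg, neg_inj] at fR
      exact fR
  have toH : ∀ k ∈ KR, h⁻¹ * k * h ∈ H := by
    intro k hk
    obtain ⟨k1, k2, k3⟩ := mem_KR.mp hk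
    refine (memH _).mpr ⟨?_, ?_, ?_⟩
    · rw [mul_smul, mul_smul, hv, k2, ← hv, inv_smul_smul]
    · rw [mul_smul, mul_smul, hw, co0_sub', k1, k2, ← hw, inv_smul_smul]
    · rw [mul_smul, mul_smul, hx, co0_neg, k3, ← hx, inv_smul_smul]
  have himg : (fun z => -(h • z)) '' (MulAction.orbit ↥H y) = ptsD d := by
    rw [orbit_eq]
    ext t
    constructor
    · rintro ⟨z, ⟨g, hg, rfl⟩, rfl⟩
      have : -(h • g • y) = (h * g * h⁻¹) • (-(h • y)) := by
        rw [co0_neg, mul_smul, mul_smul, inv_smul_smul]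
      show -(h • g • y) ∈ ptsD d
      rw [this]
      exact KR_inv d _ (toKR g hg) _ hy
    · intro ht
      obtain ⟨k, hk, e⟩ := htr _ hy t ht
      refine ⟨(h⁻¹ * k * h) • y, ⟨h⁻¹ * k * h, toH k hk, rfl⟩, ?_⟩
      show -(h • (h⁻¹ * k * h) • y) = t
      rw [mul_smul, mul_smul, smul_inv_smul, ← co0_neg, e]
  rw [← himg]
  refine (Set.ncard_image_of_injective _ ?_).symm
  intro a b hab
  exact MulAction.injective h (neg_injective hab)

/-- the three orbits of a point stabiliser -/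
theorem orbits (v w x : leechLattice) (hv : sqNorm (v : Vec) = 32) (hw : sqNorm (w : Vec) = 32)
    (hvw : dotInt (v : Vec) (w : Vec) = -8) (hx : x ∈ ptsV v w) :
    ∃ y₁ ∈ ptsV v w, ∃ y₂ ∈ ptsV v w, ∃ y₃ ∈ ptsV v w,
      (MulAction.orbit ↥(MulAction.stabilizer Co0 v ⊓ MulAction.stabilizer Co0 w ⊓
        MulAction.stabilizer Co0 x) y₁).ncard = 330 ∧
      (MulAction.orbit ↥(MulAction.stabilizer Co0 v ⊓ MulAction.stabilizer Co0 w ⊓
        MulAction.stabilizer Co0 x) y₂).ncard = 462 ∧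
      (MulAction.orbit ↥(MulAction.stabilizer Co0 v ⊓ MulAction.stabilizer Co0 w ⊓
        MulAction.stabilizer Co0 x) y₃).ncard = 1232 := by
  obtain ⟨g, hgv, hgw⟩ := exists_to_std v w hv hw hvw
  obtain ⟨k, hk, e⟩ := main0.2 (-(g • x)) ((neg_smul_mem hgv hgw).mpr hx) R0 R0_mem
  obtain ⟨ku, kv⟩ := mem_K.mp hk
  have kw : k • (U0 - McL.V0) = U0 - McL.V0 := by rw [co0_sub', ku, kv]
  -- `h = k g` maps `(v, w, x)` to `(V0, U0 - V0, -R0)`
  have hhv : (k * g) • v = McL.V0 := by rw [mul_smul, hgv, kv]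
  have hhw : (k * g) • w = U0 - McL.V0 := by rw [mul_smul, hgw, kw]
  have hhx : (k * g) • x = -R0 := by
    rw [mul_smul, ← e, co0_neg, neg_neg]
  obtain ⟨c0, ⟨r0, hr0⟩, t0⟩ := orbit0
  obtain ⟨c16, ⟨r16, hr16⟩, t16⟩ := orbit16
  obtain ⟨c8, ⟨r8, hr8⟩, t8⟩ := orbit8
  have key : ∀ (d : ℤ) (r : leechLattice), r ∈ ptsD d →
      (k * g)⁻¹ • (-r) ∈ ptsV v w ∧ -((k * g) • ((k * g)⁻¹ • (-r))) ∈ ptsD d := by
    intro d r hr
    have e' : -((k * g) • ((k * g)⁻¹ • (-r))) = r := by rw [smul_inv_smul, neg_neg]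
    refine ⟨?_, by rw [e']; exact hr⟩
    rw [← neg_smul_mem hhv hhw, e']
    exact hr.1
  refine ⟨_, (key 0 r0 hr0).1, _, (key 16 r16 hr16).1, _, (key 8 r8 hr8).1, ?_, ?_, ?_⟩
  · rw [ncard_orbit hhv hhw hhx 0 (key 0 r0 hr0).2 t0, c0]
  · rw [ncard_orbit hhv hhw hhx 16 (key 16 r16 hr16).2 t16, c16]
  · rw [ncard_orbit hhv hhw hhx 8 (key 8 r8 hr8).2 t8, c8]

end Cfsg.Agent.Lib.Helper27.M2025
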