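import Cfsg.Agent.Lib.Helper27.McLMain

set_option autoImplicit false

/-!
The McLaughlin configuration: rank 3, subdegrees 112 and 162.
-/

namespace Cfsg.Agent.Lib.Helper27.McL

open Cfsg Cfsg.Agent.Lib.Conway Cfsg.Agent.Lib.Helper93.Leech Cfsg.Agent.Lib.Helper93.Golay
open Cfsg.Agent.Lib.Golay.LeechBasis Cfsg.Agent.Lib.Helper27.LL
open scoped Pointwise

/-- the points at scalar product `d` from `x`, different from `x` -/
def ptsD (u v x : leechLattice) (d : ℤ) : Set leechLattice :=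
  {y : leechLattice | y ∈ pts u v ∧ y ≠ x ∧ dotInt (x : Vec) (y : Vec) = d}

theorem smul_mem_ptsD {g : Co0} {u v x u' v' x' y : leechLattice} {d : ℤ} (hu : g • u = u')
    (hv : g • v = v') (hx : g • x = x') (hy : y ∈ ptsD u v x d) : g • y ∈ ptsD u' v' x' d := by
  obtain ⟨h1, h2, h3⟩ := hy
  refine ⟨smul_mem_pts hu hv h1, ?_, ?_⟩
  · intro e
    rw [← hx] at e
    exact h2 (MulAction.injective g e)
  · rw [← hx, co0_dot]; exact h3

theorem smul_mem_ptsD_iff {g : Co0} {u v x u' v' x' y : leechLattice} {d : ℤ} (hu : g • u = u')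
    (hv : g • v = v') (hx : g • x = x') : g • y ∈ ptsD u' v' x' d ↔ y ∈ ptsD u v x d := by
  refine ⟨fun h => ?_, smul_mem_ptsD hu hv hx⟩
  have hu' : g⁻¹ • u' = u := by rw [← hu, inv_smul_smul]
  have hv' : g⁻¹ • v' = v := by rw [← hv, inv_smul_smul]
  have hx' : g⁻¹ • x' = x := by rw [← hx, inv_smul_smul]
  have := smul_mem_ptsD hu' hv' hx' h
  rwa [inv_smul_smul] at this

theorem ncard_ptsD {g : Co0} {u v x u' v' x' : leechLattice} (d : ℤ) (hu : g • u = u')
    (hv : g • v = v') (hx : g • x = x') : (ptsD u v x d).ncard = (ptsD u' v' x' d).ncard := by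
  have : ptsD u' v' x' d = (fun y => g • y) '' ptsD u v x d := by
    ext y
    constructor
    · intro hy
      refine ⟨g⁻¹ • y, ?_, smul_inv_smul g y⟩
      rw [← smul_mem_ptsD_iff hu hv hx, smul_inv_smul]; exact hy
    · rintro ⟨z, hz, rfl⟩
      exact smul_mem_ptsD hu hv hx hz
  rw [this]
  exact (Set.ncard_image_of_injective _ (MulAction.injective g)).symm

theorem KX_inv (d : ℤ) : ∀ g ∈ KX, ∀ y ∈ ptsD U0 V0 X0 d, g • y ∈ ptsD U0 V0 X0 d :=
  fun _ hg _ hy => smul_mem_ptsD (mem_KX.mp hg).1 (mem_KX.mp hg).2.1 (mem_KX.mp hg).2.2 hy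

/-- the two lists of points -/
def T112 : List (List ℤ) := T112P.map unpack
def T162 : List (List ℤ) := T162P.map unpack

theorem T112_eq : T112 = T112_0 ++ T112_1 := by
  rw [T112, T112P, List.map_append]; rfl

theorem T162_eq : T162 = T162_0 ++ (T162_1 ++ T162_2) := by
  rw [T162, T162P, List.map_append, List.map_append, List.append_assoc]; rfl

theorem T112_len : ∀ l ∈ T112, l.length = 24 := by
  intro l hl
  obtain ⟨n, -, rfl⟩ := List.mem_map.mp hl
  exact unpack_length n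

theorem T162_len : ∀ l ∈ T162, l.length = 24 := by
  intro l hl
  obtain ⟨n, -, rfl⟩ := List.mem_map.mp hl
  exact unpack_length n

theorem T112_nodup : T112.Nodup := by
  have h := T_pack
  rw [List.all_append, Bool.and_eq_true] at h
  exact nodup_map_unpack T112P T_facts.2.2.1 h.1

theorem T162_nodup : T162.Nodup := by
  have h := T_pack
  rw [List.all_append, Bool.and_eq_true] at h
  exact nodup_map_unpack T162P T_facts.2.2.2 h.2

theorem X0_dot : dotInt (X0 : Vec) (X0 : Vec) = 32 := by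
  rw [← sqNorm_eq_dotInt]; exact X0_mem.1

/-- the class of a point -/
theorem class_of (y : leechLattice) (hy : y ∈ pts U0 V0) :
    y = X0 ∨ (dotInt (X0 : Vec) (y : Vec) = 8 ∧ ∃ l ∈ T112, (y : Vec) = vecL l) ∨
      (dotInt (X0 : Vec) (y : Vec) = 16 ∧ ∃ l ∈ T162, (y : Vec) = vecL l) := by
  obtain ⟨l, hl, e⟩ := complete y hy
  obtain ⟨n, hn, rfl⟩ := List.mem_map.mp hl
  have hc := List.all_eq_true.mp class_check n hn
  have hd : dotInt (X0 : Vec) (y : Vec) = dotL x0L (unpack n) := by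
    rw [e, X0_coe, dotInt_vecL x0_len (unpack_length n)]
  simp only [Bool.or_eq_true, Bool.and_eq_true, beq_iff_eq, List.contains_iff_mem] at hc
  rcases hc with (hc | ⟨h1, h2⟩) | ⟨h1, h2⟩
  · left
    apply Subtype.ext
    rw [e, hc, XL_head.2.2.2, X0_coe]
  · right; left
    exact ⟨by rw [hd, h1], unpack n, List.mem_map.mpr ⟨n, h2, rfl⟩, e⟩
  · right; right
    exact ⟨by rw [hd, h1], unpack n, List.mem_map.mpr ⟨n, h2, rfl⟩, e⟩

theorem complete8 (y : leechLattice) (hy : y ∈ ptsD U0 V0 X0 8) : ∃ l ∈ T112, (y : Vec) = vecL l := by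
  obtain ⟨h1, h2, h3⟩ := hy
  rcases class_of y h1 with h | ⟨-, h⟩ | ⟨h, -⟩
  · exact absurd h h2
  · exact h
  · omega

theorem complete16 (y : leechLattice) (hy : y ∈ ptsD U0 V0 X0 16) :
    ∃ l ∈ T162, (y : Vec) = vecL l := by
  obtain ⟨h1, h2, h3⟩ := hy
  rcases class_of y h1 with h | ⟨h, -⟩ | ⟨-, h⟩
  · exact absurd h h2
  · omega
  · exact h

/-- a root: a point with given packed coordinates from the list of all the points -/
theorem exists_root (n : ℕ) (hn : n ∈ XLP) (d : ℤ) (hd : dotL x0L (unpack n) = d) (hd' : d ≠ 32) :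
    ∃ r : leechLattice, r ∈ ptsD U0 V0 X0 d ∧ (r : Vec) = vecL (unpack n) := by
  obtain ⟨g, hg, e⟩ := reach_XL (unpack n) (List.mem_map.mpr ⟨n, hn, rfl⟩)
  have hdot : dotInt (X0 : Vec) ((g • X0 : leechLattice) : Vec) = d := by
    rw [e, X0_coe, dotInt_vecL x0_len (unpack_length n), hd]
  refine ⟨g • X0, ⟨K_inv g hg X0 X0_mem, ?_, hdot⟩, e⟩
  intro h
  rw [h, X0_dot] at hdot
  exact hd' hdot.symm

theorem getD_map_unpack (L : List ℕ) (i : ℕ) (hi : i < L.length) :
    (L.map unpack).getD i [] = unpack (L.getD i 0) := by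
  rw [List.getD_eq_getElem _ _ (by rw [List.length_map]; exact hi), List.getElem_map,
    List.getD_eq_getElem _ _ hi]

theorem SL112P_pos : 0 < SL112P.length := by decide
theorem SL162P_pos : 0 < SL162P.length := by decide

/-- the orbit of length 112 -/
theorem orbit8 : (ptsD U0 V0 X0 8).ncard = 112 ∧
    ∀ y ∈ ptsD U0 V0 X0 8, ∀ y' ∈ ptsD U0 V0 X0 8, ∃ g ∈ KX, g • y = y' := by
  obtain ⟨r, hr, er⟩ := exists_root (SL112P.getD 0 0) roots_check.2.2.1 8
    (by rw [← getD_map_unpack SL112P 0 SL112P_pos]; exact roots_check.2.2.2.2.1) (by norm_num)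
  have hroot : (r : Vec) = vecL (SL112.getD 0 []) := by
    rw [er, SL112, getD_map_unpack SL112P 0 SL112P_pos]
  have reachS : ∀ l ∈ SL112, ∃ g ∈ KX, ((g • r : leechLattice) : Vec) = vecL l :=
    reach_of_tree famH KX famH_mem SL112 SC112 r 0 hroot steps112 tree112_check tree112_all
  have hb := bases_lt
  simp only [Bool.and_eq_true, List.all_eq_true, decide_eq_true_eq] at hb
  obtain ⟨⟨⟨⟨⟨-, b0⟩, b1⟩, -⟩, -⟩, -⟩ := hb
  have hw := words112_check
  simp only [Bool.and_eq_true, decide_eq_true_eq] at hw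
  obtain ⟨hw0, hw1⟩ := hw
  have r0 := checkWords_spec perms21 KX perms21_mem r _
    (reachS _ (getD_mem_of_lt SL112 [] b0)) _ _ hw0
  have r1 := checkWords_spec perms21 KX perms21_mem r _
    (reachS _ (getD_mem_of_lt SL112 [] b1)) _ _ hw1
  have hreach : ∀ l ∈ T112, ∃ g ∈ KX, ((g • r : leechLattice) : Vec) = vecL l := by
    intro l hl
    rw [T112_eq, List.mem_append] at hl
    rcases hl with hl | hl
    · exact r0 l hl
    · exact r1 l hl
  have h := orbit_of_list (ptsD U0 V0 X0 8) KX (KX_inv 8) r hr T112 T112_len T112_nodup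
    complete8 hreach
  have e : T112.length = 112 := by rw [T112, List.length_map, T_facts.1]
  rw [e] at h
  exact h

/-- the orbit of length 162 -/
theorem orbit16 : (ptsD U0 V0 X0 16).ncard = 162 ∧
    ∀ y ∈ ptsD U0 V0 X0 16, ∀ y' ∈ ptsD U0 V0 X0 16, ∃ g ∈ KX, g • y = y' := by
  obtain ⟨r, hr, er⟩ := exists_root (SL162P.getD 0 0) roots_check.2.2.2.1 16
    (by rw [← getD_map_unpack SL162P 0 SL162P_pos]; exact roots_check.2.2.2.2.2) (by norm_num)
  have hroot : (r : Vec) = vecL (SL162.getD 0 []) := by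
    rw [er, SL162, getD_map_unpack SL162P 0 SL162P_pos]
  have reachS : ∀ l ∈ SL162, ∃ g ∈ KX, ((g • r : leechLattice) : Vec) = vecL l :=
    reach_of_tree famH KX famH_mem SL162 SC162 r 0 hroot steps162 tree162_check tree162_all
  have hb := bases_lt
  simp only [Bool.and_eq_true, List.all_eq_true, decide_eq_true_eq] at hb
  obtain ⟨⟨⟨⟨⟨-, -⟩, -⟩, b0⟩, b1⟩, b2⟩ := hb
  have hw := words162_check
  simp only [Bool.and_eq_true, decide_eq_true_eq] at hw
  obtain ⟨⟨hw0, hw1⟩, hw2⟩ := hw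
  have r0 := checkWords_spec perms21 KX perms21_mem r _
    (reachS _ (getD_mem_of_lt SL162 [] b0)) _ _ hw0
  have r1 := checkWords_spec perms21 KX perms21_mem r _
    (reachS _ (getD_mem_of_lt SL162 [] b1)) _ _ hw1
  have r2 := checkWords_spec perms21 KX perms21_mem r _
    (reachS _ (getD_mem_of_lt SL162 [] b2)) _ _ hw2
  have hreach : ∀ l ∈ T162, ∃ g ∈ KX, ((g • r : leechLattice) : Vec) = vecL l := by
    intro l hl
    rw [T162_eq, List.mem_append, List.mem_append] at hl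
    rcases hl with hl | hl | hl
    · exact r0 l hl
    · exact r1 l hl
    · exact r2 l hl
  have h := orbit_of_list (ptsD U0 V0 X0 16) KX (KX_inv 16) r hr T162 T162_len T162_nodup
    complete16 hreach
  have e : T162.length = 162 := by rw [T162, List.length_map, T_facts.2.1]
  rw [e] at h
  exact h

/-- rank 3 for the standard configuration -/
theorem rank0 (y y' : leechLattice) (hy : y ∈ pts U0 V0) (hy' : y' ∈ pts U0 V0) (h1 : y ≠ X0)
    (h2 : y' ≠ X0) (hd : dotInt (X0 : Vec) (y : Vec) = dotInt (X0 : Vec) (y' : Vec)) :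
    ∃ g ∈ KX, g • y = y' := by
  rcases class_of y hy with h | ⟨h, -⟩ | ⟨h, -⟩
  · exact absurd h h1
  · exact orbit8.2 y ⟨hy, h1, h⟩ y' ⟨hy', h2, by rw [← hd, h]⟩
  · exact orbit16.2 y ⟨hy, h1, h⟩ y' ⟨hy', h2, by rw [← hd, h]⟩

/-- every admissible triple is conjugate to the standard one -/
theorem exists_to_std3 (u v x : leechLattice) (hu : sqNorm (u : Vec) = 48)
    (hv : sqNorm (v : Vec) = 32) (huv : sqNorm ((u - v : leechLattice) : Vec) = 32)
    (hx : x ∈ pts u v) : ∃ g : Co0, g • u = U0 ∧ g • v = V0 ∧ g • x = X0 := by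
  obtain ⟨g, hgu, hgv⟩ := exists_to_std u v hu hv huv
  obtain ⟨k, hk, e⟩ := main0.2 (g • x) (smul_mem_pts hgu hgv hx) X0 X0_mem
  obtain ⟨ku, kv⟩ := mem_K.mp hk
  exact ⟨k * g, by rw [mul_smul, hgu, ku], by rw [mul_smul, hgv, kv], by rw [mul_smul, e]⟩

/-- the general statement -/
theorem rank3 (u v x : leechLattice) (hu : sqNorm (u : Vec) = 48)
    (hv : sqNorm (v : Vec) = 32) (huv : sqNorm ((u - v : leechLattice) : Vec) = 32)
    (hx : x ∈ pts u v) :
    (ptsD u v x 8).ncard = 112 ∧ (ptsD u v x 16).ncard = 162 ∧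
    ∀ y ∈ pts u v, ∀ y' ∈ pts u v, y ≠ x → y' ≠ x →
      dotInt (x : Vec) (y : Vec) = dotInt (x : Vec) (y' : Vec) →
      ∃ g : Co0, g • u = u ∧ g • v = v ∧ g • x = x ∧ g • y = y' := by
  obtain ⟨g, hgu, hgv, hgx⟩ := exists_to_std3 u v x hu hv huv hx
  refine ⟨by rw [ncard_ptsD 8 hgu hgv hgx, orbit8.1], by rw [ncard_ptsD 16 hgu hgv hgx, orbit16.1],
    ?_⟩
  intro y hy y' hy' h1 h2 hd
  obtain ⟨k, hk, e⟩ := rank0 (g • y) (g • y') (smul_mem_pts hgu hgv hy) (smul_mem_pts hgu hgv hy')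
    (by rw [← hgx]; exact fun h => h1 (MulAction.injective g h))
    (by rw [← hgx]; exact fun h => h2 (MulAction.injective g h))
    (by rw [← hgx, co0_dot, co0_dot]; exact hd)
  obtain ⟨ku, kv, kx⟩ := mem_KX.mp hk
  refine ⟨g⁻¹ * k * g, ?_, ?_, ?_, ?_⟩
  · rw [mul_smul, mul_smul, hgu, ku, ← hgu, inv_smul_smul]
  · rw [mul_smul, mul_smul, hgv, kv, ← hgv, inv_smul_smul]
  · rw [mul_smul, mul_smul, hgx, kx, ← hgx, inv_smul_smul]
  · rw [mul_smul, mul_smul, e, inv_smul_smul]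

end Cfsg.Agent.Lib.Helper27.McL
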