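import Cfsg.Agent.Lib.Helper27.PrimMax
import Cfsg.Agent.Lib.Helper27.M2025Main
import Cfsg.Agent.Lib.Helper27.M2025Cover
import Cfsg.Agent.Lib.Helper27.McLRank
import Cfsg.Agent.Lib.Conway.HSStd

set_option autoImplicit false

/-!
The joint stabiliser of two minimal vectors with scalar product `-8` is simple of order 898128000.
-/

namespace Cfsg.Agent.Lib.Helper27.McLS

open Cfsg Cfsg.Agent.Lib.Conway Cfsg.Agent.Lib.Helper93.Leech Cfsg.Agent.Lib.Helper93.Golay
open Cfsg.Agent.Lib.Golay.LeechBasis Cfsg.Agent.Lib.Helper27.LL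
open Cfsg.Agent.Lib.Helper27.McL (U0 K mem_K X0 KX mem_KX)
open Cfsg.Agent.Lib.Helper27.M2025 (ptsN KR mem_KR)
open scoped Pointwise

theorem finite_Co0 : Finite Co0 :=
  Nat.finite_of_card_ne_zero (by rw [card_Co0]; norm_num)

/-- action of a subgroup on an invariant set -/
@[reducible] def actOn (A : Subgroup Co0) (S : Set leechLattice)
    (h : ∀ g ∈ A, ∀ x ∈ S, g • x ∈ S) : MulAction ↥A ↥S where
  smul g x := ⟨(g : Co0) • (x : leechLattice), h g g.2 x x.2⟩
  one_smul x := Subtype.ext (one_smul _ _)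
  mul_smul g g' x := Subtype.ext (mul_smul _ _ _)

instance act2025 : MulAction ↥K ↥ptsN := actOn K ptsN M2025.K_inv
instance act275 : MulAction ↥K ↥(McL.pts U0 McL.V0) := actOn K _ McL.K_inv

theorem act2025_coe (g : K) (x : ptsN) : ((g • x : ptsN) : leechLattice) = (g : Co0) • (x : leechLattice) :=
  rfl

theorem act275_coe (g : K) (x : McL.pts U0 McL.V0) :
    ((g • x : McL.pts U0 McL.V0) : leechLattice) = (g : Co0) • (x : leechLattice) := rfl

/-- the base points -/
def r0 : ptsN := ⟨M2025.R0, M2025.R0_mem⟩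
def x0 : McL.pts U0 McL.V0 := ⟨X0, McL.X0_mem⟩

/-! ### the stabiliser of the base point of the 2025 points -/

theorem VH_eq : HS.VH = U0 := by
  apply Subtype.ext
  show HS.vh = vecL McL.u0L
  rw [McL.vecL_u0]; rfl

theorem XH_eq : HS.XH = McL.V0 := by
  apply Subtype.ext
  show HS.xh = vecL McL.v0L
  rw [McL.vecL_v0]; rfl

theorem WH_eq : HS.WH = -M2025.R0 - U0 := by
  apply Subtype.ext
  show HS.wh = -(vecL M2025.r0L) - vecL McL.u0L
  rw [McL.vecL_u0, M2025.vecL_r0]
  funext p
  unfold HS.wh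
  simp only [Pi.sub_apply, Pi.neg_apply]
  by_cases h1 : p = pa
  · subst h1
    simp [pa_ne_pb]
  · by_cases h2 : p = pb
    · subst h2
      simp [pa_ne_pb.symm]
    · simp [h1, h2]

theorem mem_T3_iff {g : Co0} : g ∈ HS.T3 ↔ g ∈ KR := by
  rw [HS.mem_T3, mem_KR, VH_eq, XH_eq, WH_eq]
  constructor
  · rintro ⟨h1, h2, h3⟩
    refine ⟨h1, h3, ?_⟩
    rw [McL.co0_sub', co0_neg, h1] at h2
    have := sub_left_injective h2
    exact neg_injective this
  · rintro ⟨h1, h2, h3⟩
    exact ⟨h1, by rw [McL.co0_sub', co0_neg, h1, h3], h2⟩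

theorem mem_stab_r0 (g : K) : g ∈ MulAction.stabilizer K r0 ↔ (g : Co0) ∈ KR := by
  rw [MulAction.mem_stabilizer_iff, mem_KR]
  obtain ⟨hu, hv⟩ := mem_K.mp g.2
  constructor
  · intro h
    have h' : ((g • r0 : ptsN) : leechLattice) = ((r0 : ptsN) : leechLattice) := congrArg Subtype.val h
    exact ⟨hu, hv, h'⟩
  · rintro ⟨-, -, h⟩
    apply Subtype.ext
    show (g : Co0) • M2025.R0 = M2025.R0
    exact h

/-- the stabiliser of the base point is `T3` -/
noncomputable def stabEquivT3 : MulAction.stabilizer K r0 ≃* HS.T3 where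
  toFun g := ⟨((g : K) : Co0), mem_T3_iff.mpr ((mem_stab_r0 g.1).mp g.2)⟩
  invFun g := ⟨⟨(g : Co0), by
      obtain ⟨h1, h2, -⟩ := mem_KR.mp (mem_T3_iff.mp g.2)
      exact mem_K.mpr ⟨h1, h2⟩⟩, by
    rw [mem_stab_r0]
    exact mem_T3_iff.mp g.2⟩
  left_inv g := rfl
  right_inv g := rfl
  map_mul' g h := rfl

theorem stab_simple : IsSimpleGroup (MulAction.stabilizer K r0) := by
  haveI := HS.T3_simple
  exact (stabEquivT3.isSimpleGroup_congr).2 inferInstance

theorem card_stab : Nat.card (MulAction.stabilizer K r0) = 443520 := by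
  rw [Nat.card_congr stabEquivT3.toEquiv]
  exact HS.card_T3

/-! ### the action on the 2025 points -/

theorem trans2025 (x : ptsN) : ∃ g : K, g • r0 = x := by
  obtain ⟨g, hg, e⟩ := M2025.main0.2 M2025.R0 M2025.R0_mem x.1 x.2
  exact ⟨⟨g, hg⟩, Subtype.ext e⟩

theorem card2025 : Nat.card ↥ptsN = 2025 := by
  rw [Nat.card_coe_set_eq, M2025.main0.1]

instance : Finite ↥ptsN :=
  (Set.finite_of_ncard_ne_zero (by rw [M2025.main0.1]; norm_num)).to_subtype

/-- the classes -/
def cls2025 : Fin 3 → Set ptsN := fun i =>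
  {x | (x : leechLattice) ∈ M2025.ptsD (![0, 16, 8] i)}

theorem R0_dot : dotInt (M2025.R0 : Vec) (M2025.R0 : Vec) = 32 := by
  rw [← sqNorm_eq_dotInt]; exact M2025.R0_mem.1.1

theorem ncard_sub {S : Set leechLattice} (T : Set leechLattice) (hT : T ⊆ S) :
    {x : S | (x : leechLattice) ∈ T}.ncard = T.ncard := by
  have : {x : S | (x : leechLattice) ∈ T} = Subtype.val ⁻¹' T := rfl
  rw [this]
  apply Set.ncard_preimage_of_injective_subset_range Subtype.val_injective
  intro y hy
  exact ⟨⟨y, hT hy⟩, rfl⟩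

theorem cover2025 (x : ptsN) : x = r0 ∨ ∃ i, x ∈ cls2025 i := by
  obtain ⟨n, hn, e⟩ := M2025.complete x.1 x.2
  have hc := List.all_eq_true.mp M2025.cover_check n hn
  have hd := M2025.dot_R0_unpack x.1 n e
  simp only [Bool.or_eq_true, M2025.nat_beq_iff] at hc
  rcases hc with ((hc | hc) | hc) | hc
  · left
    apply Subtype.ext
    apply Subtype.ext
    rw [e, hc, M2025.SL2_head.2]
    exact M2025.R0_coe.symm
  · right
    refine ⟨0, x.2, ?_⟩
    show dotInt (M2025.R0 : Vec) ((x : leechLattice) : Vec) = 0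
    rw [hd]; omega
  · right
    refine ⟨1, x.2, ?_⟩
    show dotInt (M2025.R0 : Vec) ((x : leechLattice) : Vec) = 16
    rw [hd]; omega
  · right
    refine ⟨2, x.2, ?_⟩
    show dotInt (M2025.R0 : Vec) ((x : leechLattice) : Vec) = 8
    rw [hd]; omega

theorem max2025 (M : Subgroup K) (hM : MulAction.stabilizer K r0 ≤ M) :
    M = MulAction.stabilizer K r0 ∨ M = ⊤ := by
  refine PrimMax.stab_max_of_classes r0 cls2025 ![330, 462, 1232] 2025 trans2025 card2025
    cover2025 ?_ ?_ ?_ ?_ (by decide) M hM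
  · intro i h
    have h2 : dotInt (M2025.R0 : Vec) (M2025.R0 : Vec) = ![0, 16, 8] i := h.2
    rw [R0_dot] at h2
    fin_cases i <;> simp at h2
  · intro i j hij
    rw [Set.disjoint_left]
    intro x hx hx'
    have h1 : dotInt (M2025.R0 : Vec) ((x : leechLattice) : Vec) = ![0, 16, 8] i := hx.2
    have h2 : dotInt (M2025.R0 : Vec) ((x : leechLattice) : Vec) = ![0, 16, 8] j := hx'.2
    rw [h1] at h2
    fin_cases i <;> fin_cases j <;> simp at h2 hij
  · intro i
    have hsub : ∀ d, M2025.ptsD d ⊆ ptsN := fun d y hy => hy.1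
    fin_cases i
    · exact (ncard_sub _ (hsub 0)).trans M2025.orbit0.1
    · exact (ncard_sub _ (hsub 16)).trans M2025.orbit16.1
    · exact (ncard_sub _ (hsub 8)).trans M2025.orbit8.1
  · intro i y hy y' hy'
    have key : ∀ d, (∀ z ∈ M2025.ptsD d, ∀ z' ∈ M2025.ptsD d, ∃ g ∈ KR, g • z = z') →
        (y : leechLattice) ∈ M2025.ptsD d → (y' : leechLattice) ∈ M2025.ptsD d →
        ∃ g ∈ MulAction.stabilizer K r0, g • y = y' := by
      intro d htr h1 h2
      obtain ⟨g, hg, e⟩ := htr _ h1 _ h2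
      obtain ⟨k1, k2, k3⟩ := mem_KR.mp hg
      exact ⟨⟨g, mem_K.mpr ⟨k1, k2⟩⟩, (mem_stab_r0 _).mpr hg, Subtype.ext e⟩
    fin_cases i
    · exact key 0 M2025.orbit0.2.2 hy hy'
    · exact key 16 M2025.orbit16.2.2 hy hy'
    · exact key 8 M2025.orbit8.2.2 hy hy'

/-- the action on the 2025 points is faithful -/
theorem faithful2025 (g : K) (h : ∀ x : ptsN, g • x = x) : g = 1 := by
  -- the kernel is a normal subgroup of the simple point stabiliser
  let Ker : Subgroup K :=
    { carrier := {g | ∀ x : ptsN, g • x = x}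
      one_mem' := fun x => one_smul _ x
      mul_mem' := fun {a b} ha hb x => by rw [mul_smul, hb x, ha x]
      inv_mem' := fun {a} ha x => by
        have := ha x
        calc a⁻¹ • x = a⁻¹ • (a • x) := by rw [this]
          _ = x := inv_smul_smul a x }
  have hKerN : Ker.Normal := ⟨fun a ha b x => by
    show (b * a * b⁻¹) • x = x
    rw [mul_smul, mul_smul, ha (b⁻¹ • x), smul_inv_smul]⟩
  have hle : Ker ≤ MulAction.stabilizer K r0 := fun a ha => MulAction.mem_stabilizer_iff.mpr (ha r0)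
  haveI := stab_simple
  have hnorm : (Ker.subgroupOf (MulAction.stabilizer K r0)).Normal := inferInstance
  rcases (stab_simple).eq_bot_or_eq_top_of_normal _ hnorm with hb | ht
  · have hg : g ∈ Ker := h
    have : (⟨g, hle hg⟩ : MulAction.stabilizer K r0) ∈ Ker.subgroupOf (MulAction.stabilizer K r0) := by
      rw [Subgroup.mem_subgroupOf]; exact hg
    rw [hb, Subgroup.mem_bot] at this
    exact congrArg (fun z : MulAction.stabilizer K r0 => (z : K)) this
  · exfalso
    -- the point stabiliser moves a point of the class of 330 points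
    have h330 : 1 < (M2025.ptsD 0).ncard := by rw [M2025.orbit0.1]; norm_num
    obtain ⟨y, y', hy, hy', hne⟩ := (Set.one_lt_ncard_iff (Set.finite_of_ncard_pos (by omega))).mp h330
    obtain ⟨k, hk, e⟩ := M2025.orbit0.2.2 y hy y' hy'
    obtain ⟨k1, k2, k3⟩ := mem_KR.mp hk
    have hkS : (⟨k, mem_K.mpr ⟨k1, k2⟩⟩ : K) ∈ MulAction.stabilizer K r0 := (mem_stab_r0 _).mpr hk
    have : (⟨⟨k, mem_K.mpr ⟨k1, k2⟩⟩, hkS⟩ : MulAction.stabilizer K r0) ∈
        Ker.subgroupOf (MulAction.stabilizer K r0) := by rw [ht]; trivial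
    rw [Subgroup.mem_subgroupOf] at this
    have h2 := this ⟨y, hy.1⟩
    have h3 : k • y = y := congrArg Subtype.val h2
    exact hne (h3.symm.trans e)

/-! ### the action on the 275 points -/

theorem trans275 (x : McL.pts U0 McL.V0) : ∃ g : K, g • x0 = x := by
  obtain ⟨g, hg, e⟩ := McL.main0.2 X0 McL.X0_mem x.1 x.2
  exact ⟨⟨g, hg⟩, Subtype.ext e⟩

theorem card275 : Nat.card ↥(McL.pts U0 McL.V0) = 275 := by
  rw [Nat.card_coe_set_eq, McL.main0.1]

instance : Finite ↥(McL.pts U0 McL.V0) :=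
  (Set.finite_of_ncard_ne_zero (by rw [McL.main0.1]; norm_num)).to_subtype

theorem mem_stab_x0 (g : K) : g ∈ MulAction.stabilizer K x0 ↔ (g : Co0) ∈ KX := by
  rw [MulAction.mem_stabilizer_iff, mem_KX]
  obtain ⟨hu, hv⟩ := mem_K.mp g.2
  constructor
  · intro h
    have h' : ((g • x0 : McL.pts U0 McL.V0) : leechLattice) = ((x0 : McL.pts U0 McL.V0) : leechLattice) :=
      congrArg Subtype.val h
    exact ⟨hu, hv, h'⟩
  · rintro ⟨-, -, h⟩
    apply Subtype.ext
    show (g : Co0) • X0 = X0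
    exact h

/-- the classes -/
def cls275 : Fin 2 → Set (McL.pts U0 McL.V0) := fun i =>
  {x | (x : leechLattice) ∈ McL.ptsD U0 McL.V0 X0 (![8, 16] i)}

theorem max275 (M : Subgroup K) (hM : MulAction.stabilizer K x0 ≤ M) :
    M = MulAction.stabilizer K x0 ∨ M = ⊤ := by
  refine PrimMax.stab_max_of_classes x0 cls275 ![112, 162] 275 trans275 card275
    ?_ ?_ ?_ ?_ ?_ (by decide) M hM
  · intro x
    rcases McL.class_of x.1 x.2 with h | ⟨h, -⟩ | ⟨h, -⟩
    · exact Or.inl (Subtype.ext h)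
    · by_cases hx : (x : leechLattice) = X0
      · exact Or.inl (Subtype.ext hx)
      · exact Or.inr ⟨0, x.2, hx, h⟩
    · by_cases hx : (x : leechLattice) = X0
      · exact Or.inl (Subtype.ext hx)
      · exact Or.inr ⟨1, x.2, hx, h⟩
  · intro i h
    exact h.2.1 rfl
  · intro i j hij
    rw [Set.disjoint_left]
    intro x hx hx'
    have h1 : dotInt (X0 : Vec) ((x : leechLattice) : Vec) = ![8, 16] i := hx.2.2
    have h2 : dotInt (X0 : Vec) ((x : leechLattice) : Vec) = ![8, 16] j := hx'.2.2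
    rw [h1] at h2
    fin_cases i <;> fin_cases j <;> simp at h2 hij
  · intro i
    have hsub : ∀ d, McL.ptsD U0 McL.V0 X0 d ⊆ McL.pts U0 McL.V0 := fun d y hy => hy.1
    fin_cases i
    · exact (ncard_sub _ (hsub 8)).trans McL.orbit8.1
    · exact (ncard_sub _ (hsub 16)).trans McL.orbit16.1
  · intro i y hy y' hy'
    have key : ∀ d, (∀ z ∈ McL.ptsD U0 McL.V0 X0 d, ∀ z' ∈ McL.ptsD U0 McL.V0 X0 d,
        ∃ g ∈ KX, g • z = z') →
        (y : leechLattice) ∈ McL.ptsD U0 McL.V0 X0 d → (y' : leechLattice) ∈ McL.ptsD U0 McL.V0 X0 d →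
        ∃ g ∈ MulAction.stabilizer K x0, g • y = y' := by
      intro d htr h1 h2
      obtain ⟨g, hg, e⟩ := htr _ h1 _ h2
      obtain ⟨k1, k2, k3⟩ := mem_KX.mp hg
      exact ⟨⟨g, mem_K.mpr ⟨k1, k2⟩⟩, (mem_stab_x0 _).mpr hg, Subtype.ext e⟩
    fin_cases i
    · exact key 8 McL.orbit8.2 hy hy'
    · exact key 16 McL.orbit16.2 hy hy'

/-! ### the main theorem -/

theorem index2025 : (MulAction.stabilizer K r0).index = 2025 := by
  have : MulAction.IsPretransitive K ptsN := ⟨fun x y => by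
    obtain ⟨g, rfl⟩ := trans2025 x
    obtain ⟨g', rfl⟩ := trans2025 y
    exact ⟨g' * g⁻¹, by rw [mul_smul, inv_smul_smul]⟩⟩
  rw [MulAction.index_stabilizer_of_transitive K r0, card2025]

theorem index275 : (MulAction.stabilizer K x0).index = 275 := by
  have : MulAction.IsPretransitive K (McL.pts U0 McL.V0) := ⟨fun x y => by
    obtain ⟨g, rfl⟩ := trans275 x
    obtain ⟨g', rfl⟩ := trans275 y
    exact ⟨g' * g⁻¹, by rw [mul_smul, inv_smul_smul]⟩⟩
  rw [MulAction.index_stabilizer_of_transitive K x0, card275]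

theorem card_K : Nat.card K = 898128000 := by
  rw [← Subgroup.card_mul_index (MulAction.stabilizer K r0), index2025, card_stab]

/-- the standard group is the McLaughlin group -/
theorem isMcL_std : IsSimpleGroup K ∧ Nat.card K = 898128000 := by
  haveI := finite_Co0
  refine ⟨PrimMax.simple_of_two_actions r0 x0 faithful2025 trans2025 stab_simple max2025 max275
    ?_ ?_, card_K⟩
  · rw [index2025, index275]; norm_num
  · rw [index2025, index275, card_K]; norm_num

/-- conjugation between subgroups -/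
def conjEquiv (g : Co0) (A B : Subgroup Co0) (h : ∀ k, k ∈ A ↔ g * k * g⁻¹ ∈ B) : A ≃* B where
  toFun k := ⟨g * k * g⁻¹, (h k).1 k.2⟩
  invFun k := ⟨g⁻¹ * k * g, by
    rw [h]
    have : g * (g⁻¹ * (k : Co0) * g) * g⁻¹ = k := by group
    rw [this]; exact k.2⟩
  left_inv k := by
    apply Subtype.ext
    show g⁻¹ * (g * (k : Co0) * g⁻¹) * g = k
    group
  right_inv k := by
    apply Subtype.ext
    show g * (g⁻¹ * (k : Co0) * g) * g⁻¹ = k
    group
  map_mul' a b := by
    apply Subtype.ext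
    show g * ((a : Co0) * b) * g⁻¹ = g * a * g⁻¹ * (g * b * g⁻¹)
    group

/-- the general statement -/
theorem isMcL (v w : leechLattice) (hv : sqNorm (v : Vec) = 32) (hw : sqNorm (w : Vec) = 32)
    (hvw : dotInt (v : Vec) (w : Vec) = -8) :
    IsSimpleGroup ↥(MulAction.stabilizer Co0 v ⊓ MulAction.stabilizer Co0 w) ∧
      Nat.card ↥(MulAction.stabilizer Co0 v ⊓ MulAction.stabilizer Co0 w) = 898128000 := by
  obtain ⟨g, hgv, hgw⟩ := M2025.exists_to_std v w hv hw hvw
  have e : ↥(MulAction.stabilizer Co0 v ⊓ MulAction.stabilizer Co0 w) ≃* K :=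
    conjEquiv g _ _ (by
      intro k
      rw [Subgroup.mem_inf, MulAction.mem_stabilizer_iff, MulAction.mem_stabilizer_iff, mem_K]
      have hU : g • (v + w) = U0 := by rw [co0_add, hgv, hgw]; abel
      constructor
      · rintro ⟨h1, h2⟩
        constructor
        · rw [mul_smul, mul_smul, ← hU, inv_smul_smul, co0_add, h1, h2]
        · rw [mul_smul, mul_smul, ← hgv, inv_smul_smul, h1]
      · rintro ⟨h1, h2⟩
        have h3 : (g * k * g⁻¹) • (U0 - McL.V0) = U0 - McL.V0 := by rw [McL.co0_sub', h1, h2]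
        constructor
        · rw [← hgv, mul_smul, mul_smul, inv_smul_smul] at h2
          exact MulAction.injective g h2
        · rw [← hgw, mul_smul, mul_smul, inv_smul_smul] at h3
          exact MulAction.injective g h3)
  obtain ⟨h1, h2⟩ := isMcL_std
  exact ⟨(e.isSimpleGroup_congr).2 h1, by rw [Nat.card_congr e.toEquiv, h2]⟩

end Cfsg.Agent.Lib.Helper27.McLS
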