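import Mathlib
import Cfsg.Prelude.Def_OddOrder
import Cfsg.Prelude.Def_OddOrderLocal
import Cfsg.Prelude.Def_Solvable
import Cfsg.Agent.S1355
import Cfsg.Agent.S1365
import Cfsg.Agent.Lib.Helper30.BG1390B

/-!
# BG157-REV (helper27, for helper91's S1383 hive): Type V gives `K ≠ ⊥`, `U = ⊥`, `M_F = M_σ`
-/

set_option autoImplicit false

namespace Cfsg.Agent.Lib.Helper91.BG157

open Subgroup Cfsg

universe u

section bg

variable {G : Type u} [Group G] [Finite G]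

/-- REV.  Type V data `(W₁, ⊥, W₂)`: `U_compl` gives `M' = M_F`, so `M_F = M_σ = M'`; `κ(M)` is nonempty,
so `K ≠ ⊥`; S1365: `M' = U ⊔ M_σ`, so `U ≤ M_σ`, and `U ⊓ (K ⊔ M_σ) = ⊥`. -/
theorem of_typeV (hG : IsMinSimpleOddOrder G) {M K U : Subgroup G} (hM : IsCoatom M)
    (hKU : IsSigmaDecomposition M K U) (h : IsOfTypeV M) :
    K ≠ ⊥ ∧ U = ⊥ ∧ fittingHallOf M = sigmaCore M := by
  obtain ⟨W₁, U', W₂, hP, hU', -⟩ := h
  -- `K ≠ ⊥`
  obtain ⟨q, hq⟩ := Cfsg.Agent.Lib.Helper30.BG1390.typeP_kappa_nonempty hG hM hP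
  have hqK : q ∣ Nat.card K := Cfsg.Agent.Lib.Helper30.BG1390.hallKappa_ne_bot hKU.hall hq
  have hK1 : K ≠ ⊥ := by
    intro hK
    rw [hK, Subgroup.card_bot] at hqK
    exact hq.1.one_lt.ne' (Nat.dvd_one.1 hqK)
  -- `M' ≤ M_F`
  have hcompl := hP.U_compl
  rw [hU'] at hcompl
  have hle : ⁅M, M⁆ ≤ fittingHallOf M := by
    intro m hm
    obtain ⟨a, ha, b, hb, rfl⟩ := hcompl.2.2.2 m hm
    rw [Subgroup.mem_bot] at hb
    rw [hb, mul_one]
    exact ha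
  obtain ⟨-, hFσ, hσd, -, -⟩ := Cfsg.Agent.S1355.result hG M hM
  have hFeq : fittingHallOf M = sigmaCore M := le_antisymm hFσ (hσd.trans hle)
  -- `U = ⊥`
  obtain ⟨hd, -⟩ := Cfsg.Agent.S1365.result hG M hM K U hKU hK1
  have hUσ : U ≤ sigmaCore M := by
    have h1 : U ≤ ⁅M, M⁆ := by rw [hd]; exact le_sup_left
    exact h1.trans (hle.trans hFσ)
  have hUbot : U = ⊥ := by
    rw [eq_bot_iff, ← hKU.compl.2.2.1]
    exact le_inf le_rfl (hUσ.trans le_sup_right)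
  exact ⟨hK1, hUbot, hFeq⟩

end bg

end Cfsg.Agent.Lib.Helper91.BG157
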