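import Cfsg.Agent.Lib.Helper37.B2O5Defs

/-! # S1083 hive "Bo" (helper37), leaf BO-GRP (pure group theory)

If `D` is abelian and normalises `E`, and `G = E D`, then `E` is normal with abelian quotient, so
`[G, G] ≤ E`. -/

set_option autoImplicit false
set_option linter.unusedSectionVars false
set_option linter.unusedVariables false

namespace Cfsg.Agent.Lib.Helper37.B2O5

open Matrix Module QuadraticMap
open Cfsg.Agent.Lib.Helper8 Cfsg.Agent.Lib.Helper13 Cfsg.Agent.Lib.Helper37 Cfsg.Agent.Lib.Helper43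

open scoped commutatorElement in
/-- BO-GRP (pure group theory). -/
theorem commutator_le_of_factor {G : Type*} [Group G] (E D : Subgroup G)
    (hD : ∀ a ∈ D, ∀ b ∈ D, a * b = b * a) (hN : ∀ d ∈ D, ∀ e ∈ E, d * e * d⁻¹ ∈ E)
    (hG : ∀ g : G, ∃ h ∈ E, h * g ∈ D) : commutator G ≤ E := by
  have hnorm : E.Normal := by
    refine ⟨fun e he g => ?_⟩
    obtain ⟨h, hh, hd⟩ := hG g
    have h1 := hN _ hd e he
    have h2 : g * e * g⁻¹ = h⁻¹ * ((h * g) * e * (h * g)⁻¹) * h := by group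
    rw [h2]
    exact E.mul_mem (E.mul_mem (E.inv_mem hh) h1) hh
  have hmk : ∀ g : G, ∃ d ∈ D, (g : G ⧸ E) = (d : G ⧸ E) := by
    intro g
    obtain ⟨h, hh, hd⟩ := hG g
    refine ⟨h * g, hd, ?_⟩
    rw [QuotientGroup.mk_mul, (QuotientGroup.eq_one_iff h).mpr hh, one_mul]
  rw [commutator_def, Subgroup.commutator_le]
  intro g₁ _ g₂ _
  rw [← QuotientGroup.eq_one_iff (N := E)]
  obtain ⟨d₁, hd₁, e₁⟩ := hmk g₁
  obtain ⟨d₂, hd₂, e₂⟩ := hmk g₂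
  have h3 : ((⁅g₁, g₂⁆ : G) : G ⧸ E) = ⁅(g₁ : G ⧸ E), (g₂ : G ⧸ E)⁆ :=
    map_commutatorElement (QuotientGroup.mk' E) g₁ g₂
  have h4 : ((⁅d₁, d₂⁆ : G) : G ⧸ E) = ⁅(d₁ : G ⧸ E), (d₂ : G ⧸ E)⁆ :=
    map_commutatorElement (QuotientGroup.mk' E) d₁ d₂
  rw [h3, e₁, e₂, ← h4, commutatorElement_eq_one_iff_commute.mpr (hD d₁ hd₁ d₂ hd₂)]
  rfl

end Cfsg.Agent.Lib.Helper37.B2O5
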