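import Cfsg.Agent.Lib.Helper37.B2O5Defs

/-! # S1083 hive "Bo" (helper37), leaf BO-NONCOMM

`X 5 1` and `X 4 1` do not commute: `X 5 1 * X 4 1` sends `f₁` to a vector with `cz = 1`,
`X 4 1 * X 5 1` sends `f₁` to a vector with `cz = 0`. -/

set_option autoImplicit false
set_option linter.unusedSectionVars false
set_option linter.unusedVariables false

namespace Cfsg.Agent.Lib.Helper37.B2O5

open Matrix Module QuadraticMap
open Cfsg.Agent.Lib.Helper8 Cfsg.Agent.Lib.Helper13 Cfsg.Agent.Lib.Helper37 Cfsg.Agent.Lib.Helper43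

variable {F : Type*} [Field F]

/-- BO-NONCOMM. E.g. `X 5 1` and `X 4 1` (compare the actions on `vf1`). -/
theorem EE_noncomm : ∃ a ∈ EE F, ∃ b ∈ EE F, a * b ≠ b * a := by
  refine ⟨X 5 1, X_mem_EE 5 1, X 4 1, X_mem_EE 4 1, fun h => ?_⟩
  have h1 := congrArg (fun g => cz (act (Q5 F) g (vf1 : I5 → F))) h
  simp only [act_mul, act_X4, act_X5, vf1, cz_mk5, ca1_mk5, ca2_mk5, cb1_mk5, cb2_mk5] at h1
  simp at h1

end Cfsg.Agent.Lib.Helper37.B2O5
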