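import Mathlib

set_option autoImplicit false

/-!
A group of order `2 ^ 11 * 23` has a proper nontrivial characteristic subgroup: a normal Sylow
subgroup for `23`, or, if there are `2048` of them, the normal complement of Burnside's transfer
theorem.
-/

namespace Cfsg.Agent.Lib.Helper27.Char2p

open Subgroup

variable {K : Type*} [Group K]

theorem dvd_2048_mod23 (d : ℕ) (hd : d ∣ 2048) (h23 : d % 23 = 1) : d = 1 ∨ d = 2048 := by
  obtain ⟨k, hk, rfl⟩ := (Nat.dvd_prime_pow Nat.prime_two (m := 11)).1 (by simpa using hd)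
  interval_cases k <;> simp_all

theorem fac23 : (2 ^ 11 * 23).factorization 23 = 1 := by
  rw [Nat.factorization_mul (by norm_num) (by norm_num), Nat.Prime.factorization_pow Nat.prime_two,
    Nat.Prime.factorization (by norm_num : Nat.Prime 23)]
  simp

theorem fac2 : (2 ^ 11 * 23).factorization 2 = 11 := by
  rw [Nat.factorization_mul (by norm_num) (by norm_num), Nat.Prime.factorization_pow Nat.prime_two,
    Nat.Prime.factorization (by norm_num : Nat.Prime 23)]
  simp

theorem exists_char_of_card [Finite K] (hcard : Nat.card K = 2 ^ 11 * 23) :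
    ∃ C : Subgroup K, C.Characteristic ∧ C ≠ ⊥ ∧ C ≠ ⊤ := by
  have : Fact (Nat.Prime 23) := ⟨by norm_num⟩
  have : Fact (Nat.Prime 2) := ⟨Nat.prime_two⟩
  obtain ⟨P⟩ : Nonempty (Sylow 23 K) := inferInstance
  have hPcard : Nat.card (P : Subgroup K) = 23 := by
    rw [P.card_eq_multiplicity, hcard, fac23, pow_one]
  have hPidx : (P : Subgroup K).index = 2048 := by
    have := (P : Subgroup K).card_mul_index
    rw [hPcard, hcard] at this
    omega
  have key : ∀ C : Subgroup K, (Nat.card C = 23 ∨ Nat.card C = 2048) → C ≠ ⊥ ∧ C ≠ ⊤ := by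
    intro C hC
    constructor
    · intro e
      rw [e, Subgroup.card_bot] at hC
      omega
    · intro e
      rw [e, Subgroup.card_top, hcard] at hC
      omega
  have hmod : Nat.card (Sylow 23 K) % 23 = 1 := by
    have := card_sylow_modEq_one 23 K
    rw [Nat.ModEq] at this
    rw [this]
  have hdvd : Nat.card (Sylow 23 K) ∣ 2048 := hPidx ▸ P.card_dvd_index
  rcases dvd_2048_mod23 _ hdvd hmod with h1 | h2048
  · have : Subsingleton (Sylow 23 K) := (Nat.card_eq_one_iff_unique.mp h1).1
    have hn := P.normal_of_subsingleton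
    exact ⟨P, P.characteristic_of_normal hn, key _ (Or.inl hPcard)⟩
  · have hNidx : (normalizer (P : Set K)).index = 2048 := by
      rw [← P.card_eq_index_normalizer, h2048]
    have hNcard : Nat.card (normalizer (P : Set K)) = 23 := by
      have := (normalizer (P : Set K)).card_mul_index
      rw [hNidx, hcard] at this
      omega
    have hNP : (P : Subgroup K) = normalizer (P : Set K) :=
      Subgroup.eq_of_le_of_card_ge le_normalizer (by rw [hNcard, hPcard])
    have hcyc : IsCyclic (P : Subgroup K) := isCyclic_of_prime_card hPcard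
    have hcomm : ∀ a ∈ (P : Subgroup K), ∀ b ∈ (P : Subgroup K), a * b = b * a := by
      intro a ha b hb
      obtain ⟨g, hg⟩ := hcyc.exists_generator
      obtain ⟨m, hm⟩ := Subgroup.mem_zpowers_iff.mp (hg ⟨a, ha⟩)
      obtain ⟨n, hn⟩ := Subgroup.mem_zpowers_iff.mp (hg ⟨b, hb⟩)
      have h : (⟨a, ha⟩ : (P : Subgroup K)) * ⟨b, hb⟩ = ⟨b, hb⟩ * ⟨a, ha⟩ := by
        rw [← hm, ← hn, ← zpow_add, ← zpow_add, add_comm]
      exact congrArg Subtype.val h
    have hP : normalizer (P : Set K) ≤ centralizer ((P : Subgroup K) : Set K) := by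
      rw [← hNP]
      intro a ha b hb
      exact hcomm b hb a ha
    set C := (MonoidHom.transferSylow P hP).ker with hC
    have hcompl := MonoidHom.ker_transferSylow_isComplement' P hP
    have hCcard : Nat.card C = 2048 := by
      have := hcompl.card_mul_card
      rw [hPcard, hcard] at this
      show Nat.card (MonoidHom.transferSylow P hP).ker = 2048
      omega
    have hQ : Nat.card C = 2 ^ (Nat.card K).factorization 2 := by
      rw [hCcard, hcard, fac2]
      norm_num
    have hQn : ((Sylow.ofCard C hQ : Sylow 2 K) : Subgroup K).Normal := by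
      rw [Sylow.coe_ofCard]
      exact MonoidHom.normal_ker _
    refine ⟨(Sylow.ofCard C hQ : Sylow 2 K), (Sylow.ofCard C hQ).characteristic_of_normal hQn, ?_⟩
    rw [Sylow.coe_ofCard]
    exact key _ (Or.inr hCcard)

end Cfsg.Agent.Lib.Helper27.Char2p
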