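import Cfsg.Agent.Lib.Helper27.Co2DChunk_m16_0
import Cfsg.Agent.Lib.Helper27.Co2DChunk_p16_0
import Cfsg.Agent.Lib.Helper27.Co2DChunk_m8_0
import Cfsg.Agent.Lib.Helper27.Co2DChunk_m8_1
import Cfsg.Agent.Lib.Helper27.Co2DChunk_p8_0
import Cfsg.Agent.Lib.Helper27.Co2DChunk_p8_1
import Cfsg.Agent.Lib.Helper27.Co2DChunk_p8_2
import Cfsg.Agent.Lib.Helper27.Co2DChunk_p8_3
import Cfsg.Agent.Lib.Helper27.Co2DChunk_p0_0
import Cfsg.Agent.Lib.Helper27.Co2DChunk_p0_1
import Cfsg.Agent.Lib.Helper27.Co2DChunk_p0_2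
import Cfsg.Agent.Lib.Helper27.Co2DChunk_p0_3
import Cfsg.Agent.Lib.Helper27.Co2DChunk_p0_4
import Cfsg.Agent.Lib.Helper27.Co2DChunk_p0_5

set_option autoImplicit false

/-! The lists of the points of the classes. -/

namespace Cfsg.Agent.Lib.Helper27.Co2D

open Cfsg Cfsg.Agent.Lib.Conway Cfsg.Agent.Lib.Helper93.Leech Cfsg.Agent.Lib.Helper93.Golay
open Cfsg.Agent.Lib.Golay.LeechBasis Cfsg.Agent.Lib.Helper27.LL
open Cfsg.Agent.Lib.Helper26 (PermData)

/-- the packed points of the class -/
def Cm16P : List ℕ := Xm16_0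

set_option maxRecDepth 1000000 in
theorem sorted_m16 : sortedLt Cm16P = true := by decide +kernel

set_option maxRecDepth 1000000 in
theorem length_m16 : Cm16P.length = 275 := by decide +kernel

/-- the packed points of the class -/
def Cp16P : List ℕ := Xp16_0

set_option maxRecDepth 1000000 in
theorem sorted_p16 : sortedLt Cp16P = true := by decide +kernel

set_option maxRecDepth 1000000 in
theorem length_p16 : Cp16P.length = 2025 := by decide +kernel

/-- the packed points of the class -/
def Cm8P : List ℕ := Xm8_0 ++ Xm8_1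

set_option maxRecDepth 1000000 in
theorem sorted_m8 : sortedLt Cm8P = true := by decide +kernel

set_option maxRecDepth 1000000 in
theorem length_m8 : Cm8P.length = 7128 := by decide +kernel

/-- the packed points of the class -/
def Cp8P : List ℕ := Xp8_0 ++ Xp8_1 ++ Xp8_2 ++ Xp8_3

set_option maxRecDepth 1000000 in
theorem sorted_p8 : sortedLt Cp8P = true := by decide +kernel

set_option maxRecDepth 1000000 in
theorem length_p8 : Cp8P.length = 15400 := by decide +kernel

/-- the packed points of the class -/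
def Cp0P : List ℕ := Xp0_0 ++ Xp0_1 ++ Xp0_2 ++ Xp0_3 ++ Xp0_4 ++ Xp0_5

set_option maxRecDepth 1000000 in
theorem sorted_p0 : sortedLt Cp0P = true := by decide +kernel

set_option maxRecDepth 1000000 in
theorem length_p0 : Cp0P.length = 22275 := by decide +kernel

end Cfsg.Agent.Lib.Helper27.Co2D
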