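import Cfsg.Agent.Lib.Helper27.McL

set_option autoImplicit false

/-!
The McLaughlin configuration: the count 275, transitivity, and the reduction of an arbitrary pair
`(u, v)` to the standard one.
-/

namespace Cfsg.Agent.Lib.Helper27.McL

open Cfsg Cfsg.Agent.Lib.Conway Cfsg.Agent.Lib.Helper93.Leech Cfsg.Agent.Lib.Helper93.Golay
open Cfsg.Agent.Lib.Golay.LeechBasis Cfsg.Agent.Lib.Helper27.LL
open scoped Pointwise

theorem co0_sub' (g : Co0) (v w : leechLattice) : g • (v - w) = g • v - g • w :=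
  (co0Hom g).map_sub v w

/-- transport of the points along an automorphism -/
theorem smul_mem_pts {g : Co0} {u v u' v' x : leechLattice} (hu : g • u = u') (hv : g • v = v')
    (hx : x ∈ pts u v) : g • x ∈ pts u' v' := by
  obtain ⟨h1, h2, h3⟩ := hx
  refine ⟨by rw [co0_norm]; exact h1, ?_, ?_⟩
  · rw [← hu, ← co0_sub', co0_norm]; exact h2
  · rw [← hv, co0_dot]; exact h3

theorem smul_mem_pts_iff {g : Co0} {u v u' v' x : leechLattice} (hu : g • u = u')
    (hv : g • v = v') : g • x ∈ pts u' v' ↔ x ∈ pts u v := by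
  refine ⟨fun h => ?_, smul_mem_pts hu hv⟩
  have hu' : g⁻¹ • u' = u := by rw [← hu, inv_smul_smul]
  have hv' : g⁻¹ • v' = v := by rw [← hv, inv_smul_smul]
  have := smul_mem_pts hu' hv' h
  rwa [inv_smul_smul] at this

theorem u0_len : u0L.length = 24 := by decide
theorem v0_len : v0L.length = 24 := by decide
theorem x0_len : x0L.length = 24 := by decide

set_option maxRecDepth 100000 in
theorem X0_mem : X0 ∈ pts U0 V0 := by
  refine ⟨?_, ?_, ?_⟩
  · rw [X0_coe, sqNorm_vecL x0_len]; decide +kernel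
  · rw [AddSubgroup.coe_sub, sqNorm_sub, U0_coe, X0_coe, sqNorm_vecL u0_len, sqNorm_vecL x0_len,
      dotInt_vecL u0_len x0_len]; decide +kernel
  · rw [V0_coe, X0_coe, dotInt_vecL v0_len x0_len]; decide +kernel

theorem K_inv : ∀ g ∈ K, ∀ x ∈ pts U0 V0, g • x ∈ pts U0 V0 := fun _ hg _ hx =>
  smul_mem_pts (mem_K.mp hg).1 (mem_K.mp hg).2 hx

theorem XL_len : ∀ l ∈ XL, l.length = 24 := by
  intro l hl
  obtain ⟨n, -, rfl⟩ := List.mem_map.mp hl
  exact unpack_length n

theorem XL_nodup : XL.Nodup := nodup_map_unpack XLP XLP_nodup XLP_pack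

/-- the standard configuration: 275 points, permuted transitively -/
theorem main0 : (pts U0 V0).ncard = 275 ∧
    ∀ x ∈ pts U0 V0, ∀ x' ∈ pts U0 V0, ∃ g ∈ K, g • x = x' := by
  have h := orbit_of_list (pts U0 V0) K K_inv X0 X0_mem XL XL_len XL_nodup complete reach_XL
  have e : XL.length = 275 := by rw [XL, List.length_map, XL_length]
  rw [e] at h
  exact h

/-! ### reduction to the standard configuration -/

set_option maxRecDepth 100000 in
theorem V0_norm : sqNorm (V0 : Vec) = 32 := by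
  rw [V0_coe, sqNorm_vecL v0_len]; decide +kernel

set_option maxRecDepth 100000 in
theorem U0_norm : sqNorm (U0 : Vec) = 48 := by
  rw [U0_coe, sqNorm_vecL u0_len]; decide +kernel

set_option maxRecDepth 100000 in
theorem UV0_norm : sqNorm ((U0 - V0 : leechLattice) : Vec) = 32 := by
  rw [AddSubgroup.coe_sub, sqNorm_sub, U0_coe, V0_coe, sqNorm_vecL u0_len, sqNorm_vecL v0_len,
    dotInt_vecL u0_len v0_len]; decide +kernel

/-- the scalar product of `v` and `u - v` -/
theorem dot_of_norms (u v : leechLattice) (hu : sqNorm (u : Vec) = 48)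
    (hv : sqNorm (v : Vec) = 32) (huv : sqNorm ((u - v : leechLattice) : Vec) = 32) :
    dotInt (v : Vec) ((u - v : leechLattice) : Vec) = -8 := by
  have h := Cfsg.Agent.S0393.sqNorm_add (v : Vec) ((u - v : leechLattice) : Vec)
  have e : (v : Vec) + ((u - v : leechLattice) : Vec) = (u : Vec) := by
    rw [AddSubgroup.coe_sub]; abel
  rw [e, hu, hv, huv] at h
  omega

/-- every admissible pair is conjugate to the standard one -/
theorem exists_to_std (u v : leechLattice) (hu : sqNorm (u : Vec) = 48)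
    (hv : sqNorm (v : Vec) = 32) (huv : sqNorm ((u - v : leechLattice) : Vec) = 32) :
    ∃ g : Co0, g • u = U0 ∧ g • v = V0 := by
  obtain ⟨g1, hg1⟩ := trans4 v V0 hv V0_norm
  have hd := dot_of_norms u v hu hv huv
  have hd0 := dot_of_norms U0 V0 U0_norm V0_norm UV0_norm
  obtain ⟨g2, h2, h2'⟩ := stab_trans_d8 V0 (g1 • (u - v)) (U0 - V0) V0_norm
    (by rw [co0_norm]; exact huv) UV0_norm (by rw [← hg1, co0_dot]; exact hd) hd0
  refine ⟨g2 * g1, ?_, by rw [mul_smul, hg1, h2]⟩
  have e : u = v + (u - v) := by abel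
  rw [e, co0_add, mul_smul, mul_smul, hg1, h2, h2']
  abel

/-- the general configuration -/
theorem main (u v : leechLattice) (hu : sqNorm (u : Vec) = 48)
    (hv : sqNorm (v : Vec) = 32) (huv : sqNorm ((u - v : leechLattice) : Vec) = 32) :
    (pts u v).ncard = 275 ∧
    ∀ x ∈ pts u v, ∀ x' ∈ pts u v, ∃ g : Co0, g • u = u ∧ g • v = v ∧ g • x = x' := by
  obtain ⟨g, hgu, hgv⟩ := exists_to_std u v hu hv huv
  constructor
  · rw [← main0.1]
    have : pts U0 V0 = (fun x => g • x) '' pts u v := by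
      ext y
      constructor
      · intro hy
        refine ⟨g⁻¹ • y, ?_, smul_inv_smul g y⟩
        rw [← smul_mem_pts_iff hgu hgv, smul_inv_smul]; exact hy
      · rintro ⟨x, hx, rfl⟩
        exact smul_mem_pts hgu hgv hx
    rw [this]
    exact (Set.ncard_image_of_injective _ (MulAction.injective g)).symm
  · intro x hx x' hx'
    obtain ⟨k, hk, e⟩ := main0.2 (g • x) (smul_mem_pts hgu hgv hx) (g • x')
      (smul_mem_pts hgu hgv hx')
    obtain ⟨ku, kv⟩ := mem_K.mp hk
    refine ⟨g⁻¹ * k * g, ?_, ?_, ?_⟩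
    · rw [mul_smul, mul_smul, hgu, ku, ← hgu, inv_smul_smul]
    · rw [mul_smul, mul_smul, hgv, kv, ← hgv, inv_smul_smul]
    · rw [mul_smul, mul_smul, e, inv_smul_smul]

end Cfsg.Agent.Lib.Helper27.McL
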