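import Mathlib
import Cfsg.Agent.Lib.Conway.PrimSimple

set_option autoImplicit false

/-!
Maximality of a point stabiliser from the lengths of its orbits, and a simplicity criterion from two
primitive actions.
-/

namespace Cfsg.Agent.Lib.Helper27.PrimMax

open MulAction Subgroup

variable {G : Type*} [Group G] {Ω : Type*} [MulAction G Ω]

/-- the number of elements of a disjoint union of classes -/
theorem ncard_biUnion [Finite Ω] {k : ℕ} (C : Fin k → Set Ω) (c : Fin k → ℕ)
    (hdisj : ∀ i j, i ≠ j → Disjoint (C i) (C j)) (hcard : ∀ i, (C i).ncard = c i)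
    (S : Finset (Fin k)) : (⋃ i ∈ S, C i).ncard = ∑ i ∈ S, c i := by
  classical
  induction S using Finset.induction_on with
  | empty => simp
  | insert a S ha ih =>
    rw [Finset.set_biUnion_insert, Finset.sum_insert ha, ← ih, ← hcard a]
    apply Set.ncard_union_eq _ (Set.toFinite _) (Set.toFinite _)
    rw [Set.disjoint_iUnion₂_right]
    intro i hi
    exact hdisj a i (fun e => ha (e ▸ hi))

/-- a point stabiliser is maximal as soon as no proper union of its orbits has a number of elements
dividing the degree -/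
theorem stab_max_of_classes [Finite Ω] (x0 : Ω) {k : ℕ} (C : Fin k → Set Ω) (c : Fin k → ℕ)
    (n : ℕ) (htrans : ∀ x : Ω, ∃ g : G, g • x0 = x) (hn : Nat.card Ω = n)
    (hcover : ∀ x, x = x0 ∨ ∃ i, x ∈ C i) (hx0 : ∀ i, x0 ∉ C i)
    (hdisj : ∀ i j, i ≠ j → Disjoint (C i) (C j)) (hcard : ∀ i, (C i).ncard = c i)
    (htr : ∀ i, ∀ y ∈ C i, ∀ y' ∈ C i, ∃ g ∈ stabilizer G x0, g • y = y')
    (hdiv : ∀ f : Fin k → Bool, (1 + ∑ i, if f i = true then c i else 0) ∣ n →
      (∀ i, f i = false) ∨ (∀ i, f i = true))
    (M : Subgroup G) (hM : stabilizer G x0 ≤ M) : M = stabilizer G x0 ∨ M = ⊤ := by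
  classical
  have : IsPretransitive G Ω := ⟨fun x y => by
    obtain ⟨g, rfl⟩ := htrans x
    obtain ⟨g', rfl⟩ := htrans y
    exact ⟨g' * g⁻¹, by rw [mul_smul, inv_smul_smul]⟩⟩
  set O : Set Ω := {x | ∃ m ∈ M, m • x0 = x} with hO
  have hx0O : x0 ∈ O := ⟨1, M.one_mem, one_smul _ _⟩
  have hcardO : O.ncard * M.index = n := by
    have h1 := Subgroup.relIndex_mul_index hM
    rw [index_stabilizer_of_transitive G x0, hn] at h1
    rw [← h1]
    congr 1
    have h2 : (stabilizer G x0).subgroupOf M = stabilizer M x0 := by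
      ext m
      rw [Subgroup.mem_subgroupOf, mem_stabilizer_iff, mem_stabilizer_iff]
      rfl
    rw [Subgroup.relIndex, h2, index_stabilizer]
    congr 1
    ext x
    constructor
    · rintro ⟨m, hm, rfl⟩
      exact ⟨⟨m, hm⟩, rfl⟩
    · rintro ⟨m, rfl⟩
      exact ⟨m.1, m.2, rfl⟩
  -- each class is inside the orbit or disjoint from it
  have hdich : ∀ i, C i ⊆ O ∨ ∀ x ∈ C i, x ∉ O := by
    intro i
    by_cases h : ∃ x ∈ C i, x ∈ O
    · left
      obtain ⟨x, hxC, m, hm, rfl⟩ := h
      intro y hy
      obtain ⟨g, hg, rfl⟩ := htr i _ hxC y hy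
      exact ⟨g * m, M.mul_mem (hM hg) hm, mul_smul _ _ _⟩
    · right
      push Not at h
      exact h
  set f : Fin k → Bool := fun i => decide (C i ⊆ O) with hf
  set S : Finset (Fin k) := Finset.univ.filter (fun i => f i = true) with hS
  have hOeq : O = insert x0 (⋃ i ∈ S, C i) := by
    ext x
    constructor
    · intro hx
      rcases hcover x with h | ⟨i, hi⟩
      · exact Or.inl h
      · right
        rcases hdich i with h | h
        · simp only [Set.mem_iUnion]
          exact ⟨i, by simp [hS, hf, h], hi⟩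
        · exact absurd hx (h x hi)
    · rintro (h | h)
      · rw [h]; exact hx0O
      · simp only [Set.mem_iUnion] at h
        obtain ⟨i, hi, hx⟩ := h
        have : C i ⊆ O := by simpa [hS, hf] using hi
        exact this hx
  have hx0U : x0 ∉ ⋃ i ∈ S, C i := by
    simp only [Set.mem_iUnion, not_exists]
    intro i _ h
    exact hx0 i h
  have hOcard : O.ncard = 1 + ∑ i, if f i = true then c i else 0 := by
    rw [hOeq, Set.ncard_insert_of_notMem hx0U (Set.toFinite _),
      ncard_biUnion C c hdisj hcard S, hS, Finset.sum_filter, add_comm]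
  rcases hdiv f (by rw [← hOcard]; exact Dvd.intro _ hcardO) with hall | hall
  · left
    apply le_antisymm _ hM
    intro m hm
    rw [mem_stabilizer_iff]
    rcases hcover (m • x0) with h | ⟨i, hi⟩
    · exact h
    · exfalso
      have h1 : f i = false := hall i
      rcases hdich i with h | h
      · simp [hf, h] at h1
      · exact h _ hi ⟨m, hm, rfl⟩
  · right
    rw [eq_top_iff]
    intro g _
    have hg : g • x0 ∈ O := by
      rcases hcover (g • x0) with h | ⟨i, hi⟩
      · rw [h]; exact hx0O
      · have h1 : f i = true := hall i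
        have : C i ⊆ O := by simpa [hf] using h1
        exact this hi
    obtain ⟨m, hm, hmg⟩ := hg
    have : m⁻¹ * g ∈ stabilizer G x0 := by
      rw [mem_stabilizer_iff, mul_smul, ← hmg, inv_smul_smul]
    have h2 := M.mul_mem hm (hM this)
    rwa [mul_inv_cancel_left] at h2

open Cfsg.Agent.Lib.Conway.PrimSimple in
/-- a simplicity criterion from two primitive actions -/
theorem simple_of_two_actions [Finite G] {Ω' : Type*} [MulAction G Ω'] (x0 : Ω) (x0' : Ω')
    (hfaith : ∀ g : G, (∀ x : Ω, g • x = x) → g = 1)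
    (htrans : ∀ x : Ω, ∃ g : G, g • x0 = x)
    (hH : IsSimpleGroup (stabilizer G x0))
    (hmax : ∀ M : Subgroup G, stabilizer G x0 ≤ M → M = stabilizer G x0 ∨ M = ⊤)
    (hmax' : ∀ M : Subgroup G, stabilizer G x0' ≤ M → M = stabilizer G x0' ∨ M = ⊤)
    (hnd : ¬ (stabilizer G x0').index ∣ (stabilizer G x0).index)
    (hnd2 : ¬ ((stabilizer G x0').index * (stabilizer G x0).index ∣ Nat.card G)) :
    IsSimpleGroup G := by
  have hnt : Nontrivial G := by
    obtain ⟨h, hne⟩ := @exists_ne _ hH.toNontrivial (1 : stabilizer G x0)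
    exact ⟨⟨(h : G), 1, fun e => hne (Subtype.ext e)⟩⟩
  refine ⟨fun K hK => ?_⟩
  by_cases hK0 : K = ⊥
  · exact Or.inl hK0
  right
  have hsup := sup_eq_top x0 hfaith htrans hmax K hK0
  have hnorm : (K.subgroupOf (stabilizer G x0)).Normal := inferInstance
  rcases hH.eq_bot_or_eq_top_of_normal _ hnorm with h | h
  · exfalso
    -- the order of `K` is the index
    have hKcard : Nat.card K = (stabilizer G x0).index := by
      have : IsPretransitive G Ω := ⟨fun x y => by
        obtain ⟨g, rfl⟩ := htrans x
        obtain ⟨g', rfl⟩ := htrans y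
        exact ⟨g' * g⁻¹, by rw [mul_smul, inv_smul_smul]⟩⟩
      have : IsPretransitive K Ω := ⟨fun x y => by
        obtain ⟨k, hk, rfl⟩ := normal_trans x0 hfaith htrans hmax K hK0 x
        obtain ⟨k', hk', rfl⟩ := normal_trans x0 hfaith htrans hmax K hK0 y
        exact ⟨⟨k' * k⁻¹, K.mul_mem hk' (K.inv_mem hk)⟩, by
          show (k' * k⁻¹) • k • x0 = k' • x0
          rw [mul_smul, inv_smul_smul]⟩⟩
      have h1 : (stabilizer K x0) = ⊥ := by
        rw [eq_bot_iff]
        intro k hk
        rw [mem_bot]
        have hk' : (k : G) ∈ stabilizer G x0 := by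
          rw [mem_stabilizer_iff] at hk ⊢
          exact hk
        have : (⟨(k : G), hk'⟩ : stabilizer G x0) ∈ K.subgroupOf (stabilizer G x0) := by
          rw [mem_subgroupOf]; exact k.2
        rw [h, mem_bot] at this
        exact Subtype.ext (congrArg (fun z : stabilizer G x0 => (z : G)) this)
      have h2 := index_stabilizer_of_transitive K x0
      rw [h1, index_bot] at h2
      rw [h2, ← index_stabilizer_of_transitive G x0]
    rcases hmax' (K ⊔ stabilizer G x0') le_sup_right with h' | h'
    · -- `K` lies in the second stabiliser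
      have hle : K ≤ stabilizer G x0' := h' ▸ le_sup_left
      apply hnd2
      have h3 := Subgroup.card_dvd_of_le hle
      rw [hKcard] at h3
      have h4 : Nat.card G = (stabilizer G x0').index * Nat.card (stabilizer G x0') := by
        rw [mul_comm, Subgroup.card_mul_index]
      rw [h4]
      exact Nat.mul_dvd_mul_left _ h3
    · -- `K` is transitive on the orbit of the second action
      apply hnd
      rw [← hKcard]
      have horb : orbit K x0' = orbit G x0' := by
        ext x
        constructor
        · rintro ⟨k, rfl⟩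
          exact ⟨(k : G), rfl⟩
        · rintro ⟨g, rfl⟩
          have hg : g ∈ ((K ⊔ stabilizer G x0' : Subgroup G) : Set G) := by
            rw [h']; trivial
          rw [normal_mul] at hg
          obtain ⟨k, hk, s, hs, rfl⟩ := Set.mem_mul.1 hg
          refine ⟨⟨k, hk⟩, ?_⟩
          show k • x0' = (k * s) • x0'
          rw [mul_smul, mem_stabilizer_iff.1 hs]
      rw [index_stabilizer G x0', ← horb, ← index_stabilizer K x0']
      exact Subgroup.index_dvd_card _
  · have hle : stabilizer G x0 ≤ K := by
      intro g hg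
      have : (⟨g, hg⟩ : stabilizer G x0) ∈ K.subgroupOf (stabilizer G x0) := by rw [h]; trivial
      exact mem_subgroupOf.1 this
    rw [← hsup]
    exact (sup_eq_left.2 hle).symm

end Cfsg.Agent.Lib.Helper27.PrimMax
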