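import Cfsg.Agent.Lib.Helper27.Co2DBase
import Cfsg.Agent.Lib.Helper27.McLMain
import Cfsg.Agent.Lib.Helper27.PrimMax
import Cfsg.Agent.S1573

set_option autoImplicit false

/-!
The orbits of the joint stabiliser `K` of `U0 = (5, 1^23)` and `V0 = (4, 4, 0^22)` on the 47104
minimal vectors `w` with `V0 . w = -8`: the classes of the scalar product with `W0 = U0 - V0`.
-/

namespace Cfsg.Agent.Lib.Helper27.Co2O

open Cfsg Cfsg.Agent.Lib.Conway Cfsg.Agent.Lib.Helper93.Leech Cfsg.Agent.Lib.Helper93.Golay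
open Cfsg.Agent.Lib.Golay.LeechBasis Cfsg.Agent.Lib.Helper27.LL
open Cfsg.Agent.Lib.Helper27.McL (U0 U0_coe K mem_K getD_mem_of_lt)
open Cfsg.Agent.Lib.Helper27.Co2D
open Cfsg.Agent.Lib.Helper26 (PermData)
open scoped Pointwise

theorem nat_beq_iff' (a b : ℕ) : Nat.beq a b = true ↔ a = b :=
  ⟨Nat.eq_of_beq_eq_true, fun h => h ▸ Nat.beq_refl a⟩

/-- the base point -/
def W0 : leechLattice := U0 - McL.V0

/-- the points -/
def ptsW : Set leechLattice :=
  {w : leechLattice | sqNorm (w : Vec) = 32 ∧ dotInt (McL.V0 : Vec) (w : Vec) = -8}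

/-- the points at scalar product `d` from `W0` -/
def ptsD (d : ℤ) : Set leechLattice :=
  {w : leechLattice | w ∈ ptsW ∧ dotInt (W0 : Vec) (w : Vec) = d}

def w0L : List ℤ := [1, -3, 1, 1, 1, 1, 1, 1, 1, 1, 1, 1, 1, 1, 1, 1, 1, 1, 1, 1, 1, 1, 1, 1]

theorem W0_coe : (W0 : Vec) = vecL w0L := by
  show vecL McL.u0L - vecL McL.v0L = vecL w0L
  funext p
  revert p
  decide

theorem K_fix_W0 {g : Co0} (hg : g ∈ K) : g • W0 = W0 := by
  obtain ⟨h1, h2⟩ := mem_K.mp hg
  rw [W0, McL.co0_sub', h1, h2]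

theorem smul_mem_ptsW {g : Co0} (hg : g • McL.V0 = McL.V0) {w : leechLattice} (hw : w ∈ ptsW) :
    g • w ∈ ptsW := by
  refine ⟨?_, ?_⟩
  · rw [co0_norm]; exact hw.1
  · have := Cfsg.Agent.Lib.Conway.co0_dot g McL.V0 w
    rw [hg] at this
    rw [this]; exact hw.2

theorem K_inv (d : ℤ) : ∀ g ∈ K, ∀ y ∈ ptsD d, g • y ∈ ptsD d := by
  intro g hg y hy
  refine ⟨smul_mem_ptsW (mem_K.mp hg).2 hy.1, ?_⟩
  have := Cfsg.Agent.Lib.Conway.co0_dot g W0 y
  rw [K_fix_W0 hg] at this
  rw [this]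
  exact hy.2

/-- the number of the points -/
theorem ncard_ptsW : ptsW.ncard = 47104 := by
  have h := (Cfsg.Agent.S1573.result (McL.V0 : Vec) McL.V0.2 McL.V0_norm).2.1
  rw [← h, ← Set.ncard_image_of_injective ptsW Subtype.val_injective]
  congr 1
  ext w
  constructor
  · rintro ⟨x, hx, rfl⟩
    exact ⟨x.2, hx.1, hx.2⟩
  · rintro ⟨h1, h2, h3⟩
    exact ⟨⟨w, h1⟩, ⟨h2, h3⟩, rfl⟩

theorem range24 : List.range 24 =
    [0, 1, 2, 3, 4, 5, 6, 7, 8, 9, 10, 11, 12, 13, 14, 15, 16, 17, 18, 19, 20, 21, 22, 23] := by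
  decide

/-- the scalar product with `W0` in terms of the packed coordinates -/
theorem dotL_w0 (n : ℕ) :
    dotL w0L (unpack n) = ((dsum n : ℕ) : ℤ) - 4 * ((dig n 1 : ℕ) : ℤ) - 2560 := by
  rw [unpack_eq, dsum, range24]
  simp only [dotL, w0L, List.map_cons, List.map_nil, List.zipWith_cons_cons, List.zipWith_nil_left,
    List.sum_cons, List.sum_nil]
  push_cast
  ring

theorem dot_W0_unpack (y : leechLattice) (n : ℕ) (e : (y : Vec) = vecL (unpack n)) :
    dotInt (W0 : Vec) (y : Vec) = ((dsum n : ℕ) : ℤ) - 4 * ((dig n 1 : ℕ) : ℤ) - 2560 := by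
  rw [W0_coe, e, dotInt_vecL (by decide) (unpack_length n), dotL_w0]

theorem perms22b_mem : ∀ d ∈ perms22b, ∃ g ∈ K, ∀ (xl : List ℤ) (v : leechLattice),
    (v : Vec) = vecL xl → ((g • v : leechLattice) : Vec) = vecL (permL d xl) := by
  intro d hd
  have := List.all_eq_true.mp perms22b_check d hd
  simp only [Bool.and_eq_true, beq_iff_eq] at this
  obtain ⟨⟨h1, h2⟩, h3⟩ := this
  refine ⟨monoP d h1, mem_K.mpr ⟨?_, ?_⟩, fun xl v hv => monoP_smul d h1 hv⟩
  · exact Subtype.ext (by rw [monoP_smul d h1 U0_coe, h2]; rfl)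
  · exact Subtype.ext (by rw [monoP_smul d h1 McL.V0_coe, h3]; rfl)

theorem perms22b_ok : ∀ d ∈ perms22b, d.ok = true := by
  intro d hd
  have := List.all_eq_true.mp perms22b_check d hd
  simp only [Bool.and_eq_true, beq_iff_eq] at this
  exact PermData.ok_of_inM24 this.1.1

theorem getD_map_unpack'' (L : List ℕ) (i : ℕ) (hi : i < L.length) :
    (L.map unpack).getD i [] = unpack (L.getD i 0) := by
  rw [List.getD_eq_getElem _ _ (by rw [List.length_map]; exact hi), List.getElem_map,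
    List.getD_eq_getElem _ _ hi]

/-- the orbit of a point under `K`, as a set -/
def orbK (r : leechLattice) : Set leechLattice := {x | ∃ g ∈ K, g • r = x}

theorem finite_ptsW : ptsW.Finite := Set.finite_of_ncard_ne_zero (by rw [ncard_ptsW]; norm_num)

theorem orbK_sub {d : ℤ} {r : leechLattice} (hr : r ∈ ptsD d) : orbK r ⊆ ptsD d := by
  rintro x ⟨g, hg, rfl⟩
  exact K_inv d g hg r hr

theorem ptsD_sub (d : ℤ) : ptsD d ⊆ ptsW := fun _ h => h.1

/-- a list of distinct points of the orbit of `r` bounds its size from below -/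
theorem class_lower (r : leechLattice) (d : ℤ) (hrd : r ∈ ptsD d) (SLP : List ℕ)
    (SC : List (List ℤ)) (steps : List (ℕ × ℕ × ℕ)) (CP : List ℕ)
    (hr : (r : Vec) = vecL (unpack (SLP.getD 0 0))) (hpos : 0 < SLP.length)
    (htree : checkTree McL.famG.tabs (SLP.map unpack) SC [0] steps = true)
    (hall : (List.range (SLP.map unpack).length).all
      (fun i => (0 :: steps.map (·.1)).contains i) = true)
    (hchunks : ∀ t ∈ CP, ∃ X W, t ∈ X ∧ checkW3 perms22b SLP X W = true)
    (hsorted : sortedLt CP = true) (hbound : ∀ t ∈ CP, t < 256 ^ 24) :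
    CP.length ≤ (orbK r).ncard := by
  have hroot' : (r : Vec) = vecL ((SLP.map unpack).getD 0 []) := by
    rw [hr, getD_map_unpack'' SLP 0 hpos]
  have reachS : ∀ l ∈ SLP.map unpack, ∃ g ∈ K, ((g • r : leechLattice) : Vec) = vecL l :=
    reach_of_tree McL.famG K McL.famG_mem (SLP.map unpack) SC r 0 hroot' steps htree hall
  have reachB : ∀ i, i < SLP.length →
      ∃ g ∈ K, ((g • r : leechLattice) : Vec) = vecL (unpack (SLP.getD i 0)) := by
    intro i hi
    apply reachS
    exact List.mem_map.mpr ⟨SLP.getD i 0, getD_mem_of_lt SLP 0 hi, rfl⟩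
  have hreachP : ∀ t ∈ CP, ∃ g ∈ K, ((g • r : leechLattice) : Vec) = vecL (unpack t) := by
    intro t ht
    obtain ⟨X, W, htX, hW⟩ := hchunks t ht
    exact checkW3_spec perms22b perms22b_ok K perms22b_mem r SLP reachB X W hW t htX
  -- the set of the points of the list
  set XL : List (List ℤ) := CP.map unpack with hXL
  have hlen : ∀ l ∈ XL, l.length = 24 := by
    intro l hl
    obtain ⟨n, -, rfl⟩ := List.mem_map.mp hl
    exact unpack_length n
  have hnd : XL.Nodup := by
    apply List.Nodup.map_on _ (nodup_of_sortedLt _ hsorted)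
    intro a ha b hb e
    exact unpack_injOn (hbound a ha) (hbound b hb) e
  have hreach : ∀ l ∈ XL, ∃ g ∈ K, ((g • r : leechLattice) : Vec) = vecL l := by
    intro l hl
    obtain ⟨n, hn, rfl⟩ := List.mem_map.mp hl
    exact hreachP n hn
  set S : Set leechLattice := {x | ∃ l ∈ XL, (x : Vec) = vecL l} with hS
  have hSsub : S ⊆ orbK r := by
    rintro x ⟨l, hl, e⟩
    obtain ⟨g, hg, eg⟩ := hreach l hl
    exact ⟨g, hg, Subtype.ext (by rw [eg, e])⟩
  have hScard : S.ncard = XL.length := by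
    have himg : (fun x : leechLattice => (x : Vec)) '' S = vecL '' {l | l ∈ XL} := by
      ext y
      constructor
      · rintro ⟨x, ⟨l, hl, e⟩, rfl⟩
        exact ⟨l, hl, e.symm⟩
      · rintro ⟨l, hl, rfl⟩
        obtain ⟨g, hg, e⟩ := hreach l hl
        exact ⟨g • r, ⟨l, hl, e⟩, e⟩
    have h1 : ((fun x : leechLattice => (x : Vec)) '' S).ncard = S.ncard :=
      Set.ncard_image_of_injective _ Subtype.val_injective
    have h2 : (vecL '' {l | l ∈ XL}).ncard = ({l | l ∈ XL} : Set (List ℤ)).ncard := by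
      apply Set.InjOn.ncard_image
      intro l hl l' hl' e
      exact vecL_injOn (hlen l hl) (hlen l' hl') e
    have h3 : ({l | l ∈ XL} : Set (List ℤ)).ncard = XL.length := by
      have : ({l | l ∈ XL} : Set (List ℤ)) = ↑XL.toFinset := by
        ext l; simp
      rw [this, Set.ncard_coe_finset, List.toFinset_card_of_nodup hnd]
    rw [← h1, himg, h2, h3]
  have hfin : (orbK r).Finite := (finite_ptsW.subset (ptsD_sub d)).subset (orbK_sub hrd)
  have := Set.ncard_le_ncard hSsub hfin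
  rw [hScard, hXL, List.length_map] at this
  exact this

/-- the counting argument: disjoint classes inside a set of `N` elements, each containing a subset
of at least `n i` elements, with `∑ n i = N` -/
theorem classes_of_count {α : Type*} {k : ℕ} (Ω : Set α) (N : ℕ) (hΩ : Ω.ncard = N) (hN : 0 < N)
    (A B : Fin k → Set α) (n : Fin k → ℕ) (hA : ∀ i, A i ⊆ Ω)
    (hdisj : ∀ i j, i ≠ j → Disjoint (A i) (A j)) (hBA : ∀ i, B i ⊆ A i)
    (hn : ∀ i, n i ≤ (B i).ncard) (hsum : ∑ i, n i = N) :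
    (∀ i, B i = A i ∧ (A i).ncard = n i) ∧ ∀ x ∈ Ω, ∃ i, x ∈ A i := by
  classical
  have hfin : Ω.Finite := Set.finite_of_ncard_pos (by rw [hΩ]; exact hN)
  have hfinA : ∀ i, (A i).Finite := fun i => hfin.subset (hA i)
  have : Finite Ω := hfin.to_subtype
  -- the union of the classes
  have hU : (⋃ i ∈ (Finset.univ : Finset (Fin k)), A i).ncard = ∑ i, (A i).ncard := by
    have : ∀ S : Finset (Fin k), (⋃ i ∈ S, A i).ncard = ∑ i ∈ S, (A i).ncard := by
      intro S
      induction S using Finset.induction_on with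
      | empty => simp
      | insert a S ha ih =>
        rw [Finset.set_biUnion_insert, Finset.sum_insert ha, ← ih]
        apply Set.ncard_union_eq _ (hfinA a)
          (Set.Finite.biUnion S.finite_toSet (fun i _ => hfinA i))
        rw [Set.disjoint_iUnion₂_right]
        intro i hi
        exact hdisj a i (fun e => ha (e ▸ hi))
    exact this _
  have hUsub : (⋃ i ∈ (Finset.univ : Finset (Fin k)), A i) ⊆ Ω := by
    intro x hx
    simp only [Set.mem_iUnion] at hx
    obtain ⟨i, -, hx⟩ := hx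
    exact hA i hx
  have hUle := Set.ncard_le_ncard hUsub hfin
  have hle1 : ∀ i, n i ≤ (A i).ncard := fun i =>
    (hn i).trans (Set.ncard_le_ncard (hBA i) (hfinA i))
  have hsumle : ∑ i, n i ≤ ∑ i, (A i).ncard := Finset.sum_le_sum (fun i _ => hle1 i)
  have hsumeq : ∑ i, (A i).ncard = ∑ i, n i := by
    rw [hU, hΩ, ← hsum] at hUle
    exact le_antisymm hUle hsumle
  have hAeq : ∀ i, (A i).ncard = n i := by
    intro i
    by_contra hne
    have hlt : n i < (A i).ncard := lt_of_le_of_ne (hle1 i) (Ne.symm hne)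
    have : ∑ i, n i < ∑ i, (A i).ncard :=
      Finset.sum_lt_sum (fun i _ => hle1 i) ⟨i, Finset.mem_univ i, hlt⟩
    omega
  refine ⟨fun i => ⟨?_, hAeq i⟩, ?_⟩
  · apply Set.eq_of_subset_of_ncard_le (hBA i) _ (hfinA i)
    rw [hAeq i]; exact hn i
  · have hUeq : (⋃ i ∈ (Finset.univ : Finset (Fin k)), A i) = Ω := by
      apply Set.eq_of_subset_of_ncard_le hUsub _ hfin
      rw [hU, hsumeq, hsum, hΩ]
    intro x hx
    rw [← hUeq] at hx
    simp only [Set.mem_iUnion] at hx
    obtain ⟨i, -, hx⟩ := hx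
    exact ⟨i, hx⟩

end Cfsg.Agent.Lib.Helper27.Co2O
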