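import Cfsg.Agent.Lib.Helper27.Co2DLists
import Cfsg.Agent.Lib.Helper27.Co2Orb

set_option autoImplicit false

/-!
The five classes of the 47104 points other than the base point are orbits of `K`, of 275, 2025, 7128,
15400 and 22275 points.
-/

namespace Cfsg.Agent.Lib.Helper27.Co2O

open Cfsg Cfsg.Agent.Lib.Conway Cfsg.Agent.Lib.Helper93.Leech Cfsg.Agent.Lib.Helper93.Golay
open Cfsg.Agent.Lib.Golay.LeechBasis Cfsg.Agent.Lib.Helper27.LL
open Cfsg.Agent.Lib.Helper27.McL (U0 U0_coe K mem_K getD_mem_of_lt)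
open Cfsg.Agent.Lib.Helper27.Co2D
open Cfsg.Agent.Lib.Helper26 (PermData)
open scoped Pointwise

/-- a root, as a vector of the lattice -/
def rt (n : ℕ) (m : ℤ) (h : LeechCond (vecL (unpack n)) m) : leechLattice :=
  ⟨vecL (unpack n), mem_of_leechCond h⟩

theorem rt_mem (n : ℕ) (m : ℤ) (h : LeechCond (vecL (unpack n)) m)
    (hchk : dotL (unpack n) (unpack n) = 32 ∧ dotL McL.v0L (unpack n) = -8) (d : ℤ)
    (hd : ((dsum n : ℕ) : ℤ) - 4 * ((dig n 1 : ℕ) : ℤ) - 2560 = d) : rt n m h ∈ ptsD d := by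
  refine ⟨⟨?_, ?_⟩, ?_⟩
  · show sqNorm (vecL (unpack n)) = 32
    rw [sqNorm_vecL (unpack_length n)]; exact hchk.1
  · show dotInt (McL.V0 : Vec) (vecL (unpack n)) = -8
    rw [McL.V0_coe, dotInt_vecL (by decide) (unpack_length n)]; exact hchk.2
  · rw [dot_W0_unpack (rt n m h) n rfl]; exact hd

theorem bound_of_all (c : ℕ → Bool) (X : List ℕ)
    (h : X.all (fun n => c n && decide (n < 256 ^ 24)) = true) : ∀ t ∈ X, t < 256 ^ 24 := by
  intro t ht
  have := List.all_eq_true.mp h t ht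
  simp only [Bool.and_eq_true, decide_eq_true_eq] at this
  exact this.2

set_option maxRecDepth 1000000 in
theorem rc_m16 : LeechCond (vecL (unpack (SLm16P.getD 0 0))) 0 := by decide +kernel

set_option maxRecDepth 1000000 in
theorem rchk_m16 : dotL (unpack (SLm16P.getD 0 0)) (unpack (SLm16P.getD 0 0)) = 32 ∧
    dotL McL.v0L (unpack (SLm16P.getD 0 0)) = -8 := by decide +kernel

/-- the root of the class -/
def r_m16 : leechLattice := rt (SLm16P.getD 0 0) 0 rc_m16

theorem r_m16_mem : r_m16 ∈ ptsD (-16) := by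
  apply rt_mem _ _ _ rchk_m16
  have := root_m16.1
  rw [cm16, nat_beq_iff'] at this
  omega

theorem lower_m16 : 275 ≤ (orbK r_m16).ncard := by
  have h := class_lower r_m16 (-16) r_m16_mem SLm16P SCm16 stepsm16 Cm16P rfl root_m16.2 tree_m16 all_m16
    (by
      intro t ht
      have ht' : t ∈ Xm16_0 := ht
      exact ⟨_, _, ht', words_m16_0⟩)
    sorted_m16
    (by
      intro t ht
      have ht' : t ∈ Xm16_0 := ht
      exact bound_of_all _ _ cond_m16_0 t ht')
  rw [length_m16] at h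
  exact h

set_option maxRecDepth 1000000 in
theorem rc_p16 : LeechCond (vecL (unpack (SLp16P.getD 0 0))) 0 := by decide +kernel

set_option maxRecDepth 1000000 in
theorem rchk_p16 : dotL (unpack (SLp16P.getD 0 0)) (unpack (SLp16P.getD 0 0)) = 32 ∧
    dotL McL.v0L (unpack (SLp16P.getD 0 0)) = -8 := by decide +kernel

/-- the root of the class -/
def r_p16 : leechLattice := rt (SLp16P.getD 0 0) 0 rc_p16

theorem r_p16_mem : r_p16 ∈ ptsD (16) := by
  apply rt_mem _ _ _ rchk_p16
  have := root_p16.1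
  rw [cp16, nat_beq_iff'] at this
  omega

theorem lower_p16 : 2025 ≤ (orbK r_p16).ncard := by
  have h := class_lower r_p16 (16) r_p16_mem SLp16P SCp16 stepsp16 Cp16P rfl root_p16.2 tree_p16 all_p16
    (by
      intro t ht
      have ht' : t ∈ Xp16_0 := ht
      exact ⟨_, _, ht', words_p16_0⟩)
    sorted_p16
    (by
      intro t ht
      have ht' : t ∈ Xp16_0 := ht
      exact bound_of_all _ _ cond_p16_0 t ht')
  rw [length_p16] at h
  exact h

set_option maxRecDepth 1000000 in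
theorem rc_m8 : LeechCond (vecL (unpack (SLm8P.getD 0 0))) 1 := by decide +kernel

set_option maxRecDepth 1000000 in
theorem rchk_m8 : dotL (unpack (SLm8P.getD 0 0)) (unpack (SLm8P.getD 0 0)) = 32 ∧
    dotL McL.v0L (unpack (SLm8P.getD 0 0)) = -8 := by decide +kernel

/-- the root of the class -/
def r_m8 : leechLattice := rt (SLm8P.getD 0 0) 1 rc_m8

theorem r_m8_mem : r_m8 ∈ ptsD (-8) := by
  apply rt_mem _ _ _ rchk_m8
  have := root_m8.1
  rw [cm8, nat_beq_iff'] at this
  omega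

theorem lower_m8 : 7128 ≤ (orbK r_m8).ncard := by
  have h := class_lower r_m8 (-8) r_m8_mem SLm8P SCm8 stepsm8 Cm8P rfl root_m8.2 tree_m8 all_m8
    (by
      intro t ht
      simp only [Cm8P, List.mem_append] at ht
      rcases ht with h | h
      · exact ⟨_, _, h, words_m8_0⟩
      · exact ⟨_, _, h, words_m8_1⟩)
    sorted_m8
    (by
      intro t ht
      simp only [Cm8P, List.mem_append] at ht
      rcases ht with h | h
      · exact bound_of_all _ _ cond_m8_0 t h
      · exact bound_of_all _ _ cond_m8_1 t h)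
  rw [length_m8] at h
  exact h

set_option maxRecDepth 1000000 in
theorem rc_p8 : LeechCond (vecL (unpack (SLp8P.getD 0 0))) 1 := by decide +kernel

set_option maxRecDepth 1000000 in
theorem rchk_p8 : dotL (unpack (SLp8P.getD 0 0)) (unpack (SLp8P.getD 0 0)) = 32 ∧
    dotL McL.v0L (unpack (SLp8P.getD 0 0)) = -8 := by decide +kernel

/-- the root of the class -/
def r_p8 : leechLattice := rt (SLp8P.getD 0 0) 1 rc_p8

theorem r_p8_mem : r_p8 ∈ ptsD (8) := by
  apply rt_mem _ _ _ rchk_p8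
  have := root_p8.1
  rw [cp8, nat_beq_iff'] at this
  omega

theorem lower_p8 : 15400 ≤ (orbK r_p8).ncard := by
  have h := class_lower r_p8 (8) r_p8_mem SLp8P SCp8 stepsp8 Cp8P rfl root_p8.2 tree_p8 all_p8
    (by
      intro t ht
      simp only [Cp8P, List.mem_append] at ht
      rcases ht with ((h | h) | h) | h
      · exact ⟨_, _, h, words_p8_0⟩
      · exact ⟨_, _, h, words_p8_1⟩
      · exact ⟨_, _, h, words_p8_2⟩
      · exact ⟨_, _, h, words_p8_3⟩)
    sorted_p8
    (by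
      intro t ht
      simp only [Cp8P, List.mem_append] at ht
      rcases ht with ((h | h) | h) | h
      · exact bound_of_all _ _ cond_p8_0 t h
      · exact bound_of_all _ _ cond_p8_1 t h
      · exact bound_of_all _ _ cond_p8_2 t h
      · exact bound_of_all _ _ cond_p8_3 t h)
  rw [length_p8] at h
  exact h

set_option maxRecDepth 1000000 in
theorem rc_p0 : LeechCond (vecL (unpack (SLp0P.getD 0 0))) 1 := by decide +kernel

set_option maxRecDepth 1000000 in
theorem rchk_p0 : dotL (unpack (SLp0P.getD 0 0)) (unpack (SLp0P.getD 0 0)) = 32 ∧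
    dotL McL.v0L (unpack (SLp0P.getD 0 0)) = -8 := by decide +kernel

/-- the root of the class -/
def r_p0 : leechLattice := rt (SLp0P.getD 0 0) 1 rc_p0

theorem r_p0_mem : r_p0 ∈ ptsD (0) := by
  apply rt_mem _ _ _ rchk_p0
  have := root_p0.1
  rw [cp0, nat_beq_iff'] at this
  omega

theorem lower_p0 : 22275 ≤ (orbK r_p0).ncard := by
  have h := class_lower r_p0 (0) r_p0_mem SLp0P SCp0 stepsp0 Cp0P rfl root_p0.2 tree_p0 all_p0
    (by
      intro t ht
      simp only [Cp0P, List.mem_append] at ht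
      rcases ht with ((((h | h) | h) | h) | h) | h
      · exact ⟨_, _, h, words_p0_0⟩
      · exact ⟨_, _, h, words_p0_1⟩
      · exact ⟨_, _, h, words_p0_2⟩
      · exact ⟨_, _, h, words_p0_3⟩
      · exact ⟨_, _, h, words_p0_4⟩
      · exact ⟨_, _, h, words_p0_5⟩)
    sorted_p0
    (by
      intro t ht
      simp only [Cp0P, List.mem_append] at ht
      rcases ht with ((((h | h) | h) | h) | h) | h
      · exact bound_of_all _ _ cond_p0_0 t h
      · exact bound_of_all _ _ cond_p0_1 t h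
      · exact bound_of_all _ _ cond_p0_2 t h
      · exact bound_of_all _ _ cond_p0_3 t h
      · exact bound_of_all _ _ cond_p0_4 t h
      · exact bound_of_all _ _ cond_p0_5 t h)
  rw [length_p0] at h
  exact h

theorem W0_mem : W0 ∈ ptsD 32 := by
  refine ⟨⟨McL.UV0_norm, ?_⟩, ?_⟩
  · rw [W0_coe, McL.V0_coe, dotInt_vecL (by decide) (by decide)]
    decide
  · rw [← sqNorm_eq_dotInt]
    exact McL.UV0_norm

/-- the scalar products -/
def dv : Fin 6 → ℤ := ![-16, 16, -8, 8, 0, 32]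

/-- the sizes -/
def nv : Fin 6 → ℕ := ![275, 2025, 7128, 15400, 22275, 1]

/-- the roots -/
def rv : Fin 6 → leechLattice := ![r_m16, r_p16, r_m8, r_p8, r_p0, W0]

theorem rv_mem : ∀ i, rv i ∈ ptsD (dv i) := by
  intro i
  fin_cases i
  · exact r_m16_mem
  · exact r_p16_mem
  · exact r_m8_mem
  · exact r_p8_mem
  · exact r_p0_mem
  · exact W0_mem

theorem nv_le : ∀ i, nv i ≤ (orbK (rv i)).ncard := by
  intro i
  fin_cases i
  · exact lower_m16
  · exact lower_p16
  · exact lower_m8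
  · exact lower_p8
  · exact lower_p0
  · show 1 ≤ (orbK W0).ncard
    have hfin : (orbK W0).Finite := (finite_ptsW.subset (ptsD_sub 32)).subset (orbK_sub W0_mem)
    exact (Set.ncard_pos hfin).mpr ⟨W0, 1, K.one_mem, one_smul _ _⟩

theorem dv_inj : ∀ i j : Fin 6, i ≠ j → dv i ≠ dv j := by decide

theorem classes : (∀ i, orbK (rv i) = ptsD (dv i) ∧ (ptsD (dv i)).ncard = nv i) ∧
    ∀ x ∈ ptsW, ∃ i, x ∈ ptsD (dv i) := by
  refine classes_of_count ptsW 47104 ncard_ptsW (by norm_num) (fun i => ptsD (dv i))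
    (fun i => orbK (rv i)) nv (fun i => ptsD_sub _) ?_ (fun i => orbK_sub (rv_mem i)) nv_le (by decide)
  intro i j hij
  rw [Set.disjoint_left]
  intro x hx hx'
  exact dv_inj i j hij (hx.2.symm.trans hx'.2)

theorem trans_of_eq {r : leechLattice} {S : Set leechLattice} (h : orbK r = S) :
    ∀ y ∈ S, ∀ y' ∈ S, ∃ g ∈ K, g • y = y' := by
  intro y hy y' hy'
  rw [← h] at hy hy'
  obtain ⟨g, hg, rfl⟩ := hy
  obtain ⟨g', hg', rfl⟩ := hy'
  exact ⟨g' * g⁻¹, K.mul_mem hg' (K.inv_mem hg), by rw [mul_smul, inv_smul_smul]⟩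

theorem orbit_m16 : (ptsD (-16)).ncard = 275 ∧
    ∀ y ∈ ptsD (-16), ∀ y' ∈ ptsD (-16), ∃ g ∈ K, g • y = y' :=
  ⟨(classes.1 0).2, trans_of_eq (classes.1 0).1⟩

theorem orbit_p16 : (ptsD 16).ncard = 2025 ∧
    ∀ y ∈ ptsD 16, ∀ y' ∈ ptsD 16, ∃ g ∈ K, g • y = y' :=
  ⟨(classes.1 1).2, trans_of_eq (classes.1 1).1⟩

theorem orbit_m8 : (ptsD (-8)).ncard = 7128 ∧
    ∀ y ∈ ptsD (-8), ∀ y' ∈ ptsD (-8), ∃ g ∈ K, g • y = y' :=
  ⟨(classes.1 2).2, trans_of_eq (classes.1 2).1⟩

theorem orbit_p8 : (ptsD 8).ncard = 15400 ∧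
    ∀ y ∈ ptsD 8, ∀ y' ∈ ptsD 8, ∃ g ∈ K, g • y = y' :=
  ⟨(classes.1 3).2, trans_of_eq (classes.1 3).1⟩

theorem orbit_p0 : (ptsD 0).ncard = 22275 ∧
    ∀ y ∈ ptsD 0, ∀ y' ∈ ptsD 0, ∃ g ∈ K, g • y = y' :=
  ⟨(classes.1 4).2, trans_of_eq (classes.1 4).1⟩

/-- the only point at scalar product 32 is the base point -/
theorem eq_W0_of_dot {w : leechLattice} (hw : w ∈ ptsD 32) : w = W0 := by
  have h := (classes.1 5).1
  have hw' : w ∈ orbK W0 := by
    have : orbK (rv 5) = ptsD (dv 5) := h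
    show w ∈ orbK (rv 5)
    rw [this]; exact hw
  obtain ⟨g, hg, rfl⟩ := hw'
  exact K_fix_W0 hg

/-- every point is the base point or lies in one of the five classes -/
theorem cover (w : leechLattice) (hw : w ∈ ptsW) :
    w = W0 ∨ w ∈ ptsD (-16) ∨ w ∈ ptsD 16 ∨ w ∈ ptsD (-8) ∨ w ∈ ptsD 8 ∨ w ∈ ptsD 0 := by
  obtain ⟨i, hi⟩ := classes.2 w hw
  fin_cases i
  · right; left; exact hi
  · right; right; left; exact hi
  · right; right; right; left; exact hi
  · right; right; right; right; left; exact hi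
  · right; right; right; right; right; exact hi
  · left; exact eq_W0_of_dot hi

end Cfsg.Agent.Lib.Helper27.Co2O
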