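import Cfsg.Agent.Lib.Helper27.Co2Orb2
import Cfsg.Agent.Lib.Helper27.McLSimple
import Cfsg.Agent.Lib.Helper27.Char2p
import Cfsg.Agent.Lib.Conway.PrimSimple2
import Cfsg.Agent.Lib.Conway.Co2Main
import Cfsg.Agent.Lib.Conway.Trans4

set_option autoImplicit false

/-!
The stabiliser of a minimal vector is simple of order 42305421312000.
-/

namespace Cfsg.Agent.Lib.Helper27.Co2S

open Cfsg Cfsg.Agent.Lib.Conway Cfsg.Agent.Lib.Helper93.Leech Cfsg.Agent.Lib.Helper93.Golay
open Cfsg.Agent.Lib.Golay.LeechBasis Cfsg.Agent.Lib.Helper27.LL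
open Cfsg.Agent.Lib.Helper27.McL (U0 K mem_K)
open Cfsg.Agent.Lib.Helper27.Co2O
open scoped Pointwise

/-- the stabiliser of `V0` -/
abbrev G2 : Subgroup Co0 := MulAction.stabilizer Co0 McL.V0

theorem G2_inv : ∀ g ∈ G2, ∀ x ∈ ptsW, g • x ∈ ptsW := fun _ hg _ hx =>
  smul_mem_ptsW (MulAction.mem_stabilizer_iff.mp hg) hx

instance actW : MulAction ↥G2 ↥ptsW := McLS.actOn G2 ptsW G2_inv

theorem actW_coe (g : G2) (x : ptsW) : ((g • x : ptsW) : leechLattice) = (g : Co0) • (x : leechLattice) :=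
  rfl

/-- the base point -/
def w0 : ptsW := ⟨W0, W0_mem.1⟩

theorem V0_add_W0 : McL.V0 + W0 = U0 := by
  rw [W0]; abel

theorem mem_stab_w0 (g : G2) : g ∈ MulAction.stabilizer G2 w0 ↔ (g : Co0) ∈ K := by
  rw [MulAction.mem_stabilizer_iff, mem_K]
  have hv : (g : Co0) • McL.V0 = McL.V0 := MulAction.mem_stabilizer_iff.mp g.2
  constructor
  · intro h
    have h' : (g : Co0) • W0 = W0 := congrArg Subtype.val h
    refine ⟨?_, hv⟩
    rw [← V0_add_W0, co0_add, hv, h']
  · rintro ⟨hu, -⟩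
    apply Subtype.ext
    show (g : Co0) • W0 = W0
    exact K_fix_W0 (mem_K.mpr ⟨hu, hv⟩)

/-- the stabiliser of the base point is `K` -/
noncomputable def stabEquivK : MulAction.stabilizer G2 w0 ≃* K where
  toFun g := ⟨((g : G2) : Co0), (mem_stab_w0 g.1).mp g.2⟩
  invFun g := ⟨⟨(g : Co0), MulAction.mem_stabilizer_iff.mpr (mem_K.mp g.2).2⟩, by
    rw [mem_stab_w0]; exact g.2⟩
  left_inv g := rfl
  right_inv g := rfl
  map_mul' g h := rfl

theorem stab_simple : IsSimpleGroup (MulAction.stabilizer G2 w0) := by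
  haveI := McLS.isMcL_std.1
  exact (stabEquivK.isSimpleGroup_congr).2 inferInstance

theorem card_stab : Nat.card (MulAction.stabilizer G2 w0) = 898128000 := by
  rw [Nat.card_congr stabEquivK.toEquiv]
  exact McLS.isMcL_std.2

theorem transW (x : ptsW) : ∃ g : G2, g • w0 = x := by
  obtain ⟨g, hg, e⟩ := stab_trans_d8 McL.V0 W0 x.1 McL.V0_norm W0_mem.1.1 x.2.1 W0_mem.1.2 x.2.2
  exact ⟨⟨g, MulAction.mem_stabilizer_iff.mpr hg⟩, Subtype.ext e⟩

theorem cardW : Nat.card ↥ptsW = 47104 := by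
  rw [Nat.card_coe_set_eq, ncard_ptsW]

instance : Finite ↥ptsW := finite_ptsW.to_subtype

/-- the classes -/
def clsW : Fin 5 → Set ptsW := fun i =>
  {x | (x : leechLattice) ∈ ptsD (![-16, 16, -8, 8, 0] i)}

theorem W0_dot : dotInt (W0 : Vec) (W0 : Vec) = 32 := W0_mem.2

theorem coverW (x : ptsW) : x = w0 ∨ ∃ i, x ∈ clsW i := by
  rcases cover x.1 x.2 with h | h | h | h | h | h
  · exact Or.inl (Subtype.ext h)
  · exact Or.inr ⟨0, h⟩
  · exact Or.inr ⟨1, h⟩
  · exact Or.inr ⟨2, h⟩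
  · exact Or.inr ⟨3, h⟩
  · exact Or.inr ⟨4, h⟩

theorem maxW (M : Subgroup G2) (hM : MulAction.stabilizer G2 w0 ≤ M) :
    M = MulAction.stabilizer G2 w0 ∨ M = ⊤ := by
  refine PrimMax.stab_max_of_classes w0 clsW ![275, 2025, 7128, 15400, 22275] 47104 transW cardW
    coverW ?_ ?_ ?_ ?_ (by decide) M hM
  · intro i h
    have h2 : dotInt (W0 : Vec) (W0 : Vec) = ![-16, 16, -8, 8, 0] i := h.2
    rw [W0_dot] at h2
    fin_cases i <;> simp at h2
  · intro i j hij
    rw [Set.disjoint_left]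
    intro x hx hx'
    have h1 : dotInt (W0 : Vec) ((x : leechLattice) : Vec) = ![-16, 16, -8, 8, 0] i := hx.2
    have h2 : dotInt (W0 : Vec) ((x : leechLattice) : Vec) = ![-16, 16, -8, 8, 0] j := hx'.2
    rw [h1] at h2
    fin_cases i <;> fin_cases j <;> simp at h2 hij
  · intro i
    fin_cases i
    · exact (McLS.ncard_sub _ (ptsD_sub (-16))).trans orbit_m16.1
    · exact (McLS.ncard_sub _ (ptsD_sub 16)).trans orbit_p16.1
    · exact (McLS.ncard_sub _ (ptsD_sub (-8))).trans orbit_m8.1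
    · exact (McLS.ncard_sub _ (ptsD_sub 8)).trans orbit_p8.1
    · exact (McLS.ncard_sub _ (ptsD_sub 0)).trans orbit_p0.1
  · intro i y hy y' hy'
    have key : ∀ d, (∀ z ∈ ptsD d, ∀ z' ∈ ptsD d, ∃ g ∈ K, g • z = z') →
        (y : leechLattice) ∈ ptsD d → (y' : leechLattice) ∈ ptsD d →
        ∃ g ∈ MulAction.stabilizer G2 w0, g • y = y' := by
      intro d htr h1 h2
      obtain ⟨g, hg, e⟩ := htr _ h1 _ h2
      exact ⟨⟨g, MulAction.mem_stabilizer_iff.mpr (mem_K.mp hg).2⟩, (mem_stab_w0 _).mpr hg,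
        Subtype.ext e⟩
    fin_cases i
    · exact key (-16) orbit_m16.2 hy hy'
    · exact key 16 orbit_p16.2 hy hy'
    · exact key (-8) orbit_m8.2 hy hy'
    · exact key 8 orbit_p8.2 hy hy'
    · exact key 0 orbit_p0.2 hy hy'

/-- the action on the points is faithful -/
theorem faithfulW (g : G2) (h : ∀ x : ptsW, g • x = x) : g = 1 := by
  let Ker : Subgroup G2 :=
    { carrier := {g | ∀ x : ptsW, g • x = x}
      one_mem' := fun x => one_smul _ x
      mul_mem' := fun {a b} ha hb x => by rw [mul_smul, hb x, ha x]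
      inv_mem' := fun {a} ha x => by
        have := ha x
        calc a⁻¹ • x = a⁻¹ • (a • x) := by rw [this]
          _ = x := inv_smul_smul a x }
  have hKerN : Ker.Normal := ⟨fun a ha b x => by
    show (b * a * b⁻¹) • x = x
    rw [mul_smul, mul_smul, ha (b⁻¹ • x), smul_inv_smul]⟩
  have hle : Ker ≤ MulAction.stabilizer G2 w0 := fun a ha => MulAction.mem_stabilizer_iff.mpr (ha w0)
  haveI := stab_simple
  have hnorm : (Ker.subgroupOf (MulAction.stabilizer G2 w0)).Normal := inferInstance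
  rcases (stab_simple).eq_bot_or_eq_top_of_normal _ hnorm with hb | ht
  · have hg : g ∈ Ker := h
    have : (⟨g, hle hg⟩ : MulAction.stabilizer G2 w0) ∈
        Ker.subgroupOf (MulAction.stabilizer G2 w0) := by
      rw [Subgroup.mem_subgroupOf]; exact hg
    rw [hb, Subgroup.mem_bot] at this
    exact congrArg (fun z : MulAction.stabilizer G2 w0 => (z : G2)) this
  · exfalso
    have h275 : 1 < (ptsD (-16)).ncard := by rw [orbit_m16.1]; norm_num
    obtain ⟨y, y', hy, hy', hne⟩ :=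
      (Set.one_lt_ncard_iff (Set.finite_of_ncard_pos (by omega))).mp h275
    obtain ⟨k, hk, e⟩ := orbit_m16.2 y hy y' hy'
    have hkG : k ∈ G2 := MulAction.mem_stabilizer_iff.mpr (mem_K.mp hk).2
    have hkS : (⟨k, hkG⟩ : G2) ∈ MulAction.stabilizer G2 w0 := (mem_stab_w0 _).mpr hk
    have : (⟨⟨k, hkG⟩, hkS⟩ : MulAction.stabilizer G2 w0) ∈
        Ker.subgroupOf (MulAction.stabilizer G2 w0) := by rw [ht]; trivial
    rw [Subgroup.mem_subgroupOf] at this
    have h2 := this ⟨y, hy.1⟩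
    have h3 : k • y = y := congrArg Subtype.val h2
    exact hne (h3.symm.trans e)

theorem indexW : (MulAction.stabilizer G2 w0).index = 47104 := by
  have : MulAction.IsPretransitive G2 ptsW := ⟨fun x y => by
    obtain ⟨g, rfl⟩ := transW x
    obtain ⟨g', rfl⟩ := transW y
    exact ⟨g' * g⁻¹, by rw [mul_smul, inv_smul_smul]⟩⟩
  rw [MulAction.index_stabilizer_of_transitive G2 w0, cardW]

theorem card_G2 : Nat.card G2 = 42305421312000 := by
  rw [← Subgroup.card_mul_index (MulAction.stabilizer G2 w0), indexW, card_stab]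

/-- the standard group is the Conway group `Co2` -/
theorem isCo2_std : IsSimpleGroup G2 ∧ Nat.card G2 = 42305421312000 := by
  haveI := McLS.finite_Co0
  refine ⟨PrimSimple.isSimpleGroup_of_char w0 faithfulW transW stab_simple maxW ?_, card_G2⟩
  intro N hN
  rw [indexW] at hN
  exact Char2p.exists_char_of_card (by rw [hN]; norm_num)

/-- the general statement -/
theorem isCo2 (v : leechLattice) (hv : sqNorm (v : Vec) = 32) :
    IsSimpleGroup ↥(MulAction.stabilizer Co0 v) ∧
      Nat.card ↥(MulAction.stabilizer Co0 v) = 42305421312000 := by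
  obtain ⟨g, hg⟩ := trans4 v McL.V0 hv McL.V0_norm
  have e : ↥(MulAction.stabilizer Co0 v) ≃* G2 :=
    McLS.conjEquiv g _ _ (by
      intro k
      rw [MulAction.mem_stabilizer_iff, MulAction.mem_stabilizer_iff]
      constructor
      · intro h1
        rw [mul_smul, mul_smul, ← hg, inv_smul_smul, h1]
      · intro h1
        rw [← hg, mul_smul, mul_smul, inv_smul_smul] at h1
        exact MulAction.injective g h1)
  obtain ⟨h1, h2⟩ := isCo2_std
  exact ⟨(e.isSimpleGroup_congr).2 h1, by rw [Nat.card_congr e.toEquiv, h2]⟩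

end Cfsg.Agent.Lib.Helper27.Co2S
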