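import Cfsg.Agent.Lib.Helper27.Co3Cert
import Cfsg.Agent.Lib.Helper27.McLMain
import Cfsg.Agent.Lib.Helper26.LeechDot3
import Cfsg.Agent.Lib.Conway.Trans6

set_option autoImplicit false

/-!
The stabiliser of a vector `u` of sum of squares 48 is transitive on the 11178 vectors `x` of sum
of squares 32 with `u . x = -16`.
-/

namespace Cfsg.Agent.Lib.Helper27.Co3

open Cfsg Cfsg.Agent.Lib.Conway Cfsg.Agent.Lib.Helper93.Leech Cfsg.Agent.Lib.Helper93.Golay
open Cfsg.Agent.Lib.Golay.LeechBasis Cfsg.Agent.Lib.Helper27.LL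
open Cfsg.Agent.Lib.Helper27.McL (U0 U0_coe U0_norm u0_len)
open Cfsg.Agent.Lib.Helper26 (PermData)
open Cfsg.Agent.Lib.Helper26.LeechDot Cfsg.Agent.Lib.Golay.LeechCount
open scoped Pointwise

set_option maxRecDepth 100000 in
theorem y0_cond : LeechCond (vecL y0L) 0 := by decide +kernel

/-- the vector `(-4, 0, 4, 0^21)` -/
def Y0 : leechLattice := ⟨vecL y0L, mem_of_leechCond y0_cond⟩

theorem Y0_coe : (Y0 : Vec) = vecL y0L := rfl

theorem y0_len : y0L.length = 24 := by decide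

/-- the stabiliser of `U0` -/
def K3 : Subgroup Co0 := MulAction.stabilizer Co0 U0

theorem mem_K3 {g : Co0} : g ∈ K3 ↔ g • U0 = U0 := MulAction.mem_stabilizer_iff

/-- the points attached to `u` -/
def pts3 (u : leechLattice) : Set leechLattice :=
  {x : leechLattice | sqNorm (x : Vec) = 32 ∧ dotInt (u : Vec) (x : Vec) = -16}

theorem smul_mem_pts3 {g : Co0} {u u' x : leechLattice} (hu : g • u = u') (hx : x ∈ pts3 u) :
    g • x ∈ pts3 u' := by
  obtain ⟨h1, h2⟩ := hx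
  exact ⟨by rw [co0_norm]; exact h1, by rw [← hu, Cfsg.Agent.Lib.Conway.co0_dot]; exact h2⟩

theorem smul_mem_pts3_iff {g : Co0} {u u' x : leechLattice} (hu : g • u = u') :
    g • x ∈ pts3 u' ↔ x ∈ pts3 u := by
  refine ⟨fun h => ?_, smul_mem_pts3 hu⟩
  have hu' : g⁻¹ • u' = u := by rw [← hu, inv_smul_smul]
  have := smul_mem_pts3 hu' h
  rwa [inv_smul_smul] at this

set_option maxRecDepth 100000 in
theorem Y0_mem : Y0 ∈ pts3 U0 := by
  refine ⟨?_, ?_⟩
  · rw [Y0_coe, sqNorm_vecL y0_len]; decide +kernel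
  · rw [U0_coe, Y0_coe, dotInt_vecL u0_len y0_len]; decide +kernel

theorem K3_inv : ∀ g ∈ K3, ∀ x ∈ pts3 U0, g • x ∈ pts3 U0 := fun _ hg _ hx =>
  smul_mem_pts3 (mem_K3.mp hg) hx

theorem fix_tab (T T' : List (List ℤ)) (h : TabOK T T') (hT : T ∈ [McL.G1Tab, P1Tab, P2Tab]) :
    genOf T T' h ∈ K3 := by
  have := List.all_eq_true.mp fixC_check T hT
  exact mem_K3.mpr (genOf_step h this U0_coe U0_coe)

theorem famC_mem : ∀ g ∈ famC.gens, g ∈ K3 := by
  intro g hg
  simp only [famC, List.mem_cons, List.not_mem_nil, or_false] at hg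
  rcases hg with rfl | rfl | rfl
  · exact fix_tab _ _ _ (by simp)
  · exact fix_tab _ _ _ (by simp)
  · exact fix_tab _ _ _ (by simp)

theorem perms23_mem : ∀ d ∈ perms23, ∃ g ∈ K3, ∀ (xl : List ℤ) (v : leechLattice),
    (v : Vec) = vecL xl → ((g • v : leechLattice) : Vec) = vecL (permL d xl) := by
  intro d hd
  have := List.all_eq_true.mp perms23_check d hd
  simp only [Bool.and_eq_true, beq_iff_eq] at this
  obtain ⟨h1, h2⟩ := this
  refine ⟨monoP d h1, mem_K3.mpr ?_, fun xl v hv => monoP_smul d h1 hv⟩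
  exact Subtype.ext (by rw [monoP_smul d h1 U0_coe, h2]; rfl)

theorem perms23_ok : ∀ d ∈ perms23, d.ok = true := by
  intro d hd
  have := List.all_eq_true.mp perms23_check d hd
  simp only [Bool.and_eq_true, beq_iff_eq] at this
  exact PermData.ok_of_inM24 this.1

theorem reach_SLc : ∀ l ∈ SLc, ∃ g ∈ K3, ((g • Y0 : leechLattice) : Vec) = vecL l :=
  reach_of_tree famC K3 famC_mem SLc SCc Y0 0 (by rw [Y0_coe, SLc_head]) stepsC treeC_check
    treeC_all

theorem reach_bases : ∀ i, i < SLcP.length →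
    ∃ g ∈ K3, ((g • Y0 : leechLattice) : Vec) = vecL (unpack (SLcP.getD i 0)) := by
  intro i hi
  apply reach_SLc
  rw [SLc]
  exact List.mem_map.mpr ⟨SLcP.getD i 0, McL.getD_mem_of_lt SLcP 0 hi, rfl⟩

theorem reach_XcP : ∀ t ∈ XcP, ∃ g ∈ K3, ((g • Y0 : leechLattice) : Vec) = vecL (unpack t) := by
  have r0 := checkW3_spec perms23 perms23_ok K3 perms23_mem Y0 SLcP reach_bases _ _ words_check0
  have r1 := checkW3_spec perms23 perms23_ok K3 perms23_mem Y0 SLcP reach_bases _ _ words_check1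
  have r2 := checkW3_spec perms23 perms23_ok K3 perms23_mem Y0 SLcP reach_bases _ _ words_check2
  have r3 := checkW3_spec perms23 perms23_ok K3 perms23_mem Y0 SLcP reach_bases _ _ words_check3
  have r4 := checkW3_spec perms23 perms23_ok K3 perms23_mem Y0 SLcP reach_bases _ _ words_check4
  have r5 := checkW3_spec perms23 perms23_ok K3 perms23_mem Y0 SLcP reach_bases _ _ words_check5
  intro t ht
  simp only [XcP, List.mem_append] at ht
  rcases ht with ((((ht | ht) | ht) | ht) | ht) | ht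
  · exact r0 t ht
  · exact r1 t ht
  · exact r2 t ht
  · exact r3 t ht
  · exact r4 t ht
  · exact r5 t ht

/-- the list of the points -/
def Xc : List (List ℤ) := XcP.map unpack

theorem Xc_len : ∀ l ∈ Xc, l.length = 24 := by
  intro l hl
  obtain ⟨n, -, rfl⟩ := List.mem_map.mp hl
  exact unpack_length n

theorem Xc_nodup : Xc.Nodup := nodup_map_unpack_of_sorted XcP XcP_sorted XcP_lt

theorem Xc_length : Xc.length = 11178 := by rw [Xc, List.length_map, XcP_length]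

theorem reach_Xc : ∀ l ∈ Xc, ∃ g ∈ K3, ((g • Y0 : leechLattice) : Vec) = vecL l := by
  intro l hl
  obtain ⟨n, hn, rfl⟩ := List.mem_map.mp hl
  exact reach_XcP n hn

/-! ### the count -/

theorem hsum51 : ∀ m : ℤ, m = 0 ∨ m = 1 → ∀ (c : Finset GolayPt),
    ∀ x ∈ box K5 m c, dotInt (zv 5 1) x = -16 → (∑ i, x i) % 8 = (4 * m) % 8 := by
  intro m hm c x hx hdot
  rw [dot_zv] at hdot
  have := (mem_box.1 hx none).2
  split_ifs at this <;> rcases hm with rfl | rfl <;> omega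

theorem Zc51 : Zc 5 1 = 140 := by decide

theorem tot16 : totalD (gz 5 0) (gz 5 1) (gz 5 2) (gz 5 3) (gz 1 0) (gz 1 1) (gz 1 2) (gz 1 3)
    (400 * 32 + ((-16 : ℤ) + Zc 5 1).toNat) = 11178 := by decide +kernel

theorem census :
    {w : GolayPt → ℤ | w ∈ leechLattice ∧ sqNorm w = 32 ∧ dotInt (L5 : Vec) w = -16}.ncard =
      11178 := by
  have h := ncard_SD_eq 5 1 (by rw [Zc51]; norm_num) 32 (by norm_num) (-16)
    (by rw [Zc51]; norm_num) (by rw [Zc51]; norm_num) hsum51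
  rw [tot16] at h
  exact h

theorem L5_norm : sqNorm (L5 : Vec) = 48 := by
  show sqNorm v5 = 48
  unfold sqNorm
  decide +kernel

theorem ncard_pts3 (u : leechLattice) (hu : sqNorm (u : Vec) = 48) : (pts3 u).ncard = 11178 := by
  obtain ⟨g, hg⟩ := trans6 L5 u L5_norm hu
  have key := ncard_dot_congr g L5 32 (-16)
  rw [hg, census] at key
  rw [← key]
  symm
  apply Set.ncard_congr (fun w hw => (⟨w, hw.1⟩ : leechLattice))
  · rintro w ⟨h1, h2, h3⟩
    exact ⟨h2, h3⟩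
  · intro w w' _ _ h
    exact congrArg Subtype.val h
  · rintro ⟨w, hw⟩ ⟨h2, h3⟩
    exact ⟨w, ⟨hw, h2, h3⟩, rfl⟩

/-- the standard configuration -/
theorem main0 : (∀ x ∈ pts3 U0, ∃ l ∈ Xc, (x : Vec) = vecL l) ∧
    ∀ x ∈ pts3 U0, ∀ x' ∈ pts3 U0, ∃ g ∈ K3, g • x = x' :=
  orbit_of_count (pts3 U0) K3 K3_inv Y0 Y0_mem Xc Xc_len Xc_nodup
    (by rw [ncard_pts3 U0 U0_norm, Xc_length]) (by rw [Xc_length]; norm_num) reach_Xc

/-- every admissible pair is conjugate to the standard one -/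
theorem exists_to_std (u x : leechLattice) (hu : sqNorm (u : Vec) = 48) (hx : x ∈ pts3 u) :
    ∃ g : Co0, g • u = U0 ∧ g • x = Y0 := by
  obtain ⟨g, hg⟩ := trans6 u U0 hu U0_norm
  obtain ⟨k, hk, e⟩ := main0.2 (g • x) (smul_mem_pts3 hg hx) Y0 Y0_mem
  exact ⟨k * g, by rw [mul_smul, hg, mem_K3.mp hk], by rw [mul_smul, e]⟩

/-- the general statement -/
theorem main (u : leechLattice) (hu : sqNorm (u : Vec) = 48) :
    (pts3 u).ncard = 11178 ∧ ∀ x ∈ pts3 u, ∀ x' ∈ pts3 u, ∃ g : Co0, g • u = u ∧ g • x = x' := by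
  refine ⟨ncard_pts3 u hu, ?_⟩
  intro x hx x' hx'
  obtain ⟨g, hgu, hgx⟩ := exists_to_std u x hu hx
  obtain ⟨g', hgu', hgx'⟩ := exists_to_std u x' hu hx'
  refine ⟨g'⁻¹ * g, ?_, ?_⟩
  · rw [mul_smul, hgu, ← hgu', inv_smul_smul]
  · rw [mul_smul, hgx, ← hgx', inv_smul_smul]

end Cfsg.Agent.Lib.Helper27.Co3
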