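import Cfsg.Agent.Lib.Helper27.Co3Data

set_option autoImplicit false

/-!
Kernel-checked certificates for the data of `Co3Data`.
-/

namespace Cfsg.Agent.Lib.Helper27.Co3

open Cfsg Cfsg.Agent.Lib.Conway Cfsg.Agent.Lib.Helper93.Leech Cfsg.Agent.Lib.Helper93.Golay
open Cfsg.Agent.Lib.Golay.LeechBasis Cfsg.Agent.Lib.Helper27.LL Cfsg.Agent.Lib.Helper27.McL
open Cfsg.Agent.Lib.Helper26 (PermData)

set_option maxRecDepth 1000000 in
theorem fixC_check : [McL.G1Tab, P1Tab, P2Tab].all (fun T => stepB T McL.u0L McL.u0C McL.u0L) = true := by
  decide +kernel

set_option maxRecDepth 1000000 in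
theorem perms23_check : perms23.all (fun d => d.inM24 && (permL d McL.u0L == McL.u0L)) = true := by
  decide +kernel

set_option maxRecDepth 1000000 in
theorem treeC_check : checkTree famC.tabs SLc SCc [0] stepsC = true := by decide +kernel

set_option maxRecDepth 1000000 in
theorem treeC_all : (List.range SLc.length).all (fun i => (0 :: stepsC.map (·.1)).contains i) = true := by
  decide +kernel

set_option maxRecDepth 1000000 in
theorem SLc_head : SLc.getD 0 [] = y0L := by decide +kernel

set_option maxRecDepth 1000000 in
theorem words_check0 : checkW3 perms23 SLcP XcP0 XcW0 = true := by decide +kernel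

set_option maxRecDepth 1000000 in
theorem words_check1 : checkW3 perms23 SLcP XcP1 XcW1 = true := by decide +kernel

set_option maxRecDepth 1000000 in
theorem words_check2 : checkW3 perms23 SLcP XcP2 XcW2 = true := by decide +kernel

set_option maxRecDepth 1000000 in
theorem words_check3 : checkW3 perms23 SLcP XcP3 XcW3 = true := by decide +kernel

set_option maxRecDepth 1000000 in
theorem words_check4 : checkW3 perms23 SLcP XcP4 XcW4 = true := by decide +kernel

set_option maxRecDepth 1000000 in
theorem words_check5 : checkW3 perms23 SLcP XcP5 XcW5 = true := by decide +kernel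

set_option maxRecDepth 1000000 in
theorem XcP_sorted : sortedLt XcP = true := by decide +kernel

set_option maxRecDepth 1000000 in
theorem XcP_lt : XcP.all (fun n => decide (n < 256 ^ 24)) = true := by decide +kernel

set_option maxRecDepth 1000000 in
theorem XcP_length : XcP.length = 11178 := by decide +kernel

end Cfsg.Agent.Lib.Helper27.Co3
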