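import Cfsg.Agent.Lib.Helper27.R5Data
import Cfsg.Agent.Lib.Helper27.Co3

set_option autoImplicit false

/-!
The orbits of lengths 1, 352, 1100, 4125, 5600 of the joint stabiliser of a vector `u` of sum of
squares 48 and a minimal vector `x` with `u . x = -16` on the 11178 such minimal vectors.
-/

namespace Cfsg.Agent.Lib.Helper27.R5

open Cfsg Cfsg.Agent.Lib.Conway Cfsg.Agent.Lib.Helper93.Leech Cfsg.Agent.Lib.Helper93.Golay
open Cfsg.Agent.Lib.Golay.LeechBasis Cfsg.Agent.Lib.Helper27.LL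
open Cfsg.Agent.Lib.Helper27.McL (U0 U0_coe getD_mem_of_lt)
open Cfsg.Agent.Lib.Helper27.Co3 (Y0 Y0_coe K3 mem_K3 pts3)
open Cfsg.Agent.Lib.Helper26 (PermData)
open scoped Pointwise

theorem nat_beq_iff (a b : ℕ) : Nat.beq a b = true ↔ a = b :=
  ⟨Nat.eq_of_beq_eq_true, fun h => h ▸ Nat.beq_refl a⟩

/-- the third base point -/
abbrev pc : GolayPt := Cfsg.Agent.Lib.Helper93.Golay.P 2

theorem vecL_y0 : vecL Co3.y0L = fun p => if p = pa then -4 else if p = pc then 4 else 0 := by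
  funext p; revert p; decide

theorem pa_ne_pc : pa ≠ pc := by decide

theorem dot_Y0 (x : Vec) : dotInt (vecL Co3.y0L) x = -4 * x pa + 4 * x pc := by
  rw [vecL_y0]
  unfold dotInt
  have hpt : ∀ p, (if p = pa then (-4 : ℤ) else if p = pc then 4 else 0) * x p =
      (if p = pa then -4 * x p else 0) + (if p = pc then 4 * x p else 0) := by
    intro p
    by_cases h1 : p = pa
    · have h2 : p ≠ pc := fun h => pa_ne_pc (h1.symm.trans h)
      simp [h1, pa_ne_pc]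
    · by_cases h2 : p = pc
      · simp [h2, pa_ne_pc.symm]
      · simp [h1, h2]
  rw [Finset.sum_congr rfl (fun p _ => hpt p), Finset.sum_add_distrib, Finset.sum_ite_eq',
    Finset.sum_ite_eq']
  simp only [Finset.mem_univ, if_true]

theorem unpack_pa (n : ℕ) : vecL (unpack n) pa = ((dig n 0 : ℕ) : ℤ) - 128 := by
  rw [vecL_apply]
  exact unpack_getD n 0 (by norm_num)

theorem unpack_pc (n : ℕ) : vecL (unpack n) pc = ((dig n 2 : ℕ) : ℤ) - 128 := by
  rw [vecL_apply]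
  exact unpack_getD n 2 (by norm_num)

/-- the stabiliser of `U0` and `Y0` -/
def KH : Subgroup Co0 := K3 ⊓ MulAction.stabilizer Co0 Y0

theorem mem_KH {g : Co0} : g ∈ KH ↔ g • U0 = U0 ∧ g • Y0 = Y0 := by
  simp [KH, Subgroup.mem_inf, MulAction.mem_stabilizer_iff, mem_K3]

/-- the points at scalar product `d` from `Y0` -/
def ptsD (d : ℤ) : Set leechLattice :=
  {y : leechLattice | y ∈ pts3 U0 ∧ dotInt (Y0 : Vec) (y : Vec) = d}

theorem KH_inv (d : ℤ) : ∀ g ∈ KH, ∀ y ∈ ptsD d, g • y ∈ ptsD d := by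
  intro g hg y hy
  obtain ⟨hu, hr⟩ := mem_KH.mp hg
  refine ⟨Co3.smul_mem_pts3 hu hy.1, ?_⟩
  have := Cfsg.Agent.Lib.Conway.co0_dot g Y0 y
  rw [hr] at this
  rw [this]
  exact hy.2

theorem fix_tab (T T' : List (List ℤ)) (h : TabOK T T') (hT : T ∈ [Q1Tab, Q2Tab]) :
    genOf T T' h ∈ KH := by
  have := List.all_eq_true.mp fixQ_check T hT
  rw [Bool.and_eq_true] at this
  exact mem_KH.mpr ⟨genOf_step h this.1 U0_coe U0_coe, genOf_step h this.2 Y0_coe Y0_coe⟩

theorem famQ_mem : ∀ g ∈ famQ.gens, g ∈ KH := by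
  intro g hg
  simp only [famQ, List.mem_cons, List.not_mem_nil, or_false] at hg
  rcases hg with rfl | rfl
  · exact fix_tab _ _ _ (by simp)
  · exact fix_tab _ _ _ (by simp)

theorem perms22p_mem : ∀ d ∈ perms22p, ∃ g ∈ KH, ∀ (xl : List ℤ) (v : leechLattice),
    (v : Vec) = vecL xl → ((g • v : leechLattice) : Vec) = vecL (permL d xl) := by
  intro d hd
  have := List.all_eq_true.mp perms22p_check d hd
  simp only [Bool.and_eq_true, beq_iff_eq] at this
  obtain ⟨⟨h1, h2⟩, h3⟩ := this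
  refine ⟨monoP d h1, mem_KH.mpr ⟨?_, ?_⟩, fun xl v hv => monoP_smul d h1 hv⟩
  · exact Subtype.ext (by rw [monoP_smul d h1 U0_coe, h2]; rfl)
  · exact Subtype.ext (by rw [monoP_smul d h1 Y0_coe, h3]; rfl)

theorem perms22p_ok : ∀ d ∈ perms22p, d.ok = true := by
  intro d hd
  have := List.all_eq_true.mp perms22p_check d hd
  simp only [Bool.and_eq_true, beq_iff_eq] at this
  exact PermData.ok_of_inM24 this.1.1

theorem XcP_nodup : Co3.XcP.Nodup := nodup_of_sortedLt _ Co3.XcP_sorted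

theorem XcP_bound : ∀ n ∈ Co3.XcP, n < 256 ^ 24 := by
  intro n hn
  have := List.all_eq_true.mp Co3.XcP_lt n hn
  rwa [decide_eq_true_eq] at this

theorem nodup_map_of_sub (L : List ℕ) (hnd : L.Nodup) (hsub : ∀ n ∈ L, n ∈ Co3.XcP) :
    (L.map unpack).Nodup := by
  apply List.Nodup.map_on _ hnd
  intro a ha b hb e
  exact unpack_injOn (XcP_bound a (hsub a ha)) (XcP_bound b (hsub b hb)) e

/-- every point is in the packed list -/
theorem complete (y : leechLattice) (hy : y ∈ pts3 U0) :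
    ∃ n ∈ Co3.XcP, (y : Vec) = vecL (unpack n) := by
  obtain ⟨l, hl, e⟩ := Co3.main0.1 y hy
  obtain ⟨n, hn, rfl⟩ := List.mem_map.mp hl
  exact ⟨n, hn, e⟩

/-- the scalar product with `Y0` in terms of the packed coordinates -/
theorem dot_Y0_unpack (y : leechLattice) (n : ℕ) (e : (y : Vec) = vecL (unpack n)) :
    dotInt (Y0 : Vec) (y : Vec) = 4 * ((dig n 2 : ℕ) : ℤ) - 4 * ((dig n 0 : ℕ) : ℤ) := by
  rw [Y0_coe, dot_Y0, e, unpack_pa, unpack_pc]
  ring

theorem getD_map_unpack' (L : List ℕ) (i : ℕ) (hi : i < L.length) :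
    (L.map unpack).getD i [] = unpack (L.getD i 0) := by
  rw [List.getD_eq_getElem _ _ (by rw [List.length_map]; exact hi), List.getElem_map,
    List.getD_eq_getElem _ _ hi]

/-- the orbit of the points at a given scalar product from `Y0`, from its certificate -/
theorem orbitD (d : ℤ) (cond : ℕ → Bool) (SLP : List ℕ) (SC : List (List ℤ))
    (steps : List (ℕ × ℕ × ℕ)) (W : List (ℕ × List ℕ))
    (hcond : ∀ n, cond n = true ↔ 4 * ((dig n 2 : ℕ) : ℤ) - 4 * ((dig n 0 : ℕ) : ℤ) = d)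
    (hroot : SLP.getD 0 0 ∈ Co3.XcP.filter cond ∧ 0 < SLP.length)
    (htree : checkTree famQ.tabs (SLP.map unpack) SC [0] steps = true)
    (hall : (List.range (SLP.map unpack).length).all
      (fun i => (0 :: steps.map (·.1)).contains i) = true)
    (hW : checkW3 perms22p SLP (Co3.XcP.filter cond) W = true) :
    (ptsD d).ncard = (Co3.XcP.filter cond).length ∧
      (∃ r, r ∈ ptsD d) ∧ ∀ y ∈ ptsD d, ∀ y' ∈ ptsD d, ∃ g ∈ KH, g • y = y' := by
  obtain ⟨hb1, hb2⟩ := List.mem_filter.mp hroot.1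
  obtain ⟨g0, hg0, e0⟩ := Co3.reach_XcP _ hb1
  set r : leechLattice := g0 • Y0 with hr
  have hrN : r ∈ pts3 U0 := Co3.K3_inv g0 hg0 Y0 Co3.Y0_mem
  have hrD : r ∈ ptsD d := ⟨hrN, by rw [dot_Y0_unpack r _ e0]; exact (hcond _).mp hb2⟩
  have hcomp : ∀ y ∈ ptsD d, ∃ l ∈ (Co3.XcP.filter cond).map unpack, (y : Vec) = vecL l := by
    intro y hy
    obtain ⟨n, hn, e⟩ := complete y hy.1
    refine ⟨unpack n, List.mem_map.mpr ⟨n, List.mem_filter.mpr ⟨hn, ?_⟩, rfl⟩, e⟩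
    rw [hcond, ← dot_Y0_unpack y n e]
    exact hy.2
  have hroot' : (r : Vec) = vecL ((SLP.map unpack).getD 0 []) := by
    rw [e0, getD_map_unpack' SLP 0 hroot.2]
  have reachS : ∀ l ∈ SLP.map unpack, ∃ g ∈ KH, ((g • r : leechLattice) : Vec) = vecL l :=
    reach_of_tree famQ KH famQ_mem (SLP.map unpack) SC r 0 hroot' steps htree hall
  have reachB : ∀ i, i < SLP.length →
      ∃ g ∈ KH, ((g • r : leechLattice) : Vec) = vecL (unpack (SLP.getD i 0)) := by
    intro i hi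
    apply reachS
    exact List.mem_map.mpr ⟨SLP.getD i 0, getD_mem_of_lt SLP 0 hi, rfl⟩
  have hreachP : ∀ t ∈ Co3.XcP.filter cond,
      ∃ g ∈ KH, ((g • r : leechLattice) : Vec) = vecL (unpack t) :=
    checkW3_spec perms22p perms22p_ok KH perms22p_mem r SLP reachB _ _ hW
  have hreach : ∀ l ∈ (Co3.XcP.filter cond).map unpack,
      ∃ g ∈ KH, ((g • r : leechLattice) : Vec) = vecL l := by
    intro l hl
    obtain ⟨n, hn, rfl⟩ := List.mem_map.mp hl
    exact hreachP n hn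
  have h := orbit_of_list (ptsD d) KH (KH_inv d) r hrD ((Co3.XcP.filter cond).map unpack)
    (by
      intro l hl
      obtain ⟨n, -, rfl⟩ := List.mem_map.mp hl
      exact unpack_length n)
    (nodup_map_of_sub _ (XcP_nodup.filter _) (fun n hn => (List.mem_filter.mp hn).1))
    hcomp hreach
  rw [List.length_map] at h
  exact ⟨h.1, ⟨r, hrD⟩, h.2⟩

theorem orbit_m8 : (ptsD (-8)).ncard = 352 ∧ (∃ r, r ∈ ptsD (-8)) ∧
    ∀ y ∈ ptsD (-8), ∀ y' ∈ ptsD (-8), ∃ g ∈ KH, g • y = y' := by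
  have h := orbitD (-8) cm8 SLm8P SCm8 stepsm8 Wm8 (by
    intro n
    rw [cm8, nat_beq_iff]
    omega) root_m8 tree_m8 all_m8 words_m8
  rw [C_lengths.1] at h
  exact h

theorem orbit_16 : (ptsD 16).ncard = 1100 ∧ (∃ r, r ∈ ptsD 16) ∧
    ∀ y ∈ ptsD 16, ∀ y' ∈ ptsD 16, ∃ g ∈ KH, g • y = y' := by
  have h := orbitD 16 c16 SLp16P SCp16 stepsp16 Wp16 (by
    intro n
    rw [c16, nat_beq_iff]
    omega) root_p16 tree_p16 all_p16 words_p16
  rw [C_lengths.2.1] at h
  exact h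

theorem orbit_0 : (ptsD 0).ncard = 4125 ∧ (∃ r, r ∈ ptsD 0) ∧
    ∀ y ∈ ptsD 0, ∀ y' ∈ ptsD 0, ∃ g ∈ KH, g • y = y' := by
  have h := orbitD 0 c0 SLp0P SCp0 stepsp0 Wp0 (by
    intro n
    rw [c0, nat_beq_iff]
    omega) root_p0 tree_p0 all_p0 words_p0
  rw [C_lengths.2.2.1] at h
  exact h

theorem orbit_8 : (ptsD 8).ncard = 5600 ∧ (∃ r, r ∈ ptsD 8) ∧
    ∀ y ∈ ptsD 8, ∀ y' ∈ ptsD 8, ∃ g ∈ KH, g • y = y' := by
  have h := orbitD 8 c8 SLp8P SCp8 stepsp8 Wp8 (by
    intro n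
    rw [c8, nat_beq_iff]
    omega) root_p8 tree_p8 all_p8 words_p8
  rw [C_lengths.2.2.2] at h
  exact h

/-- every point is `Y0` or lies in one of the four classes -/
theorem cover (y : leechLattice) (hy : y ∈ pts3 U0) :
    y = Y0 ∨ y ∈ ptsD (-8) ∨ y ∈ ptsD 16 ∨ y ∈ ptsD 0 ∨ y ∈ ptsD 8 := by
  obtain ⟨n, hn, e⟩ := complete y hy
  have hc := List.all_eq_true.mp cover_check n hn
  have hd := dot_Y0_unpack y n e
  simp only [Bool.or_eq_true] at hc
  rcases hc with (((hc | hc) | hc) | hc) | hc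
  · left
    apply Subtype.ext
    rw [e, Nat.eq_of_beq_eq_true hc, y0P_eq, Y0_coe]
  · right; left
    refine ⟨hy, ?_⟩
    rw [cm8, nat_beq_iff] at hc
    rw [hd]; omega
  · right; right; left
    refine ⟨hy, ?_⟩
    rw [c16, nat_beq_iff] at hc
    rw [hd]; omega
  · right; right; right; left
    refine ⟨hy, ?_⟩
    rw [c0, nat_beq_iff] at hc
    rw [hd]; omega
  · right; right; right; right
    refine ⟨hy, ?_⟩
    rw [c8, nat_beq_iff] at hc
    rw [hd]; omega

/-! ### the general statement -/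

/-- the orbit of a subgroup as a set -/
theorem orbit_eq (H : Subgroup Co0) (y : leechLattice) :
    MulAction.orbit ↥H y = {z | ∃ g ∈ H, g • y = z} := by
  ext z
  constructor
  · rintro ⟨⟨g, hg⟩, rfl⟩
    exact ⟨g, hg, rfl⟩
  · rintro ⟨g, hg, rfl⟩
    exact ⟨⟨g, hg⟩, rfl⟩

/-- transport of an orbit of the stabiliser of `u`, `x` to the standard situation -/
theorem orbit_eq_preimage {h : Co0} {u x y : leechLattice} (hu : h • u = U0) (hx : h • x = Y0)
    (d : ℤ) (hy : h • y ∈ ptsD d)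
    (htr : ∀ z ∈ ptsD d, ∀ z' ∈ ptsD d, ∃ g ∈ KH, g • z = z') :
    MulAction.orbit ↥(MulAction.stabilizer Co0 u ⊓ MulAction.stabilizer Co0 x) y =
      {z | h • z ∈ ptsD d} := by
  set H : Subgroup Co0 := MulAction.stabilizer Co0 u ⊓ MulAction.stabilizer Co0 x with hH
  have memH : ∀ g : Co0, g ∈ H ↔ g • u = u ∧ g • x = x := by
    intro g
    simp [hH, Subgroup.mem_inf, MulAction.mem_stabilizer_iff]
  have toKH : ∀ g ∈ H, h * g * h⁻¹ ∈ KH := by
    intro g hg
    obtain ⟨g1, g2⟩ := (memH g).mp hg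
    refine mem_KH.mpr ⟨?_, ?_⟩
    · rw [mul_smul, mul_smul, ← hu, inv_smul_smul, g1]
    · rw [mul_smul, mul_smul, ← hx, inv_smul_smul, g2]
  have toH : ∀ k ∈ KH, h⁻¹ * k * h ∈ H := by
    intro k hk
    obtain ⟨k1, k2⟩ := mem_KH.mp hk
    refine (memH _).mpr ⟨?_, ?_⟩
    · rw [mul_smul, mul_smul, hu, k1, ← hu, inv_smul_smul]
    · rw [mul_smul, mul_smul, hx, k2, ← hx, inv_smul_smul]
  rw [orbit_eq]
  ext z
  constructor
  · rintro ⟨g, hg, rfl⟩
    have : h • g • y = (h * g * h⁻¹) • (h • y) := by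
      rw [mul_smul, mul_smul, inv_smul_smul]
    show h • g • y ∈ ptsD d
    rw [this]
    exact KH_inv d _ (toKH g hg) _ hy
  · intro hz
    obtain ⟨k, hk, e⟩ := htr _ hy _ hz
    refine ⟨h⁻¹ * k * h, toH k hk, ?_⟩
    rw [mul_smul, mul_smul, e, inv_smul_smul]

theorem ncard_preimage (h : Co0) (S : Set leechLattice) : {z | h • z ∈ S}.ncard = S.ncard := by
  have : S = (fun z => h • z) '' {z | h • z ∈ S} := by
    ext t
    constructor
    · intro ht
      exact ⟨h⁻¹ • t, by simpa using ht, smul_inv_smul h t⟩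
    · rintro ⟨z, hz, rfl⟩
      exact hz
  conv_rhs => rw [this]
  exact (Set.ncard_image_of_injective _ (MulAction.injective h)).symm

/-- rank 5 -/
theorem rank5 (u x : leechLattice) (hu : sqNorm (u : Vec) = 48) (hx : x ∈ pts3 u) :
    ∃ y₁ ∈ pts3 u, ∃ y₂ ∈ pts3 u, ∃ y₃ ∈ pts3 u, ∃ y₄ ∈ pts3 u,
      (MulAction.orbit ↥(MulAction.stabilizer Co0 u ⊓ MulAction.stabilizer Co0 x) y₁).ncard = 352 ∧
      (MulAction.orbit ↥(MulAction.stabilizer Co0 u ⊓ MulAction.stabilizer Co0 x) y₂).ncard = 1100 ∧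
      (MulAction.orbit ↥(MulAction.stabilizer Co0 u ⊓ MulAction.stabilizer Co0 x) y₃).ncard = 4125 ∧
      (MulAction.orbit ↥(MulAction.stabilizer Co0 u ⊓ MulAction.stabilizer Co0 x) y₄).ncard = 5600 ∧
      pts3 u = {x} ∪
        MulAction.orbit ↥(MulAction.stabilizer Co0 u ⊓ MulAction.stabilizer Co0 x) y₁ ∪
        MulAction.orbit ↥(MulAction.stabilizer Co0 u ⊓ MulAction.stabilizer Co0 x) y₂ ∪
        MulAction.orbit ↥(MulAction.stabilizer Co0 u ⊓ MulAction.stabilizer Co0 x) y₃ ∪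
        MulAction.orbit ↥(MulAction.stabilizer Co0 u ⊓ MulAction.stabilizer Co0 x) y₄ := by
  obtain ⟨h, hhu, hhx⟩ := Co3.exists_to_std u x hu hx
  obtain ⟨c1, ⟨r1, hr1⟩, t1⟩ := orbit_m8
  obtain ⟨c2, ⟨r2, hr2⟩, t2⟩ := orbit_16
  obtain ⟨c3, ⟨r3, hr3⟩, t3⟩ := orbit_0
  obtain ⟨c4, ⟨r4, hr4⟩, t4⟩ := orbit_8
  have key : ∀ (d : ℤ) (r : leechLattice), r ∈ ptsD d →
      h⁻¹ • r ∈ pts3 u ∧ h • (h⁻¹ • r) ∈ ptsD d := by
    intro d r hr
    refine ⟨?_, by rw [smul_inv_smul]; exact hr⟩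
    rw [← Co3.smul_mem_pts3_iff hhu, smul_inv_smul]
    exact hr.1
  have o1 := orbit_eq_preimage hhu hhx (-8) (key _ r1 hr1).2 t1
  have o2 := orbit_eq_preimage hhu hhx 16 (key _ r2 hr2).2 t2
  have o3 := orbit_eq_preimage hhu hhx 0 (key _ r3 hr3).2 t3
  have o4 := orbit_eq_preimage hhu hhx 8 (key _ r4 hr4).2 t4
  refine ⟨_, (key _ r1 hr1).1, _, (key _ r2 hr2).1, _, (key _ r3 hr3).1, _, (key _ r4 hr4).1,
    ?_, ?_, ?_, ?_, ?_⟩
  · rw [o1, ncard_preimage, c1]
  · rw [o2, ncard_preimage, c2]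
  · rw [o3, ncard_preimage, c3]
  · rw [o4, ncard_preimage, c4]
  · rw [o1, o2, o3, o4]
    ext z
    simp only [Set.mem_union, Set.mem_singleton_iff, Set.mem_ofPred_eq]
    constructor
    · intro hz
      have hz' : h • z ∈ pts3 U0 := Co3.smul_mem_pts3 hhu hz
      rcases cover (h • z) hz' with e | e | e | e | e
      · left; left; left; left
        rw [← hhx] at e
        exact MulAction.injective h e
      · left; left; left; right; exact e
      · left; left; right; exact e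
      · left; right; exact e
      · right; exact e
    · rintro ((((e | e) | e) | e) | e)
      · rw [e]; exact hx
      · exact (Co3.smul_mem_pts3_iff hhu).mp e.1
      · exact (Co3.smul_mem_pts3_iff hhu).mp e.1
      · exact (Co3.smul_mem_pts3_iff hhu).mp e.1
      · exact (Co3.smul_mem_pts3_iff hhu).mp e.1

end Cfsg.Agent.Lib.Helper27.R5
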