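import Cfsg.Agent.Lib.Helper27.PrimMax2
import Cfsg.Agent.Lib.Helper27.McLSimple
import Cfsg.Agent.Lib.Helper27.R5

set_option autoImplicit false

/-!
The stabiliser of a vector of sum of squares 48 is simple of order 495766656000, given that the
joint stabiliser of a Higman-Sims pair is simple of order 44352000.
-/

namespace Cfsg.Agent.Lib.Helper27.Co3S

open Cfsg Cfsg.Agent.Lib.Conway Cfsg.Agent.Lib.Helper93.Leech Cfsg.Agent.Lib.Helper93.Golay
open Cfsg.Agent.Lib.Golay.LeechBasis Cfsg.Agent.Lib.Helper27.LL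
open Cfsg.Agent.Lib.Helper27.McL (U0 U0_norm)
open Cfsg.Agent.Lib.Helper27.Co3 (Y0 K3 mem_K3 pts3)
open Cfsg.Agent.Lib.Helper27.R5 (KH mem_KH)
open Cfsg.Agent.Lib.Helper27.McLS (actOn ncard_sub finite_Co0 conjEquiv)
open scoped Pointwise

/-- the hypothesis on the Higman-Sims pairs -/
def HSHyp : Prop := ∀ v w : leechLattice, sqNorm (v : Vec) = 48 → sqNorm (w : Vec) = 48 →
  dotInt (v : Vec) (w : Vec) = -32 →
  IsSimpleGroup ↥(MulAction.stabilizer Cfsg.Co0 v ⊓ MulAction.stabilizer Cfsg.Co0 w) ∧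
    Nat.card ↥(MulAction.stabilizer Cfsg.Co0 v ⊓ MulAction.stabilizer Cfsg.Co0 w) = 44352000

instance act3 : MulAction ↥K3 ↥(pts3 U0) := actOn K3 _ Co3.K3_inv

/-- the base point -/
def y0 : pts3 U0 := ⟨Y0, Co3.Y0_mem⟩

theorem mem_stab_y0 (g : K3) : g ∈ MulAction.stabilizer K3 y0 ↔ (g : Co0) ∈ KH := by
  rw [MulAction.mem_stabilizer_iff, mem_KH]
  have hu := mem_K3.mp g.2
  constructor
  · intro h
    have h' : ((g • y0 : pts3 U0) : leechLattice) = ((y0 : pts3 U0) : leechLattice) :=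
      congrArg Subtype.val h
    exact ⟨hu, h'⟩
  · rintro ⟨-, h⟩
    apply Subtype.ext
    show (g : Co0) • Y0 = Y0
    exact h

/-- the second vector of the Higman-Sims pair -/
def W0 : leechLattice := -Y0 - U0

theorem Y0_norm : sqNorm (Y0 : Vec) = 32 := Co3.Y0_mem.1
theorem UY_dot : dotInt (U0 : Vec) (Y0 : Vec) = -16 := Co3.Y0_mem.2

theorem W0_facts : sqNorm (W0 : Vec) = 48 ∧ dotInt (U0 : Vec) (W0 : Vec) = -32 := by
  have e : (W0 : Vec) = -((Y0 : Vec) + (U0 : Vec)) := by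
    show ((-Y0 - U0 : leechLattice) : Vec) = _
    rw [AddSubgroup.coe_sub, AddSubgroup.coe_neg]; abel
  have hUU : dotInt (U0 : Vec) (U0 : Vec) = 48 := by rw [← sqNorm_eq_dotInt]; exact U0_norm
  have hYU : dotInt (Y0 : Vec) (U0 : Vec) = -16 := by
    rw [Cfsg.Agent.Lib.Golay.LeechGram.dotInt_comm]; exact UY_dot
  constructor
  · rw [e, M2025.sqNorm_neg, Cfsg.Agent.S0393.sqNorm_add, Y0_norm, U0_norm, hYU]; norm_num
  · rw [e, M2025.dot_neg_right, Cfsg.Agent.Lib.Golay.LeechGram.dotInt_comm, dotInt_add_left, hYU, hUU]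
    norm_num

theorem mem_KH_iff {g : Co0} : g ∈ KH ↔
    g ∈ MulAction.stabilizer Co0 U0 ⊓ MulAction.stabilizer Co0 W0 := by
  rw [mem_KH, Subgroup.mem_inf, MulAction.mem_stabilizer_iff, MulAction.mem_stabilizer_iff]
  constructor
  · rintro ⟨h1, h2⟩
    exact ⟨h1, by rw [W0, McL.co0_sub', co0_neg, h1, h2]⟩
  · rintro ⟨h1, h2⟩
    refine ⟨h1, ?_⟩
    rw [W0, McL.co0_sub', co0_neg, h1] at h2
    exact neg_injective (sub_left_injective h2)

/-- the stabiliser of the base point is the joint stabiliser of a Higman-Sims pair -/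
noncomputable def stabEquiv : MulAction.stabilizer K3 y0 ≃*
    ↥(MulAction.stabilizer Co0 U0 ⊓ MulAction.stabilizer Co0 W0) where
  toFun g := ⟨((g : K3) : Co0), mem_KH_iff.mp ((mem_stab_y0 g.1).mp g.2)⟩
  invFun g := ⟨⟨(g : Co0), mem_K3.mpr (mem_KH.mp (mem_KH_iff.mpr g.2)).1⟩, by
    rw [mem_stab_y0]
    exact mem_KH_iff.mpr g.2⟩
  left_inv g := rfl
  right_inv g := rfl
  map_mul' g h := rfl

section
variable (hHS : HSHyp)

include hHS in
theorem stab_simple : IsSimpleGroup (MulAction.stabilizer K3 y0) := by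
  haveI := (hHS U0 W0 U0_norm W0_facts.1 W0_facts.2).1
  exact (stabEquiv.isSimpleGroup_congr).2 inferInstance

include hHS in
theorem card_stab : Nat.card (MulAction.stabilizer K3 y0) = 44352000 := by
  rw [Nat.card_congr stabEquiv.toEquiv]
  exact (hHS U0 W0 U0_norm W0_facts.1 W0_facts.2).2

end

theorem trans3 (x : pts3 U0) : ∃ g : K3, g • y0 = x := by
  obtain ⟨g, hg, e⟩ := Co3.main0.2 Y0 Co3.Y0_mem x.1 x.2
  exact ⟨⟨g, hg⟩, Subtype.ext e⟩

theorem card3 : Nat.card ↥(pts3 U0) = 11178 := by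
  rw [Nat.card_coe_set_eq, Co3.ncard_pts3 U0 U0_norm]

instance : Finite ↥(pts3 U0) :=
  (Set.finite_of_ncard_ne_zero (by rw [Co3.ncard_pts3 U0 U0_norm]; norm_num)).to_subtype

/-- the classes -/
def cls3 : Fin 4 → Set (pts3 U0) := fun i =>
  {x | (x : leechLattice) ∈ R5.ptsD (![-8, 16, 0, 8] i)}

theorem Y0_dot : dotInt (Y0 : Vec) (Y0 : Vec) = 32 := by
  rw [← sqNorm_eq_dotInt]; exact Y0_norm

theorem max3 (M : Subgroup K3) (hM : MulAction.stabilizer K3 y0 ≤ M) :
    M = MulAction.stabilizer K3 y0 ∨ M = ⊤ := by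
  refine PrimMax.stab_max_of_classes y0 cls3 ![352, 1100, 4125, 5600] 11178 trans3 card3
    ?_ ?_ ?_ ?_ ?_ (by decide) M hM
  · intro x
    rcases R5.cover x.1 x.2 with h | h | h | h | h
    · exact Or.inl (Subtype.ext h)
    · exact Or.inr ⟨0, h⟩
    · exact Or.inr ⟨1, h⟩
    · exact Or.inr ⟨2, h⟩
    · exact Or.inr ⟨3, h⟩
  · intro i h
    have h2 : dotInt (Y0 : Vec) (Y0 : Vec) = ![-8, 16, 0, 8] i := h.2
    rw [Y0_dot] at h2
    fin_cases i <;> simp at h2
  · intro i j hij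
    rw [Set.disjoint_left]
    intro x hx hx'
    have h1 : dotInt (Y0 : Vec) ((x : leechLattice) : Vec) = ![-8, 16, 0, 8] i := hx.2
    have h2 : dotInt (Y0 : Vec) ((x : leechLattice) : Vec) = ![-8, 16, 0, 8] j := hx'.2
    rw [h1] at h2
    fin_cases i <;> fin_cases j <;> simp at h2 hij
  · intro i
    have hsub : ∀ d, R5.ptsD d ⊆ pts3 U0 := fun d y hy => hy.1
    fin_cases i
    · exact (ncard_sub _ (hsub (-8))).trans R5.orbit_m8.1
    · exact (ncard_sub _ (hsub 16)).trans R5.orbit_16.1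
    · exact (ncard_sub _ (hsub 0)).trans R5.orbit_0.1
    · exact (ncard_sub _ (hsub 8)).trans R5.orbit_8.1
  · intro i y hy y' hy'
    have key : ∀ d, (∀ z ∈ R5.ptsD d, ∀ z' ∈ R5.ptsD d, ∃ g ∈ KH, g • z = z') →
        (y : leechLattice) ∈ R5.ptsD d → (y' : leechLattice) ∈ R5.ptsD d →
        ∃ g ∈ MulAction.stabilizer K3 y0, g • y = y' := by
      intro d htr h1 h2
      obtain ⟨g, hg, e⟩ := htr _ h1 _ h2
      obtain ⟨k1, k2⟩ := mem_KH.mp hg
      exact ⟨⟨g, mem_K3.mpr k1⟩, (mem_stab_y0 _).mpr hg, Subtype.ext e⟩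
    fin_cases i
    · exact key (-8) R5.orbit_m8.2.2 hy hy'
    · exact key 16 R5.orbit_16.2.2 hy hy'
    · exact key 0 R5.orbit_0.2.2 hy hy'
    · exact key 8 R5.orbit_8.2.2 hy hy'

section
variable (hHS : HSHyp)

include hHS in
/-- the action on the 11178 points is faithful -/
theorem faithful3 (g : K3) (h : ∀ x : pts3 U0, g • x = x) : g = 1 := by
  let Ker : Subgroup K3 :=
    { carrier := {g | ∀ x : pts3 U0, g • x = x}
      one_mem' := fun x => one_smul _ x
      mul_mem' := fun {a b} ha hb x => by rw [mul_smul, hb x, ha x]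
      inv_mem' := fun {a} ha x => by
        have := ha x
        calc a⁻¹ • x = a⁻¹ • (a • x) := by rw [this]
          _ = x := inv_smul_smul a x }
  have hKerN : Ker.Normal := ⟨fun a ha b x => by
    show (b * a * b⁻¹) • x = x
    rw [mul_smul, mul_smul, ha (b⁻¹ • x), smul_inv_smul]⟩
  have hle : Ker ≤ MulAction.stabilizer K3 y0 := fun a ha => MulAction.mem_stabilizer_iff.mpr (ha y0)
  have hsimp := stab_simple hHS
  have hnorm : (Ker.subgroupOf (MulAction.stabilizer K3 y0)).Normal := inferInstance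
  rcases hsimp.eq_bot_or_eq_top_of_normal _ hnorm with hb | ht
  · have hg : g ∈ Ker := h
    have : (⟨g, hle hg⟩ : MulAction.stabilizer K3 y0) ∈ Ker.subgroupOf (MulAction.stabilizer K3 y0) := by
      rw [Subgroup.mem_subgroupOf]; exact hg
    rw [hb, Subgroup.mem_bot] at this
    exact congrArg (fun z : MulAction.stabilizer K3 y0 => (z : K3)) this
  · exfalso
    have h352 : 1 < (R5.ptsD (-8)).ncard := by rw [R5.orbit_m8.1]; norm_num
    obtain ⟨y, y', hy, hy', hne⟩ :=
      (Set.one_lt_ncard_iff (Set.finite_of_ncard_pos (by omega))).mp h352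
    obtain ⟨k, hk, e⟩ := R5.orbit_m8.2.2 y hy y' hy'
    obtain ⟨k1, k2⟩ := mem_KH.mp hk
    have hkS : (⟨k, mem_K3.mpr k1⟩ : K3) ∈ MulAction.stabilizer K3 y0 := (mem_stab_y0 _).mpr hk
    have : (⟨⟨k, mem_K3.mpr k1⟩, hkS⟩ : MulAction.stabilizer K3 y0) ∈
        Ker.subgroupOf (MulAction.stabilizer K3 y0) := by rw [ht]; trivial
    rw [Subgroup.mem_subgroupOf] at this
    have h2 := this ⟨y, hy.1⟩
    have h3 : k • y = y := congrArg Subtype.val h2
    exact hne (h3.symm.trans e)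

theorem index3 : (MulAction.stabilizer K3 y0).index = 11178 := by
  have : MulAction.IsPretransitive K3 (pts3 U0) := ⟨fun x y => by
    obtain ⟨g, rfl⟩ := trans3 x
    obtain ⟨g', rfl⟩ := trans3 y
    exact ⟨g' * g⁻¹, by rw [mul_smul, inv_smul_smul]⟩⟩
  rw [MulAction.index_stabilizer_of_transitive K3 y0, card3]

include hHS in
theorem card_K3 : Nat.card K3 = 495766656000 := by
  rw [← Subgroup.card_mul_index (MulAction.stabilizer K3 y0), index3, card_stab hHS]

include hHS in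
/-- the standard group is the third Conway group -/
theorem isCo3_std : IsSimpleGroup K3 ∧ Nat.card K3 = 495766656000 := by
  haveI := finite_Co0
  refine ⟨PrimMax.simple_of_no_regular y0 (faithful3 hHS) trans3 (stab_simple hHS) max3 ?_,
    card_K3 hHS⟩
  intro N hN hcard
  rw [index3] at hcard
  exact PrimMax.no_regular_two_odd y0 (faithful3 hHS) trans3 max3 5589 (by decide) (by norm_num)
    (by rw [index3]) N (by rw [hcard])

include hHS in
/-- the general statement -/
theorem isCo3 (v : leechLattice) (hv : sqNorm (v : Vec) = 48) :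
    IsSimpleGroup ↥(MulAction.stabilizer Co0 v) ∧
      Nat.card ↥(MulAction.stabilizer Co0 v) = 495766656000 := by
  obtain ⟨g, hg⟩ := trans6 v U0 hv U0_norm
  have e : ↥(MulAction.stabilizer Co0 v) ≃* K3 :=
    conjEquiv g _ _ (by
      intro k
      rw [MulAction.mem_stabilizer_iff, mem_K3]
      constructor
      · intro h1
        rw [mul_smul, mul_smul, ← hg, inv_smul_smul, h1]
      · intro h1
        rw [← hg, mul_smul, mul_smul, inv_smul_smul] at h1
        exact MulAction.injective g h1)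
  obtain ⟨h1, h2⟩ := isCo3_std hHS
  exact ⟨(e.isSimpleGroup_congr).2 h1, by rw [Nat.card_congr e.toEquiv, h2]⟩

end

end Cfsg.Agent.Lib.Helper27.Co3S
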