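import Cfsg.Agent.Lib.Helper27.SetSys
import Cfsg.Agent.Lib.Helper26.Maximal
import Cfsg.Agent.Lib.Helper26.StabOrbits

set_option autoImplicit false

namespace Cfsg.Agent.Lib.Helper27

open Cfsg Cfsg.Agent.Lib.Helper26
open scoped Pointwise

section
variable {β : Type*} [MulAction (Equiv.Perm GolayPt) β] {C : Type*}
  (K : Subgroup (Equiv.Perm GolayPt)) (D : C → β) (Ω : Set β) (κ : β → ℕ) (cls : List (OrbCls C))

/-- consequences of a decomposition: the class of a member. -/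
theorem class_of
    (hκK : ∀ g ∈ K, ∀ y, κ (g • y) = κ y)
    (hU : ∀ y, y ∈ Ω ↔ ∃ c ∈ cls, y ∈ orbK K (D c.rep))
    (hvalrep : ∀ c ∈ cls, κ (D c.rep) = c.val) {y : β} (hy : y ∈ Ω) :
    ∃ c ∈ cls, y ∈ orbK K (D c.rep) ∧ κ y = c.val := by
  obtain ⟨c, hc, hyc⟩ := (hU y).mp hy
  refine ⟨c, hc, hyc, ?_⟩
  obtain ⟨g, hg, rfl⟩ := hyc
  rw [hκK g hg, hvalrep c hc]

theorem coatom_fiber_eq
    (hκK : ∀ g ∈ K, ∀ y, κ (g • y) = κ y)
    (hU : ∀ y, y ∈ Ω ↔ ∃ c ∈ cls, y ∈ orbK K (D c.rep))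
    (hvalrep : ∀ c ∈ cls, κ (D c.rep) = c.val)
    (hvals : cls.Pairwise (fun c c' => c.val ≠ c'.val)) {c : OrbCls C} (hc : c ∈ cls) :
    {y | y ∈ Ω ∧ κ y = c.val} = orbK K (D c.rep) := by
  ext y
  constructor
  · rintro ⟨hy, hk⟩
    obtain ⟨c', hc', hyc', hk'⟩ := class_of K D Ω κ cls hκK hU hvalrep hy
    have : c' = c := cls_eq_of_val hvals hc' hc (by rw [← hk', hk])
    rw [← this]; exact hyc'
  · intro hy
    refine ⟨(hU y).mpr ⟨c, hc, hy⟩, ?_⟩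
    obtain ⟨g, hg, rfl⟩ := hy
    rw [hκK g hg, hvalrep c hc]

theorem conj_of_same
    (hκK : ∀ g ∈ K, ∀ y, κ (g • y) = κ y)
    (hU : ∀ y, y ∈ Ω ↔ ∃ c ∈ cls, y ∈ orbK K (D c.rep))
    (hvalrep : ∀ c ∈ cls, κ (D c.rep) = c.val)
    (hvals : cls.Pairwise (fun c c' => c.val ≠ c'.val)) {y z : β} (hy : y ∈ Ω) (hz : z ∈ Ω)
    (h : κ y = κ z) : ∃ g ∈ K, g • y = z := by
  obtain ⟨c, hc, hyc, hk⟩ := class_of K D Ω κ cls hκK hU hvalrep hy
  obtain ⟨c', hc', hzc', hk'⟩ := class_of K D Ω κ cls hκK hU hvalrep hz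
  have : c' = c := cls_eq_of_val hvals hc' hc (by rw [← hk', ← hk, h])
  subst this
  obtain ⟨a, ha, rfl⟩ := hyc
  obtain ⟨b, hb, rfl⟩ := hzc'
  exact ⟨b * a⁻¹, K.mul_mem hb (K.inv_mem ha), by rw [mul_smul, inv_smul_smul]⟩

end

/-- maximality of a configuration stabiliser from a certified orbit decomposition with a
separating invariant and a divisibility check. -/
theorem isCoatom_of_decomp (q0 : List ℕ) (Ω : Set (Finset (Finset GolayPt)))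
    (hΩinv : ∀ g ∈ M24, ∀ y, g • y ∈ Ω ↔ y ∈ Ω)
    (htrans : ∀ y ∈ Ω, ∃ g ∈ M24, g • decQ q0 = y)
    (κ : Finset (Finset GolayPt) → ℕ)
    (hκK : ∀ g ∈ stabIn (decQ q0), ∀ y, κ (g • y) = κ y)
    (cls : List (OrbCls (List ℕ)))
    (hE : ∀ c ∈ cls, orbK (stabIn (decQ q0)) (decQ c.rep) = decQ '' {l | l ∈ c.elems} ∧
      (orbK (stabIn (decQ q0)) (decQ c.rep)).ncard = c.elems.length)
    (hU : ∀ y, y ∈ Ω ↔ ∃ c ∈ cls, y ∈ orbK (stabIn (decQ q0)) (decQ c.rep))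
    (hvalrep : ∀ c ∈ cls, κ (decQ c.rep) = c.val)
    (vals : List ℕ) (hvalsEq : cls.map OrbCls.val = vals) (hnd : vals.Nodup)
    (cnt : ℕ → ℕ) (hcnt : ∀ c ∈ cls, cnt c.val = c.elems.length)
    (c0 : OrbCls (List ℕ)) (hc0 : c0 ∈ cls) (hc0e : c0.elems = [q0])
    (hn2 : 2 ≤ vals.length) (N : ℕ) (hN : Ω.ncard = N)
    (hdiv : ∀ S ∈ vals.toFinset.powerset, c0.val ∈ S → (∑ i ∈ S, cnt i) ∣ N →
      S = {c0.val} ∨ S = vals.toFinset) :
    IsCoatom (MulAction.stabilizer ↥M24 (decQ q0)) := by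
  classical
  set K := stabIn (decQ q0) with hKdef
  have hvals : cls.Pairwise (fun c c' => c.val ≠ c'.val) := by
    rw [← hvalsEq] at hnd
    exact List.pairwise_map.mp hnd
  have hx0orb : decQ q0 ∈ orbK K (decQ c0.rep) := by
    rw [(hE c0 hc0).1, hc0e]
    exact ⟨q0, by simp, rfl⟩
  have hx0Ω : decQ q0 ∈ Ω := (hU _).mpr ⟨c0, hc0, hx0orb⟩
  have hκx0 : κ (decQ q0) = c0.val := by
    obtain ⟨g, hg, h⟩ := hx0orb
    rw [← h, hκK g hg, hvalrep c0 hc0]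
  have hmemvals : ∀ i, i ∈ vals.toFinset ↔ ∃ c ∈ cls, c.val = i := by
    intro i
    rw [List.mem_toFinset, ← hvalsEq, List.mem_map]
  let ΩF : Finset (Finset (Finset GolayPt)) := Finset.univ.filter (· ∈ Ω)
  have hmemΩF : ∀ y, y ∈ ΩF ↔ y ∈ Ω := fun y => by simp [ΩF]
  have hfib : ∀ c ∈ cls, (ΩF.filter (fun y => κ y = c.val)).card = cnt c.val := by
    intro c hc
    rw [hcnt c hc, ← (hE c hc).2, ← coatom_fiber_eq K decQ Ω κ cls hκK hU hvalrep hvals hc,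
      ← Set.ncard_coe_finset]
    congr 1
    ext y
    simp [ΩF]
  have hcardΩ : ΩF.card = N := by
    rw [← hN, ← Set.ncard_coe_finset]
    congr 1
    ext y
    simp [ΩF]
  apply isCoatom_stabilizer_of_classes (decQ q0) ΩF ?_ κ vals.toFinset
  · intro y hy
    obtain ⟨c, hc, -, hk⟩ := class_of K decQ Ω κ cls hκK hU hvalrep ((hmemΩF y).mp hy)
    exact (hmemvals _).mpr ⟨c, hc, hk.symm⟩
  · intro y hy z hz hyz
    obtain ⟨g, hg, hgy⟩ := conj_of_same K decQ Ω κ cls hκK hU hvalrep hvals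
      ((hmemΩF y).mp hy) ((hmemΩF z).mp hz) hyz
    obtain ⟨hgM, hgx⟩ := mem_stabIn.mp hg
    exact ⟨⟨g, hgM⟩, MulAction.mem_stabilizer_iff.mpr hgx, hgy⟩
  · intro y hy hk
    rw [hκx0] at hk
    have hyf : y ∈ {y | y ∈ Ω ∧ κ y = c0.val} := ⟨(hmemΩF y).mp hy, hk⟩
    rw [coatom_fiber_eq K decQ Ω κ cls hκK hU hvalrep hvals hc0, (hE c0 hc0).1, hc0e] at hyf
    obtain ⟨l, hl, rfl⟩ := hyf
    simp only [Set.mem_ofPred_eq, List.mem_cons, List.not_mem_nil, or_false] at hl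
    rw [hl]
  · intro i hi
    obtain ⟨c, hc, rfl⟩ := (hmemvals i).mp hi
    refine ⟨decQ c.rep, (hmemΩF _).mpr ((hU _).mpr ⟨c, hc, self_mem_orbK _ _⟩), hvalrep c hc⟩
  · rw [hκx0]
    intro h
    have : vals.toFinset.card = 1 := by rw [h, Finset.card_singleton]
    rw [List.toFinset_card_of_nodup hnd] at this
    omega
  · intro S hS h0 hd
    rw [hκx0] at h0 ⊢
    rw [hcardΩ] at hd
    have : ∑ i ∈ S, (ΩF.filter (fun y => κ y = i)).card = ∑ i ∈ S, cnt i := by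
      apply Finset.sum_congr rfl
      intro i hi
      obtain ⟨c, hc, rfl⟩ := (hmemvals i).mp (hS hi)
      exact hfib c hc
    rw [this] at hd
    exact hdiv S (Finset.mem_powerset.mpr hS) h0 hd
  · intro y
    rw [hmemΩF]
    constructor
    · intro hy
      obtain ⟨g, hg, rfl⟩ := htrans y hy
      exact ⟨⟨g, hg⟩, rfl⟩
    · rintro ⟨g, rfl⟩
      exact (hΩinv g.1 g.2 _).mpr hx0Ω

end Cfsg.Agent.Lib.Helper27
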