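import Cfsg.Agent.Lib.Helper27.DQuart
import Cfsg.Agent.Lib.Helper7.M12Order
import Cfsg.Agent.Lib.Helper93.OrbitStab
import Cfsg.Agent.Lib.Helper86.Ess

set_option autoImplicit false

/-!
The stabiliser of a quartet inside the stabiliser of the base dodecad: complete list of its 432
elements, the normal subgroup of order 9, and the isomorphism of the quotient with `GL(2, 3)`.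
-/

namespace Cfsg.Agent.Lib.Helper27.D1598

open Cfsg Cfsg.Agent.Lib.Helper27 Cfsg.Agent.Lib.Helper26 Cfsg.Agent.Lib.Helper27.DQuart
open scoped Pointwise

set_option maxRecDepth 1000000 in
def HL : List PermData := [⟨[0, 1, 2, 3, 4, 5, 6, 7, 8, 9, 10, 11, 12, 13, 14, 15, 16, 17, 18, 19, 20, 21, 22, 23], [0, 1, 2, 3, 4, 5, 6, 7, 8, 9, 10, 11, 12, 13, 14, 15, 16, 17, 18, 19, 20, 21, 22, 23]⟩,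
  ⟨[0, 1, 2, 3, 4, 11, 23, 7, 13, 17, 10, 5, 12, 8, 22, 18, 20, 9, 15, 21, 16, 19, 14, 6], [0, 1, 2, 3, 4, 11, 23, 7, 13, 17, 10, 5, 12, 8, 22, 18, 20, 9, 15, 21, 16, 19, 14, 6]⟩,
  ⟨[0, 1, 2, 3, 5, 4, 6, 17, 13, 9, 23, 11, 14, 8, 12, 20, 21, 7, 19, 18, 15, 16, 22, 10], [0, 1, 2, 3, 5, 4, 6, 17, 13, 9, 23, 11, 14, 8, 12, 20, 21, 7, 19, 18, 15, 16, 22, 10]⟩,
  ⟨[0, 1, 2, 3, 5, 11, 10, 17, 8, 7, 23, 4, 14, 13, 22, 19, 15, 9, 20, 16, 21, 18, 12, 6], [0, 1, 2, 3, 11, 4, 23, 9, 8, 17, 6, 5, 22, 13, 12, 16, 19, 7, 21, 15, 18, 20, 14, 10]⟩,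
  ⟨[0, 1, 2, 3, 11, 4, 23, 9, 8, 17, 6, 5, 22, 13, 12, 16, 19, 7, 21, 15, 18, 20, 14, 10], [0, 1, 2, 3, 5, 11, 10, 17, 8, 7, 23, 4, 14, 13, 22, 19, 15, 9, 20, 16, 21, 18, 12, 6]⟩,
  ⟨[0, 1, 2, 3, 11, 5, 10, 9, 13, 7, 6, 4, 22, 8, 14, 21, 18, 17, 16, 20, 19, 15, 12, 23], [0, 1, 2, 3, 11, 5, 10, 9, 13, 7, 6, 4, 22, 8, 14, 21, 18, 17, 16, 20, 19, 15, 12, 23]⟩,
  ⟨[0, 4, 3, 2, 1, 8, 6, 7, 5, 17, 10, 13, 12, 11, 21, 15, 20, 9, 18, 22, 16, 14, 19, 23], [0, 4, 3, 2, 1, 8, 6, 7, 5, 17, 10, 13, 12, 11, 21, 15, 20, 9, 18, 22, 16, 14, 19, 23]⟩,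
  ⟨[0, 4, 3, 2, 1, 13, 23, 7, 11, 9, 10, 8, 12, 5, 19, 18, 16, 17, 15, 14, 20, 22, 21, 6], [0, 4, 3, 2, 1, 13, 23, 7, 11, 9, 10, 8, 12, 5, 19, 18, 16, 17, 15, 14, 20, 22, 21, 6]⟩,
  ⟨[0, 4, 3, 2, 8, 1, 6, 9, 11, 17, 23, 13, 21, 5, 12, 16, 14, 7, 22, 18, 15, 20, 19, 10], [0, 5, 3, 2, 1, 13, 6, 17, 4, 7, 23, 8, 14, 11, 16, 20, 15, 9, 19, 22, 21, 12, 18, 10]⟩,
  ⟨[0, 4, 3, 2, 8, 13, 10, 9, 5, 7, 23, 1, 21, 11, 19, 22, 15, 17, 16, 20, 14, 18, 12, 6], [0, 11, 3, 2, 1, 8, 23, 9, 4, 7, 6, 13, 22, 5, 20, 16, 18, 17, 21, 14, 19, 12, 15, 10]⟩,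
  ⟨[0, 4, 3, 2, 13, 1, 23, 17, 5, 9, 6, 8, 19, 11, 12, 20, 22, 7, 14, 15, 18, 16, 21, 10], [0, 5, 3, 2, 1, 8, 10, 17, 11, 9, 23, 13, 14, 4, 18, 19, 21, 7, 20, 12, 15, 22, 16, 6]⟩,
  ⟨[0, 4, 3, 2, 13, 8, 10, 17, 11, 7, 6, 1, 19, 5, 21, 14, 18, 9, 20, 16, 22, 15, 12, 23], [0, 11, 3, 2, 1, 13, 10, 9, 5, 17, 6, 8, 22, 4, 15, 21, 19, 7, 16, 12, 18, 14, 20, 23]⟩,
  ⟨[0, 5, 3, 2, 1, 8, 10, 17, 11, 9, 23, 13, 14, 4, 18, 19, 21, 7, 20, 12, 15, 22, 16, 6], [0, 4, 3, 2, 13, 1, 23, 17, 5, 9, 6, 8, 19, 11, 12, 20, 22, 7, 14, 15, 18, 16, 21, 10]⟩,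
  ⟨[0, 5, 3, 2, 1, 13, 6, 17, 4, 7, 23, 8, 14, 11, 16, 20, 15, 9, 19, 22, 21, 12, 18, 10], [0, 4, 3, 2, 8, 1, 6, 9, 11, 17, 23, 13, 21, 5, 12, 16, 14, 7, 22, 18, 15, 20, 19, 10]⟩,
  ⟨[0, 5, 3, 2, 8, 1, 10, 7, 4, 9, 6, 13, 18, 11, 14, 15, 22, 17, 12, 20, 19, 21, 16, 23], [0, 5, 3, 2, 8, 1, 10, 7, 4, 9, 6, 13, 18, 11, 14, 15, 22, 17, 12, 20, 19, 21, 16, 23]⟩,
  ⟨[0, 5, 3, 2, 8, 13, 23, 7, 11, 17, 6, 1, 18, 4, 16, 12, 19, 9, 15, 21, 22, 20, 14, 10], [0, 11, 3, 2, 13, 1, 10, 7, 4, 17, 23, 8, 15, 5, 22, 18, 14, 9, 12, 16, 21, 19, 20, 6]⟩,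
  ⟨[0, 5, 3, 2, 13, 1, 6, 9, 11, 7, 10, 8, 16, 4, 14, 21, 12, 17, 22, 19, 20, 15, 18, 23], [0, 5, 3, 2, 13, 1, 6, 9, 11, 7, 10, 8, 16, 4, 14, 21, 12, 17, 22, 19, 20, 15, 18, 23]⟩,
  ⟨[0, 5, 3, 2, 13, 8, 23, 9, 4, 17, 10, 1, 16, 11, 18, 22, 20, 7, 21, 15, 12, 19, 14, 6], [0, 11, 3, 2, 8, 1, 23, 17, 5, 7, 10, 13, 20, 4, 22, 19, 12, 9, 14, 21, 16, 18, 15, 6]⟩,
  ⟨[0, 8, 2, 3, 4, 5, 10, 9, 13, 17, 23, 11, 21, 1, 18, 22, 14, 7, 16, 12, 15, 19, 20, 6], [0, 13, 2, 3, 4, 5, 23, 17, 1, 7, 6, 11, 19, 8, 16, 20, 18, 9, 14, 21, 22, 12, 15, 10]⟩,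
  ⟨[0, 8, 2, 3, 4, 11, 6, 9, 1, 7, 23, 5, 21, 13, 20, 16, 15, 17, 22, 19, 14, 12, 18, 10], [0, 8, 2, 3, 4, 11, 6, 9, 1, 7, 23, 5, 21, 13, 20, 16, 15, 17, 22, 19, 14, 12, 18, 10]⟩,
  ⟨[0, 8, 2, 3, 5, 4, 10, 7, 1, 17, 6, 11, 18, 13, 21, 15, 19, 9, 12, 16, 22, 14, 20, 23], [0, 8, 2, 3, 5, 4, 10, 7, 1, 17, 6, 11, 18, 13, 21, 15, 19, 9, 12, 16, 22, 14, 20, 23]⟩,
  ⟨[0, 8, 2, 3, 5, 11, 23, 7, 13, 9, 6, 4, 18, 1, 20, 12, 22, 17, 15, 14, 19, 16, 21, 10], [0, 13, 2, 3, 11, 4, 10, 7, 1, 9, 23, 5, 15, 8, 19, 18, 21, 17, 12, 20, 14, 22, 16, 6]⟩,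
  ⟨[0, 8, 2, 3, 11, 4, 6, 17, 13, 7, 10, 5, 20, 1, 21, 14, 12, 9, 19, 22, 16, 15, 18, 23], [0, 13, 2, 3, 5, 11, 6, 9, 1, 17, 10, 4, 16, 8, 15, 21, 20, 7, 22, 18, 12, 14, 19, 23]⟩,
  ⟨[0, 8, 2, 3, 11, 5, 23, 17, 1, 9, 10, 4, 20, 13, 18, 19, 16, 7, 14, 15, 12, 22, 21, 6], [0, 8, 2, 3, 11, 5, 23, 17, 1, 9, 10, 4, 20, 13, 18, 19, 16, 7, 14, 15, 12, 22, 21, 6]⟩,
  ⟨[0, 11, 3, 2, 1, 8, 23, 9, 4, 7, 6, 13, 22, 5, 20, 16, 18, 17, 21, 14, 19, 12, 15, 10], [0, 4, 3, 2, 8, 13, 10, 9, 5, 7, 23, 1, 21, 11, 19, 22, 15, 17, 16, 20, 14, 18, 12, 6]⟩,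
  ⟨[0, 11, 3, 2, 1, 13, 10, 9, 5, 17, 6, 8, 22, 4, 15, 21, 19, 7, 16, 12, 18, 14, 20, 23], [0, 4, 3, 2, 13, 8, 10, 17, 11, 7, 6, 1, 19, 5, 21, 14, 18, 9, 20, 16, 22, 15, 12, 23]⟩,
  ⟨[0, 11, 3, 2, 8, 1, 23, 17, 5, 7, 10, 13, 20, 4, 22, 19, 12, 9, 14, 21, 16, 18, 15, 6], [0, 5, 3, 2, 13, 8, 23, 9, 4, 17, 10, 1, 16, 11, 18, 22, 20, 7, 21, 15, 12, 19, 14, 6]⟩,
  ⟨[0, 11, 3, 2, 8, 13, 6, 17, 4, 9, 10, 1, 20, 5, 15, 14, 16, 7, 19, 18, 12, 21, 22, 23], [0, 11, 3, 2, 8, 13, 6, 17, 4, 9, 10, 1, 20, 5, 15, 14, 16, 7, 19, 18, 12, 21, 22, 23]⟩,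
  ⟨[0, 11, 3, 2, 13, 1, 10, 7, 4, 17, 23, 8, 15, 5, 22, 18, 14, 9, 12, 16, 21, 19, 20, 6], [0, 5, 3, 2, 8, 13, 23, 7, 11, 17, 6, 1, 18, 4, 16, 12, 19, 9, 15, 21, 22, 20, 14, 10]⟩,
  ⟨[0, 11, 3, 2, 13, 8, 6, 7, 5, 9, 23, 1, 15, 4, 20, 12, 21, 17, 18, 19, 14, 16, 22, 10], [0, 11, 3, 2, 13, 8, 6, 7, 5, 9, 23, 1, 15, 4, 20, 12, 21, 17, 18, 19, 14, 16, 22, 10]⟩,
  ⟨[0, 13, 2, 3, 4, 5, 23, 17, 1, 7, 6, 11, 19, 8, 16, 20, 18, 9, 14, 21, 22, 12, 15, 10], [0, 8, 2, 3, 4, 5, 10, 9, 13, 17, 23, 11, 21, 1, 18, 22, 14, 7, 16, 12, 15, 19, 20, 6]⟩,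
  ⟨[0, 13, 2, 3, 4, 11, 10, 17, 8, 9, 6, 5, 19, 1, 15, 14, 22, 7, 20, 12, 18, 21, 16, 23], [0, 13, 2, 3, 4, 11, 10, 17, 8, 9, 6, 5, 19, 1, 15, 14, 22, 7, 20, 12, 18, 21, 16, 23]⟩,
  ⟨[0, 13, 2, 3, 5, 4, 23, 9, 8, 7, 10, 11, 16, 1, 19, 22, 12, 17, 21, 14, 20, 18, 15, 6], [0, 13, 2, 3, 5, 4, 23, 9, 8, 7, 10, 11, 16, 1, 19, 22, 12, 17, 21, 14, 20, 18, 15, 6]⟩,
  ⟨[0, 13, 2, 3, 5, 11, 6, 9, 1, 17, 10, 4, 16, 8, 15, 21, 20, 7, 22, 18, 12, 14, 19, 23], [0, 8, 2, 3, 11, 4, 6, 17, 13, 7, 10, 5, 20, 1, 21, 14, 12, 9, 19, 22, 16, 15, 18, 23]⟩,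
  ⟨[0, 13, 2, 3, 11, 4, 10, 7, 1, 9, 23, 5, 15, 8, 19, 18, 21, 17, 12, 20, 14, 22, 16, 6], [0, 8, 2, 3, 5, 11, 23, 7, 13, 9, 6, 4, 18, 1, 20, 12, 22, 17, 15, 14, 19, 16, 21, 10]⟩,
  ⟨[0, 13, 2, 3, 11, 5, 6, 7, 8, 17, 23, 4, 15, 1, 16, 12, 14, 9, 18, 22, 21, 20, 19, 10], [0, 13, 2, 3, 11, 5, 6, 7, 8, 17, 23, 4, 15, 1, 16, 12, 14, 9, 18, 22, 21, 20, 19, 10]⟩,
  ⟨[2, 1, 0, 3, 6, 10, 5, 9, 13, 17, 11, 23, 22, 8, 12, 21, 20, 7, 16, 18, 15, 19, 14, 4], [2, 1, 0, 3, 23, 6, 4, 17, 13, 7, 5, 10, 14, 8, 22, 20, 18, 9, 19, 21, 16, 15, 12, 11]⟩,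
  ⟨[2, 1, 0, 3, 6, 23, 4, 9, 8, 7, 11, 10, 22, 13, 14, 16, 15, 17, 21, 19, 20, 18, 12, 5], [2, 1, 0, 3, 6, 23, 4, 9, 8, 7, 11, 10, 22, 13, 14, 16, 15, 17, 21, 19, 20, 18, 12, 5]⟩,
  ⟨[2, 1, 0, 3, 10, 6, 5, 7, 8, 17, 4, 23, 12, 13, 22, 15, 19, 9, 18, 16, 21, 20, 14, 11], [2, 1, 0, 3, 10, 6, 5, 7, 8, 17, 4, 23, 12, 13, 22, 15, 19, 9, 18, 16, 21, 20, 14, 11]⟩,
  ⟨[2, 1, 0, 3, 10, 23, 11, 7, 13, 9, 4, 6, 12, 8, 14, 18, 21, 17, 15, 20, 19, 16, 22, 5], [2, 1, 0, 3, 10, 23, 11, 7, 13, 9, 4, 6, 12, 8, 14, 18, 21, 17, 15, 20, 19, 16, 22, 5]⟩,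
  ⟨[2, 1, 0, 3, 23, 6, 4, 17, 13, 7, 5, 10, 14, 8, 22, 20, 18, 9, 19, 21, 16, 15, 12, 11], [2, 1, 0, 3, 6, 10, 5, 9, 13, 17, 11, 23, 22, 8, 12, 21, 20, 7, 16, 18, 15, 19, 14, 4]⟩,
  ⟨[2, 1, 0, 3, 23, 10, 11, 17, 8, 9, 5, 6, 14, 13, 12, 19, 16, 7, 20, 15, 18, 21, 22, 4], [2, 1, 0, 3, 23, 10, 11, 17, 8, 9, 5, 6, 14, 13, 12, 19, 16, 7, 20, 15, 18, 21, 22, 4]⟩,
  ⟨[2, 6, 3, 0, 1, 8, 4, 9, 23, 17, 11, 13, 22, 10, 18, 16, 20, 7, 21, 12, 15, 14, 19, 5], [3, 4, 0, 2, 6, 23, 1, 17, 5, 7, 13, 10, 19, 11, 21, 20, 15, 9, 14, 22, 16, 18, 12, 8]⟩,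
  ⟨[2, 6, 3, 0, 1, 13, 5, 9, 10, 7, 11, 8, 22, 23, 19, 21, 15, 17, 16, 14, 20, 12, 18, 4], [3, 4, 0, 2, 23, 6, 1, 9, 11, 7, 8, 10, 21, 5, 19, 16, 18, 17, 22, 14, 20, 15, 12, 13]⟩,
  ⟨[2, 6, 3, 0, 8, 1, 4, 7, 10, 17, 5, 13, 18, 23, 22, 15, 14, 9, 12, 21, 16, 20, 19, 11], [3, 5, 0, 2, 6, 10, 1, 7, 4, 17, 8, 23, 18, 11, 16, 15, 20, 9, 12, 22, 21, 19, 14, 13]⟩,
  ⟨[2, 6, 3, 0, 8, 13, 11, 7, 23, 9, 5, 1, 18, 10, 19, 12, 16, 17, 15, 20, 14, 21, 22, 4], [3, 11, 0, 2, 23, 10, 1, 7, 4, 9, 13, 6, 15, 5, 20, 18, 16, 17, 12, 14, 19, 21, 22, 8]⟩,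
  ⟨[2, 6, 3, 0, 13, 1, 5, 17, 23, 7, 4, 8, 19, 10, 22, 20, 12, 9, 14, 16, 21, 15, 18, 11], [3, 5, 0, 2, 10, 6, 1, 9, 11, 17, 13, 23, 16, 4, 18, 21, 19, 7, 22, 12, 15, 20, 14, 8]⟩,
  ⟨[2, 6, 3, 0, 13, 8, 11, 17, 10, 9, 4, 1, 19, 23, 18, 14, 21, 7, 20, 15, 12, 16, 22, 5], [3, 11, 0, 2, 10, 23, 1, 17, 5, 9, 8, 6, 20, 4, 15, 19, 21, 7, 14, 12, 18, 16, 22, 13]⟩,
  ⟨[2, 8, 0, 3, 6, 10, 4, 7, 1, 9, 5, 23, 18, 13, 20, 15, 16, 17, 12, 19, 14, 22, 21, 11], [2, 8, 0, 3, 6, 10, 4, 7, 1, 9, 5, 23, 18, 13, 20, 15, 16, 17, 12, 19, 14, 22, 21, 11]⟩,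
  ⟨[2, 8, 0, 3, 6, 23, 11, 7, 13, 17, 5, 10, 18, 1, 21, 12, 14, 9, 15, 22, 16, 19, 20, 4], [2, 13, 0, 3, 23, 10, 4, 7, 1, 17, 11, 6, 15, 8, 16, 18, 20, 9, 12, 21, 22, 14, 19, 5]⟩,
  ⟨[2, 8, 0, 3, 10, 6, 4, 17, 13, 9, 11, 23, 20, 1, 18, 14, 22, 7, 19, 12, 15, 16, 21, 5], [2, 13, 0, 3, 6, 23, 5, 17, 1, 9, 4, 10, 19, 8, 15, 20, 21, 7, 14, 18, 12, 22, 16, 11]⟩,
  ⟨[2, 8, 0, 3, 10, 23, 5, 17, 1, 7, 11, 6, 20, 13, 21, 19, 15, 9, 14, 16, 22, 12, 18, 4], [2, 8, 0, 3, 23, 6, 11, 9, 1, 17, 4, 10, 21, 13, 18, 16, 19, 7, 22, 15, 12, 14, 20, 5]⟩,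
  ⟨[2, 8, 0, 3, 23, 6, 11, 9, 1, 17, 4, 10, 21, 13, 18, 16, 19, 7, 22, 15, 12, 14, 20, 5], [2, 8, 0, 3, 10, 23, 5, 17, 1, 7, 11, 6, 20, 13, 21, 19, 15, 9, 14, 16, 22, 12, 18, 4]⟩,
  ⟨[2, 8, 0, 3, 23, 10, 5, 9, 13, 7, 4, 6, 21, 1, 20, 22, 12, 17, 16, 14, 19, 15, 18, 11], [2, 13, 0, 3, 10, 6, 11, 9, 1, 7, 5, 23, 16, 8, 19, 21, 18, 17, 22, 20, 14, 12, 15, 4]⟩,
  ⟨[2, 10, 3, 0, 1, 8, 5, 7, 6, 9, 4, 13, 12, 23, 20, 15, 21, 17, 18, 14, 19, 22, 16, 11], [3, 4, 0, 2, 10, 6, 8, 7, 5, 9, 1, 23, 12, 11, 19, 15, 22, 17, 18, 20, 14, 16, 21, 13]⟩,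
  ⟨[2, 10, 3, 0, 1, 13, 11, 7, 23, 17, 4, 8, 12, 6, 16, 18, 19, 9, 15, 22, 21, 14, 20, 5], [3, 4, 0, 2, 10, 23, 13, 7, 11, 17, 1, 6, 12, 5, 21, 18, 14, 9, 15, 16, 22, 20, 19, 8]⟩,
  ⟨[2, 10, 3, 0, 8, 1, 5, 17, 23, 9, 11, 13, 20, 6, 12, 19, 22, 7, 14, 18, 15, 21, 16, 4], [3, 5, 0, 2, 23, 6, 13, 17, 4, 9, 1, 10, 14, 11, 18, 20, 22, 7, 19, 15, 12, 21, 16, 8]⟩,
  ⟨[2, 10, 3, 0, 8, 13, 4, 17, 6, 7, 11, 1, 20, 23, 16, 14, 15, 9, 19, 21, 22, 18, 12, 5], [3, 11, 0, 2, 6, 23, 8, 9, 4, 17, 1, 10, 22, 5, 15, 16, 14, 7, 21, 18, 12, 19, 20, 13]⟩,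
  ⟨[2, 10, 3, 0, 13, 1, 11, 9, 6, 17, 5, 8, 16, 23, 12, 21, 14, 7, 22, 15, 18, 19, 20, 4], [3, 5, 0, 2, 23, 10, 8, 17, 11, 7, 1, 6, 14, 4, 16, 19, 12, 9, 20, 21, 22, 15, 18, 13]⟩,
  ⟨[2, 10, 3, 0, 13, 8, 4, 9, 23, 7, 5, 1, 16, 6, 20, 22, 18, 17, 21, 19, 14, 15, 12, 11], [3, 11, 0, 2, 6, 10, 13, 9, 5, 7, 1, 23, 22, 4, 20, 21, 12, 17, 16, 19, 14, 18, 15, 8]⟩,
  ⟨[2, 13, 0, 3, 6, 10, 11, 17, 8, 7, 4, 23, 19, 1, 16, 14, 12, 9, 20, 22, 21, 18, 15, 5], [2, 13, 0, 3, 10, 23, 4, 9, 8, 17, 5, 6, 16, 1, 15, 22, 14, 7, 21, 12, 18, 20, 19, 11]⟩,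
  ⟨[2, 13, 0, 3, 6, 23, 5, 17, 1, 9, 4, 10, 19, 8, 15, 20, 21, 7, 14, 18, 12, 22, 16, 11], [2, 8, 0, 3, 10, 6, 4, 17, 13, 9, 11, 23, 20, 1, 18, 14, 22, 7, 19, 12, 15, 16, 21, 5]⟩,
  ⟨[2, 13, 0, 3, 10, 6, 11, 9, 1, 7, 5, 23, 16, 8, 19, 21, 18, 17, 22, 20, 14, 12, 15, 4], [2, 8, 0, 3, 23, 10, 5, 9, 13, 7, 4, 6, 21, 1, 20, 22, 12, 17, 16, 14, 19, 15, 18, 11]⟩,
  ⟨[2, 13, 0, 3, 10, 23, 4, 9, 8, 17, 5, 6, 16, 1, 15, 22, 14, 7, 21, 12, 18, 20, 19, 11], [2, 13, 0, 3, 6, 10, 11, 17, 8, 7, 4, 23, 19, 1, 16, 14, 12, 9, 20, 22, 21, 18, 15, 5]⟩,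
  ⟨[2, 13, 0, 3, 23, 6, 5, 7, 8, 9, 11, 10, 15, 1, 19, 12, 22, 17, 18, 14, 20, 21, 16, 4], [2, 13, 0, 3, 23, 6, 5, 7, 8, 9, 11, 10, 15, 1, 19, 12, 22, 17, 18, 14, 20, 21, 16, 4]⟩,
  ⟨[2, 13, 0, 3, 23, 10, 4, 7, 1, 17, 11, 6, 15, 8, 16, 18, 20, 9, 12, 21, 22, 14, 19, 5], [2, 8, 0, 3, 6, 23, 11, 7, 13, 17, 5, 10, 18, 1, 21, 12, 14, 9, 15, 22, 16, 19, 20, 4]⟩,
  ⟨[2, 23, 3, 0, 1, 8, 11, 17, 10, 7, 5, 13, 14, 6, 21, 19, 18, 9, 20, 22, 16, 12, 15, 4], [3, 4, 0, 2, 23, 10, 13, 9, 5, 17, 8, 6, 21, 11, 12, 22, 20, 7, 16, 15, 18, 14, 19, 1]⟩,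
  ⟨[2, 23, 3, 0, 1, 13, 4, 17, 6, 9, 5, 8, 14, 10, 15, 20, 16, 7, 19, 12, 18, 22, 21, 11], [3, 4, 0, 2, 6, 10, 8, 17, 11, 9, 13, 23, 19, 5, 12, 14, 16, 7, 20, 18, 15, 22, 21, 1]⟩,
  ⟨[2, 23, 3, 0, 8, 1, 11, 9, 6, 7, 4, 13, 21, 10, 14, 16, 12, 17, 22, 20, 19, 18, 15, 5], [3, 5, 0, 2, 10, 23, 8, 9, 4, 7, 13, 6, 16, 11, 14, 22, 15, 17, 21, 20, 19, 12, 18, 1]⟩,
  ⟨[2, 23, 3, 0, 8, 13, 5, 9, 10, 17, 4, 1, 21, 6, 15, 22, 19, 7, 16, 18, 12, 20, 14, 11], [3, 11, 0, 2, 10, 6, 13, 17, 4, 7, 8, 23, 20, 5, 22, 14, 18, 9, 19, 16, 21, 12, 15, 1]⟩,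
  ⟨[2, 23, 3, 0, 13, 1, 4, 7, 10, 9, 11, 8, 15, 6, 14, 18, 22, 17, 12, 19, 20, 16, 21, 5], [3, 5, 0, 2, 6, 23, 13, 7, 11, 9, 8, 10, 18, 4, 14, 12, 21, 17, 15, 19, 20, 22, 16, 1]⟩,
  ⟨[2, 23, 3, 0, 13, 8, 5, 7, 6, 17, 11, 1, 15, 10, 21, 12, 20, 9, 18, 16, 22, 19, 14, 4], [3, 11, 0, 2, 23, 6, 8, 7, 5, 17, 13, 10, 15, 4, 22, 12, 19, 9, 18, 21, 16, 14, 20, 1]⟩,
  ⟨[3, 4, 0, 2, 6, 10, 8, 17, 11, 9, 13, 23, 19, 5, 12, 14, 16, 7, 20, 18, 15, 22, 21, 1], [2, 23, 3, 0, 1, 13, 4, 17, 6, 9, 5, 8, 14, 10, 15, 20, 16, 7, 19, 12, 18, 22, 21, 11]⟩,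
  ⟨[3, 4, 0, 2, 6, 23, 1, 17, 5, 7, 13, 10, 19, 11, 21, 20, 15, 9, 14, 22, 16, 18, 12, 8], [2, 6, 3, 0, 1, 8, 4, 9, 23, 17, 11, 13, 22, 10, 18, 16, 20, 7, 21, 12, 15, 14, 19, 5]⟩,
  ⟨[3, 4, 0, 2, 10, 6, 8, 7, 5, 9, 1, 23, 12, 11, 19, 15, 22, 17, 18, 20, 14, 16, 21, 13], [2, 10, 3, 0, 1, 8, 5, 7, 6, 9, 4, 13, 12, 23, 20, 15, 21, 17, 18, 14, 19, 22, 16, 11]⟩,
  ⟨[3, 4, 0, 2, 10, 23, 13, 7, 11, 17, 1, 6, 12, 5, 21, 18, 14, 9, 15, 16, 22, 20, 19, 8], [2, 10, 3, 0, 1, 13, 11, 7, 23, 17, 4, 8, 12, 6, 16, 18, 19, 9, 15, 22, 21, 14, 20, 5]⟩,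
  ⟨[3, 4, 0, 2, 23, 6, 1, 9, 11, 7, 8, 10, 21, 5, 19, 16, 18, 17, 22, 14, 20, 15, 12, 13], [2, 6, 3, 0, 1, 13, 5, 9, 10, 7, 11, 8, 22, 23, 19, 21, 15, 17, 16, 14, 20, 12, 18, 4]⟩,
  ⟨[3, 4, 0, 2, 23, 10, 13, 9, 5, 17, 8, 6, 21, 11, 12, 22, 20, 7, 16, 15, 18, 14, 19, 1], [2, 23, 3, 0, 1, 8, 11, 17, 10, 7, 5, 13, 14, 6, 21, 19, 18, 9, 20, 22, 16, 12, 15, 4]⟩,
  ⟨[3, 5, 0, 2, 6, 10, 1, 7, 4, 17, 8, 23, 18, 11, 16, 15, 20, 9, 12, 22, 21, 19, 14, 13], [2, 6, 3, 0, 8, 1, 4, 7, 10, 17, 5, 13, 18, 23, 22, 15, 14, 9, 12, 21, 16, 20, 19, 11]⟩,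
  ⟨[3, 5, 0, 2, 6, 23, 13, 7, 11, 9, 8, 10, 18, 4, 14, 12, 21, 17, 15, 19, 20, 22, 16, 1], [2, 23, 3, 0, 13, 1, 4, 7, 10, 9, 11, 8, 15, 6, 14, 18, 22, 17, 12, 19, 20, 16, 21, 5]⟩,
  ⟨[3, 5, 0, 2, 10, 6, 1, 9, 11, 17, 13, 23, 16, 4, 18, 21, 19, 7, 22, 12, 15, 20, 14, 8], [2, 6, 3, 0, 13, 1, 5, 17, 23, 7, 4, 8, 19, 10, 22, 20, 12, 9, 14, 16, 21, 15, 18, 11]⟩,
  ⟨[3, 5, 0, 2, 10, 23, 8, 9, 4, 7, 13, 6, 16, 11, 14, 22, 15, 17, 21, 20, 19, 12, 18, 1], [2, 23, 3, 0, 8, 1, 11, 9, 6, 7, 4, 13, 21, 10, 14, 16, 12, 17, 22, 20, 19, 18, 15, 5]⟩,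
  ⟨[3, 5, 0, 2, 23, 6, 13, 17, 4, 9, 1, 10, 14, 11, 18, 20, 22, 7, 19, 15, 12, 21, 16, 8], [2, 10, 3, 0, 8, 1, 5, 17, 23, 9, 11, 13, 20, 6, 12, 19, 22, 7, 14, 18, 15, 21, 16, 4]⟩,
  ⟨[3, 5, 0, 2, 23, 10, 8, 17, 11, 7, 1, 6, 14, 4, 16, 19, 12, 9, 20, 21, 22, 15, 18, 13], [2, 10, 3, 0, 13, 1, 11, 9, 6, 17, 5, 8, 16, 23, 12, 21, 14, 7, 22, 15, 18, 19, 20, 4]⟩,
  ⟨[3, 6, 2, 0, 4, 5, 1, 17, 23, 9, 13, 11, 19, 10, 18, 20, 16, 7, 14, 12, 15, 21, 22, 8], [3, 6, 2, 0, 4, 5, 1, 17, 23, 9, 13, 11, 19, 10, 18, 20, 16, 7, 14, 12, 15, 21, 22, 8]⟩,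
  ⟨[3, 6, 2, 0, 4, 11, 8, 17, 10, 7, 13, 5, 19, 23, 22, 14, 15, 9, 20, 21, 16, 12, 18, 1], [3, 23, 2, 0, 4, 11, 1, 9, 6, 17, 8, 5, 21, 10, 15, 16, 20, 7, 22, 12, 18, 19, 14, 13]⟩,
  ⟨[3, 6, 2, 0, 5, 4, 1, 7, 10, 9, 8, 11, 18, 23, 19, 15, 21, 17, 12, 14, 20, 16, 22, 13], [3, 6, 2, 0, 5, 4, 1, 7, 10, 9, 8, 11, 18, 23, 19, 15, 21, 17, 12, 14, 20, 16, 22, 13]⟩,
  ⟨[3, 6, 2, 0, 5, 11, 13, 7, 23, 17, 8, 4, 18, 10, 22, 12, 20, 9, 15, 16, 21, 14, 19, 1], [3, 23, 2, 0, 11, 4, 1, 7, 10, 17, 13, 5, 15, 6, 21, 18, 19, 9, 12, 22, 16, 20, 14, 8]⟩,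
  ⟨[3, 6, 2, 0, 11, 4, 8, 9, 23, 7, 1, 5, 22, 10, 19, 16, 12, 17, 21, 20, 14, 15, 18, 13], [3, 10, 2, 0, 5, 11, 1, 9, 6, 7, 13, 4, 16, 23, 20, 21, 15, 17, 22, 14, 19, 18, 12, 8]⟩,
  ⟨[3, 6, 2, 0, 11, 5, 13, 9, 10, 17, 1, 4, 22, 23, 18, 21, 14, 7, 16, 15, 12, 20, 19, 8], [3, 10, 2, 0, 11, 5, 1, 17, 23, 7, 8, 4, 20, 6, 16, 19, 18, 9, 14, 22, 21, 15, 12, 13]⟩,
  ⟨[3, 10, 2, 0, 4, 5, 8, 7, 6, 17, 1, 11, 12, 23, 16, 15, 14, 9, 18, 21, 22, 19, 20, 13], [3, 10, 2, 0, 4, 5, 8, 7, 6, 17, 1, 11, 12, 23, 16, 15, 14, 9, 18, 21, 22, 19, 20, 13]⟩,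
  ⟨[3, 10, 2, 0, 4, 11, 13, 7, 23, 9, 1, 5, 12, 6, 20, 18, 22, 17, 15, 19, 14, 21, 16, 8], [3, 10, 2, 0, 4, 11, 13, 7, 23, 9, 1, 5, 12, 6, 20, 18, 22, 17, 15, 19, 14, 21, 16, 8]⟩,
  ⟨[3, 10, 2, 0, 5, 4, 8, 9, 23, 17, 13, 11, 16, 6, 12, 22, 19, 7, 21, 18, 15, 14, 20, 1], [3, 23, 2, 0, 5, 4, 13, 17, 6, 7, 1, 11, 14, 10, 21, 20, 12, 9, 19, 16, 22, 18, 15, 8]⟩,
  ⟨[3, 10, 2, 0, 5, 11, 1, 9, 6, 7, 13, 4, 16, 23, 20, 21, 15, 17, 22, 14, 19, 18, 12, 8], [3, 6, 2, 0, 11, 4, 8, 9, 23, 7, 1, 5, 22, 10, 19, 16, 12, 17, 21, 20, 14, 15, 18, 13]⟩,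
  ⟨[3, 10, 2, 0, 11, 4, 13, 17, 6, 9, 8, 5, 20, 23, 12, 14, 21, 7, 19, 15, 18, 22, 16, 1], [3, 23, 2, 0, 5, 11, 8, 17, 10, 9, 1, 4, 14, 6, 15, 19, 22, 7, 20, 18, 12, 16, 21, 13]⟩,
  ⟨[3, 10, 2, 0, 11, 5, 1, 17, 23, 7, 8, 4, 20, 6, 16, 19, 18, 9, 14, 22, 21, 15, 12, 13], [3, 6, 2, 0, 11, 5, 13, 9, 10, 17, 1, 4, 22, 23, 18, 21, 14, 7, 16, 15, 12, 20, 19, 8]⟩,
  ⟨[3, 11, 0, 2, 6, 10, 13, 9, 5, 7, 1, 23, 22, 4, 20, 21, 12, 17, 16, 19, 14, 18, 15, 8], [2, 10, 3, 0, 13, 8, 4, 9, 23, 7, 5, 1, 16, 6, 20, 22, 18, 17, 21, 19, 14, 15, 12, 11]⟩,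
  ⟨[3, 11, 0, 2, 6, 23, 8, 9, 4, 17, 1, 10, 22, 5, 15, 16, 14, 7, 21, 18, 12, 19, 20, 13], [2, 10, 3, 0, 8, 13, 4, 17, 6, 7, 11, 1, 20, 23, 16, 14, 15, 9, 19, 21, 22, 18, 12, 5]⟩,
  ⟨[3, 11, 0, 2, 10, 6, 13, 17, 4, 7, 8, 23, 20, 5, 22, 14, 18, 9, 19, 16, 21, 12, 15, 1], [2, 23, 3, 0, 8, 13, 5, 9, 10, 17, 4, 1, 21, 6, 15, 22, 19, 7, 16, 18, 12, 20, 14, 11]⟩,
  ⟨[3, 11, 0, 2, 10, 23, 1, 17, 5, 9, 8, 6, 20, 4, 15, 19, 21, 7, 14, 12, 18, 16, 22, 13], [2, 6, 3, 0, 13, 8, 11, 17, 10, 9, 4, 1, 19, 23, 18, 14, 21, 7, 20, 15, 12, 16, 22, 5]⟩,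
  ⟨[3, 11, 0, 2, 23, 6, 8, 7, 5, 17, 13, 10, 15, 4, 22, 12, 19, 9, 18, 21, 16, 14, 20, 1], [2, 23, 3, 0, 13, 8, 5, 7, 6, 17, 11, 1, 15, 10, 21, 12, 20, 9, 18, 16, 22, 19, 14, 4]⟩,
  ⟨[3, 11, 0, 2, 23, 10, 1, 7, 4, 9, 13, 6, 15, 5, 20, 18, 16, 17, 12, 14, 19, 21, 22, 8], [2, 6, 3, 0, 8, 13, 11, 7, 23, 9, 5, 1, 18, 10, 19, 12, 16, 17, 15, 20, 14, 21, 22, 4]⟩,
  ⟨[3, 23, 2, 0, 4, 5, 13, 9, 10, 7, 8, 11, 21, 6, 14, 22, 18, 17, 16, 19, 20, 12, 15, 1], [3, 23, 2, 0, 4, 5, 13, 9, 10, 7, 8, 11, 21, 6, 14, 22, 18, 17, 16, 19, 20, 12, 15, 1]⟩,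
  ⟨[3, 23, 2, 0, 4, 11, 1, 9, 6, 17, 8, 5, 21, 10, 15, 16, 20, 7, 22, 12, 18, 19, 14, 13], [3, 6, 2, 0, 4, 11, 8, 17, 10, 7, 13, 5, 19, 23, 22, 14, 15, 9, 20, 21, 16, 12, 18, 1]⟩,
  ⟨[3, 23, 2, 0, 5, 4, 13, 17, 6, 7, 1, 11, 14, 10, 21, 20, 12, 9, 19, 16, 22, 18, 15, 8], [3, 10, 2, 0, 5, 4, 8, 9, 23, 17, 13, 11, 16, 6, 12, 22, 19, 7, 21, 18, 15, 14, 20, 1]⟩,
  ⟨[3, 23, 2, 0, 5, 11, 8, 17, 10, 9, 1, 4, 14, 6, 15, 19, 22, 7, 20, 18, 12, 16, 21, 13], [3, 10, 2, 0, 11, 4, 13, 17, 6, 9, 8, 5, 20, 23, 12, 14, 21, 7, 19, 15, 18, 22, 16, 1]⟩,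
  ⟨[3, 23, 2, 0, 11, 4, 1, 7, 10, 17, 13, 5, 15, 6, 21, 18, 19, 9, 12, 22, 16, 20, 14, 8], [3, 6, 2, 0, 5, 11, 13, 7, 23, 17, 8, 4, 18, 10, 22, 12, 20, 9, 15, 16, 21, 14, 19, 1]⟩,
  ⟨[3, 23, 2, 0, 11, 5, 8, 7, 6, 9, 13, 4, 15, 10, 14, 12, 16, 17, 18, 20, 19, 22, 21, 1], [3, 23, 2, 0, 11, 5, 8, 7, 6, 9, 13, 4, 15, 10, 14, 12, 16, 17, 18, 20, 19, 22, 21, 1]⟩,
  ⟨[12, 5, 15, 18, 11, 13, 1, 7, 8, 9, 4, 23, 2, 6, 16, 0, 19, 17, 3, 22, 21, 20, 14, 10], [15, 6, 12, 18, 10, 1, 13, 7, 8, 9, 23, 4, 0, 5, 22, 2, 14, 17, 3, 16, 21, 20, 19, 11]⟩,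
  ⟨[12, 5, 15, 18, 11, 23, 10, 7, 6, 17, 4, 13, 2, 8, 14, 3, 21, 9, 0, 20, 19, 22, 16, 1], [18, 23, 12, 15, 10, 1, 8, 7, 13, 17, 6, 4, 0, 11, 14, 2, 22, 9, 3, 20, 19, 16, 21, 5]⟩,
  ⟨[12, 5, 15, 18, 13, 11, 1, 17, 6, 9, 10, 23, 16, 8, 2, 21, 20, 7, 22, 3, 0, 19, 14, 4], [20, 6, 14, 19, 23, 1, 8, 17, 13, 9, 10, 5, 0, 4, 22, 2, 12, 7, 3, 21, 16, 15, 18, 11]⟩,
  ⟨[12, 5, 15, 18, 13, 23, 4, 17, 8, 7, 10, 11, 16, 6, 14, 22, 0, 9, 21, 19, 20, 3, 2, 1], [16, 23, 22, 21, 6, 1, 13, 9, 8, 17, 10, 11, 0, 4, 14, 2, 12, 7, 3, 19, 20, 18, 15, 5]⟩,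
  ⟨[12, 5, 15, 18, 23, 11, 10, 9, 8, 17, 1, 13, 14, 6, 2, 19, 22, 7, 20, 0, 3, 21, 16, 4], [19, 10, 14, 20, 23, 1, 13, 17, 8, 7, 6, 5, 0, 11, 12, 2, 22, 9, 3, 15, 18, 21, 16, 4]⟩,
  ⟨[12, 5, 15, 18, 23, 13, 4, 9, 6, 7, 1, 11, 14, 8, 16, 20, 3, 17, 19, 21, 22, 0, 2, 10], [21, 10, 22, 16, 6, 1, 8, 9, 13, 7, 23, 11, 0, 5, 12, 2, 14, 17, 3, 18, 15, 19, 20, 4]⟩,
  ⟨[12, 6, 15, 18, 11, 13, 10, 17, 5, 7, 1, 23, 22, 8, 19, 21, 3, 9, 16, 20, 14, 2, 0, 4], [22, 10, 21, 16, 23, 8, 1, 9, 13, 17, 6, 4, 0, 5, 20, 2, 18, 7, 3, 14, 19, 15, 12, 11]⟩,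
  ⟨[12, 6, 15, 18, 11, 23, 4, 17, 8, 9, 1, 13, 22, 5, 0, 16, 14, 7, 21, 2, 3, 20, 19, 10], [14, 10, 19, 20, 6, 13, 1, 17, 8, 9, 23, 4, 0, 11, 16, 2, 15, 7, 3, 22, 21, 18, 12, 5]⟩,
  ⟨[12, 6, 15, 18, 13, 11, 10, 9, 8, 7, 4, 23, 19, 5, 22, 14, 2, 17, 20, 16, 21, 3, 0, 1], [22, 23, 16, 21, 10, 13, 1, 9, 8, 7, 6, 5, 0, 4, 15, 2, 19, 17, 3, 12, 18, 20, 14, 11]⟩,
  ⟨[12, 6, 15, 18, 13, 23, 1, 9, 5, 17, 4, 11, 19, 8, 0, 20, 21, 7, 14, 3, 2, 16, 22, 10], [14, 6, 20, 19, 10, 8, 1, 17, 13, 7, 23, 11, 0, 4, 18, 2, 21, 9, 3, 12, 15, 16, 22, 5]⟩,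
  ⟨[12, 6, 15, 18, 23, 11, 4, 7, 5, 9, 10, 13, 0, 8, 22, 3, 20, 17, 2, 21, 16, 14, 19, 1], [12, 23, 18, 15, 6, 8, 1, 7, 13, 9, 10, 5, 0, 11, 21, 2, 20, 17, 3, 22, 16, 19, 14, 4]⟩,
  ⟨[12, 6, 15, 18, 23, 13, 1, 7, 8, 17, 10, 11, 0, 5, 19, 2, 16, 9, 3, 14, 20, 21, 22, 4], [12, 6, 15, 18, 23, 13, 1, 7, 8, 17, 10, 11, 0, 5, 19, 2, 16, 9, 3, 14, 20, 21, 22, 4]⟩,
  ⟨[12, 8, 15, 18, 11, 13, 4, 9, 6, 17, 10, 23, 20, 5, 3, 14, 16, 7, 19, 2, 0, 22, 21, 1], [20, 23, 19, 14, 6, 13, 8, 17, 1, 7, 10, 4, 0, 5, 15, 2, 16, 9, 3, 18, 12, 22, 21, 11]⟩,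
  ⟨[12, 8, 15, 18, 11, 23, 1, 9, 5, 7, 10, 13, 20, 6, 21, 19, 0, 17, 14, 22, 16, 2, 3, 4], [16, 6, 21, 22, 23, 8, 13, 9, 1, 7, 10, 4, 0, 11, 18, 2, 20, 17, 3, 15, 12, 14, 19, 5]⟩,
  ⟨[12, 8, 15, 18, 13, 11, 4, 7, 5, 17, 1, 23, 3, 6, 20, 0, 22, 9, 2, 19, 14, 16, 21, 10], [15, 10, 18, 12, 6, 8, 13, 7, 1, 17, 23, 5, 0, 4, 20, 2, 21, 9, 3, 19, 14, 22, 16, 11]⟩,
  ⟨[12, 8, 15, 18, 13, 23, 10, 7, 6, 9, 1, 11, 3, 5, 21, 2, 14, 17, 0, 16, 22, 19, 20, 4], [18, 10, 15, 12, 23, 13, 8, 7, 1, 9, 6, 11, 0, 4, 16, 2, 19, 17, 3, 21, 22, 14, 20, 5]⟩,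
  ⟨[12, 8, 15, 18, 23, 11, 1, 17, 6, 7, 4, 13, 21, 5, 20, 16, 2, 9, 22, 14, 19, 0, 3, 10], [21, 6, 16, 22, 10, 13, 8, 9, 1, 17, 23, 5, 0, 11, 19, 2, 15, 7, 3, 20, 14, 12, 18, 4]⟩,
  ⟨[12, 8, 15, 18, 23, 13, 10, 17, 5, 9, 4, 11, 21, 6, 3, 22, 19, 7, 16, 0, 2, 14, 20, 1], [19, 23, 20, 14, 10, 8, 13, 17, 1, 9, 6, 11, 0, 5, 21, 2, 18, 7, 3, 16, 22, 12, 15, 4]⟩,
  ⟨[12, 11, 18, 15, 5, 6, 10, 7, 23, 9, 4, 8, 2, 13, 22, 3, 19, 17, 0, 16, 21, 14, 20, 1], [18, 23, 12, 15, 10, 4, 5, 7, 11, 9, 6, 1, 0, 13, 21, 3, 19, 17, 2, 16, 22, 20, 14, 8]⟩,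
  ⟨[12, 11, 18, 15, 5, 8, 1, 7, 13, 17, 4, 6, 2, 23, 20, 0, 21, 9, 3, 14, 19, 16, 22, 10], [15, 6, 12, 18, 10, 4, 11, 7, 5, 17, 23, 1, 0, 8, 19, 3, 21, 9, 2, 20, 14, 16, 22, 13]⟩,
  ⟨[12, 11, 18, 15, 6, 5, 10, 17, 13, 9, 1, 8, 22, 23, 2, 21, 14, 7, 16, 0, 3, 19, 20, 4], [19, 10, 14, 20, 23, 5, 4, 17, 11, 9, 6, 1, 0, 8, 16, 3, 18, 7, 2, 21, 22, 15, 12, 13]⟩,
  ⟨[12, 11, 18, 15, 6, 8, 4, 17, 23, 7, 1, 5, 22, 13, 20, 16, 3, 9, 21, 19, 14, 0, 2, 10], [21, 10, 22, 16, 6, 11, 4, 9, 5, 17, 23, 1, 0, 13, 20, 3, 15, 7, 2, 19, 14, 18, 12, 8]⟩,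
  ⟨[12, 11, 18, 15, 8, 5, 1, 9, 23, 17, 10, 6, 20, 13, 2, 19, 16, 7, 14, 3, 0, 21, 22, 4], [20, 6, 14, 19, 23, 5, 11, 17, 4, 7, 10, 1, 0, 13, 18, 3, 16, 9, 2, 15, 12, 21, 22, 8]⟩,
  ⟨[12, 11, 18, 15, 8, 6, 4, 9, 13, 7, 10, 5, 20, 23, 22, 14, 0, 17, 19, 21, 16, 3, 2, 1], [16, 23, 22, 21, 6, 11, 5, 9, 4, 7, 10, 1, 0, 8, 15, 3, 20, 17, 2, 18, 12, 19, 14, 13]⟩,
  ⟨[12, 13, 18, 15, 5, 6, 1, 17, 11, 7, 10, 8, 16, 23, 19, 21, 0, 9, 22, 14, 20, 2, 3, 4], [16, 6, 21, 22, 23, 4, 5, 9, 11, 17, 10, 8, 0, 1, 19, 3, 12, 7, 2, 14, 20, 15, 18, 13]⟩,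
  ⟨[12, 13, 18, 15, 5, 8, 4, 17, 23, 9, 10, 6, 16, 11, 3, 22, 20, 7, 21, 2, 0, 14, 19, 1], [20, 23, 19, 14, 6, 4, 11, 17, 5, 9, 10, 13, 0, 1, 21, 3, 12, 7, 2, 22, 16, 18, 15, 8]⟩,
  ⟨[12, 13, 18, 15, 6, 5, 1, 9, 23, 7, 4, 8, 19, 11, 16, 20, 2, 17, 14, 22, 21, 0, 3, 10], [21, 6, 16, 22, 10, 5, 4, 9, 11, 7, 23, 13, 0, 1, 18, 3, 14, 17, 2, 12, 15, 20, 19, 8]⟩,
  ⟨[12, 13, 18, 15, 6, 8, 10, 9, 11, 17, 4, 5, 19, 23, 3, 14, 21, 7, 20, 0, 2, 22, 16, 1], [19, 23, 20, 14, 10, 11, 4, 17, 5, 7, 6, 8, 0, 1, 15, 3, 22, 9, 2, 12, 18, 16, 21, 13]⟩,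
  ⟨[12, 13, 18, 15, 8, 5, 4, 7, 11, 9, 1, 6, 3, 23, 16, 0, 14, 17, 2, 21, 22, 20, 19, 10], [15, 10, 18, 12, 6, 5, 11, 7, 4, 9, 23, 8, 0, 1, 16, 3, 14, 17, 2, 22, 21, 19, 20, 13]⟩,
  ⟨[12, 13, 18, 15, 8, 6, 10, 7, 23, 17, 1, 5, 3, 11, 19, 2, 22, 9, 0, 20, 14, 21, 16, 4], [18, 10, 15, 12, 23, 11, 5, 7, 4, 17, 6, 13, 0, 1, 20, 3, 22, 9, 2, 14, 19, 21, 16, 8]⟩,
  ⟨[12, 23, 18, 15, 5, 6, 4, 9, 13, 17, 1, 8, 14, 11, 0, 20, 22, 7, 19, 2, 3, 16, 21, 10], [14, 10, 19, 20, 6, 4, 5, 17, 11, 7, 23, 13, 0, 8, 12, 3, 21, 9, 2, 18, 15, 22, 16, 1]⟩,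
  ⟨[12, 23, 18, 15, 5, 8, 10, 9, 11, 7, 1, 6, 14, 13, 21, 19, 3, 17, 20, 16, 22, 2, 0, 4], [22, 10, 21, 16, 23, 4, 11, 9, 5, 7, 6, 8, 0, 13, 12, 3, 19, 17, 2, 15, 18, 14, 20, 1]⟩,
  ⟨[12, 23, 18, 15, 6, 5, 4, 7, 11, 17, 10, 8, 0, 13, 14, 3, 16, 9, 2, 19, 20, 22, 21, 1], [12, 23, 18, 15, 6, 5, 4, 7, 11, 17, 10, 8, 0, 13, 14, 3, 16, 9, 2, 19, 20, 22, 21, 1]⟩,
  ⟨[12, 23, 18, 15, 6, 8, 1, 7, 13, 9, 10, 5, 0, 11, 21, 2, 20, 17, 3, 22, 16, 19, 14, 4], [12, 6, 15, 18, 23, 11, 4, 7, 5, 9, 10, 13, 0, 8, 22, 3, 20, 17, 2, 21, 16, 14, 19, 1]⟩,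
  ⟨[12, 23, 18, 15, 8, 5, 10, 17, 13, 7, 4, 6, 21, 11, 14, 22, 2, 9, 16, 20, 19, 3, 0, 1], [22, 23, 16, 21, 10, 5, 11, 9, 4, 17, 6, 13, 0, 8, 14, 3, 18, 7, 2, 20, 19, 12, 15, 1]⟩,
  ⟨[12, 23, 18, 15, 8, 6, 1, 17, 11, 9, 4, 5, 21, 13, 0, 16, 19, 7, 22, 3, 2, 20, 14, 10], [14, 6, 20, 19, 10, 11, 5, 17, 4, 9, 23, 8, 0, 13, 22, 3, 15, 7, 2, 16, 21, 12, 18, 1]⟩,
  ⟨[14, 4, 20, 19, 8, 10, 5, 7, 13, 17, 23, 11, 21, 6, 12, 22, 0, 9, 16, 18, 15, 3, 2, 1], [16, 23, 22, 21, 1, 6, 13, 7, 4, 17, 5, 11, 14, 8, 0, 20, 18, 9, 19, 3, 2, 12, 15, 10]⟩,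
  ⟨[14, 4, 20, 19, 8, 11, 1, 7, 6, 9, 23, 10, 21, 13, 2, 16, 15, 17, 22, 3, 0, 18, 12, 5], [20, 6, 14, 19, 1, 23, 8, 7, 4, 9, 11, 5, 22, 13, 0, 16, 15, 17, 21, 3, 2, 12, 18, 10]⟩,
  ⟨[14, 4, 20, 19, 10, 8, 5, 9, 6, 17, 1, 11, 12, 13, 21, 15, 3, 7, 18, 16, 22, 0, 2, 23], [21, 10, 22, 16, 1, 6, 8, 17, 5, 7, 4, 11, 12, 13, 0, 15, 19, 9, 18, 3, 2, 14, 20, 23]⟩,
  ⟨[14, 4, 20, 19, 10, 11, 23, 9, 13, 7, 1, 8, 12, 6, 2, 18, 22, 17, 15, 0, 3, 16, 21, 5], [19, 10, 14, 20, 1, 23, 13, 9, 11, 7, 4, 5, 12, 8, 0, 18, 21, 17, 15, 3, 2, 22, 16, 6]⟩,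
  ⟨[14, 4, 20, 19, 11, 8, 1, 17, 13, 9, 5, 10, 2, 6, 21, 0, 18, 7, 3, 22, 16, 15, 12, 23], [15, 6, 12, 18, 1, 10, 13, 17, 5, 9, 11, 4, 22, 8, 0, 21, 20, 7, 16, 3, 2, 14, 19, 23]⟩,
  ⟨[14, 4, 20, 19, 11, 10, 23, 17, 6, 7, 5, 8, 2, 13, 12, 3, 16, 9, 0, 15, 18, 22, 21, 1], [18, 23, 12, 15, 1, 10, 8, 9, 11, 17, 5, 4, 14, 13, 0, 19, 16, 7, 20, 3, 2, 22, 21, 6]⟩,
  ⟨[14, 6, 20, 19, 8, 10, 1, 9, 4, 7, 5, 11, 18, 13, 0, 15, 16, 17, 12, 3, 2, 21, 22, 23], [14, 6, 20, 19, 8, 10, 1, 9, 4, 7, 5, 11, 18, 13, 0, 15, 16, 17, 12, 3, 2, 21, 22, 23]⟩,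
  ⟨[14, 6, 20, 19, 8, 11, 23, 9, 13, 17, 5, 10, 18, 4, 22, 12, 2, 7, 15, 21, 16, 3, 0, 1], [22, 23, 16, 21, 13, 10, 1, 17, 4, 7, 11, 5, 15, 8, 0, 18, 20, 9, 12, 3, 2, 19, 14, 6]⟩,
  ⟨[14, 6, 20, 19, 10, 8, 1, 17, 13, 7, 23, 11, 0, 4, 18, 2, 21, 9, 3, 12, 15, 16, 22, 5], [12, 6, 15, 18, 13, 23, 1, 9, 5, 17, 4, 11, 19, 8, 0, 20, 21, 7, 14, 3, 2, 16, 22, 10]⟩,
  ⟨[14, 6, 20, 19, 10, 11, 5, 17, 4, 9, 23, 8, 0, 13, 22, 3, 15, 7, 2, 16, 21, 12, 18, 1], [12, 23, 18, 15, 8, 6, 1, 17, 11, 9, 4, 5, 21, 13, 0, 16, 19, 7, 22, 3, 2, 20, 14, 10]⟩,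
  ⟨[14, 6, 20, 19, 11, 8, 23, 7, 4, 17, 1, 10, 22, 13, 18, 16, 3, 9, 21, 15, 12, 2, 0, 5], [22, 10, 21, 16, 8, 23, 1, 7, 5, 17, 11, 4, 20, 13, 0, 19, 15, 9, 14, 3, 2, 18, 12, 6]⟩,
  ⟨[14, 6, 20, 19, 11, 10, 5, 7, 13, 9, 1, 8, 22, 4, 0, 21, 12, 17, 16, 2, 3, 15, 18, 23], [14, 10, 19, 20, 13, 6, 1, 7, 11, 9, 5, 4, 16, 8, 0, 21, 18, 17, 22, 3, 2, 15, 12, 23]⟩,
  ⟨[14, 8, 19, 20, 4, 6, 1, 7, 11, 17, 23, 13, 21, 10, 18, 16, 0, 9, 22, 12, 15, 2, 3, 5], [16, 6, 21, 22, 4, 23, 5, 7, 1, 17, 13, 8, 19, 11, 0, 20, 15, 9, 14, 2, 3, 12, 18, 10]⟩,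
  ⟨[14, 8, 19, 20, 4, 13, 5, 7, 10, 9, 23, 6, 21, 11, 3, 22, 15, 17, 16, 2, 0, 12, 18, 1], [20, 23, 19, 14, 4, 6, 11, 7, 1, 9, 8, 13, 21, 5, 0, 16, 18, 17, 22, 2, 3, 12, 15, 10]⟩,
  ⟨[14, 8, 19, 20, 6, 4, 1, 9, 10, 17, 5, 13, 18, 11, 21, 15, 2, 7, 12, 22, 16, 0, 3, 23], [21, 6, 16, 22, 5, 10, 4, 17, 1, 7, 8, 13, 18, 11, 0, 15, 20, 9, 12, 2, 3, 14, 19, 23]⟩,
  ⟨[14, 8, 19, 20, 6, 13, 23, 9, 11, 7, 5, 4, 18, 10, 3, 12, 16, 17, 15, 0, 2, 22, 21, 1], [19, 23, 20, 14, 11, 10, 4, 9, 1, 7, 13, 8, 15, 5, 0, 18, 16, 17, 12, 2, 3, 22, 21, 6]⟩,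
  ⟨[14, 8, 19, 20, 13, 4, 5, 17, 11, 9, 1, 6, 3, 10, 21, 0, 12, 7, 2, 16, 22, 15, 18, 23], [15, 10, 18, 12, 5, 6, 11, 17, 1, 9, 13, 8, 16, 4, 0, 21, 19, 7, 22, 2, 3, 14, 20, 23]⟩,
  ⟨[14, 8, 19, 20, 13, 6, 23, 17, 10, 7, 1, 4, 3, 11, 18, 2, 22, 9, 0, 15, 12, 16, 21, 5], [18, 10, 15, 12, 11, 23, 5, 9, 1, 17, 8, 13, 20, 4, 0, 19, 21, 7, 14, 2, 3, 22, 16, 6]⟩,
  ⟨[14, 10, 19, 20, 4, 6, 5, 9, 8, 7, 1, 13, 12, 11, 0, 15, 22, 17, 18, 2, 3, 21, 16, 23], [14, 10, 19, 20, 4, 6, 5, 9, 8, 7, 1, 13, 12, 11, 0, 15, 22, 17, 18, 2, 3, 21, 16, 23]⟩,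
  ⟨[14, 10, 19, 20, 4, 13, 23, 9, 11, 17, 1, 6, 12, 8, 16, 18, 3, 7, 15, 21, 22, 2, 0, 5], [22, 10, 21, 16, 4, 23, 11, 17, 13, 7, 1, 8, 12, 5, 0, 18, 14, 9, 15, 2, 3, 19, 20, 6]⟩,
  ⟨[14, 10, 19, 20, 6, 4, 5, 17, 11, 7, 23, 13, 0, 8, 12, 3, 21, 9, 2, 18, 15, 22, 16, 1], [12, 23, 18, 15, 5, 6, 4, 9, 13, 17, 1, 8, 14, 11, 0, 20, 22, 7, 19, 2, 3, 16, 21, 10]⟩,
  ⟨[14, 10, 19, 20, 6, 13, 1, 17, 8, 9, 23, 4, 0, 11, 16, 2, 15, 7, 3, 22, 21, 18, 12, 5], [12, 6, 15, 18, 11, 23, 4, 17, 8, 9, 1, 13, 22, 5, 0, 16, 14, 7, 21, 2, 3, 20, 19, 10]⟩,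
  ⟨[14, 10, 19, 20, 13, 4, 23, 7, 8, 17, 5, 6, 16, 11, 12, 22, 2, 9, 21, 15, 18, 3, 0, 1], [22, 23, 16, 21, 5, 10, 11, 7, 8, 17, 1, 13, 14, 4, 0, 19, 12, 9, 20, 2, 3, 18, 15, 6]⟩,
  ⟨[14, 10, 19, 20, 13, 6, 1, 7, 11, 9, 5, 4, 16, 8, 0, 21, 18, 17, 22, 3, 2, 15, 12, 23], [14, 6, 20, 19, 11, 10, 5, 7, 13, 9, 1, 8, 22, 4, 0, 21, 12, 17, 16, 2, 3, 15, 18, 23]⟩,
  ⟨[14, 11, 19, 20, 4, 6, 23, 17, 10, 9, 5, 13, 2, 8, 22, 3, 18, 7, 0, 21, 16, 12, 15, 1], [18, 23, 12, 15, 4, 10, 5, 17, 13, 9, 8, 1, 21, 11, 0, 22, 20, 7, 16, 2, 3, 19, 14, 6]⟩,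
  ⟨[14, 11, 19, 20, 4, 13, 1, 17, 8, 7, 5, 6, 2, 10, 15, 0, 16, 9, 3, 12, 18, 21, 22, 23], [15, 6, 12, 18, 4, 10, 11, 9, 8, 17, 13, 1, 19, 5, 0, 14, 16, 7, 20, 2, 3, 21, 22, 23]⟩,
  ⟨[14, 11, 19, 20, 6, 4, 23, 7, 8, 9, 1, 13, 22, 10, 2, 16, 12, 17, 21, 0, 3, 18, 15, 5], [19, 10, 14, 20, 5, 23, 4, 7, 8, 9, 13, 1, 16, 11, 0, 22, 15, 17, 21, 2, 3, 18, 12, 6]⟩,
  ⟨[14, 11, 19, 20, 6, 13, 5, 7, 10, 17, 1, 4, 22, 8, 15, 21, 3, 9, 16, 18, 12, 0, 2, 23], [21, 10, 22, 16, 11, 6, 4, 7, 13, 17, 8, 1, 20, 5, 0, 14, 18, 9, 19, 2, 3, 15, 12, 23]⟩,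
  ⟨[14, 11, 19, 20, 13, 4, 1, 9, 10, 7, 23, 6, 15, 8, 2, 18, 21, 17, 12, 3, 0, 16, 22, 5], [20, 6, 14, 19, 5, 23, 11, 9, 13, 7, 8, 1, 18, 4, 0, 12, 21, 17, 15, 2, 3, 16, 22, 10]⟩,
  ⟨[14, 11, 19, 20, 13, 6, 5, 9, 8, 17, 23, 4, 15, 10, 22, 12, 0, 7, 18, 16, 21, 3, 2, 1], [16, 23, 22, 21, 11, 6, 5, 17, 8, 7, 13, 1, 15, 4, 0, 12, 19, 9, 18, 2, 3, 20, 14, 10]⟩,
  ⟨[14, 13, 20, 19, 8, 10, 23, 17, 6, 9, 1, 11, 3, 4, 16, 2, 12, 7, 0, 21, 22, 18, 15, 5], [18, 10, 15, 12, 13, 23, 8, 17, 4, 9, 5, 11, 16, 1, 0, 22, 14, 7, 21, 3, 2, 19, 20, 6]⟩,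
  ⟨[14, 13, 20, 19, 8, 11, 5, 17, 4, 7, 1, 10, 3, 6, 15, 0, 22, 9, 2, 18, 12, 21, 16, 23], [15, 10, 18, 12, 8, 6, 13, 9, 4, 17, 11, 5, 20, 1, 0, 14, 22, 7, 19, 3, 2, 21, 16, 23]⟩,
  ⟨[14, 13, 20, 19, 10, 8, 23, 7, 4, 9, 5, 11, 16, 6, 3, 22, 18, 17, 21, 0, 2, 12, 15, 1], [19, 23, 20, 14, 8, 10, 13, 7, 5, 9, 4, 11, 21, 1, 0, 22, 12, 17, 16, 3, 2, 18, 15, 6]⟩,
  ⟨[14, 13, 20, 19, 10, 11, 1, 7, 6, 17, 5, 8, 16, 4, 15, 21, 2, 9, 22, 12, 18, 0, 3, 23], [21, 6, 16, 22, 13, 10, 8, 7, 11, 17, 4, 5, 19, 1, 0, 14, 12, 9, 20, 3, 2, 15, 18, 23]⟩,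
  ⟨[14, 13, 20, 19, 11, 8, 5, 9, 6, 7, 23, 10, 15, 4, 3, 12, 21, 17, 18, 2, 0, 22, 16, 1], [20, 23, 19, 14, 13, 6, 8, 9, 5, 7, 11, 4, 15, 1, 0, 12, 22, 17, 18, 3, 2, 16, 21, 10]⟩,
  ⟨[14, 13, 20, 19, 11, 10, 1, 9, 4, 17, 23, 8, 15, 6, 16, 18, 0, 7, 12, 22, 21, 2, 3, 5], [16, 6, 21, 22, 8, 23, 13, 17, 11, 7, 5, 4, 18, 1, 0, 12, 14, 9, 15, 3, 2, 20, 19, 10]⟩,
  ⟨[15, 1, 18, 12, 5, 6, 13, 9, 4, 7, 23, 8, 14, 10, 22, 20, 0, 17, 19, 16, 21, 2, 3, 11], [16, 1, 21, 22, 8, 4, 5, 9, 11, 7, 13, 23, 3, 6, 12, 0, 19, 17, 2, 18, 15, 20, 14, 10]⟩,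
  ⟨[15, 1, 18, 12, 5, 8, 11, 9, 10, 17, 23, 6, 14, 4, 3, 19, 21, 7, 20, 2, 0, 16, 22, 13], [20, 1, 19, 14, 13, 4, 11, 17, 5, 7, 8, 6, 3, 23, 12, 0, 21, 9, 2, 15, 18, 16, 22, 10]⟩,
  ⟨[15, 1, 18, 12, 6, 5, 13, 17, 10, 7, 11, 8, 22, 4, 14, 21, 2, 9, 16, 19, 20, 0, 3, 23], [21, 1, 16, 22, 13, 5, 4, 9, 11, 17, 8, 10, 3, 6, 14, 0, 18, 7, 2, 19, 20, 15, 12, 23]⟩,
  ⟨[15, 1, 18, 12, 6, 8, 23, 17, 4, 9, 11, 5, 22, 10, 3, 16, 20, 7, 21, 0, 2, 19, 14, 13], [19, 1, 20, 14, 8, 11, 4, 17, 5, 9, 13, 10, 3, 23, 22, 0, 15, 7, 2, 21, 16, 18, 12, 6]⟩,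
  ⟨[15, 1, 18, 12, 8, 5, 11, 7, 4, 17, 13, 6, 3, 10, 14, 0, 16, 9, 2, 20, 19, 21, 22, 23], [15, 1, 18, 12, 8, 5, 11, 7, 4, 17, 13, 6, 3, 10, 14, 0, 16, 9, 2, 20, 19, 21, 22, 23]⟩,
  ⟨[15, 1, 18, 12, 8, 6, 23, 7, 10, 9, 13, 5, 3, 4, 22, 2, 19, 17, 0, 21, 16, 20, 14, 11], [18, 1, 15, 12, 13, 11, 5, 7, 4, 9, 8, 23, 3, 10, 22, 0, 20, 17, 2, 16, 21, 19, 14, 6]⟩,
  ⟨[15, 4, 18, 12, 5, 6, 23, 7, 10, 17, 11, 8, 2, 1, 19, 3, 22, 9, 0, 14, 20, 16, 21, 13], [18, 13, 12, 15, 1, 4, 5, 7, 11, 17, 8, 10, 3, 23, 19, 0, 21, 9, 2, 14, 20, 22, 16, 6]⟩,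
  ⟨[15, 4, 18, 12, 5, 8, 13, 7, 1, 9, 11, 6, 2, 10, 21, 0, 20, 17, 3, 16, 22, 14, 19, 23], [15, 8, 12, 18, 1, 4, 11, 7, 5, 9, 13, 10, 3, 6, 21, 0, 19, 17, 2, 22, 16, 14, 20, 23]⟩,
  ⟨[15, 4, 18, 12, 6, 5, 23, 9, 1, 17, 13, 8, 19, 10, 2, 20, 16, 7, 14, 0, 3, 22, 21, 11], [19, 8, 14, 20, 1, 5, 4, 17, 11, 7, 13, 23, 3, 10, 18, 0, 16, 9, 2, 12, 15, 22, 21, 6]⟩,
  ⟨[15, 4, 18, 12, 6, 8, 11, 9, 10, 7, 13, 5, 19, 1, 21, 14, 3, 17, 20, 22, 16, 0, 2, 23], [21, 13, 22, 16, 1, 11, 4, 9, 5, 7, 8, 6, 3, 10, 15, 0, 20, 17, 2, 12, 18, 14, 19, 23]⟩,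
  ⟨[15, 4, 18, 12, 8, 5, 13, 17, 10, 9, 23, 6, 21, 1, 2, 22, 14, 7, 16, 3, 0, 20, 19, 11], [20, 13, 14, 19, 1, 5, 11, 17, 4, 9, 8, 23, 3, 6, 16, 0, 18, 7, 2, 22, 21, 12, 15, 10]⟩,
  ⟨[15, 4, 18, 12, 8, 6, 11, 17, 1, 7, 23, 5, 21, 10, 19, 16, 0, 9, 22, 20, 14, 3, 2, 13], [16, 8, 22, 21, 1, 11, 5, 9, 4, 17, 13, 6, 3, 23, 20, 0, 15, 7, 2, 14, 19, 12, 18, 10]⟩,
  ⟨[15, 5, 12, 18, 1, 4, 13, 9, 6, 17, 23, 10, 14, 8, 2, 20, 21, 7, 19, 3, 0, 22, 16, 11], [20, 4, 14, 19, 5, 1, 8, 17, 13, 7, 11, 23, 2, 6, 12, 0, 22, 9, 3, 18, 15, 16, 21, 10]⟩,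
  ⟨[15, 5, 12, 18, 1, 10, 11, 9, 8, 7, 23, 4, 14, 6, 16, 19, 0, 17, 20, 22, 21, 3, 2, 13], [16, 4, 22, 21, 11, 1, 13, 9, 8, 7, 5, 6, 2, 23, 12, 0, 14, 17, 3, 15, 18, 20, 19, 10]⟩,
  ⟨[15, 5, 12, 18, 4, 1, 13, 7, 8, 17, 11, 10, 2, 6, 14, 0, 22, 9, 3, 19, 20, 21, 16, 23], [15, 5, 12, 18, 4, 1, 13, 7, 8, 17, 11, 10, 2, 6, 14, 0, 22, 9, 3, 19, 20, 21, 16, 23]⟩,
  ⟨[15, 5, 12, 18, 4, 10, 23, 7, 6, 9, 11, 1, 2, 8, 16, 3, 20, 17, 0, 21, 22, 19, 14, 13], [18, 11, 12, 15, 4, 1, 8, 7, 13, 9, 5, 10, 2, 23, 22, 0, 14, 17, 3, 21, 16, 19, 20, 6]⟩,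
  ⟨[15, 5, 12, 18, 10, 1, 11, 17, 6, 7, 13, 4, 16, 8, 14, 21, 3, 9, 22, 20, 19, 0, 2, 23], [21, 5, 22, 16, 11, 1, 8, 9, 13, 17, 4, 6, 2, 10, 14, 0, 12, 7, 3, 20, 19, 15, 18, 23]⟩,
  ⟨[15, 5, 12, 18, 10, 4, 23, 17, 8, 9, 13, 1, 16, 6, 2, 22, 19, 7, 21, 0, 3, 20, 14, 11], [19, 11, 14, 20, 5, 1, 13, 17, 8, 9, 4, 23, 2, 10, 22, 0, 12, 7, 3, 16, 21, 18, 15, 6]⟩,
  ⟨[15, 6, 12, 18, 1, 4, 23, 17, 8, 7, 11, 10, 22, 5, 19, 16, 2, 9, 21, 14, 20, 3, 0, 13], [22, 4, 16, 21, 5, 13, 1, 9, 8, 17, 11, 10, 2, 23, 19, 0, 15, 7, 3, 14, 20, 18, 12, 6]⟩,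
  ⟨[15, 6, 12, 18, 1, 10, 13, 17, 5, 9, 11, 4, 22, 8, 0, 21, 20, 7, 16, 3, 2, 14, 19, 23], [14, 4, 20, 19, 11, 8, 1, 17, 13, 9, 5, 10, 2, 6, 21, 0, 18, 7, 3, 22, 16, 15, 12, 23]⟩,
  ⟨[15, 6, 12, 18, 4, 1, 23, 9, 5, 7, 13, 10, 19, 8, 22, 20, 3, 17, 14, 21, 16, 2, 0, 11], [22, 5, 21, 16, 4, 8, 1, 9, 13, 7, 11, 23, 2, 10, 18, 0, 20, 17, 3, 12, 15, 19, 14, 6]⟩,
  ⟨[15, 6, 12, 18, 4, 10, 11, 9, 8, 17, 13, 1, 19, 5, 0, 14, 16, 7, 20, 2, 3, 21, 22, 23], [14, 11, 19, 20, 4, 13, 1, 17, 8, 7, 5, 6, 2, 10, 15, 0, 16, 9, 3, 12, 18, 21, 22, 23]⟩,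
  ⟨[15, 6, 12, 18, 10, 1, 13, 7, 8, 9, 23, 4, 0, 5, 22, 2, 14, 17, 3, 16, 21, 20, 19, 11], [12, 5, 15, 18, 11, 13, 1, 7, 8, 9, 4, 23, 2, 6, 16, 0, 19, 17, 3, 22, 21, 20, 14, 10]⟩,
  ⟨[15, 6, 12, 18, 10, 4, 11, 7, 5, 17, 23, 1, 0, 8, 19, 3, 21, 9, 2, 20, 14, 16, 22, 13], [12, 11, 18, 15, 5, 8, 1, 7, 13, 17, 4, 6, 2, 23, 20, 0, 21, 9, 3, 14, 19, 16, 22, 10]⟩,
  ⟨[15, 8, 12, 18, 1, 4, 11, 7, 5, 9, 13, 10, 3, 6, 21, 0, 19, 17, 2, 22, 16, 14, 20, 23], [15, 4, 18, 12, 5, 8, 13, 7, 1, 9, 11, 6, 2, 10, 21, 0, 20, 17, 3, 16, 22, 14, 19, 23]⟩,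
  ⟨[15, 8, 12, 18, 1, 10, 23, 7, 6, 17, 13, 4, 3, 5, 20, 2, 16, 9, 0, 14, 19, 22, 21, 11], [18, 4, 15, 12, 11, 13, 8, 7, 1, 17, 5, 23, 2, 10, 19, 0, 16, 9, 3, 20, 14, 22, 21, 6]⟩,
  ⟨[15, 8, 12, 18, 4, 1, 11, 17, 6, 9, 23, 10, 21, 5, 3, 16, 14, 7, 22, 2, 0, 19, 20, 13], [20, 5, 19, 14, 4, 13, 8, 17, 1, 9, 11, 6, 2, 23, 16, 0, 15, 7, 3, 21, 22, 12, 18, 10]⟩,
  ⟨[15, 8, 12, 18, 4, 10, 13, 17, 5, 7, 23, 1, 21, 6, 20, 22, 0, 9, 16, 19, 14, 2, 3, 11], [16, 11, 21, 22, 4, 8, 13, 9, 1, 17, 5, 23, 2, 6, 20, 0, 18, 7, 3, 19, 14, 12, 15, 10]⟩,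
  ⟨[15, 8, 12, 18, 10, 1, 23, 9, 5, 17, 11, 4, 20, 6, 3, 19, 22, 7, 14, 0, 2, 16, 21, 13], [19, 5, 20, 14, 11, 8, 13, 17, 1, 7, 4, 10, 2, 23, 18, 0, 21, 9, 3, 15, 12, 22, 16, 6]⟩,
  ⟨[15, 8, 12, 18, 10, 4, 13, 9, 6, 7, 11, 1, 20, 5, 21, 14, 2, 17, 19, 16, 22, 0, 3, 23], [21, 11, 16, 22, 5, 13, 8, 9, 1, 7, 4, 10, 2, 6, 15, 0, 19, 17, 3, 18, 12, 14, 20, 23]⟩,
  ⟨[15, 10, 18, 12, 5, 6, 11, 17, 1, 9, 13, 8, 16, 4, 0, 21, 19, 7, 22, 2, 3, 14, 20, 23], [14, 8, 19, 20, 13, 4, 5, 17, 11, 9, 1, 6, 3, 10, 21, 0, 12, 7, 2, 16, 22, 15, 18, 23]⟩,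
  ⟨[15, 10, 18, 12, 5, 8, 23, 17, 4, 7, 13, 6, 16, 1, 20, 22, 3, 9, 21, 14, 19, 2, 0, 11], [22, 13, 21, 16, 8, 4, 11, 9, 5, 17, 1, 23, 3, 10, 19, 0, 12, 7, 2, 20, 14, 18, 15, 6]⟩,
  ⟨[15, 10, 18, 12, 6, 5, 11, 7, 4, 9, 23, 8, 0, 1, 16, 3, 14, 17, 2, 22, 21, 19, 20, 13], [12, 13, 18, 15, 8, 5, 4, 7, 11, 9, 1, 6, 3, 23, 16, 0, 14, 17, 2, 21, 22, 20, 19, 10]⟩,
  ⟨[15, 10, 18, 12, 6, 8, 13, 7, 1, 17, 23, 5, 0, 4, 20, 2, 21, 9, 3, 19, 14, 22, 16, 11], [12, 8, 15, 18, 13, 11, 4, 7, 5, 17, 1, 23, 3, 6, 20, 0, 22, 9, 2, 19, 14, 16, 21, 10]⟩,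
  ⟨[15, 10, 18, 12, 8, 5, 23, 9, 1, 7, 11, 6, 20, 4, 16, 19, 2, 17, 14, 21, 22, 3, 0, 13], [22, 8, 16, 21, 13, 5, 11, 9, 4, 7, 1, 10, 3, 23, 18, 0, 14, 17, 2, 15, 12, 19, 20, 6]⟩,
  ⟨[15, 10, 18, 12, 8, 6, 13, 9, 4, 17, 11, 5, 20, 1, 0, 14, 22, 7, 19, 3, 2, 21, 16, 23], [14, 13, 20, 19, 8, 11, 5, 17, 4, 7, 1, 10, 3, 6, 15, 0, 22, 9, 2, 18, 12, 21, 16, 23]⟩,
  ⟨[16, 1, 21, 22, 4, 8, 5, 17, 6, 7, 10, 23, 12, 11, 3, 15, 20, 9, 18, 2, 0, 19, 14, 13], [20, 1, 19, 14, 4, 6, 8, 9, 5, 17, 10, 13, 12, 23, 22, 15, 0, 7, 18, 21, 16, 2, 3, 11]⟩,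
  ⟨[16, 1, 21, 22, 4, 23, 13, 17, 11, 9, 10, 8, 12, 6, 14, 18, 0, 7, 15, 19, 20, 2, 3, 5], [16, 1, 21, 22, 4, 23, 13, 17, 11, 9, 10, 8, 12, 6, 14, 18, 0, 7, 15, 19, 20, 2, 3, 5]⟩,
  ⟨[16, 1, 21, 22, 8, 4, 5, 9, 11, 7, 13, 23, 3, 6, 12, 0, 19, 17, 2, 18, 15, 20, 14, 10], [15, 1, 18, 12, 5, 6, 13, 9, 4, 7, 23, 8, 14, 10, 22, 20, 0, 17, 19, 16, 21, 2, 3, 11]⟩,
  ⟨[16, 1, 21, 22, 8, 23, 10, 9, 6, 17, 13, 4, 3, 11, 14, 2, 15, 7, 0, 20, 19, 18, 12, 5], [18, 1, 15, 12, 11, 23, 8, 17, 4, 7, 6, 13, 22, 10, 14, 16, 0, 9, 21, 20, 19, 2, 3, 5]⟩,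
  ⟨[16, 1, 21, 22, 23, 4, 13, 7, 6, 9, 5, 8, 14, 11, 12, 20, 2, 17, 19, 15, 18, 0, 3, 10], [21, 1, 16, 22, 5, 10, 8, 7, 11, 9, 23, 13, 14, 6, 12, 19, 0, 17, 20, 18, 15, 2, 3, 4]⟩,
  ⟨[16, 1, 21, 22, 23, 8, 10, 7, 11, 17, 5, 4, 14, 6, 3, 19, 18, 9, 20, 0, 2, 15, 12, 13], [19, 1, 20, 14, 11, 10, 13, 7, 5, 17, 6, 8, 22, 23, 12, 21, 0, 9, 16, 15, 18, 2, 3, 4]⟩,
  ⟨[16, 4, 22, 21, 1, 6, 5, 17, 8, 9, 10, 11, 12, 23, 19, 15, 0, 7, 18, 14, 20, 3, 2, 13], [16, 4, 22, 21, 1, 6, 5, 17, 8, 9, 10, 11, 12, 23, 19, 15, 0, 7, 18, 14, 20, 3, 2, 13]⟩,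
  ⟨[16, 4, 22, 21, 1, 11, 13, 17, 23, 7, 10, 6, 12, 8, 2, 18, 20, 9, 15, 3, 0, 14, 19, 5], [20, 4, 14, 19, 1, 23, 11, 9, 13, 17, 10, 5, 12, 6, 21, 18, 0, 7, 15, 22, 16, 3, 2, 8]⟩,
  ⟨[16, 4, 22, 21, 6, 1, 5, 7, 23, 9, 13, 11, 19, 8, 12, 20, 3, 17, 14, 18, 15, 0, 2, 10], [21, 5, 22, 16, 1, 6, 4, 7, 13, 9, 23, 11, 14, 10, 18, 20, 0, 17, 19, 12, 15, 3, 2, 8]⟩,
  ⟨[16, 4, 22, 21, 6, 11, 10, 7, 8, 17, 13, 1, 19, 23, 2, 14, 15, 9, 20, 0, 3, 18, 12, 5], [19, 11, 14, 20, 1, 23, 4, 7, 8, 17, 6, 5, 22, 10, 15, 16, 0, 9, 21, 12, 18, 3, 2, 13]⟩,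
  ⟨[16, 4, 22, 21, 11, 1, 13, 9, 8, 7, 5, 6, 2, 23, 12, 0, 14, 17, 3, 15, 18, 20, 19, 10], [15, 5, 12, 18, 1, 10, 11, 9, 8, 7, 23, 4, 14, 6, 16, 19, 0, 17, 20, 22, 21, 3, 2, 13]⟩,
  ⟨[16, 4, 22, 21, 11, 6, 10, 9, 23, 17, 5, 1, 2, 8, 19, 3, 18, 7, 0, 20, 14, 15, 12, 13], [18, 11, 12, 15, 1, 10, 5, 17, 13, 7, 6, 4, 22, 23, 20, 21, 0, 9, 16, 14, 19, 3, 2, 8]⟩,
  ⟨[16, 6, 21, 22, 4, 8, 10, 7, 11, 9, 13, 23, 19, 1, 18, 14, 3, 17, 20, 12, 15, 2, 0, 5], [22, 13, 21, 16, 4, 23, 1, 7, 5, 9, 6, 8, 19, 10, 15, 20, 0, 17, 14, 12, 18, 2, 3, 11]⟩,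
  ⟨[16, 6, 21, 22, 4, 23, 5, 7, 1, 17, 13, 8, 19, 11, 0, 20, 15, 9, 14, 2, 3, 12, 18, 10], [14, 8, 19, 20, 4, 6, 1, 7, 11, 17, 23, 13, 21, 10, 18, 16, 0, 9, 22, 12, 15, 2, 3, 5]⟩,
  ⟨[16, 6, 21, 22, 8, 4, 10, 17, 1, 9, 5, 23, 18, 11, 19, 15, 2, 7, 12, 20, 14, 3, 0, 13], [22, 8, 16, 21, 5, 10, 1, 17, 4, 9, 6, 13, 18, 23, 20, 15, 0, 7, 12, 14, 19, 2, 3, 11]⟩,
  ⟨[16, 6, 21, 22, 8, 23, 13, 17, 11, 7, 5, 4, 18, 1, 0, 12, 14, 9, 15, 3, 2, 20, 19, 10], [14, 13, 20, 19, 11, 10, 1, 9, 4, 17, 23, 8, 15, 6, 16, 18, 0, 7, 12, 22, 21, 2, 3, 5]⟩,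
  ⟨[16, 6, 21, 22, 23, 4, 5, 9, 11, 17, 10, 8, 0, 1, 19, 3, 12, 7, 2, 14, 20, 15, 18, 13], [12, 13, 18, 15, 5, 6, 1, 17, 11, 7, 10, 8, 16, 23, 19, 21, 0, 9, 22, 14, 20, 2, 3, 4]⟩,
  ⟨[16, 6, 21, 22, 23, 8, 13, 9, 1, 7, 10, 4, 0, 11, 18, 2, 20, 17, 3, 15, 12, 14, 19, 5], [12, 8, 15, 18, 11, 23, 1, 9, 5, 7, 10, 13, 20, 6, 21, 19, 0, 17, 14, 22, 16, 2, 3, 4]⟩,
  ⟨[16, 8, 22, 21, 1, 6, 10, 9, 23, 7, 13, 11, 3, 4, 18, 2, 19, 17, 0, 12, 15, 14, 20, 5], [18, 4, 15, 12, 13, 23, 5, 9, 1, 7, 6, 11, 19, 10, 21, 20, 0, 17, 14, 16, 22, 3, 2, 8]⟩,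
  ⟨[16, 8, 22, 21, 1, 11, 5, 9, 4, 17, 13, 6, 3, 23, 20, 0, 15, 7, 2, 14, 19, 12, 18, 10], [15, 4, 18, 12, 8, 6, 11, 17, 1, 7, 23, 5, 21, 10, 19, 16, 0, 9, 22, 20, 14, 3, 2, 13]⟩,
  ⟨[16, 8, 22, 21, 6, 1, 10, 17, 4, 7, 5, 11, 18, 23, 3, 15, 14, 9, 12, 0, 2, 19, 20, 13], [19, 5, 20, 14, 8, 10, 4, 9, 1, 17, 6, 11, 18, 23, 16, 15, 0, 7, 12, 21, 22, 3, 2, 13]⟩,
  ⟨[16, 8, 22, 21, 6, 11, 13, 17, 23, 9, 5, 1, 18, 4, 20, 12, 2, 7, 15, 19, 14, 0, 3, 10], [21, 11, 16, 22, 13, 10, 4, 17, 1, 9, 23, 5, 15, 6, 20, 18, 0, 7, 12, 19, 14, 3, 2, 8]⟩,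
  ⟨[16, 8, 22, 21, 11, 1, 5, 7, 23, 17, 10, 6, 20, 4, 3, 19, 12, 9, 14, 2, 0, 15, 18, 13], [20, 5, 19, 14, 13, 6, 11, 7, 1, 17, 10, 4, 16, 23, 18, 21, 0, 9, 22, 15, 12, 3, 2, 8]⟩,
  ⟨[16, 8, 22, 21, 11, 6, 13, 7, 4, 9, 10, 1, 20, 23, 18, 14, 0, 17, 19, 15, 12, 2, 3, 5], [16, 11, 21, 22, 8, 23, 5, 7, 1, 9, 10, 4, 20, 6, 15, 19, 0, 17, 14, 18, 12, 3, 2, 13]⟩,
  ⟨[16, 11, 21, 22, 4, 8, 13, 9, 1, 17, 5, 23, 2, 6, 20, 0, 18, 7, 3, 19, 14, 12, 15, 10], [15, 8, 12, 18, 4, 10, 13, 17, 5, 7, 23, 1, 21, 6, 20, 22, 0, 9, 16, 19, 14, 2, 3, 11]⟩,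
  ⟨[16, 11, 21, 22, 4, 23, 10, 9, 6, 7, 5, 8, 2, 1, 15, 3, 14, 17, 0, 12, 18, 19, 20, 13], [18, 13, 12, 15, 4, 10, 8, 9, 11, 7, 6, 1, 19, 23, 16, 14, 0, 17, 20, 21, 22, 2, 3, 5]⟩,
  ⟨[16, 11, 21, 22, 8, 4, 13, 7, 6, 17, 10, 23, 20, 1, 2, 14, 12, 9, 19, 3, 0, 18, 15, 5], [20, 13, 14, 19, 5, 23, 8, 7, 4, 17, 10, 1, 16, 6, 15, 22, 0, 9, 21, 18, 12, 2, 3, 11]⟩,
  ⟨[16, 11, 21, 22, 8, 23, 5, 7, 1, 9, 10, 4, 20, 6, 15, 19, 0, 17, 14, 18, 12, 3, 2, 13], [16, 8, 22, 21, 11, 6, 13, 7, 4, 9, 10, 1, 20, 23, 18, 14, 0, 17, 19, 15, 12, 2, 3, 5]⟩,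
  ⟨[16, 11, 21, 22, 23, 4, 10, 17, 1, 7, 13, 8, 15, 6, 2, 18, 19, 9, 12, 0, 3, 14, 20, 5], [19, 8, 14, 20, 5, 23, 13, 9, 11, 17, 6, 1, 18, 10, 21, 12, 0, 7, 15, 16, 22, 2, 3, 4]⟩,
  ⟨[16, 11, 21, 22, 23, 8, 5, 17, 6, 9, 13, 4, 15, 1, 20, 12, 3, 7, 18, 14, 19, 0, 2, 10], [21, 13, 22, 16, 11, 6, 8, 17, 5, 9, 23, 1, 15, 10, 19, 12, 0, 7, 18, 20, 14, 2, 3, 4]⟩,
  ⟨[16, 23, 22, 21, 1, 6, 13, 7, 4, 17, 5, 11, 14, 8, 0, 20, 18, 9, 19, 3, 2, 12, 15, 10], [14, 4, 20, 19, 8, 10, 5, 7, 13, 17, 23, 11, 21, 6, 12, 22, 0, 9, 16, 18, 15, 3, 2, 1]⟩,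
  ⟨[16, 23, 22, 21, 1, 11, 10, 7, 8, 9, 5, 6, 14, 4, 15, 19, 2, 17, 20, 12, 18, 3, 0, 13], [22, 4, 16, 21, 13, 10, 11, 7, 8, 9, 6, 5, 19, 23, 12, 14, 0, 17, 20, 15, 18, 3, 2, 1]⟩,
  ⟨[16, 23, 22, 21, 6, 1, 13, 9, 8, 17, 10, 11, 0, 4, 14, 2, 12, 7, 3, 19, 20, 18, 15, 5], [12, 5, 15, 18, 13, 23, 4, 17, 8, 7, 10, 11, 16, 6, 14, 22, 0, 9, 21, 19, 20, 3, 2, 1]⟩,
  ⟨[16, 23, 22, 21, 6, 11, 5, 9, 4, 7, 10, 1, 0, 8, 15, 3, 20, 17, 2, 18, 12, 19, 14, 13], [12, 11, 18, 15, 8, 6, 4, 9, 13, 7, 10, 5, 20, 23, 22, 14, 0, 17, 19, 21, 16, 3, 2, 1]⟩,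
  ⟨[16, 23, 22, 21, 11, 1, 10, 17, 4, 9, 13, 6, 15, 8, 14, 18, 3, 7, 12, 20, 19, 2, 0, 5], [22, 5, 21, 16, 8, 23, 11, 17, 13, 9, 6, 4, 18, 10, 14, 12, 0, 7, 15, 20, 19, 3, 2, 1]⟩,
  ⟨[16, 23, 22, 21, 11, 6, 5, 17, 8, 7, 13, 1, 15, 4, 0, 12, 19, 9, 18, 2, 3, 20, 14, 10], [14, 11, 19, 20, 13, 6, 5, 9, 8, 17, 23, 4, 15, 10, 22, 12, 0, 7, 18, 16, 21, 3, 2, 1]⟩,
  ⟨[18, 1, 15, 12, 11, 13, 5, 17, 10, 9, 6, 23, 22, 4, 3, 21, 19, 7, 16, 2, 0, 20, 14, 8], [20, 1, 19, 14, 13, 6, 10, 17, 23, 9, 8, 4, 3, 5, 22, 2, 18, 7, 0, 16, 21, 15, 12, 11]⟩,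
  ⟨[18, 1, 15, 12, 11, 23, 8, 17, 4, 7, 6, 13, 22, 10, 14, 16, 0, 9, 21, 20, 19, 2, 3, 5], [16, 1, 21, 22, 8, 23, 10, 9, 6, 17, 13, 4, 3, 11, 14, 2, 15, 7, 0, 20, 19, 18, 12, 5]⟩,
  ⟨[18, 1, 15, 12, 13, 11, 5, 7, 4, 9, 8, 23, 3, 10, 22, 0, 20, 17, 2, 16, 21, 19, 14, 6], [15, 1, 18, 12, 8, 6, 23, 7, 10, 9, 13, 5, 3, 4, 22, 2, 19, 17, 0, 21, 16, 20, 14, 11]⟩,
  ⟨[18, 1, 15, 12, 13, 23, 6, 7, 10, 17, 8, 11, 3, 4, 14, 2, 21, 9, 0, 19, 20, 16, 22, 5], [18, 1, 15, 12, 13, 23, 6, 7, 10, 17, 8, 11, 3, 4, 14, 2, 21, 9, 0, 19, 20, 16, 22, 5]⟩,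
  ⟨[18, 1, 15, 12, 23, 11, 8, 9, 10, 7, 5, 13, 14, 4, 22, 19, 2, 17, 20, 21, 16, 0, 3, 6], [21, 1, 16, 22, 13, 10, 23, 9, 6, 7, 8, 5, 3, 11, 12, 2, 20, 17, 0, 15, 18, 19, 14, 4]⟩,
  ⟨[18, 1, 15, 12, 23, 13, 6, 9, 4, 17, 5, 11, 14, 10, 3, 20, 16, 7, 19, 0, 2, 21, 22, 8], [19, 1, 20, 14, 8, 10, 6, 17, 23, 7, 13, 11, 3, 5, 12, 2, 16, 9, 0, 18, 15, 21, 22, 4]⟩,
  ⟨[18, 4, 15, 12, 11, 13, 8, 7, 1, 17, 5, 23, 2, 10, 19, 0, 16, 9, 3, 20, 14, 22, 21, 6], [15, 8, 12, 18, 1, 10, 23, 7, 6, 17, 13, 4, 3, 5, 20, 2, 16, 9, 0, 14, 19, 22, 21, 11]⟩,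
  ⟨[18, 4, 15, 12, 11, 23, 6, 7, 10, 9, 5, 13, 2, 1, 21, 3, 14, 17, 0, 22, 16, 20, 19, 8], [18, 13, 12, 15, 1, 10, 6, 7, 23, 9, 8, 4, 3, 11, 16, 2, 20, 17, 0, 22, 21, 14, 19, 5]⟩,
  ⟨[18, 4, 15, 12, 13, 11, 8, 9, 10, 17, 6, 23, 19, 1, 2, 14, 22, 7, 20, 3, 0, 16, 21, 5], [20, 13, 14, 19, 1, 23, 10, 17, 6, 7, 8, 5, 3, 4, 15, 2, 21, 9, 0, 12, 18, 22, 16, 11]⟩,
  ⟨[18, 4, 15, 12, 13, 23, 5, 9, 1, 7, 6, 11, 19, 10, 21, 20, 0, 17, 14, 16, 22, 3, 2, 8], [16, 8, 22, 21, 1, 6, 10, 9, 23, 7, 13, 11, 3, 4, 18, 2, 19, 17, 0, 12, 15, 14, 20, 5]⟩,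
  ⟨[18, 4, 15, 12, 23, 11, 6, 17, 1, 9, 8, 13, 21, 10, 2, 16, 20, 7, 22, 0, 3, 14, 19, 5], [19, 8, 14, 20, 1, 23, 6, 17, 10, 9, 13, 5, 3, 11, 21, 2, 15, 7, 0, 22, 16, 12, 18, 4]⟩,
  ⟨[18, 4, 15, 12, 23, 13, 5, 17, 10, 7, 8, 11, 21, 1, 19, 22, 3, 9, 16, 14, 20, 0, 2, 6], [21, 13, 22, 16, 1, 6, 23, 9, 10, 17, 8, 11, 3, 5, 19, 2, 18, 7, 0, 14, 20, 12, 15, 4]⟩,
  ⟨[18, 10, 15, 12, 11, 13, 6, 9, 4, 7, 8, 23, 20, 1, 16, 14, 3, 17, 19, 22, 21, 2, 0, 5], [22, 13, 21, 16, 8, 23, 6, 9, 10, 7, 1, 4, 3, 5, 15, 2, 14, 17, 0, 18, 12, 20, 19, 11]⟩,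
  ⟨[18, 10, 15, 12, 11, 23, 5, 9, 1, 17, 8, 13, 20, 4, 0, 19, 21, 7, 14, 2, 3, 22, 16, 6], [14, 8, 19, 20, 13, 6, 23, 17, 10, 7, 1, 4, 3, 11, 18, 2, 22, 9, 0, 15, 12, 16, 21, 5]⟩,
  ⟨[18, 10, 15, 12, 13, 11, 6, 17, 1, 7, 5, 23, 16, 4, 20, 21, 2, 9, 22, 19, 14, 3, 0, 8], [22, 8, 16, 21, 13, 10, 6, 9, 23, 17, 1, 5, 3, 4, 20, 2, 12, 7, 0, 19, 14, 15, 18, 11]⟩,
  ⟨[18, 10, 15, 12, 13, 23, 8, 17, 4, 9, 5, 11, 16, 1, 0, 22, 14, 7, 21, 3, 2, 19, 20, 6], [14, 13, 20, 19, 8, 10, 23, 17, 6, 9, 1, 11, 3, 4, 16, 2, 12, 7, 0, 21, 22, 18, 15, 5]⟩,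
  ⟨[18, 10, 15, 12, 23, 11, 5, 7, 4, 17, 6, 13, 0, 1, 20, 3, 22, 9, 2, 14, 19, 21, 16, 8], [12, 13, 18, 15, 8, 6, 10, 7, 23, 17, 1, 5, 3, 11, 19, 2, 22, 9, 0, 20, 14, 21, 16, 4]⟩,
  ⟨[18, 10, 15, 12, 23, 13, 8, 7, 1, 9, 6, 11, 0, 4, 16, 2, 19, 17, 3, 21, 22, 14, 20, 5], [12, 8, 15, 18, 13, 23, 10, 7, 6, 9, 1, 11, 3, 5, 21, 2, 14, 17, 0, 16, 22, 19, 20, 4]⟩,
  ⟨[18, 11, 12, 15, 1, 4, 8, 17, 23, 9, 6, 10, 22, 13, 2, 16, 19, 7, 21, 3, 0, 14, 20, 5], [20, 4, 14, 19, 5, 23, 10, 17, 6, 9, 11, 1, 2, 13, 21, 3, 15, 7, 0, 16, 22, 18, 12, 8]⟩,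
  ⟨[18, 11, 12, 15, 1, 10, 5, 17, 13, 7, 6, 4, 22, 23, 20, 21, 0, 9, 16, 14, 19, 3, 2, 8], [16, 4, 22, 21, 11, 6, 10, 9, 23, 17, 5, 1, 2, 8, 19, 3, 18, 7, 0, 20, 14, 15, 12, 13]⟩,
  ⟨[18, 11, 12, 15, 4, 1, 8, 7, 13, 9, 5, 10, 2, 23, 22, 0, 14, 17, 3, 21, 16, 19, 20, 6], [15, 5, 12, 18, 4, 10, 23, 7, 6, 9, 11, 1, 2, 8, 16, 3, 20, 17, 0, 21, 22, 19, 14, 13]⟩,
  ⟨[18, 11, 12, 15, 4, 10, 6, 7, 23, 17, 5, 1, 2, 13, 20, 3, 16, 9, 0, 19, 14, 21, 22, 8], [18, 11, 12, 15, 4, 10, 6, 7, 23, 17, 5, 1, 2, 13, 20, 3, 16, 9, 0, 19, 14, 21, 22, 8]⟩,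
  ⟨[18, 11, 12, 15, 10, 1, 5, 9, 23, 7, 8, 4, 20, 13, 22, 19, 3, 17, 14, 16, 21, 0, 2, 6], [21, 5, 22, 16, 11, 6, 23, 9, 10, 7, 4, 1, 2, 13, 18, 3, 19, 17, 0, 15, 12, 20, 14, 8]⟩,
  ⟨[18, 11, 12, 15, 10, 4, 6, 9, 13, 17, 8, 1, 20, 23, 2, 14, 21, 7, 19, 0, 3, 16, 22, 5], [19, 11, 14, 20, 5, 23, 6, 17, 10, 7, 4, 1, 2, 8, 15, 3, 21, 9, 0, 18, 12, 16, 22, 13]⟩,
  ⟨[18, 13, 12, 15, 1, 4, 5, 7, 11, 17, 8, 10, 3, 23, 19, 0, 21, 9, 2, 14, 20, 22, 16, 6], [15, 4, 18, 12, 5, 6, 23, 7, 10, 17, 11, 8, 2, 1, 19, 3, 22, 9, 0, 14, 20, 16, 21, 13]⟩,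
  ⟨[18, 13, 12, 15, 1, 10, 6, 7, 23, 9, 8, 4, 3, 11, 16, 2, 20, 17, 0, 22, 21, 14, 19, 5], [18, 4, 15, 12, 11, 23, 6, 7, 10, 9, 5, 13, 2, 1, 21, 3, 14, 17, 0, 22, 16, 20, 19, 8]⟩,
  ⟨[18, 13, 12, 15, 4, 1, 5, 9, 23, 17, 6, 10, 19, 11, 3, 20, 22, 7, 14, 2, 0, 21, 16, 8], [20, 5, 19, 14, 4, 6, 10, 17, 23, 7, 11, 13, 2, 1, 18, 3, 22, 9, 0, 12, 15, 21, 16, 8]⟩,
  ⟨[18, 13, 12, 15, 4, 10, 8, 9, 11, 7, 6, 1, 19, 23, 16, 14, 0, 17, 20, 21, 22, 2, 3, 5], [16, 11, 21, 22, 4, 23, 10, 9, 6, 7, 5, 8, 2, 1, 15, 3, 14, 17, 0, 12, 18, 19, 20, 13]⟩,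
  ⟨[18, 13, 12, 15, 10, 1, 6, 17, 11, 9, 5, 4, 16, 23, 3, 21, 14, 7, 22, 0, 2, 20, 19, 8], [19, 5, 20, 14, 11, 10, 6, 17, 23, 9, 4, 8, 2, 1, 16, 3, 12, 7, 0, 22, 21, 15, 18, 13]⟩,
  ⟨[18, 13, 12, 15, 10, 4, 8, 17, 23, 7, 5, 1, 16, 11, 19, 22, 2, 9, 21, 20, 14, 0, 3, 6], [21, 11, 16, 22, 5, 10, 23, 9, 6, 17, 4, 13, 2, 1, 20, 3, 12, 7, 0, 14, 19, 18, 15, 8]⟩,
  ⟨[18, 23, 12, 15, 1, 4, 6, 9, 13, 7, 5, 10, 14, 11, 21, 20, 2, 17, 19, 22, 16, 3, 0, 8], [22, 4, 16, 21, 5, 10, 6, 9, 23, 7, 11, 13, 2, 8, 12, 3, 20, 17, 0, 18, 15, 14, 19, 1]⟩,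
  ⟨[18, 23, 12, 15, 1, 10, 8, 9, 11, 17, 5, 4, 14, 13, 0, 19, 16, 7, 20, 3, 2, 22, 21, 6], [14, 4, 20, 19, 11, 10, 23, 17, 6, 7, 5, 8, 2, 13, 12, 3, 16, 9, 0, 15, 18, 22, 21, 1]⟩,
  ⟨[18, 23, 12, 15, 4, 1, 6, 17, 11, 7, 8, 10, 21, 13, 14, 16, 3, 9, 22, 19, 20, 2, 0, 5], [22, 5, 21, 16, 4, 23, 6, 9, 10, 17, 11, 8, 2, 13, 14, 3, 15, 7, 0, 19, 20, 12, 18, 1]⟩,
  ⟨[18, 23, 12, 15, 4, 10, 5, 17, 13, 9, 8, 1, 21, 11, 0, 22, 20, 7, 16, 2, 3, 19, 14, 6], [14, 11, 19, 20, 4, 6, 23, 17, 10, 9, 5, 13, 2, 8, 22, 3, 18, 7, 0, 21, 16, 12, 15, 1]⟩,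
  ⟨[18, 23, 12, 15, 10, 1, 8, 7, 13, 17, 6, 4, 0, 11, 14, 2, 22, 9, 3, 20, 19, 16, 21, 5], [12, 5, 15, 18, 11, 23, 10, 7, 6, 17, 4, 13, 2, 8, 14, 3, 21, 9, 0, 20, 19, 22, 16, 1]⟩,
  ⟨[18, 23, 12, 15, 10, 4, 5, 7, 11, 9, 6, 1, 0, 13, 21, 3, 19, 17, 2, 16, 22, 20, 14, 8], [12, 11, 18, 15, 5, 6, 10, 7, 23, 9, 4, 8, 2, 13, 22, 3, 19, 17, 0, 16, 21, 14, 20, 1]⟩,
  ⟨[19, 1, 20, 14, 8, 10, 6, 17, 23, 7, 13, 11, 3, 5, 12, 2, 16, 9, 0, 18, 15, 21, 22, 4], [18, 1, 15, 12, 23, 13, 6, 9, 4, 17, 5, 11, 14, 10, 3, 20, 16, 7, 19, 0, 2, 21, 22, 8]⟩,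
  ⟨[19, 1, 20, 14, 8, 11, 4, 17, 5, 9, 13, 10, 3, 23, 22, 0, 15, 7, 2, 21, 16, 18, 12, 6], [15, 1, 18, 12, 6, 8, 23, 17, 4, 9, 11, 5, 22, 10, 3, 16, 20, 7, 21, 0, 2, 19, 14, 13]⟩,
  ⟨[19, 1, 20, 14, 10, 8, 6, 9, 5, 7, 4, 11, 12, 23, 3, 15, 21, 17, 18, 0, 2, 16, 22, 13], [19, 1, 20, 14, 10, 8, 6, 9, 5, 7, 4, 11, 12, 23, 3, 15, 21, 17, 18, 0, 2, 16, 22, 13]⟩,
  ⟨[19, 1, 20, 14, 10, 11, 13, 9, 23, 17, 4, 8, 12, 5, 22, 18, 2, 7, 15, 16, 21, 0, 3, 6], [21, 1, 16, 22, 10, 13, 23, 17, 11, 7, 4, 5, 12, 6, 3, 18, 19, 9, 15, 0, 2, 20, 14, 8]⟩,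
  ⟨[19, 1, 20, 14, 11, 8, 4, 7, 23, 9, 6, 10, 22, 5, 3, 16, 18, 17, 21, 2, 0, 15, 12, 13], [20, 1, 19, 14, 6, 13, 10, 7, 5, 9, 11, 4, 22, 23, 3, 21, 15, 17, 16, 0, 2, 18, 12, 8]⟩,
  ⟨[19, 1, 20, 14, 11, 10, 13, 7, 5, 17, 6, 8, 22, 23, 12, 21, 0, 9, 16, 15, 18, 2, 3, 4], [16, 1, 21, 22, 23, 8, 10, 7, 11, 17, 5, 4, 14, 6, 3, 19, 18, 9, 20, 0, 2, 15, 12, 13]⟩,
  ⟨[19, 5, 20, 14, 8, 10, 4, 9, 1, 17, 6, 11, 18, 23, 16, 15, 0, 7, 12, 21, 22, 3, 2, 13], [16, 8, 22, 21, 6, 1, 10, 17, 4, 7, 5, 11, 18, 23, 3, 15, 14, 9, 12, 0, 2, 19, 20, 13]⟩,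
  ⟨[19, 5, 20, 14, 8, 11, 13, 9, 23, 7, 6, 10, 18, 1, 2, 12, 22, 17, 15, 3, 0, 21, 16, 4], [20, 13, 14, 19, 23, 1, 10, 9, 4, 7, 11, 5, 15, 6, 3, 18, 22, 17, 12, 0, 2, 21, 16, 8]⟩,
  ⟨[19, 5, 20, 14, 10, 8, 4, 7, 23, 17, 13, 11, 16, 1, 18, 22, 3, 9, 21, 12, 15, 0, 2, 6], [21, 13, 22, 16, 6, 1, 23, 7, 5, 17, 4, 11, 19, 10, 3, 20, 12, 9, 14, 0, 2, 18, 15, 8]⟩,
  ⟨[19, 5, 20, 14, 10, 11, 6, 7, 1, 9, 13, 8, 16, 23, 2, 21, 15, 17, 22, 0, 3, 12, 18, 4], [19, 8, 14, 20, 23, 1, 6, 7, 11, 9, 4, 5, 21, 10, 3, 16, 12, 17, 22, 0, 2, 15, 18, 13]⟩,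
  ⟨[19, 5, 20, 14, 11, 8, 13, 17, 1, 7, 4, 10, 2, 23, 18, 0, 21, 9, 3, 15, 12, 22, 16, 6], [15, 8, 12, 18, 10, 1, 23, 9, 5, 17, 11, 4, 20, 6, 3, 19, 22, 7, 14, 0, 2, 16, 21, 13]⟩,
  ⟨[19, 5, 20, 14, 11, 10, 6, 17, 23, 9, 4, 8, 2, 1, 16, 3, 12, 7, 0, 22, 21, 15, 18, 13], [18, 13, 12, 15, 10, 1, 6, 17, 11, 9, 5, 4, 16, 23, 3, 21, 14, 7, 22, 0, 2, 20, 19, 8]⟩,
  ⟨[19, 8, 14, 20, 1, 5, 4, 17, 11, 7, 13, 23, 3, 10, 18, 0, 16, 9, 2, 12, 15, 22, 21, 6], [15, 4, 18, 12, 6, 5, 23, 9, 1, 17, 13, 8, 19, 10, 2, 20, 16, 7, 14, 0, 3, 22, 21, 11]⟩,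
  ⟨[19, 8, 14, 20, 1, 23, 6, 17, 10, 9, 13, 5, 3, 11, 21, 2, 15, 7, 0, 22, 16, 12, 18, 4], [18, 4, 15, 12, 23, 11, 6, 17, 1, 9, 8, 13, 21, 10, 2, 16, 20, 7, 22, 0, 3, 14, 19, 5]⟩,
  ⟨[19, 8, 14, 20, 5, 1, 4, 9, 10, 7, 6, 23, 18, 11, 3, 15, 22, 17, 12, 2, 0, 16, 21, 13], [20, 5, 19, 14, 6, 4, 10, 9, 1, 7, 8, 13, 18, 23, 2, 15, 21, 17, 12, 0, 3, 22, 16, 11]⟩,
  ⟨[19, 8, 14, 20, 5, 23, 13, 9, 11, 17, 6, 1, 18, 10, 21, 12, 0, 7, 15, 16, 22, 2, 3, 4], [16, 11, 21, 22, 23, 4, 10, 17, 1, 7, 13, 8, 15, 6, 2, 18, 19, 9, 12, 0, 3, 14, 20, 5]⟩,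
  ⟨[19, 8, 14, 20, 23, 1, 6, 7, 11, 9, 4, 5, 21, 10, 3, 16, 12, 17, 22, 0, 2, 15, 18, 13], [19, 5, 20, 14, 10, 11, 6, 7, 1, 9, 13, 8, 16, 23, 2, 21, 15, 17, 22, 0, 3, 12, 18, 4]⟩,
  ⟨[19, 8, 14, 20, 23, 5, 13, 7, 10, 17, 4, 1, 21, 11, 18, 22, 2, 9, 16, 15, 12, 0, 3, 6], [21, 11, 16, 22, 10, 5, 23, 7, 1, 17, 8, 13, 20, 6, 2, 19, 18, 9, 14, 0, 3, 12, 15, 4]⟩,
  ⟨[19, 10, 14, 20, 1, 5, 6, 9, 8, 17, 4, 23, 12, 11, 16, 15, 2, 7, 18, 22, 21, 3, 0, 13], [22, 4, 16, 21, 10, 5, 6, 17, 8, 7, 1, 13, 12, 23, 2, 15, 14, 9, 18, 0, 3, 20, 19, 11]⟩,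
  ⟨[19, 10, 14, 20, 1, 23, 13, 9, 11, 7, 4, 5, 12, 8, 0, 18, 21, 17, 15, 3, 2, 22, 16, 6], [14, 4, 20, 19, 10, 11, 23, 9, 13, 7, 1, 8, 12, 6, 2, 18, 22, 17, 15, 0, 3, 16, 21, 5]⟩,
  ⟨[19, 10, 14, 20, 5, 1, 6, 7, 11, 17, 13, 23, 16, 8, 12, 21, 3, 9, 22, 18, 15, 2, 0, 4], [22, 5, 21, 16, 23, 4, 6, 7, 13, 17, 1, 8, 14, 10, 2, 20, 12, 9, 19, 0, 3, 15, 18, 11]⟩,
  ⟨[19, 10, 14, 20, 5, 23, 4, 7, 8, 9, 13, 1, 16, 11, 0, 22, 15, 17, 21, 2, 3, 18, 12, 6], [14, 11, 19, 20, 6, 4, 23, 7, 8, 9, 1, 13, 22, 10, 2, 16, 12, 17, 21, 0, 3, 18, 15, 5]⟩,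
  ⟨[19, 10, 14, 20, 23, 1, 13, 17, 8, 7, 6, 5, 0, 11, 12, 2, 22, 9, 3, 15, 18, 21, 16, 4], [12, 5, 15, 18, 23, 11, 10, 9, 8, 17, 1, 13, 14, 6, 2, 19, 22, 7, 20, 0, 3, 21, 16, 4]⟩,
  ⟨[19, 10, 14, 20, 23, 5, 4, 17, 11, 9, 6, 1, 0, 8, 16, 3, 18, 7, 2, 21, 22, 15, 12, 13], [12, 11, 18, 15, 6, 5, 10, 17, 13, 9, 1, 8, 22, 23, 2, 21, 14, 7, 16, 0, 3, 19, 20, 4]⟩,
  ⟨[19, 11, 14, 20, 1, 5, 13, 7, 10, 9, 6, 23, 22, 8, 2, 21, 18, 17, 16, 3, 0, 12, 15, 4], [20, 4, 14, 19, 23, 5, 10, 7, 13, 9, 8, 1, 21, 6, 2, 22, 18, 17, 16, 0, 3, 15, 12, 11]⟩,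
  ⟨[19, 11, 14, 20, 1, 23, 4, 7, 8, 17, 6, 5, 22, 10, 15, 16, 0, 9, 21, 12, 18, 3, 2, 13], [16, 4, 22, 21, 6, 11, 10, 7, 8, 17, 13, 1, 19, 23, 2, 14, 15, 9, 20, 0, 3, 18, 12, 5]⟩,
  ⟨[19, 11, 14, 20, 5, 1, 13, 17, 8, 9, 4, 23, 2, 10, 22, 0, 12, 7, 3, 16, 21, 18, 15, 6], [15, 5, 12, 18, 10, 4, 23, 17, 8, 9, 13, 1, 16, 6, 2, 22, 19, 7, 21, 0, 3, 20, 14, 11]⟩,
  ⟨[19, 11, 14, 20, 5, 23, 6, 17, 10, 7, 4, 1, 2, 8, 15, 3, 21, 9, 0, 18, 12, 16, 22, 13], [18, 11, 12, 15, 10, 4, 6, 9, 13, 17, 8, 1, 20, 23, 2, 14, 21, 7, 19, 0, 3, 16, 22, 5]⟩,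
  ⟨[19, 11, 14, 20, 23, 1, 4, 9, 10, 17, 13, 5, 15, 8, 22, 18, 3, 7, 12, 21, 16, 0, 2, 6], [21, 5, 22, 16, 6, 11, 23, 17, 13, 7, 8, 1, 18, 10, 2, 12, 20, 9, 15, 0, 3, 19, 14, 4]⟩,
  ⟨[19, 11, 14, 20, 23, 5, 6, 9, 8, 7, 13, 1, 15, 10, 2, 12, 16, 17, 18, 0, 3, 21, 22, 4], [19, 11, 14, 20, 23, 5, 6, 9, 8, 7, 13, 1, 15, 10, 2, 12, 16, 17, 18, 0, 3, 21, 22, 4]⟩,
  ⟨[19, 23, 20, 14, 8, 10, 13, 7, 5, 9, 4, 11, 21, 1, 0, 22, 12, 17, 16, 3, 2, 18, 15, 6], [14, 13, 20, 19, 10, 8, 23, 7, 4, 9, 5, 11, 16, 6, 3, 22, 18, 17, 21, 0, 2, 12, 15, 1]⟩,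
  ⟨[19, 23, 20, 14, 8, 11, 6, 7, 1, 17, 4, 10, 21, 5, 15, 16, 2, 9, 22, 18, 12, 3, 0, 13], [22, 8, 16, 21, 10, 13, 6, 7, 4, 17, 11, 5, 20, 23, 3, 14, 15, 9, 19, 0, 2, 12, 18, 1]⟩,
  ⟨[19, 23, 20, 14, 10, 8, 13, 17, 1, 9, 6, 11, 0, 5, 21, 2, 18, 7, 3, 16, 22, 12, 15, 4], [12, 8, 15, 18, 23, 13, 10, 17, 5, 9, 4, 11, 21, 6, 3, 22, 19, 7, 16, 0, 2, 14, 20, 1]⟩,
  ⟨[19, 23, 20, 14, 10, 11, 4, 17, 5, 7, 6, 8, 0, 1, 15, 3, 22, 9, 2, 12, 18, 16, 21, 13], [12, 13, 18, 15, 6, 8, 10, 9, 11, 17, 4, 5, 19, 23, 3, 14, 21, 7, 20, 0, 2, 22, 16, 1]⟩,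
  ⟨[19, 23, 20, 14, 11, 8, 6, 9, 5, 17, 13, 10, 15, 1, 21, 12, 3, 7, 18, 22, 16, 2, 0, 4], [22, 13, 21, 16, 23, 8, 6, 17, 5, 7, 11, 4, 15, 10, 3, 12, 20, 9, 18, 0, 2, 14, 19, 1]⟩,
  ⟨[19, 23, 20, 14, 11, 10, 4, 9, 1, 7, 13, 8, 15, 5, 0, 18, 16, 17, 12, 2, 3, 22, 21, 6], [14, 8, 19, 20, 6, 13, 23, 9, 11, 7, 5, 4, 18, 10, 3, 12, 16, 17, 15, 0, 2, 22, 21, 1]⟩,
  ⟨[20, 1, 19, 14, 4, 6, 8, 9, 5, 17, 10, 13, 12, 23, 22, 15, 0, 7, 18, 21, 16, 2, 3, 11], [16, 1, 21, 22, 4, 8, 5, 17, 6, 7, 10, 23, 12, 11, 3, 15, 20, 9, 18, 2, 0, 19, 14, 13]⟩,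
  ⟨[20, 1, 19, 14, 4, 13, 11, 9, 23, 7, 10, 6, 12, 5, 3, 18, 16, 17, 15, 2, 0, 21, 22, 8], [20, 1, 19, 14, 4, 13, 11, 9, 23, 7, 10, 6, 12, 5, 3, 18, 16, 17, 15, 2, 0, 21, 22, 8]⟩,
  ⟨[20, 1, 19, 14, 6, 4, 8, 7, 23, 17, 11, 13, 22, 5, 12, 16, 2, 9, 21, 18, 15, 0, 3, 10], [21, 1, 16, 22, 5, 13, 4, 7, 6, 17, 23, 10, 14, 11, 3, 20, 15, 9, 19, 2, 0, 18, 12, 8]⟩,
  ⟨[20, 1, 19, 14, 6, 13, 10, 7, 5, 9, 11, 4, 22, 23, 3, 21, 15, 17, 16, 0, 2, 18, 12, 8], [19, 1, 20, 14, 11, 8, 4, 7, 23, 9, 6, 10, 22, 5, 3, 16, 18, 17, 21, 2, 0, 15, 12, 13]⟩,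
  ⟨[20, 1, 19, 14, 13, 4, 11, 17, 5, 7, 8, 6, 3, 23, 12, 0, 21, 9, 2, 15, 18, 16, 22, 10], [15, 1, 18, 12, 5, 8, 11, 9, 10, 17, 23, 6, 14, 4, 3, 19, 21, 7, 20, 2, 0, 16, 22, 13]⟩,
  ⟨[20, 1, 19, 14, 13, 6, 10, 17, 23, 9, 8, 4, 3, 5, 22, 2, 18, 7, 0, 16, 21, 15, 12, 11], [18, 1, 15, 12, 11, 13, 5, 17, 10, 9, 6, 23, 22, 4, 3, 21, 19, 7, 16, 2, 0, 20, 14, 8]⟩,
  ⟨[20, 4, 14, 19, 1, 5, 8, 9, 6, 7, 10, 23, 12, 13, 2, 15, 16, 17, 18, 3, 0, 22, 21, 11], [20, 4, 14, 19, 1, 5, 8, 9, 6, 7, 10, 23, 12, 13, 2, 15, 16, 17, 18, 3, 0, 22, 21, 11]⟩,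
  ⟨[20, 4, 14, 19, 1, 23, 11, 9, 13, 17, 10, 5, 12, 6, 21, 18, 0, 7, 15, 22, 16, 3, 2, 8], [16, 4, 22, 21, 1, 11, 13, 17, 23, 7, 10, 6, 12, 8, 2, 18, 20, 9, 15, 3, 0, 14, 19, 5]⟩,
  ⟨[20, 4, 14, 19, 5, 1, 8, 17, 13, 7, 11, 23, 2, 6, 12, 0, 22, 9, 3, 18, 15, 16, 21, 10], [15, 5, 12, 18, 1, 4, 13, 9, 6, 17, 23, 10, 14, 8, 2, 20, 21, 7, 19, 3, 0, 22, 16, 11]⟩,
  ⟨[20, 4, 14, 19, 5, 23, 10, 17, 6, 9, 11, 1, 2, 13, 21, 3, 15, 7, 0, 16, 22, 18, 12, 8], [18, 11, 12, 15, 1, 4, 8, 17, 23, 9, 6, 10, 22, 13, 2, 16, 19, 7, 21, 3, 0, 14, 20, 5]⟩,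
  ⟨[20, 4, 14, 19, 23, 1, 11, 7, 6, 17, 8, 5, 21, 13, 12, 16, 3, 9, 22, 15, 18, 0, 2, 10], [21, 5, 22, 16, 1, 11, 8, 7, 10, 17, 23, 6, 14, 13, 2, 19, 15, 9, 20, 3, 0, 12, 18, 4]⟩,
  ⟨[20, 4, 14, 19, 23, 5, 10, 7, 13, 9, 8, 1, 21, 6, 2, 22, 18, 17, 16, 0, 3, 15, 12, 11], [19, 11, 14, 20, 1, 5, 13, 7, 10, 9, 6, 23, 22, 8, 2, 21, 18, 17, 16, 3, 0, 12, 15, 4]⟩,
  ⟨[20, 5, 19, 14, 4, 6, 10, 17, 23, 7, 11, 13, 2, 1, 18, 3, 22, 9, 0, 12, 15, 21, 16, 8], [18, 13, 12, 15, 4, 1, 5, 9, 23, 17, 6, 10, 19, 11, 3, 20, 22, 7, 14, 2, 0, 21, 16, 8]⟩,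
  ⟨[20, 5, 19, 14, 4, 13, 8, 17, 1, 9, 11, 6, 2, 23, 16, 0, 15, 7, 3, 21, 22, 12, 18, 10], [15, 8, 12, 18, 4, 1, 11, 17, 6, 9, 23, 10, 21, 5, 3, 16, 14, 7, 22, 2, 0, 19, 20, 13]⟩,
  ⟨[20, 5, 19, 14, 6, 4, 10, 9, 1, 7, 8, 13, 18, 23, 2, 15, 21, 17, 12, 0, 3, 22, 16, 11], [19, 8, 14, 20, 5, 1, 4, 9, 10, 7, 6, 23, 18, 11, 3, 15, 22, 17, 12, 2, 0, 16, 21, 13]⟩,
  ⟨[20, 5, 19, 14, 6, 13, 11, 9, 23, 17, 8, 4, 18, 1, 16, 12, 3, 7, 15, 22, 21, 0, 2, 10], [21, 13, 22, 16, 11, 1, 4, 17, 10, 7, 23, 6, 15, 5, 3, 18, 14, 9, 12, 2, 0, 20, 19, 8]⟩,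
  ⟨[20, 5, 19, 14, 13, 4, 8, 7, 23, 9, 10, 6, 16, 1, 2, 22, 12, 17, 21, 3, 0, 15, 18, 11], [20, 13, 14, 19, 5, 1, 11, 7, 6, 9, 10, 23, 16, 4, 3, 21, 12, 17, 22, 2, 0, 18, 15, 8]⟩,
  ⟨[20, 5, 19, 14, 13, 6, 11, 7, 1, 17, 10, 4, 16, 23, 18, 21, 0, 9, 22, 15, 12, 3, 2, 8], [16, 8, 22, 21, 11, 1, 5, 7, 23, 17, 10, 6, 20, 4, 3, 19, 12, 9, 14, 2, 0, 15, 18, 13]⟩,
  ⟨[20, 6, 14, 19, 1, 5, 10, 7, 13, 17, 11, 23, 22, 4, 18, 21, 2, 9, 16, 12, 15, 3, 0, 8], [22, 4, 16, 21, 13, 5, 1, 7, 23, 17, 6, 10, 19, 8, 2, 20, 18, 9, 14, 3, 0, 15, 12, 11]⟩,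
  ⟨[20, 6, 14, 19, 1, 23, 8, 7, 4, 9, 11, 5, 22, 13, 0, 16, 15, 17, 21, 3, 2, 12, 18, 10], [14, 4, 20, 19, 8, 11, 1, 7, 6, 9, 23, 10, 21, 13, 2, 16, 15, 17, 22, 3, 0, 18, 12, 5]⟩,
  ⟨[20, 6, 14, 19, 5, 1, 10, 9, 4, 17, 8, 23, 18, 13, 22, 15, 3, 7, 12, 16, 21, 2, 0, 11], [22, 5, 21, 16, 8, 4, 1, 17, 10, 7, 6, 23, 18, 13, 2, 15, 19, 9, 12, 3, 0, 20, 14, 11]⟩,
  ⟨[20, 6, 14, 19, 5, 23, 11, 9, 13, 7, 8, 1, 18, 4, 0, 12, 21, 17, 15, 2, 3, 16, 22, 10], [14, 11, 19, 20, 13, 4, 1, 9, 10, 7, 23, 6, 15, 8, 2, 18, 21, 17, 12, 3, 0, 16, 22, 5]⟩,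
  ⟨[20, 6, 14, 19, 23, 1, 8, 17, 13, 9, 10, 5, 0, 4, 22, 2, 12, 7, 3, 21, 16, 15, 18, 11], [12, 5, 15, 18, 13, 11, 1, 17, 6, 9, 10, 23, 16, 8, 2, 21, 20, 7, 22, 3, 0, 19, 14, 4]⟩,
  ⟨[20, 6, 14, 19, 23, 5, 11, 17, 4, 7, 10, 1, 0, 13, 18, 3, 16, 9, 2, 15, 12, 21, 22, 8], [12, 11, 18, 15, 8, 5, 1, 9, 23, 17, 10, 6, 20, 13, 2, 19, 16, 7, 14, 3, 0, 21, 22, 4]⟩,
  ⟨[20, 13, 14, 19, 1, 5, 11, 17, 4, 9, 8, 23, 3, 6, 16, 0, 18, 7, 2, 22, 21, 12, 15, 10], [15, 4, 18, 12, 8, 5, 13, 17, 10, 9, 23, 6, 21, 1, 2, 22, 14, 7, 16, 3, 0, 20, 19, 11]⟩,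
  ⟨[20, 13, 14, 19, 1, 23, 10, 17, 6, 7, 8, 5, 3, 4, 15, 2, 21, 9, 0, 12, 18, 22, 16, 11], [18, 4, 15, 12, 13, 11, 8, 9, 10, 17, 6, 23, 19, 1, 2, 14, 22, 7, 20, 3, 0, 16, 21, 5]⟩,
  ⟨[20, 13, 14, 19, 5, 1, 11, 7, 6, 9, 10, 23, 16, 4, 3, 21, 12, 17, 22, 2, 0, 18, 15, 8], [20, 5, 19, 14, 13, 4, 8, 7, 23, 9, 10, 6, 16, 1, 2, 22, 12, 17, 21, 3, 0, 15, 18, 11]⟩,
  ⟨[20, 13, 14, 19, 5, 23, 8, 7, 4, 17, 10, 1, 16, 6, 15, 22, 0, 9, 21, 18, 12, 2, 3, 11], [16, 11, 21, 22, 8, 4, 13, 7, 6, 17, 10, 23, 20, 1, 2, 14, 12, 9, 19, 3, 0, 18, 15, 5]⟩,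
  ⟨[20, 13, 14, 19, 23, 1, 10, 9, 4, 7, 11, 5, 15, 6, 3, 18, 22, 17, 12, 0, 2, 21, 16, 8], [19, 5, 20, 14, 8, 11, 13, 9, 23, 7, 6, 10, 18, 1, 2, 12, 22, 17, 15, 3, 0, 21, 16, 4]⟩,
  ⟨[20, 13, 14, 19, 23, 5, 8, 9, 6, 17, 11, 1, 15, 4, 16, 12, 2, 7, 18, 21, 22, 0, 3, 10], [21, 11, 16, 22, 13, 5, 8, 17, 6, 7, 23, 10, 15, 1, 2, 12, 14, 9, 18, 3, 0, 19, 20, 4]⟩,
  ⟨[20, 23, 19, 14, 4, 6, 11, 7, 1, 9, 8, 13, 21, 5, 0, 16, 18, 17, 22, 2, 3, 12, 15, 10], [14, 8, 19, 20, 4, 13, 5, 7, 10, 9, 23, 6, 21, 11, 3, 22, 15, 17, 16, 2, 0, 12, 18, 1]⟩,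
  ⟨[20, 23, 19, 14, 4, 13, 10, 7, 5, 17, 8, 6, 21, 1, 15, 22, 3, 9, 16, 12, 18, 2, 0, 11], [22, 13, 21, 16, 4, 8, 11, 7, 10, 17, 6, 23, 19, 5, 3, 14, 18, 9, 20, 2, 0, 12, 15, 1]⟩,
  ⟨[20, 23, 19, 14, 6, 4, 11, 17, 5, 9, 10, 13, 0, 1, 21, 3, 12, 7, 2, 22, 16, 18, 15, 8], [12, 13, 18, 15, 5, 8, 4, 17, 23, 9, 10, 6, 16, 11, 3, 22, 20, 7, 21, 2, 0, 14, 19, 1]⟩,
  ⟨[20, 23, 19, 14, 6, 13, 8, 17, 1, 7, 10, 4, 0, 5, 15, 2, 16, 9, 3, 18, 12, 22, 21, 11], [12, 8, 15, 18, 11, 13, 4, 9, 6, 17, 10, 23, 20, 5, 3, 14, 16, 7, 19, 2, 0, 22, 21, 1]⟩,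
  ⟨[20, 23, 19, 14, 13, 4, 10, 9, 1, 17, 11, 6, 15, 5, 21, 18, 2, 7, 12, 16, 22, 3, 0, 8], [22, 8, 16, 21, 5, 13, 11, 17, 23, 7, 6, 10, 18, 4, 3, 12, 19, 9, 15, 2, 0, 14, 20, 1]⟩,
  ⟨[20, 23, 19, 14, 13, 6, 8, 9, 5, 7, 11, 4, 15, 1, 0, 12, 22, 17, 18, 3, 2, 16, 21, 10], [14, 13, 20, 19, 11, 8, 5, 9, 6, 7, 23, 10, 15, 4, 3, 12, 21, 17, 18, 2, 0, 22, 16, 1]⟩,
  ⟨[21, 1, 16, 22, 5, 10, 8, 7, 11, 9, 23, 13, 14, 6, 12, 19, 0, 17, 20, 18, 15, 2, 3, 4], [16, 1, 21, 22, 23, 4, 13, 7, 6, 9, 5, 8, 14, 11, 12, 20, 2, 17, 19, 15, 18, 0, 3, 10]⟩,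
  ⟨[21, 1, 16, 22, 5, 13, 4, 7, 6, 17, 23, 10, 14, 11, 3, 20, 15, 9, 19, 2, 0, 18, 12, 8], [20, 1, 19, 14, 6, 4, 8, 7, 23, 17, 11, 13, 22, 5, 12, 16, 2, 9, 21, 18, 15, 0, 3, 10]⟩,
  ⟨[21, 1, 16, 22, 10, 5, 8, 17, 6, 9, 4, 13, 12, 11, 14, 15, 2, 7, 18, 20, 19, 0, 3, 23], [21, 1, 16, 22, 10, 5, 8, 17, 6, 9, 4, 13, 12, 11, 14, 15, 2, 7, 18, 20, 19, 0, 3, 23]⟩,
  ⟨[21, 1, 16, 22, 10, 13, 23, 17, 11, 7, 4, 5, 12, 6, 3, 18, 19, 9, 15, 0, 2, 20, 14, 8], [19, 1, 20, 14, 10, 11, 13, 9, 23, 17, 4, 8, 12, 5, 22, 18, 2, 7, 15, 16, 21, 0, 3, 6]⟩,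
  ⟨[21, 1, 16, 22, 13, 5, 4, 9, 11, 17, 8, 10, 3, 6, 14, 0, 18, 7, 2, 19, 20, 15, 12, 23], [15, 1, 18, 12, 6, 5, 13, 17, 10, 7, 11, 8, 22, 4, 14, 21, 2, 9, 16, 19, 20, 0, 3, 23]⟩,
  ⟨[21, 1, 16, 22, 13, 10, 23, 9, 6, 7, 8, 5, 3, 11, 12, 2, 20, 17, 0, 15, 18, 19, 14, 4], [18, 1, 15, 12, 23, 11, 8, 9, 10, 7, 5, 13, 14, 4, 22, 19, 2, 17, 20, 21, 16, 0, 3, 6]⟩,
  ⟨[21, 5, 22, 16, 1, 6, 4, 7, 13, 9, 23, 11, 14, 10, 18, 20, 0, 17, 19, 12, 15, 3, 2, 8], [16, 4, 22, 21, 6, 1, 5, 7, 23, 9, 13, 11, 19, 8, 12, 20, 3, 17, 14, 18, 15, 0, 2, 10]⟩,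
  ⟨[21, 5, 22, 16, 1, 11, 8, 7, 10, 17, 23, 6, 14, 13, 2, 19, 15, 9, 20, 3, 0, 12, 18, 4], [20, 4, 14, 19, 23, 1, 11, 7, 6, 17, 8, 5, 21, 13, 12, 16, 3, 9, 22, 15, 18, 0, 2, 10]⟩,
  ⟨[21, 5, 22, 16, 6, 1, 4, 17, 10, 9, 8, 11, 18, 13, 14, 15, 3, 7, 12, 19, 20, 0, 2, 23], [21, 5, 22, 16, 6, 1, 4, 17, 10, 9, 8, 11, 18, 13, 14, 15, 3, 7, 12, 19, 20, 0, 2, 23]⟩,
  ⟨[21, 5, 22, 16, 6, 11, 23, 17, 13, 7, 8, 1, 18, 10, 2, 12, 20, 9, 15, 0, 3, 19, 14, 4], [19, 11, 14, 20, 23, 1, 4, 9, 10, 17, 13, 5, 15, 8, 22, 18, 3, 7, 12, 21, 16, 0, 2, 6]⟩,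
  ⟨[21, 5, 22, 16, 11, 1, 8, 9, 13, 17, 4, 6, 2, 10, 14, 0, 12, 7, 3, 20, 19, 15, 18, 23], [15, 5, 12, 18, 10, 1, 11, 17, 6, 7, 13, 4, 16, 8, 14, 21, 3, 9, 22, 20, 19, 0, 2, 23]⟩,
  ⟨[21, 5, 22, 16, 11, 6, 23, 9, 10, 7, 4, 1, 2, 13, 18, 3, 19, 17, 0, 15, 12, 20, 14, 8], [18, 11, 12, 15, 10, 1, 5, 9, 23, 7, 8, 4, 20, 13, 22, 19, 3, 17, 14, 16, 21, 0, 2, 6]⟩,
  ⟨[21, 6, 16, 22, 5, 10, 4, 17, 1, 7, 8, 13, 18, 11, 0, 15, 20, 9, 12, 2, 3, 14, 19, 23], [14, 8, 19, 20, 6, 4, 1, 9, 10, 17, 5, 13, 18, 11, 21, 15, 2, 7, 12, 22, 16, 0, 3, 23]⟩,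
  ⟨[21, 6, 16, 22, 5, 13, 23, 17, 11, 9, 8, 10, 18, 1, 19, 12, 3, 7, 15, 14, 20, 2, 0, 4], [22, 13, 21, 16, 23, 4, 1, 17, 10, 9, 11, 8, 15, 5, 19, 18, 2, 7, 12, 14, 20, 0, 3, 6]⟩,
  ⟨[21, 6, 16, 22, 10, 5, 4, 9, 11, 7, 23, 13, 0, 1, 18, 3, 14, 17, 2, 12, 15, 20, 19, 8], [12, 13, 18, 15, 6, 5, 1, 9, 23, 7, 4, 8, 19, 11, 16, 20, 2, 17, 14, 22, 21, 0, 3, 10]⟩,
  ⟨[21, 6, 16, 22, 10, 13, 8, 9, 1, 17, 23, 5, 0, 11, 19, 2, 15, 7, 3, 20, 14, 12, 18, 4], [12, 8, 15, 18, 23, 11, 1, 17, 6, 7, 4, 13, 21, 5, 20, 16, 2, 9, 22, 14, 19, 0, 3, 10]⟩,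
  ⟨[21, 6, 16, 22, 13, 5, 23, 7, 1, 9, 4, 10, 19, 11, 18, 20, 2, 17, 14, 15, 12, 3, 0, 8], [22, 8, 16, 21, 10, 5, 1, 7, 23, 9, 11, 13, 20, 4, 18, 19, 2, 17, 14, 12, 15, 0, 3, 6]⟩,
  ⟨[21, 6, 16, 22, 13, 10, 8, 7, 11, 17, 4, 5, 19, 1, 0, 14, 12, 9, 20, 3, 2, 15, 18, 23], [14, 13, 20, 19, 10, 11, 1, 7, 6, 17, 5, 8, 16, 4, 15, 21, 2, 9, 22, 12, 18, 0, 3, 23]⟩,
  ⟨[21, 10, 22, 16, 1, 6, 8, 17, 5, 7, 4, 11, 12, 13, 0, 15, 19, 9, 18, 3, 2, 14, 20, 23], [14, 4, 20, 19, 10, 8, 5, 9, 6, 17, 1, 11, 12, 13, 21, 15, 3, 7, 18, 16, 22, 0, 2, 23]⟩,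
  ⟨[21, 10, 22, 16, 1, 11, 23, 17, 13, 9, 4, 6, 12, 5, 20, 18, 2, 7, 15, 14, 19, 3, 0, 8], [22, 4, 16, 21, 10, 13, 11, 17, 23, 9, 1, 5, 12, 8, 19, 18, 3, 7, 15, 20, 14, 0, 2, 6]⟩,
  ⟨[21, 10, 22, 16, 6, 1, 8, 9, 13, 7, 23, 11, 0, 5, 12, 2, 14, 17, 3, 18, 15, 19, 20, 4], [12, 5, 15, 18, 23, 13, 4, 9, 6, 7, 1, 11, 14, 8, 16, 20, 3, 17, 19, 21, 22, 0, 2, 10]⟩,
  ⟨[21, 10, 22, 16, 6, 11, 4, 9, 5, 17, 23, 1, 0, 13, 20, 3, 15, 7, 2, 19, 14, 18, 12, 8], [12, 11, 18, 15, 6, 8, 4, 17, 23, 7, 1, 5, 22, 13, 20, 16, 3, 9, 21, 19, 14, 0, 2, 10]⟩,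
  ⟨[21, 10, 22, 16, 11, 1, 23, 7, 5, 9, 8, 6, 20, 13, 12, 19, 3, 17, 14, 15, 18, 2, 0, 4], [22, 5, 21, 16, 23, 8, 11, 7, 10, 9, 1, 4, 14, 13, 18, 19, 3, 17, 20, 15, 12, 0, 2, 6]⟩,
  ⟨[21, 10, 22, 16, 11, 6, 4, 7, 13, 17, 8, 1, 20, 5, 0, 14, 18, 9, 19, 2, 3, 15, 12, 23], [14, 11, 19, 20, 6, 13, 5, 7, 10, 17, 1, 4, 22, 8, 15, 21, 3, 9, 16, 18, 12, 0, 2, 23]⟩,
  ⟨[21, 11, 16, 22, 5, 10, 23, 9, 6, 17, 4, 13, 2, 1, 20, 3, 12, 7, 0, 14, 19, 18, 15, 8], [18, 13, 12, 15, 10, 4, 8, 17, 23, 7, 5, 1, 16, 11, 19, 22, 2, 9, 21, 20, 14, 0, 3, 6]⟩,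
  ⟨[21, 11, 16, 22, 5, 13, 8, 9, 1, 7, 4, 10, 2, 6, 15, 0, 19, 17, 3, 18, 12, 14, 20, 23], [15, 8, 12, 18, 10, 4, 13, 9, 6, 7, 11, 1, 20, 5, 21, 14, 2, 17, 19, 16, 22, 0, 3, 23]⟩,
  ⟨[21, 11, 16, 22, 10, 5, 23, 7, 1, 17, 8, 13, 20, 6, 2, 19, 18, 9, 14, 0, 3, 12, 15, 4], [19, 8, 14, 20, 23, 5, 13, 7, 10, 17, 4, 1, 21, 11, 18, 22, 2, 9, 16, 15, 12, 0, 3, 6]⟩,
  ⟨[21, 11, 16, 22, 10, 13, 4, 7, 6, 9, 8, 5, 20, 1, 15, 14, 3, 17, 19, 12, 18, 0, 2, 23], [21, 13, 22, 16, 6, 11, 8, 7, 10, 9, 4, 1, 19, 5, 15, 14, 2, 17, 20, 18, 12, 0, 3, 23]⟩,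
  ⟨[21, 11, 16, 22, 13, 5, 8, 17, 6, 7, 23, 10, 15, 1, 2, 12, 14, 9, 18, 3, 0, 19, 20, 4], [20, 13, 14, 19, 23, 5, 8, 9, 6, 17, 11, 1, 15, 4, 16, 12, 2, 7, 18, 21, 22, 0, 3, 10]⟩,
  ⟨[21, 11, 16, 22, 13, 10, 4, 17, 1, 9, 23, 5, 15, 6, 20, 18, 0, 7, 12, 19, 14, 3, 2, 8], [16, 8, 22, 21, 6, 11, 13, 17, 23, 9, 5, 1, 18, 4, 20, 12, 2, 7, 15, 19, 14, 0, 3, 10]⟩,
  ⟨[21, 13, 22, 16, 1, 6, 23, 9, 10, 17, 8, 11, 3, 5, 19, 2, 18, 7, 0, 14, 20, 12, 15, 4], [18, 4, 15, 12, 23, 13, 5, 17, 10, 7, 8, 11, 21, 1, 19, 22, 3, 9, 16, 14, 20, 0, 2, 6]⟩,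
  ⟨[21, 13, 22, 16, 1, 11, 4, 9, 5, 7, 8, 6, 3, 10, 15, 0, 20, 17, 2, 12, 18, 14, 19, 23], [15, 4, 18, 12, 6, 8, 11, 9, 10, 7, 13, 5, 19, 1, 21, 14, 3, 17, 20, 22, 16, 0, 2, 23]⟩,
  ⟨[21, 13, 22, 16, 6, 1, 23, 7, 5, 17, 4, 11, 19, 10, 3, 20, 12, 9, 14, 0, 2, 18, 15, 8], [19, 5, 20, 14, 10, 8, 4, 7, 23, 17, 13, 11, 16, 1, 18, 22, 3, 9, 21, 12, 15, 0, 2, 6]⟩,
  ⟨[21, 13, 22, 16, 6, 11, 8, 7, 10, 9, 4, 1, 19, 5, 15, 14, 2, 17, 20, 18, 12, 0, 3, 23], [21, 11, 16, 22, 10, 13, 4, 7, 6, 9, 8, 5, 20, 1, 15, 14, 3, 17, 19, 12, 18, 0, 2, 23]⟩,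
  ⟨[21, 13, 22, 16, 11, 1, 4, 17, 10, 7, 23, 6, 15, 5, 3, 18, 14, 9, 12, 2, 0, 20, 19, 8], [20, 5, 19, 14, 6, 13, 11, 9, 23, 17, 8, 4, 18, 1, 16, 12, 3, 7, 15, 22, 21, 0, 2, 10]⟩,
  ⟨[21, 13, 22, 16, 11, 6, 8, 17, 5, 9, 23, 1, 15, 10, 19, 12, 0, 7, 18, 20, 14, 2, 3, 4], [16, 11, 21, 22, 23, 8, 5, 17, 6, 9, 13, 4, 15, 1, 20, 12, 3, 7, 18, 14, 19, 0, 2, 10]⟩,
  ⟨[22, 4, 16, 21, 5, 10, 6, 9, 23, 7, 11, 13, 2, 8, 12, 3, 20, 17, 0, 18, 15, 14, 19, 1], [18, 23, 12, 15, 1, 4, 6, 9, 13, 7, 5, 10, 14, 11, 21, 20, 2, 17, 19, 22, 16, 3, 0, 8]⟩,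
  ⟨[22, 4, 16, 21, 5, 13, 1, 9, 8, 17, 11, 10, 2, 23, 19, 0, 15, 7, 3, 14, 20, 18, 12, 6], [15, 6, 12, 18, 1, 4, 23, 17, 8, 7, 11, 10, 22, 5, 19, 16, 2, 9, 21, 14, 20, 3, 0, 13]⟩,
  ⟨[22, 4, 16, 21, 10, 5, 6, 17, 8, 7, 1, 13, 12, 23, 2, 15, 14, 9, 18, 0, 3, 20, 19, 11], [19, 10, 14, 20, 1, 5, 6, 9, 8, 17, 4, 23, 12, 11, 16, 15, 2, 7, 18, 22, 21, 3, 0, 13]⟩,
  ⟨[22, 4, 16, 21, 10, 13, 11, 17, 23, 9, 1, 5, 12, 8, 19, 18, 3, 7, 15, 20, 14, 0, 2, 6], [21, 10, 22, 16, 1, 11, 23, 17, 13, 9, 4, 6, 12, 5, 20, 18, 2, 7, 15, 14, 19, 3, 0, 8]⟩,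
  ⟨[22, 4, 16, 21, 13, 5, 1, 7, 23, 17, 6, 10, 19, 8, 2, 20, 18, 9, 14, 3, 0, 15, 12, 11], [20, 6, 14, 19, 1, 5, 10, 7, 13, 17, 11, 23, 22, 4, 18, 21, 2, 9, 16, 12, 15, 3, 0, 8]⟩,
  ⟨[22, 4, 16, 21, 13, 10, 11, 7, 8, 9, 6, 5, 19, 23, 12, 14, 0, 17, 20, 15, 18, 3, 2, 1], [16, 23, 22, 21, 1, 11, 10, 7, 8, 9, 5, 6, 14, 4, 15, 19, 2, 17, 20, 12, 18, 3, 0, 13]⟩,
  ⟨[22, 5, 21, 16, 4, 8, 1, 9, 13, 7, 11, 23, 2, 10, 18, 0, 20, 17, 3, 12, 15, 19, 14, 6], [15, 6, 12, 18, 4, 1, 23, 9, 5, 7, 13, 10, 19, 8, 22, 20, 3, 17, 14, 21, 16, 2, 0, 11]⟩,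
  ⟨[22, 5, 21, 16, 4, 23, 6, 9, 10, 17, 11, 8, 2, 13, 14, 3, 15, 7, 0, 19, 20, 12, 18, 1], [18, 23, 12, 15, 4, 1, 6, 17, 11, 7, 8, 10, 21, 13, 14, 16, 3, 9, 22, 19, 20, 2, 0, 5]⟩,
  ⟨[22, 5, 21, 16, 8, 4, 1, 17, 10, 7, 6, 23, 18, 13, 2, 15, 19, 9, 12, 3, 0, 20, 14, 11], [20, 6, 14, 19, 5, 1, 10, 9, 4, 17, 8, 23, 18, 13, 22, 15, 3, 7, 12, 16, 21, 2, 0, 11]⟩,
  ⟨[22, 5, 21, 16, 8, 23, 11, 17, 13, 9, 6, 4, 18, 10, 14, 12, 0, 7, 15, 20, 19, 3, 2, 1], [16, 23, 22, 21, 11, 1, 10, 17, 4, 9, 13, 6, 15, 8, 14, 18, 3, 7, 12, 20, 19, 2, 0, 5]⟩,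
  ⟨[22, 5, 21, 16, 23, 4, 6, 7, 13, 17, 1, 8, 14, 10, 2, 20, 12, 9, 19, 0, 3, 15, 18, 11], [19, 10, 14, 20, 5, 1, 6, 7, 11, 17, 13, 23, 16, 8, 12, 21, 3, 9, 22, 18, 15, 2, 0, 4]⟩,
  ⟨[22, 5, 21, 16, 23, 8, 11, 7, 10, 9, 1, 4, 14, 13, 18, 19, 3, 17, 20, 15, 12, 0, 2, 6], [21, 10, 22, 16, 11, 1, 23, 7, 5, 9, 8, 6, 20, 13, 12, 19, 3, 17, 14, 15, 18, 2, 0, 4]⟩,
  ⟨[22, 8, 16, 21, 5, 10, 1, 17, 4, 9, 6, 13, 18, 23, 20, 15, 0, 7, 12, 14, 19, 2, 3, 11], [16, 6, 21, 22, 8, 4, 10, 17, 1, 9, 5, 23, 18, 11, 19, 15, 2, 7, 12, 20, 14, 3, 0, 13]⟩,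
  ⟨[22, 8, 16, 21, 5, 13, 11, 17, 23, 7, 6, 10, 18, 4, 3, 12, 19, 9, 15, 2, 0, 14, 20, 1], [20, 23, 19, 14, 13, 4, 10, 9, 1, 17, 11, 6, 15, 5, 21, 18, 2, 7, 12, 16, 22, 3, 0, 8]⟩,
  ⟨[22, 8, 16, 21, 10, 5, 1, 7, 23, 9, 11, 13, 20, 4, 18, 19, 2, 17, 14, 12, 15, 0, 3, 6], [21, 6, 16, 22, 13, 5, 23, 7, 1, 9, 4, 10, 19, 11, 18, 20, 2, 17, 14, 15, 12, 3, 0, 8]⟩,
  ⟨[22, 8, 16, 21, 10, 13, 6, 7, 4, 17, 11, 5, 20, 23, 3, 14, 15, 9, 19, 0, 2, 12, 18, 1], [19, 23, 20, 14, 8, 11, 6, 7, 1, 17, 4, 10, 21, 5, 15, 16, 2, 9, 22, 18, 12, 3, 0, 13]⟩,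
  ⟨[22, 8, 16, 21, 13, 5, 11, 9, 4, 7, 1, 10, 3, 23, 18, 0, 14, 17, 2, 15, 12, 19, 20, 6], [15, 10, 18, 12, 8, 5, 23, 9, 1, 7, 11, 6, 20, 4, 16, 19, 2, 17, 14, 21, 22, 3, 0, 13]⟩,
  ⟨[22, 8, 16, 21, 13, 10, 6, 9, 23, 17, 1, 5, 3, 4, 20, 2, 12, 7, 0, 19, 14, 15, 18, 11], [18, 10, 15, 12, 13, 11, 6, 17, 1, 7, 5, 23, 16, 4, 20, 21, 2, 9, 22, 19, 14, 3, 0, 8]⟩,
  ⟨[22, 10, 21, 16, 4, 8, 6, 17, 5, 9, 1, 23, 12, 13, 20, 15, 3, 7, 18, 19, 14, 2, 0, 11], [22, 10, 21, 16, 4, 8, 6, 17, 5, 9, 1, 23, 12, 13, 20, 15, 3, 7, 18, 19, 14, 2, 0, 11]⟩,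
  ⟨[22, 10, 21, 16, 4, 23, 11, 17, 13, 7, 1, 8, 12, 5, 0, 18, 14, 9, 15, 2, 3, 19, 20, 6], [14, 10, 19, 20, 4, 13, 23, 9, 11, 17, 1, 6, 12, 8, 16, 18, 3, 7, 15, 21, 22, 2, 0, 5]⟩,
  ⟨[22, 10, 21, 16, 8, 4, 6, 7, 13, 9, 11, 23, 20, 5, 12, 14, 2, 17, 19, 18, 15, 3, 0, 1], [22, 23, 16, 21, 5, 13, 6, 7, 4, 9, 1, 10, 14, 8, 15, 20, 3, 17, 19, 18, 12, 2, 0, 11]⟩,
  ⟨[22, 10, 21, 16, 8, 23, 1, 7, 5, 17, 11, 4, 20, 13, 0, 19, 15, 9, 14, 3, 2, 18, 12, 6], [14, 6, 20, 19, 11, 8, 23, 7, 4, 17, 1, 10, 22, 13, 18, 16, 3, 9, 21, 15, 12, 2, 0, 5]⟩,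
  ⟨[22, 10, 21, 16, 23, 4, 11, 9, 5, 7, 6, 8, 0, 13, 12, 3, 19, 17, 2, 15, 18, 14, 20, 1], [12, 23, 18, 15, 5, 8, 10, 9, 11, 7, 1, 6, 14, 13, 21, 19, 3, 17, 20, 16, 22, 2, 0, 4]⟩,
  ⟨[22, 10, 21, 16, 23, 8, 1, 9, 13, 17, 6, 4, 0, 5, 20, 2, 18, 7, 3, 14, 19, 15, 12, 11], [12, 6, 15, 18, 11, 13, 10, 17, 5, 7, 1, 23, 22, 8, 19, 21, 3, 9, 16, 20, 14, 2, 0, 4]⟩,
  ⟨[22, 13, 21, 16, 4, 8, 11, 7, 10, 17, 6, 23, 19, 5, 3, 14, 18, 9, 20, 2, 0, 12, 15, 1], [20, 23, 19, 14, 4, 13, 10, 7, 5, 17, 8, 6, 21, 1, 15, 22, 3, 9, 16, 12, 18, 2, 0, 11]⟩,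
  ⟨[22, 13, 21, 16, 4, 23, 1, 7, 5, 9, 6, 8, 19, 10, 15, 20, 0, 17, 14, 12, 18, 2, 3, 11], [16, 6, 21, 22, 4, 8, 10, 7, 11, 9, 13, 23, 19, 1, 18, 14, 3, 17, 20, 12, 15, 2, 0, 5]⟩,
  ⟨[22, 13, 21, 16, 8, 4, 11, 9, 5, 17, 1, 23, 3, 10, 19, 0, 12, 7, 2, 20, 14, 18, 15, 6], [15, 10, 18, 12, 5, 8, 23, 17, 4, 7, 13, 6, 16, 1, 20, 22, 3, 9, 21, 14, 19, 2, 0, 11]⟩,
  ⟨[22, 13, 21, 16, 8, 23, 6, 9, 10, 7, 1, 4, 3, 5, 15, 2, 14, 17, 0, 18, 12, 20, 19, 11], [18, 10, 15, 12, 11, 13, 6, 9, 4, 7, 8, 23, 20, 1, 16, 14, 3, 17, 19, 22, 21, 2, 0, 5]⟩,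
  ⟨[22, 13, 21, 16, 23, 4, 1, 17, 10, 9, 11, 8, 15, 5, 19, 18, 2, 7, 12, 14, 20, 0, 3, 6], [21, 6, 16, 22, 5, 13, 23, 17, 11, 9, 8, 10, 18, 1, 19, 12, 3, 7, 15, 14, 20, 2, 0, 4]⟩,
  ⟨[22, 13, 21, 16, 23, 8, 6, 17, 5, 7, 11, 4, 15, 10, 3, 12, 20, 9, 18, 0, 2, 14, 19, 1], [19, 23, 20, 14, 11, 8, 6, 9, 5, 17, 13, 10, 15, 1, 21, 12, 3, 7, 18, 22, 16, 2, 0, 4]⟩,
  ⟨[22, 23, 16, 21, 5, 10, 11, 7, 8, 17, 1, 13, 14, 4, 0, 19, 12, 9, 20, 2, 3, 18, 15, 6], [14, 10, 19, 20, 13, 4, 23, 7, 8, 17, 5, 6, 16, 11, 12, 22, 2, 9, 21, 15, 18, 3, 0, 1]⟩,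
  ⟨[22, 23, 16, 21, 5, 13, 6, 7, 4, 9, 1, 10, 14, 8, 15, 20, 3, 17, 19, 18, 12, 2, 0, 11], [22, 10, 21, 16, 8, 4, 6, 7, 13, 9, 11, 23, 20, 5, 12, 14, 2, 17, 19, 18, 15, 3, 0, 1]⟩,
  ⟨[22, 23, 16, 21, 10, 5, 11, 9, 4, 17, 6, 13, 0, 8, 14, 3, 18, 7, 2, 20, 19, 12, 15, 1], [12, 23, 18, 15, 8, 5, 10, 17, 13, 7, 4, 6, 21, 11, 14, 22, 2, 9, 16, 20, 19, 3, 0, 1]⟩,
  ⟨[22, 23, 16, 21, 10, 13, 1, 9, 8, 7, 6, 5, 0, 4, 15, 2, 19, 17, 3, 12, 18, 20, 14, 11], [12, 6, 15, 18, 13, 11, 10, 9, 8, 7, 4, 23, 19, 5, 22, 14, 2, 17, 20, 16, 21, 3, 0, 1]⟩,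
  ⟨[22, 23, 16, 21, 13, 5, 6, 17, 8, 9, 11, 10, 15, 4, 14, 12, 2, 7, 18, 19, 20, 3, 0, 1], [22, 23, 16, 21, 13, 5, 6, 17, 8, 9, 11, 10, 15, 4, 14, 12, 2, 7, 18, 19, 20, 3, 0, 1]⟩,
  ⟨[22, 23, 16, 21, 13, 10, 1, 17, 4, 7, 11, 5, 15, 8, 0, 18, 20, 9, 12, 3, 2, 19, 14, 6], [14, 6, 20, 19, 8, 11, 23, 9, 13, 17, 5, 10, 18, 4, 22, 12, 2, 7, 15, 21, 16, 3, 0, 1]⟩]

set_option maxRecDepth 1000000 in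
def NL : List PermData := [⟨[0, 1, 2, 3, 4, 5, 6, 7, 8, 9, 10, 11, 12, 13, 14, 15, 16, 17, 18, 19, 20, 21, 22, 23], [0, 1, 2, 3, 4, 5, 6, 7, 8, 9, 10, 11, 12, 13, 14, 15, 16, 17, 18, 19, 20, 21, 22, 23]⟩,
  ⟨[0, 8, 2, 3, 5, 11, 23, 7, 13, 9, 6, 4, 18, 1, 20, 12, 22, 17, 15, 14, 19, 16, 21, 10], [0, 13, 2, 3, 11, 4, 10, 7, 1, 9, 23, 5, 15, 8, 19, 18, 21, 17, 12, 20, 14, 22, 16, 6]⟩,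
  ⟨[0, 13, 2, 3, 11, 4, 10, 7, 1, 9, 23, 5, 15, 8, 19, 18, 21, 17, 12, 20, 14, 22, 16, 6], [0, 8, 2, 3, 5, 11, 23, 7, 13, 9, 6, 4, 18, 1, 20, 12, 22, 17, 15, 14, 19, 16, 21, 10]⟩,
  ⟨[2, 6, 3, 0, 8, 13, 11, 7, 23, 9, 5, 1, 18, 10, 19, 12, 16, 17, 15, 20, 14, 21, 22, 4], [3, 11, 0, 2, 23, 10, 1, 7, 4, 9, 13, 6, 15, 5, 20, 18, 16, 17, 12, 14, 19, 21, 22, 8]⟩,
  ⟨[2, 10, 3, 0, 1, 8, 5, 7, 6, 9, 4, 13, 12, 23, 20, 15, 21, 17, 18, 14, 19, 22, 16, 11], [3, 4, 0, 2, 10, 6, 8, 7, 5, 9, 1, 23, 12, 11, 19, 15, 22, 17, 18, 20, 14, 16, 21, 13]⟩,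
  ⟨[2, 23, 3, 0, 13, 1, 4, 7, 10, 9, 11, 8, 15, 6, 14, 18, 22, 17, 12, 19, 20, 16, 21, 5], [3, 5, 0, 2, 6, 23, 13, 7, 11, 9, 8, 10, 18, 4, 14, 12, 21, 17, 15, 19, 20, 22, 16, 1]⟩,
  ⟨[3, 4, 0, 2, 10, 6, 8, 7, 5, 9, 1, 23, 12, 11, 19, 15, 22, 17, 18, 20, 14, 16, 21, 13], [2, 10, 3, 0, 1, 8, 5, 7, 6, 9, 4, 13, 12, 23, 20, 15, 21, 17, 18, 14, 19, 22, 16, 11]⟩,
  ⟨[3, 5, 0, 2, 6, 23, 13, 7, 11, 9, 8, 10, 18, 4, 14, 12, 21, 17, 15, 19, 20, 22, 16, 1], [2, 23, 3, 0, 13, 1, 4, 7, 10, 9, 11, 8, 15, 6, 14, 18, 22, 17, 12, 19, 20, 16, 21, 5]⟩,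
  ⟨[3, 11, 0, 2, 23, 10, 1, 7, 4, 9, 13, 6, 15, 5, 20, 18, 16, 17, 12, 14, 19, 21, 22, 8], [2, 6, 3, 0, 8, 13, 11, 7, 23, 9, 5, 1, 18, 10, 19, 12, 16, 17, 15, 20, 14, 21, 22, 4]⟩]

/-- the quartet stabiliser inside the stabiliser of the base dodecad. -/
abbrev H0 : Subgroup (Equiv.Perm GolayPt) := stabIn (dec dod0) ⊓ stabIn (decQ q0)

/-! ### table permutations -/

theorem tbl_lt {d : PermData} (h : d.ok = true) {i : ℕ} (hi : i < 24) : d.tbl.getD i 0 < 24 :=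
  ((PermData.ok_spec h).2.2 i hi).1

theorem toPerm_apply_pt {d : PermData} (h : d.ok = true) {i : ℕ} (hi : i < 24) :
    d.toPerm (pt i) = pt (d.tbl.getD i 0) := by
  rw [PermData.toPerm_apply h, idx_pt _ hi]

theorem toPerm_eq_iff {d e : PermData} (hd : d.ok = true) (he : e.ok = true) :
    d.toPerm = e.toPerm ↔ ∀ i, i < 24 → d.tbl.getD i 0 = e.tbl.getD i 0 := by
  constructor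
  · intro h i hi
    have h1 : d.toPerm (pt i) = e.toPerm (pt i) := by rw [h]
    rw [toPerm_apply_pt hd hi, toPerm_apply_pt he hi] at h1
    have h2 := congrArg idx h1
    rwa [idx_pt _ (tbl_lt hd hi), idx_pt _ (tbl_lt he hi)] at h2
  · intro h
    apply Equiv.ext
    intro p
    rw [PermData.toPerm_apply hd, PermData.toPerm_apply he, h _ (idx_lt p)]

/-- Boolean check: `f = d ∘ e` on tables. -/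
def mulChk (d e f : PermData) : Bool :=
  (List.range 24).all fun i => f.tbl.getD i 0 == d.tbl.getD (e.tbl.getD i 0) 0

theorem toPerm_mul_iff {d e f : PermData} (hd : d.ok = true) (he : e.ok = true) (hf : f.ok = true) :
    d.toPerm * e.toPerm = f.toPerm ↔ mulChk d e f = true := by
  simp only [mulChk, List.all_eq_true, List.mem_range, beq_iff_eq]
  constructor
  · intro h i hi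
    have h1 : (d.toPerm * e.toPerm) (pt i) = f.toPerm (pt i) := by rw [h]
    rw [Equiv.Perm.mul_apply, toPerm_apply_pt he hi, toPerm_apply_pt hd (tbl_lt he hi),
      toPerm_apply_pt hf hi] at h1
    have h2 := congrArg idx h1
    rw [idx_pt _ (tbl_lt hd (tbl_lt he hi)), idx_pt _ (tbl_lt hf hi)] at h2
    exact h2.symm
  · intro h
    apply Equiv.ext
    intro p
    rw [Equiv.Perm.mul_apply, PermData.toPerm_apply he, toPerm_apply_pt hd (tbl_lt he (idx_lt p)),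
      PermData.toPerm_apply hf, h _ (idx_lt p)]

/-- Boolean check: `d ∘ e = f ∘ d` on tables, i.e. `d e d⁻¹ = f`. -/
def conjChk (d e f : PermData) : Bool :=
  (List.range 24).all fun i => d.tbl.getD (e.tbl.getD i 0) 0 == f.tbl.getD (d.tbl.getD i 0) 0

theorem toPerm_conj_iff {d e f : PermData} (hd : d.ok = true) (he : e.ok = true)
    (hf : f.ok = true) :
    d.toPerm * e.toPerm * (d.toPerm)⁻¹ = f.toPerm ↔ conjChk d e f = true := by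
  rw [mul_inv_eq_iff_eq_mul]
  simp only [conjChk, List.all_eq_true, List.mem_range, beq_iff_eq]
  constructor
  · intro h i hi
    have h1 : (d.toPerm * e.toPerm) (pt i) = (f.toPerm * d.toPerm) (pt i) := by rw [h]
    rw [Equiv.Perm.mul_apply, Equiv.Perm.mul_apply, toPerm_apply_pt he hi,
      toPerm_apply_pt hd (tbl_lt he hi), toPerm_apply_pt hd hi,
      toPerm_apply_pt hf (tbl_lt hd hi)] at h1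
    have h2 := congrArg idx h1
    rwa [idx_pt _ (tbl_lt hd (tbl_lt he hi)), idx_pt _ (tbl_lt hf (tbl_lt hd hi))] at h2
  · intro h
    apply Equiv.ext
    intro p
    rw [Equiv.Perm.mul_apply, Equiv.Perm.mul_apply, PermData.toPerm_apply he,
      toPerm_apply_pt hd (tbl_lt he (idx_lt p)), PermData.toPerm_apply hd,
      toPerm_apply_pt hf (tbl_lt hd (idx_lt p)), h _ (idx_lt p)]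

/-- numeric key of a table. -/
def tkey (d : PermData) : ℕ := d.tbl.foldl (fun a x => a * 24 + x) 0

theorem map_toPerm_nodup (L : List PermData) (hok : ∀ d ∈ L, d.ok = true)
    (hkeys : chainLt (L.map tkey) = true) : (L.map PermData.toPerm).Nodup := by
  have hnd : L.Nodup := nodup_of_keys tkey L hkeys
  rw [List.nodup_map_iff_inj_on hnd]
  intro d hd e he h
  have hsorted := chainLt_spec _ hkeys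
  rw [List.pairwise_map] at hsorted
  by_contra hne
  have hk : tkey d ≠ tkey e := by
    obtain ⟨i, hi, rfl⟩ := List.getElem_of_mem hd
    obtain ⟨j, hj, rfl⟩ := List.getElem_of_mem he
    have hij : i ≠ j := fun e => hne (by subst e; rfl)
    rcases Nat.lt_or_gt_of_ne hij with hlt | hlt
    · have := List.pairwise_iff_getElem.mp hsorted i j hi hj hlt
      omega
    · have := List.pairwise_iff_getElem.mp hsorted j i hj hi hlt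
      omega
  -- different keys, same permutation: compare the tables
  apply hk
  have htbl := (toPerm_eq_iff (hok d hd) (hok e he)).mp h
  obtain ⟨hdl, -, -⟩ := PermData.ok_spec (hok d hd)
  obtain ⟨hel, -, -⟩ := PermData.ok_spec (hok e he)
  have : d.tbl = e.tbl := by
    apply List.ext_getElem (by rw [hdl, hel])
    intro i h1 h2
    have := htbl i (by omega)
    rwa [List.getD_eq_getElem _ _ h1, List.getD_eq_getElem _ _ h2] at this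
  unfold tkey
  rw [this]

/-! ### the list of elements -/

theorem HL_check : HL.all (fun d => fixesMask d dod0 && fixesCfg d q0) = true := by
  decide +kernel

theorem HL_ok {d : PermData} (hd : d ∈ HL) : d.ok = true := by
  have := List.all_eq_true.mp HL_check d hd
  rw [Bool.and_eq_true] at this
  exact ok_of_fixesMask this.1

theorem HL_mem {d : PermData} (hd : d ∈ HL) : d.toPerm ∈ H0 := by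
  have := List.all_eq_true.mp HL_check d hd
  rw [Bool.and_eq_true] at this
  exact Subgroup.mem_inf.mpr ⟨toPerm_mem_stabIn_dec this.1, toPerm_mem_stabIn_decQ this.2⟩

theorem HL_keys : chainLt (HL.map tkey) = true := by decide +kernel

theorem HL_length : HL.length = 432 := by decide +kernel

theorem HL_map_nodup : (HL.map PermData.toPerm).Nodup :=
  map_toPerm_nodup HL (fun _ hd => HL_ok hd) HL_keys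

/-! ### the order -/

theorem card_stabIn_d0 : Nat.card (stabIn (dec dod0)) = 95040 := by
  rw [← Cfsg.Agent.Lib.Helper7.card_stabilizer_dodecad (dec dod0) dod0_mem]
  refine Nat.card_congr ?_
  refine ⟨fun g => ⟨⟨g.1, (mem_stabIn.mp g.2).1⟩,
      MulAction.mem_stabilizer_iff.mpr (mem_stabIn.mp g.2).2⟩,
    fun g => ⟨g.1.1, mem_stabIn.mpr ⟨g.1.2, MulAction.mem_stabilizer_iff.mp g.2⟩⟩, ?_, ?_⟩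
  · intro g; rfl
  · intro g; rfl

theorem H0_eq : H0 = stabIn (dec dod0) ⊓ MulAction.stabilizer (Equiv.Perm GolayPt) (decQ q0) := by
  apply Subgroup.ext
  intro g
  rw [Subgroup.mem_inf, Subgroup.mem_inf, mem_stabIn, mem_stabIn,
    MulAction.mem_stabilizer_iff]
  constructor
  · rintro ⟨⟨h1, h2⟩, -, h3⟩
    exact ⟨⟨h1, h2⟩, h3⟩
  · rintro ⟨⟨h1, h2⟩, h3⟩
    exact ⟨⟨h1, h2⟩, h1, h3⟩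

theorem card_H0 : Nat.card H0 = 432 := by
  have h := Cfsg.Agent.Lib.Helper93.card_eq_ncard_mul_card_inf_stabilizer (stabIn (dec dod0))
    (decQ q0) (quartets (dec dod0)) (fun k hk => stab_d0_quartets hk q0_mem)
    (fun s hs => quartets_d0_transitive hs)
  rw [card_stabIn_d0, ncard_quartets_d0, ← H0_eq] at h
  omega

/-- the complete list of the elements. -/
theorem mem_H0_iff {g : Equiv.Perm GolayPt} : g ∈ H0 ↔ ∃ d ∈ HL, d.toPerm = g := by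
  constructor
  · intro hg
    have hfin : Finite H0 := Nat.finite_of_card_ne_zero (by rw [card_H0]; norm_num)
    have hsub : (↑(HL.map PermData.toPerm).toFinset : Set (Equiv.Perm GolayPt)) ⊆ (H0 : Set _) := by
      intro x hx
      rw [Finset.mem_coe, List.mem_toFinset, List.mem_map] at hx
      obtain ⟨d, hd, rfl⟩ := hx
      exact HL_mem hd
    have hcard : (H0 : Set (Equiv.Perm GolayPt)).ncard ≤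
        (↑(HL.map PermData.toPerm).toFinset : Set (Equiv.Perm GolayPt)).ncard := by
      rw [Set.ncard_coe_finset, List.toFinset_card_of_nodup HL_map_nodup, List.length_map,
        HL_length]
      have : (H0 : Set (Equiv.Perm GolayPt)).ncard = Nat.card H0 := rfl
      rw [this, card_H0]
    have heq := Set.eq_of_subset_of_ncard_le hsub hcard (Set.toFinite _)
    have : g ∈ (↑(HL.map PermData.toPerm).toFinset : Set (Equiv.Perm GolayPt)) := by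
      rw [heq]; exact hg
    rw [Finset.mem_coe, List.mem_toFinset, List.mem_map] at this
    exact this
  · rintro ⟨d, hd, rfl⟩
    exact HL_mem hd

/-! ### the normal subgroup of order 9 -/

/-- the identity table. -/
def idD : PermData := ⟨List.range 24, List.range 24⟩

theorem idD_ok : idD.ok = true := by decide +kernel

theorem idD_toPerm : idD.toPerm = 1 := by
  apply Equiv.ext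
  intro p
  rw [PermData.toPerm_apply idD_ok]
  have : (List.range 24).getD (idx p) 0 = idx p := by
    rw [List.getD_eq_getElem _ _ (by simpa using idx_lt p)]
    simp
  show pt ((List.range 24).getD (idx p) 0) = p
  rw [this, pt_idx]

/-- Boolean check: equal tables. -/
def eqChk (f d : PermData) : Bool :=
  (List.range 24).all fun i => f.tbl.getD i 0 == d.tbl.getD i 0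

theorem toPerm_eq_of_eqChk {f d : PermData} (hf : f.ok = true) (hd : d.ok = true)
    (h : eqChk f d = true) : f.toPerm = d.toPerm := by
  rw [toPerm_eq_iff hf hd]
  simpa only [eqChk, List.all_eq_true, List.mem_range, beq_iff_eq] using h

theorem NL_check : NL.all (fun d => fixesMask d dod0 && fixesCfg d q0) = true := by
  decide +kernel

theorem NL_ok {d : PermData} (hd : d ∈ NL) : d.ok = true := by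
  have := List.all_eq_true.mp NL_check d hd
  rw [Bool.and_eq_true] at this
  exact ok_of_fixesMask this.1

theorem NL_mem {d : PermData} (hd : d ∈ NL) : d.toPerm ∈ H0 := by
  have := List.all_eq_true.mp NL_check d hd
  rw [Bool.and_eq_true] at this
  exact Subgroup.mem_inf.mpr ⟨toPerm_mem_stabIn_dec this.1, toPerm_mem_stabIn_decQ this.2⟩

theorem NL_keys : chainLt (NL.map tkey) = true := by decide +kernel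

theorem NL_one : NL.any (fun e => eqChk e idD) = true := by decide +kernel

theorem NL_mul : NL.all (fun d => NL.all (fun e => NL.any (fun f => mulChk d e f))) = true := by
  decide +kernel

theorem NL_inv : NL.all (fun d => NL.any (fun f => mulChk d f idD)) = true := by decide +kernel

theorem NL_comm : NL.all (fun d => NL.all (fun e => conjChk d e e)) = true := by decide +kernel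

theorem NL_cube : NL.all (fun d => NL.any (fun f => mulChk d d f && mulChk f d idD)) = true := by
  decide +kernel

theorem HL_normal : HL.all (fun d => NL.all (fun e => NL.any (fun f => conjChk d e f))) = true := by
  decide +kernel

theorem HL_cent : HL.all (fun d => !(NL.all (fun e => conjChk d e e)) ||
    NL.any (fun f => eqChk f d)) = true := by
  decide +kernel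

theorem HL_trans : (List.range 24).all (fun i => !(dod0.testBit i) ||
    HL.any (fun d => d.tbl.getD 0 0 == i)) = true := by
  decide +kernel

/-- the subgroup of order 9. -/
def N0p : Subgroup (Equiv.Perm GolayPt) where
  carrier := {g | ∃ e ∈ NL, e.toPerm = g}
  one_mem' := by
    have := NL_one
    rw [List.any_eq_true] at this
    obtain ⟨e, he, h⟩ := this
    exact ⟨e, he, by rw [toPerm_eq_of_eqChk (NL_ok he) idD_ok h, idD_toPerm]⟩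
  mul_mem' := by
    rintro _ _ ⟨d, hd, rfl⟩ ⟨e, he, rfl⟩
    have := List.all_eq_true.mp (List.all_eq_true.mp NL_mul d hd) e he
    rw [List.any_eq_true] at this
    obtain ⟨f, hf, h⟩ := this
    exact ⟨f, hf, ((toPerm_mul_iff (NL_ok hd) (NL_ok he) (NL_ok hf)).mpr h).symm⟩
  inv_mem' := by
    rintro _ ⟨d, hd, rfl⟩
    have := List.all_eq_true.mp NL_inv d hd
    rw [List.any_eq_true] at this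
    obtain ⟨f, hf, h⟩ := this
    refine ⟨f, hf, ?_⟩
    have := (toPerm_mul_iff (NL_ok hd) (NL_ok hf) idD_ok).mpr h
    rw [idD_toPerm] at this
    exact (inv_eq_of_mul_eq_one_right this).symm

theorem mem_N0p {g : Equiv.Perm GolayPt} : g ∈ N0p ↔ ∃ e ∈ NL, e.toPerm = g := Iff.rfl

theorem N0p_le : N0p ≤ H0 := by
  rintro _ ⟨e, he, rfl⟩
  exact NL_mem he

theorem card_N0p : Nat.card N0p = 9 := by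
  have h1 : (N0p : Set (Equiv.Perm GolayPt)) = ↑(NL.map PermData.toPerm).toFinset := by
    ext g
    rw [Finset.mem_coe, List.mem_toFinset, List.mem_map]
    rfl
  have h2 : Nat.card N0p = (N0p : Set (Equiv.Perm GolayPt)).ncard := rfl
  rw [h2, h1, Set.ncard_coe_finset, List.toFinset_card_of_nodup
    (map_toPerm_nodup NL (fun _ hd => NL_ok hd) NL_keys), List.length_map]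
  rfl

/-- the subgroup of order 9 inside the quartet stabiliser. -/
abbrev N0 : Subgroup ↥H0 := N0p.subgroupOf H0

theorem card_N0 : Nat.card N0 = 9 := by
  rw [← card_N0p]
  exact Nat.card_congr (Subgroup.subgroupOfEquivOfLe N0p_le).toEquiv

instance N0_normal : N0.Normal := by
  constructor
  intro n hn g
  rw [Subgroup.mem_subgroupOf] at hn ⊢
  obtain ⟨e, he, hne⟩ := hn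
  obtain ⟨d, hd, hdg⟩ := mem_H0_iff.mp g.2
  have := List.all_eq_true.mp (List.all_eq_true.mp HL_normal d hd) e he
  rw [List.any_eq_true] at this
  obtain ⟨f, hf, h⟩ := this
  refine ⟨f, hf, ?_⟩
  have := (toPerm_conj_iff (HL_ok hd) (NL_ok he) (NL_ok hf)).mpr h
  rw [← this, hdg, hne]
  rfl

theorem N0_comm (a b : N0) : a * b = b * a := by
  obtain ⟨d, hd, hda⟩ := (Subgroup.mem_subgroupOf.mp a.2)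
  obtain ⟨e, he, heb⟩ := (Subgroup.mem_subgroupOf.mp b.2)
  have h := List.all_eq_true.mp (List.all_eq_true.mp NL_comm d hd) e he
  have := (toPerm_conj_iff (NL_ok hd) (NL_ok he) (NL_ok he)).mpr h
  rw [mul_inv_eq_iff_eq_mul, hda, heb] at this
  apply Subtype.ext
  apply Subtype.ext
  exact this

theorem N0_exp (a : N0) : a ^ 3 = 1 := by
  obtain ⟨d, hd, hda⟩ := (Subgroup.mem_subgroupOf.mp a.2)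
  have h := List.all_eq_true.mp NL_cube d hd
  rw [List.any_eq_true] at h
  obtain ⟨f, hf, h⟩ := h
  rw [Bool.and_eq_true] at h
  have h1 := (toPerm_mul_iff (NL_ok hd) (NL_ok hd) (NL_ok hf)).mpr h.1
  have h2 := (toPerm_mul_iff (NL_ok hf) (NL_ok hd) idD_ok).mpr h.2
  rw [← h1, idD_toPerm, hda] at h2
  apply Subtype.ext
  apply Subtype.ext
  show ((a : ↥H0) : Equiv.Perm GolayPt) ^ 3 = 1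
  rw [pow_succ, pow_two]
  exact h2

theorem centralizer_le (g : ↥H0) (h : ∀ n : N0, g * n * g⁻¹ = n) : g ∈ N0 := by
  rw [Subgroup.mem_subgroupOf]
  obtain ⟨d, hd, hdg⟩ := mem_H0_iff.mp g.2
  have hc := List.all_eq_true.mp HL_cent d hd
  rw [Bool.or_eq_true, Bool.not_eq_true'] at hc
  rcases hc with hc | hc
  · exfalso
    have : NL.all (fun e => conjChk d e e) = true := by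
      rw [List.all_eq_true]
      intro e he
      rw [← toPerm_conj_iff (HL_ok hd) (NL_ok he) (NL_ok he), hdg]
      have := h ⟨⟨e.toPerm, NL_mem he⟩, Subgroup.mem_subgroupOf.mpr ⟨e, he, rfl⟩⟩
      have := congrArg (fun x : ↥H0 => (x : Equiv.Perm GolayPt)) this
      exact this
    rw [this] at hc
    exact Bool.noConfusion hc
  · rw [List.any_eq_true] at hc
    obtain ⟨f, hf, hfd⟩ := hc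
    exact ⟨f, hf, by rw [toPerm_eq_of_eqChk (NL_ok hf) (HL_ok hd) hfd, hdg]⟩

theorem card_GL23 : Nat.card (GL (Fin 2) (ZMod 3)) = 48 := by
  rw [Matrix.card_GL_field]
  simp [ZMod.card, Fin.prod_univ_two]

/-- the quotient by the subgroup of order 9 is `GL(2, 3)`. -/
theorem exists_hom : ∃ φ : ↥H0 →* GL (Fin 2) (ZMod 3), Function.Surjective φ ∧ φ.ker = N0 := by
  have : Fact (Nat.Prime 3) := ⟨by norm_num⟩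
  have hfin : Finite H0 := Nat.finite_of_card_ne_zero (by rw [card_H0]; norm_num)
  obtain ⟨Θ, hΘ⟩ := Cfsg.Agent.Lib.Helper86.exists_hom_GL2 (H := ↥N0) 3 N0_comm N0_exp
    (by rw [card_N0]; norm_num)
  let φ : ↥H0 →* GL (Fin 2) (ZMod 3) := Θ.comp (MulAut.conjNormal (H := N0))
  have hker : φ.ker = N0 := by
    ext g
    rw [MonoidHom.mem_ker]
    constructor
    · intro h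
      have h1 : MulAut.conjNormal g = (1 : MulAut N0) := hΘ (by rw [map_one]; exact h)
      apply centralizer_le
      intro n
      have := congrArg (fun α : MulAut N0 => ((α n : N0) : ↥H0)) h1
      simpa [MulAut.conjNormal_apply] using this
    · intro hg
      have h1 : MulAut.conjNormal g = (1 : MulAut N0) := by
        apply MulEquiv.ext
        intro n
        apply Subtype.ext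
        rw [MulAut.conjNormal_apply]
        have := N0_comm ⟨g, hg⟩ n
        have h2 := congrArg (fun x : N0 => (x : ↥H0)) this
        simp only [Subgroup.coe_mul] at h2
        rw [h2, mul_inv_cancel_right]
        rfl
      show Θ (MulAut.conjNormal g) = 1
      rw [h1, map_one]
  have hsurj : Function.Surjective φ := by
    rw [← MonoidHom.range_eq_top]
    apply Subgroup.eq_top_of_card_eq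
    have h1 : φ.ker.index = Nat.card φ.range := Subgroup.index_ker φ
    have h2 := Subgroup.card_mul_index φ.ker
    rw [hker, card_N0, card_H0] at h2
    rw [hker] at h1
    rw [card_GL23, ← h1]
    omega
  exact ⟨φ, hsurj, hker⟩

/-- transitivity on the points of the base dodecad. -/
theorem H0_trans (p q : GolayPt) (hp : p ∈ dec dod0) (hq : q ∈ dec dod0) :
    ∃ g ∈ H0, g p = q := by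
  have key : ∀ r : GolayPt, r ∈ dec dod0 → ∃ g ∈ H0, g (pt 0) = r := by
    intro r hr
    rw [mem_dec] at hr
    have := List.all_eq_true.mp HL_trans (idx r) (List.mem_range.mpr (idx_lt r))
    rw [hr] at this
    simp only [Bool.not_true, Bool.false_or, List.any_eq_true, beq_iff_eq] at this
    obtain ⟨d, hd, hdr⟩ := this
    refine ⟨d.toPerm, HL_mem hd, ?_⟩
    rw [toPerm_apply_pt (HL_ok hd) (by norm_num), hdr, pt_idx]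
  obtain ⟨g1, hg1, h1⟩ := key p hp
  obtain ⟨g2, hg2, h2⟩ := key q hq
  refine ⟨g2 * g1⁻¹, H0.mul_mem hg2 (H0.inv_mem hg1), ?_⟩
  rw [Equiv.Perm.mul_apply, ← h1]
  simp [h2]

end Cfsg.Agent.Lib.Helper27.D1598
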