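import Cfsg.Agent.Lib.Helper37.D4O8Defs

/-! # S1082 hive "Do" (helper37), leaf DO-GRP (pure group theory)

`E` is normal (`G` is generated by `E`, `T`, `s`, which normalise `E`) and `G/E` is generated by the
commuting images of `T` and `s`, so it is abelian and `[G, G] ≤ E`. -/

set_option autoImplicit false
set_option linter.unusedSectionVars false
set_option linter.unusedVariables false

namespace Cfsg.Agent.Lib.Helper37.D4O8

open Matrix Module QuadraticMap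
open Cfsg.Agent.Lib.Helper8 Cfsg.Agent.Lib.Helper13 Cfsg.Agent.Lib.Helper37

open scoped commutatorElement in
/-- DO-GRP (pure group theory): `E` is normal (`G` is generated by `E`, `T`, `s`, which normalise `E`) and
`G/E` is generated by the commuting images of `T` and `s`, so it is abelian. -/
theorem commutator_le_of_factor' {G : Type*} [Group G] (E T : Subgroup G) (s : G) (hs : s * s = 1)
    (hT : ∀ a ∈ T, ∀ b ∈ T, a * b = b * a) (hTE : ∀ d ∈ T, ∀ e ∈ E, d * e * d⁻¹ ∈ E)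
    (hsE : ∀ e ∈ E, s * e * s⁻¹ ∈ E) (hsT : ∀ d ∈ T, s * d * s⁻¹ * d⁻¹ ∈ E)
    (hG : ∀ g : G, ∃ h ∈ E, h * g ∈ T ∨ h * g * s ∈ T) : commutator G ≤ E := by
  have hsinv : s⁻¹ = s := by rw [inv_eq_iff_mul_eq_one]; exact hs
  have hnorm : E.Normal := by
    refine ⟨fun e he g => ?_⟩
    obtain ⟨h, hh, hd | hd⟩ := hG g
    · have h1 := hTE _ hd e he
      have h2 : g * e * g⁻¹ = h⁻¹ * ((h * g) * e * (h * g)⁻¹) * h := by group
      rw [h2]
      exact E.mul_mem (E.mul_mem (E.inv_mem hh) h1) hh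
    · have h0 : s⁻¹ * e * s ∈ E := by
        have h := hsE e he
        rw [hsinv] at h ⊢
        exact h
      have h1 := hTE _ hd _ h0
      have h2 : g * e * g⁻¹ = h⁻¹ * ((h * g * s) * (s⁻¹ * e * s) * (h * g * s)⁻¹) * h := by group
      rw [h2]
      exact E.mul_mem (E.mul_mem (E.inv_mem hh) h1) hh
  have hDD : ∀ d₁ ∈ T, ∀ d₂ ∈ T, Commute (d₁ : G ⧸ E) (d₂ : G ⧸ E) := by
    intro d₁ h₁ d₂ h₂
    change (d₁ : G ⧸ E) * (d₂ : G ⧸ E) = (d₂ : G ⧸ E) * (d₁ : G ⧸ E)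
    rw [← QuotientGroup.mk_mul, ← QuotientGroup.mk_mul, hT d₁ h₁ d₂ h₂]
  have hSD : ∀ d ∈ T, Commute (s : G ⧸ E) (d : G ⧸ E) := by
    intro d hd
    have h1 : ((⁅s, d⁆ : G) : G ⧸ E) = ⁅(s : G ⧸ E), (d : G ⧸ E)⁆ :=
      map_commutatorElement (QuotientGroup.mk' E) s d
    have h2 : ((⁅s, d⁆ : G) : G ⧸ E) = 1 := (QuotientGroup.eq_one_iff _).mpr (hsT d hd)
    rw [h1] at h2
    exact commutatorElement_eq_one_iff_commute.mp h2
  have hmk : ∀ g : G, ∃ d ∈ T, ∃ z : G ⧸ E, (z = 1 ∨ z = (s : G ⧸ E)⁻¹) ∧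
      (g : G ⧸ E) = (d : G ⧸ E) * z := by
    intro g
    obtain ⟨h, hh, hd | hd⟩ := hG g
    · refine ⟨h * g, hd, 1, Or.inl rfl, ?_⟩
      rw [QuotientGroup.mk_mul, (QuotientGroup.eq_one_iff h).mpr hh, one_mul, mul_one]
    · refine ⟨h * g * s, hd, (s : G ⧸ E)⁻¹, Or.inr rfl, ?_⟩
      rw [QuotientGroup.mk_mul, QuotientGroup.mk_mul, (QuotientGroup.eq_one_iff h).mpr hh, one_mul,
        mul_inv_cancel_right]
  have hzD : ∀ z : G ⧸ E, (z = 1 ∨ z = (s : G ⧸ E)⁻¹) → ∀ d ∈ T, Commute z (d : G ⧸ E) := by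
    rintro z (rfl | rfl) d hd
    · exact Commute.one_left _
    · exact (hSD d hd).inv_left
  have hzz : ∀ z₁ z₂ : G ⧸ E, (z₁ = 1 ∨ z₁ = (s : G ⧸ E)⁻¹) → (z₂ = 1 ∨ z₂ = (s : G ⧸ E)⁻¹) →
      Commute z₁ z₂ := by
    rintro z₁ z₂ (rfl | rfl) (rfl | rfl)
    · exact Commute.one_left _
    · exact Commute.one_left _
    · exact Commute.one_right _
    · exact Commute.refl _
  rw [commutator_def, Subgroup.commutator_le]
  intro g₁ _ g₂ _
  rw [← QuotientGroup.eq_one_iff (N := E)]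
  obtain ⟨d₁, hd₁, z₁, hz₁, e₁⟩ := hmk g₁
  obtain ⟨d₂, hd₂, z₂, hz₂, e₂⟩ := hmk g₂
  have h3 : ((⁅g₁, g₂⁆ : G) : G ⧸ E) = ⁅(g₁ : G ⧸ E), (g₂ : G ⧸ E)⁆ :=
    map_commutatorElement (QuotientGroup.mk' E) g₁ g₂
  rw [h3, commutatorElement_eq_one_iff_commute, e₁, e₂]
  exact Commute.mul_left
    (Commute.mul_right (hDD d₁ hd₁ d₂ hd₂) (hzD z₂ hz₂ d₁ hd₁).symm)
    (Commute.mul_right (hzD z₁ hz₁ d₂ hd₂) (hzz z₁ z₂ hz₁ hz₂))

end Cfsg.Agent.Lib.Helper37.D4O8
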