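import Mathlib
import Cfsg.Prelude.Def_GeometricClasses
import Cfsg.Agent.Lib.Helper81.EsDefs

/-!
# ES-E (helper27, for helper81's S5877 hive): eigenvalue shifting
-/

set_option autoImplicit false
set_option linter.style.haveILetI false
set_option linter.unusedVariables false
set_option linter.unusedSectionVars false

namespace Cfsg.Agent.Lib.Helper81.Es

open scoped MatrixGroups

variable {F : Type*} [Field F] {n : ℕ}

/-- membership in `eig` in terms of `mulVec` -/
theorem e_mem_eig (g : GL (Fin n) F) (c : F) (v : Fin n → F) :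
    v ∈ eig g c ↔ (g : Matrix (Fin n) (Fin n) F).mulVec v = c • v := by
  unfold eig
  rw [Module.End.mem_eigenspace_iff, Matrix.toLin'_apply]

/-- an invertible matrix kills no non-zero vector -/
theorem e_eq_zero_of_mulVec (g : GL (Fin n) F) (v : Fin n → F)
    (h : (g : Matrix (Fin n) (Fin n) F).mulVec v = 0) : v = 0 := by
  have h1 : ((g⁻¹ * g : GL (Fin n) F) : Matrix (Fin n) (Fin n) F).mulVec v = 0 := by
    rw [Units.val_mul, ← Matrix.mulVec_mulVec, h, Matrix.mulVec_zero]
  rwa [inv_mul_cancel, Units.val_one, Matrix.one_mulVec] at h1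

/-- one shifting step -/
theorem e_step (g y : GL (Fin n) F) (lam : F)
    (hgy : (g : Matrix (Fin n) (Fin n) F) * (y : Matrix (Fin n) (Fin n) F) =
      lam • ((y : Matrix (Fin n) (Fin n) F) * (g : Matrix (Fin n) (Fin n) F))) (μ : F)
    (u : Fin n → F) (hu : u ∈ eig g μ) :
    (y : Matrix (Fin n) (Fin n) F).mulVec u ∈ eig g (lam * μ) := by
  rw [e_mem_eig] at hu ⊢
  rw [Matrix.mulVec_mulVec, hgy, Matrix.smul_mulVec, ← Matrix.mulVec_mulVec, hu,
    Matrix.mulVec_smul, smul_smul]

/-- `i` shifting steps -/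
theorem e_steps (g y : GL (Fin n) F) (lam : F)
    (hgy : (g : Matrix (Fin n) (Fin n) F) * (y : Matrix (Fin n) (Fin n) F) =
      lam • ((y : Matrix (Fin n) (Fin n) F) * (g : Matrix (Fin n) (Fin n) F))) (c : F)
    (w : Fin n → F) (hw : w ∈ eig g c) (i : ℕ) :
    ((y ^ i : GL (Fin n) F) : Matrix (Fin n) (Fin n) F).mulVec w ∈ eig g (lam ^ i * c) := by
  induction i with
  | zero => rwa [pow_zero, pow_zero, Units.val_one, Matrix.one_mulVec, one_mul]
  | succ i ih =>
    rw [pow_succ' y, Units.val_mul, ← Matrix.mulVec_mulVec, pow_succ' lam, mul_assoc]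
    exact e_step g y lam hgy _ _ ih

/-- ES-E : if `g y = lam • y g` and `lam, lam², …, lam^(k-1) ≠ 1` then `k · dim (eig g c) ≤ n`
(the spaces `y^i (eig g c)` lie in the eigenspaces for `lam^i c`, which are independent). -/
theorem shift_le (g y : GL (Fin n) F) (lam : F) (k : ℕ)
    (hk : ∀ i, 0 < i → i < k → lam ^ i ≠ 1)
    (hgy : (g : Matrix (Fin n) (Fin n) F) * (y : Matrix (Fin n) (Fin n) F) =
      lam • ((y : Matrix (Fin n) (Fin n) F) * (g : Matrix (Fin n) (Fin n) F))) (c : F) :
    k * Module.finrank F (eig g c) ≤ n := by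
  classical
  by_cases hW : eig g c = ⊥
  · rw [hW, finrank_bot, mul_zero]
    exact Nat.zero_le _
  obtain ⟨w0, hw0, hw0ne⟩ := Submodule.exists_mem_ne_zero_of_ne_bot hW
  have hc : c ≠ 0 := by
    rintro rfl
    rw [e_mem_eig, zero_smul] at hw0
    exact hw0ne (e_eq_zero_of_mulVec g w0 hw0)
  have hlam : lam ≠ 0 := by
    rintro rfl
    have h1 := e_step g y 0 hgy c w0 hw0
    rw [e_mem_eig, zero_mul, zero_smul] at h1
    exact hw0ne (e_eq_zero_of_mulVec y w0 (e_eq_zero_of_mulVec g _ h1))
  -- the eigenvalues `lam^i c`, `i < k`, are pairwise distinct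
  have hinj : Function.Injective (fun i : Fin k => lam ^ (i : ℕ) * c) := by
    have key : ∀ i j : ℕ, i < j → j < k → lam ^ i * c ≠ lam ^ j * c := by
      intro i j hij hjk h
      have h1 : lam ^ i = lam ^ j := mul_right_cancel₀ hc h
      have h2 : lam ^ j = lam ^ i * lam ^ (j - i) := by
        rw [← pow_add]
        congr 1
        omega
      rw [h2] at h1
      have h3 : lam ^ (j - i) = 1 := by
        have h4 : lam ^ i * 1 = lam ^ i * lam ^ (j - i) := by rw [mul_one]; exact h1
        exact (mul_left_cancel₀ (pow_ne_zero i hlam) h4).symm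
      exact hk (j - i) (by omega) (by omega) h3
    intro i j hij
    by_contra hne
    rcases lt_or_gt_of_ne (fun h => hne (Fin.ext h) : (i : ℕ) ≠ (j : ℕ)) with h | h
    · exact key i j h j.2 hij
    · exact key j i h i.2 hij.symm
  have hind : iSupIndep fun i : Fin k =>
      Module.End.eigenspace (Matrix.toLin' (g : Matrix (Fin n) (Fin n) F)) (lam ^ (i : ℕ) * c) :=
    (Module.End.eigenspaces_iSupIndep (Matrix.toLin' (g : Matrix (Fin n) (Fin n) F))).comp hinj
  rw [iSupIndep_iff_finsetSum_eq_zero_imp_eq_zero] at hind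
  -- the linear map
  let Φ : (Fin k → eig g c) →ₗ[F] (Fin n → F) :=
    ∑ i : Fin k, ((Matrix.toLin' ((y ^ (i : ℕ) : GL (Fin n) F) : Matrix (Fin n) (Fin n) F)).comp
      (eig g c).subtype).comp (LinearMap.proj i)
  have hΦ : ∀ w : Fin k → eig g c, Φ w =
      ∑ i : Fin k, ((y ^ (i : ℕ) : GL (Fin n) F) : Matrix (Fin n) (Fin n) F).mulVec (w i : Fin n → F) := by
    intro w
    simp only [Φ, LinearMap.sum_apply, LinearMap.comp_apply, LinearMap.proj_apply,
      Submodule.subtype_apply, Matrix.toLin'_apply]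
  have hΦinj : Function.Injective Φ := by
    rw [← LinearMap.ker_eq_bot, LinearMap.ker_eq_bot']
    intro w hw
    rw [hΦ] at hw
    have h1 := hind Finset.univ
      (fun i => ((y ^ (i : ℕ) : GL (Fin n) F) : Matrix (Fin n) (Fin n) F).mulVec (w i : Fin n → F))
      (fun i _ => e_steps g y lam hgy c _ (w i).2 i) hw
    funext i
    apply Subtype.ext
    exact e_eq_zero_of_mulVec _ _ (h1 i (Finset.mem_univ i))
  have h2 := LinearMap.finrank_le_finrank_of_injective hΦinj
  rw [Module.finrank_pi_fintype, Finset.sum_const, Finset.card_univ, Fintype.card_fin,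
    smul_eq_mul, Module.finrank_fin_fun] at h2
  exact h2

end Cfsg.Agent.Lib.Helper81.Es
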