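import Cfsg.Agent.Lib.Helper47.FLDefs

set_option autoImplicit false

/-! # FL hive (S2863), leaf CORE-INF: `core_inf_le` -/

namespace Cfsg.Agent.Lib.Helper47.FL

variable {H : Type*} [Group H] {Y A : Subgroup H}

/-- LEAF CORE-INF. An element of `Y ∩ Y^g` commutes with `Y` and `Y^g` (abelian), hence with
`Y ⊔ Y^g = ⊤`. -/
theorem core_inf_le (h : CoreSetup Y A) {g : H} (hg : g ∉ Subgroup.normalizer (Y : Set H))
    {x : H} (hx : x ∈ Y) (hx' : x ∈ cj g Y) : x ∈ Y ⊓ Subgroup.center H := by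
  refine ⟨hx, ?_⟩
  show x ∈ Subgroup.center H
  rw [Subgroup.mem_center_iff]
  have htop := h.opp g hg
  have h1 : Y ≤ Subgroup.centralizer {x} := by
    intro y hy
    rw [Subgroup.mem_centralizer_iff]
    intro z hz
    rw [Set.mem_singleton_iff] at hz
    subst hz
    exact h.comm _ hx _ hy
  have h2 : cj g Y ≤ Subgroup.centralizer {x} := by
    intro y hy
    rw [Subgroup.mem_centralizer_iff]
    intro z hz
    rw [Set.mem_singleton_iff] at hz
    subst hz
    obtain ⟨y0, hy0, rfl⟩ := mem_cj.mp hy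
    obtain ⟨x0, hx0, rfl⟩ := mem_cj.mp hx'
    have hc := h.comm x0 hx0 y0 hy0
    calc g * x0 * g⁻¹ * (g * y0 * g⁻¹) = g * (x0 * y0) * g⁻¹ := by group
      _ = g * (y0 * x0) * g⁻¹ := by rw [hc]
      _ = g * y0 * g⁻¹ * (g * x0 * g⁻¹) := by group
  have h3 : (⊤ : Subgroup H) ≤ Subgroup.centralizer {x} := by
    rw [← htop]
    exact sup_le h1 h2
  intro z
  have hz : z ∈ Subgroup.centralizer {x} := h3 (Subgroup.mem_top z)
  rw [Subgroup.mem_centralizer_iff] at hz
  exact (hz x (Set.mem_singleton x)).symm
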