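import Cfsg.Agent.Lib.Helper83.FpDefs

/-!
# Fp hive (S2276), leaf FP-S9a

`d = (0 3 1)(4 7 5)` on `Fin 9`: cycle type `{3, 3}`, `FixCard (c * d) = 2`,
`t₁ = c*d*c*d = (0 8 4)`, `t₂ = d*c*d*c = (3 8 7)`, common point `8`.
-/

set_option autoImplicit false

namespace Cfsg.Agent.Lib.Helper83.Fp

open Equiv

/-- the first 3-cycle `(0 3 1)` of `d` -/
def fps9a_a : Perm (Fin 9) := swap 0 3 * swap 3 1

/-- the second 3-cycle `(4 7 5)` of `d` -/
def fps9a_b : Perm (Fin 9) := swap 4 7 * swap 7 5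

/-- the witness `d = (0 3 1)(4 7 5)` -/
def fps9a_d : Perm (Fin 9) := fps9a_a * fps9a_b

theorem fps9a_a_three : fps9a_a.IsThreeCycle := by
  rw [← _root_.card_support_eq_three_iff]; decide

theorem fps9a_b_three : fps9a_b.IsThreeCycle := by
  rw [← _root_.card_support_eq_three_iff]; decide

theorem fps9a_disj : Perm.Disjoint fps9a_a fps9a_b := by
  unfold Perm.Disjoint; decide

theorem fps9a_cycleType : fps9a_d.cycleType = Multiset.replicate 2 3 := by
  unfold fps9a_d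
  rw [fps9a_disj.cycleType_mul, fps9a_a_three.cycleType, fps9a_b_three.cycleType]
  rfl

theorem fps9a_fix : FixOK 3 fps9a_d := by
  unfold FixOK FixCard; decide

theorem fps9a_c_mem : finRotate 9 ∈ Hcd fps9a_d :=
  Subgroup.subset_closure (by simp)

theorem fps9a_d_mem : fps9a_d ∈ Hcd fps9a_d :=
  Subgroup.subset_closure (by simp)

theorem s9a : S9aStmt := by
  unfold S9aStmt
  refine ⟨fps9a_d, fps9a_cycleType, fps9a_fix, ?_⟩
  refine ⟨finRotate 9 * fps9a_d * finRotate 9 * fps9a_d, ?_,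
    fps9a_d * finRotate 9 * fps9a_d * finRotate 9, ?_, ?_, ?_, ?_⟩
  · exact mul_mem (mul_mem (mul_mem fps9a_c_mem fps9a_d_mem) fps9a_c_mem) fps9a_d_mem
  · exact mul_mem (mul_mem (mul_mem fps9a_d_mem fps9a_c_mem) fps9a_d_mem) fps9a_c_mem
  · rw [← _root_.card_support_eq_three_iff]; decide
  · rw [← _root_.card_support_eq_three_iff]; decide
  · decide

end Cfsg.Agent.Lib.Helper83.Fp
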