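import Cfsg.Agent.Lib.Helper83.FpDefs

/-!
# Fp hive (S2276), leaf FP-S9b

`d = (0 1 7)(2 3 6)(4 8 5)` on `Fin 9`: cycle type `{3, 3, 3}`, `FixCard (c * d) = 1`,
`t₁ = c*d⁻¹*c*d⁻¹ = (0 5 8)`, `t₂ = c⁻¹*d*c⁻¹*d = (4 8 7)`, common point `8`.
-/

set_option autoImplicit false

namespace Cfsg.Agent.Lib.Helper83.Fp

open Equiv

/-- the first 3-cycle `(0 1 7)` of `d` -/
def fps9b_a : Perm (Fin 9) := swap 0 1 * swap 1 7

/-- the second 3-cycle `(2 3 6)` of `d` -/
def fps9b_b : Perm (Fin 9) := swap 2 3 * swap 3 6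

/-- the third 3-cycle `(4 8 5)` of `d` -/
def fps9b_e : Perm (Fin 9) := swap 4 8 * swap 8 5

/-- the witness `d = (0 1 7)(2 3 6)(4 8 5)` -/
def fps9b_d : Perm (Fin 9) := fps9b_a * fps9b_b * fps9b_e

theorem fps9b_a_three : fps9b_a.IsThreeCycle := by
  rw [← _root_.card_support_eq_three_iff]; decide

theorem fps9b_b_three : fps9b_b.IsThreeCycle := by
  rw [← _root_.card_support_eq_three_iff]; decide

theorem fps9b_e_three : fps9b_e.IsThreeCycle := by
  rw [← _root_.card_support_eq_three_iff]; decide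

theorem fps9b_disj1 : Perm.Disjoint fps9b_a fps9b_b := by
  unfold Perm.Disjoint; decide

theorem fps9b_disj2 : Perm.Disjoint (fps9b_a * fps9b_b) fps9b_e := by
  unfold Perm.Disjoint; decide

theorem fps9b_cycleType : fps9b_d.cycleType = Multiset.replicate 3 3 := by
  unfold fps9b_d
  rw [fps9b_disj2.cycleType_mul, fps9b_disj1.cycleType_mul, fps9b_a_three.cycleType,
    fps9b_b_three.cycleType, fps9b_e_three.cycleType]
  rfl

theorem fps9b_fix : FixOK 3 fps9b_d := by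
  unfold FixOK FixCard; decide

theorem fps9b_c_mem : finRotate 9 ∈ Hcd fps9b_d :=
  Subgroup.subset_closure (by simp)

theorem fps9b_d_mem : fps9b_d ∈ Hcd fps9b_d :=
  Subgroup.subset_closure (by simp)

theorem s9b : S9bStmt := by
  unfold S9bStmt
  refine ⟨fps9b_d, fps9b_cycleType, fps9b_fix, ?_⟩
  refine ⟨finRotate 9 * fps9b_d⁻¹ * finRotate 9 * fps9b_d⁻¹, ?_,
    (finRotate 9)⁻¹ * fps9b_d * (finRotate 9)⁻¹ * fps9b_d, ?_, ?_, ?_, ?_⟩
  · exact mul_mem (mul_mem (mul_mem fps9b_c_mem (inv_mem fps9b_d_mem)) fps9b_c_mem)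
      (inv_mem fps9b_d_mem)
  · exact mul_mem (mul_mem (mul_mem (inv_mem fps9b_c_mem) fps9b_d_mem) (inv_mem fps9b_c_mem))
      fps9b_d_mem
  · rw [← _root_.card_support_eq_three_iff]; decide
  · rw [← _root_.card_support_eq_three_iff]; decide
  · decide

end Cfsg.Agent.Lib.Helper83.Fp
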