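import Cfsg.Agent.Lib.Helper43.FwDefs

/-!
# Fw hive (S3211, helper43), leaf FW-COUNT, core: `|Z| < |X|` from the facts T0 / OUT / ZIN / NOUT
-/

set_option autoImplicit false

namespace Cfsg.Agent.Lib.Helper43.Fw

variable {G : Type*} [Group G] {L₁ L₂ : Subgroup G} {j n : G}

/-- FW-COUNT with the leaves `t0_props`, `out_rel`, `zin`, `n_not_mem` as hypotheses. -/
theorem fwcount_core [Finite G] (h : Setup L₁ L₂ j n) (x₁ : G) (hx : x₁ ∈ L₁) (hxx : x₁ * x₁ = j)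
    (hT : t0 n x₁ ∈ L₁ ⊔ L₂ ∧ t0 n x₁ * t0 n x₁ = 1 ∧ t0 n x₁ ≠ 1 ∧ t0 n x₁ ≠ j ∧
      n * t0 n x₁ = t0 n x₁ * n ∧
      j * t0 n x₁ = t0 n x₁ * j ∧ x₁ * t0 n x₁ = t0 n x₁ * x₁ ∧
      (n * x₁ * n⁻¹) * t0 n x₁ = t0 n x₁ * (n * x₁ * n⁻¹) ∧
      (n * x₁ * n⁻¹) * (n * x₁ * n⁻¹) = j ∧ n * x₁ * n⁻¹ ∈ L₂)
    (hout : ∀ y : G, y ∈ Subgroup.centralizer ({j} : Set G) → y ∉ L₁ ⊔ L₂ → y * y = t0 n x₁ →
      y * (n * x₁ * n⁻¹) * y⁻¹ = x₁⁻¹)
    (hzin : ∀ y y' : G, y ∈ L₁ ⊔ L₂ → y' ∈ L₁ ⊔ L₂ → y * y = t0 n x₁ → y' * y' = t0 n x₁ →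
      y' = y ∨ y' = y * j ∨ y' = y * t0 n x₁ ∨ y' = y * (j * t0 n x₁))
    (hnot : n ∉ L₁ ⊔ L₂) :
    Nat.card {y : G // y * y = t0 n x₁ ∧ y * j = j * y} <
      Nat.card {y : G // y * y = j ∧ y * t0 n x₁ = t0 n x₁ * y} := by
  classical
  let _ : Fintype G := Fintype.ofFinite G
  obtain ⟨hT1, hT2, hT3, hT4, hT5, hT6, hT7, hT8, hT9, hT10⟩ := hT
  set t₀ : G := t0 n x₁ with ht₀
  set x₂ : G := n * x₁ * n⁻¹ with hx₂
  set Y : Subgroup G := L₁ ⊔ L₂ with hY
  have ht₀def : t₀ = x₁ * x₂ := rfl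
  have hx₁Y : x₁ ∈ Y := (le_sup_left : L₁ ≤ L₁ ⊔ L₂) hx
  have hx₂Y : x₂ ∈ Y := (le_sup_right : L₂ ≤ L₁ ⊔ L₂) hT10
  -- the two finsets
  set Zs : Finset G := Finset.univ.filter (fun y => y * y = t₀ ∧ y * j = j * y) with hZs
  set Xs : Finset G := Finset.univ.filter (fun y => y * y = j ∧ y * t₀ = t₀ * y) with hXs
  have hZcard : Nat.card {y : G // y * y = t₀ ∧ y * j = j * y} = Zs.card := by
    rw [Nat.card_eq_fintype_card, Fintype.card_subtype]
  have hXcard : Nat.card {y : G // y * y = j ∧ y * t₀ = t₀ * y} = Xs.card := by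
    rw [Nat.card_eq_fintype_card, Fintype.card_subtype]
  rw [hZcard, hXcard]
  -- split along `Y`
  have hZsplit := Finset.card_filter_add_card_filter_not (s := Zs) (fun y => y ∈ Y)
  have hXsplit := Finset.card_filter_add_card_filter_not (s := Xs) (fun y => y ∈ Y)
  -- `|Z ∩ Y| ≤ 4`
  have hZY : (Zs.filter (fun y => y ∈ Y)).card ≤ 4 := by
    rcases (Zs.filter (fun y => y ∈ Y)).eq_empty_or_nonempty with he | ⟨y₀, hy₀⟩
    · rw [he]; simp
    · rw [Finset.mem_filter, hZs, Finset.mem_filter] at hy₀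
      have hsub : Zs.filter (fun y => y ∈ Y) ⊆ {y₀, y₀ * j, y₀ * t₀, y₀ * (j * t₀)} := by
        intro y' hy'
        rw [Finset.mem_filter, hZs, Finset.mem_filter] at hy'
        have := hzin y₀ y' hy₀.2 hy'.2 hy₀.1.2.1 hy'.1.2.1
        simp only [Finset.mem_insert, Finset.mem_singleton]
        exact this
      exact (Finset.card_le_card hsub).trans Finset.card_le_four
  -- `|X ∩ Y| ≥ 4`
  have hj1 : j ≠ 1 := h.jne
  have hjj : j * j = 1 := h.jsq
  have hx₁inv : x₁⁻¹ * x₁⁻¹ = j := by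
    have : x₁⁻¹ * x₁⁻¹ = (x₁ * x₁)⁻¹ := by group
    rw [this, hxx]
    exact inv_eq_of_mul_eq_one_right hjj
  have hx₂inv : x₂⁻¹ * x₂⁻¹ = j := by
    have : x₂⁻¹ * x₂⁻¹ = (x₂ * x₂)⁻¹ := by group
    rw [this, hT9]
    exact inv_eq_of_mul_eq_one_right hjj
  have hcomm_inv : ∀ w : G, w * t₀ = t₀ * w → w⁻¹ * t₀ = t₀ * w⁻¹ := by
    intro w hw
    calc w⁻¹ * t₀ = w⁻¹ * (t₀ * w) * w⁻¹ := by group
      _ = w⁻¹ * (w * t₀) * w⁻¹ := by rw [hw]
      _ = t₀ * w⁻¹ := by group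
  have hne1 : x₁ ≠ x₁⁻¹ := by
    intro he
    apply hj1
    have : x₁ * x₁ = 1 := by
      nth_rewrite 2 [he]
      exact mul_inv_cancel x₁
    rw [← hxx, this]
  have hne2 : x₂ ≠ x₂⁻¹ := by
    intro he
    apply hj1
    have : x₂ * x₂ = 1 := by
      nth_rewrite 2 [he]
      exact mul_inv_cancel x₂
    rw [← hT9, this]
  -- an element of `L₁ ⊓ L₂` squares to `1`
  have hsq_inter : ∀ w : G, w ∈ L₁ → w ∈ L₂ → w * w = 1 := by
    intro w hw1 hw2
    have hw : w ∈ L₁ ⊓ L₂ := ⟨hw1, hw2⟩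
    rw [h.inter, Subgroup.mem_zpowers_iff] at hw
    obtain ⟨k, rfl⟩ := hw
    rw [← zpow_add, ← two_mul, zpow_mul, zpow_two, hjj, one_zpow]
  have hne3 : x₁ ≠ x₂ := by
    intro he
    apply hj1
    have := hsq_inter x₁ hx (by rw [he]; exact hT10)
    rw [← hxx, this]
  have hne4 : x₁ ≠ x₂⁻¹ := by
    intro he
    apply hj1
    have := hsq_inter x₁ hx (by rw [he]; exact L₂.inv_mem hT10)
    rw [← hxx, this]
  have hne5 : x₁⁻¹ ≠ x₂ := by
    intro he
    apply hne4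
    rw [← he, inv_inv]
  have hne6 : x₁⁻¹ ≠ x₂⁻¹ := by
    intro he
    apply hne3
    exact inv_injective he
  have hXY : 4 ≤ (Xs.filter (fun y => y ∈ Y)).card := by
    have hsub : ({x₁, x₁⁻¹, x₂, x₂⁻¹} : Finset G) ⊆ Xs.filter (fun y => y ∈ Y) := by
      intro w hw
      simp only [Finset.mem_insert, Finset.mem_singleton] at hw
      rw [Finset.mem_filter, hXs, Finset.mem_filter]
      rcases hw with rfl | rfl | rfl | rfl
      · exact ⟨⟨Finset.mem_univ _, hxx, hT7⟩, hx₁Y⟩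
      · exact ⟨⟨Finset.mem_univ _, hx₁inv, hcomm_inv x₁ hT7⟩, Y.inv_mem hx₁Y⟩
      · exact ⟨⟨Finset.mem_univ _, hT9, hT8⟩, hx₂Y⟩
      · exact ⟨⟨Finset.mem_univ _, hx₂inv, hcomm_inv x₂ hT8⟩, Y.inv_mem hx₂Y⟩
    have hcard4 : ({x₁, x₁⁻¹, x₂, x₂⁻¹} : Finset G).card = 4 := by
      rw [Finset.card_insert_of_notMem, Finset.card_insert_of_notMem, Finset.card_insert_of_notMem,
        Finset.card_singleton]
      · simp only [Finset.mem_singleton]; exact hne2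
      · simp only [Finset.mem_insert, Finset.mem_singleton]
        rintro (he | he)
        · exact hne5 he
        · exact hne6 he
      · simp only [Finset.mem_insert, Finset.mem_singleton]
        rintro (he | he | he)
        · exact hne1 he
        · exact hne3 he
        · exact hne4 he
    rw [← hcard4]
    exact Finset.card_le_card hsub
  -- `|X \ Y| ≥ |Z \ Y| + 1`
  have hnx₂ : n * x₂ * n⁻¹ = x₁ := by
    -- `n (n x₁ n⁻¹) n⁻¹ = j x₁ j⁻¹ = x₁`
    have hx₁C : x₁ ∈ Subgroup.centralizer ({j} : Set G) := h.le hx₁Y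
    have hjx : j * x₁ = x₁ * j := Subgroup.mem_centralizer_iff.mp hx₁C j rfl
    calc n * x₂ * n⁻¹ = (n * n) * x₁ * (n * n)⁻¹ := by rw [hx₂]; group
      _ = j * x₁ * j⁻¹ := by rw [h.nsq]
      _ = x₁ * j * j⁻¹ := by rw [hjx]
      _ = x₁ := by group
  have hXnY : (Zs.filter (fun y => ¬ y ∈ Y)).card + 1 ≤ (Xs.filter (fun y => ¬ y ∈ Y)).card := by
    set ZnY := Zs.filter (fun y => ¬ y ∈ Y) with hZnY
    have hinj : Function.Injective (fun y : G => x₂ * y) := mul_right_injective x₂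
    have hn_notin : n ∉ ZnY.image (fun y : G => x₂ * y) := by
      intro hmem
      rw [Finset.mem_image] at hmem
      obtain ⟨y, hy, hyn⟩ := hmem
      rw [hZnY, Finset.mem_filter, hZs, Finset.mem_filter] at hy
      have hy' : y = x₂⁻¹ * n := by rw [← hyn]; group
      have hyy := hy.1.2.1
      rw [hy'] at hyy
      -- `(x₂⁻¹ n)² = x₂⁻¹ x₁⁻¹ j`
      have e1 : x₂⁻¹ * n * (x₂⁻¹ * n) = x₂⁻¹ * (n * x₂ * n⁻¹)⁻¹ * (n * n) := by group
      rw [e1, hnx₂, h.nsq] at hyy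
      -- `t₀ = x₁ x₂`, so `x₂⁻¹ x₁⁻¹ = t₀⁻¹ = t₀`
      have e2 : x₂⁻¹ * x₁⁻¹ = t₀ := by
        have : x₂⁻¹ * x₁⁻¹ = t₀⁻¹ := by rw [ht₀def]; group
        rw [this]
        exact inv_eq_of_mul_eq_one_right hT2
      rw [e2] at hyy
      apply hj1
      have := mul_left_cancel (a := t₀) (b := j) (c := 1) (by rw [hyy, mul_one])
      exact this
    have hsub : insert n (ZnY.image (fun y : G => x₂ * y)) ⊆ Xs.filter (fun y => ¬ y ∈ Y) := by
      intro w hw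
      rw [Finset.mem_insert] at hw
      rw [Finset.mem_filter, hXs, Finset.mem_filter]
      rcases hw with rfl | hw
      · exact ⟨⟨Finset.mem_univ _, h.nsq, hT5⟩, hnot⟩
      · rw [Finset.mem_image] at hw
        obtain ⟨y, hy, rfl⟩ := hw
        rw [hZnY, Finset.mem_filter, hZs, Finset.mem_filter] at hy
        obtain ⟨⟨-, hyy, hyj⟩, hyY⟩ := hy
        have hyC : y ∈ Subgroup.centralizer ({j} : Set G) := by
          rw [Subgroup.mem_centralizer_iff]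
          intro g hg
          rw [Set.mem_singleton_iff] at hg
          subst hg
          exact hyj.symm
        have ho := hout y hyC hyY hyy
        refine ⟨⟨Finset.mem_univ _, ?_, ?_⟩, ?_⟩
        · -- `(x₂ y)² = x₂ (y x₂ y⁻¹) y² = x₂ x₁⁻¹ x₁ x₂ = j`
          calc x₂ * y * (x₂ * y) = x₂ * (y * x₂ * y⁻¹) * (y * y) := by group
            _ = x₂ * x₁⁻¹ * (x₁ * x₂) := by rw [ho, hyy, ht₀def]
            _ = x₂ * x₂ := by group
            _ = j := hT9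
        · -- commutes with `t₀ = y²`
          have hyt : y * t₀ = t₀ * y := by rw [← hyy]; group
          calc x₂ * y * t₀ = x₂ * (y * t₀) := by group
            _ = x₂ * (t₀ * y) := by rw [hyt]
            _ = (x₂ * t₀) * y := by group
            _ = (t₀ * x₂) * y := by rw [hT8]
            _ = t₀ * (x₂ * y) := by group
        · intro hmem
          apply hyY
          have : y = x₂⁻¹ * (x₂ * y) := by group
          rw [this]
          exact Y.mul_mem (Y.inv_mem hx₂Y) hmem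
    have hc := Finset.card_le_card hsub
    rw [Finset.card_insert_of_notMem hn_notin, Finset.card_image_of_injective _ hinj] at hc
    exact hc
  omega

end Cfsg.Agent.Lib.Helper43.Fw
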