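import Mathlib
import Cfsg.Agent.Lib.Helper47.G42Defs
import Cfsg.Agent.Lib.Helper12.Degree7

/-!
# G42 hive (S2553), sub-leaf DEG7-ODD of G42-DEG7

An even transitive group of degree 7 with normal Sylow 7-subgroup has order 7 or 21:
`|G| = 7 r`, `r ∣ 6` (`Degree7.sylow_numbers`, `centralizer_eq`); an involution of `G` is affine on
`ZMod 7` (`exists_label`, `affine_of_conj`), `j ↦ κ j + b` with `κ² = 1`; `κ = 1` forces the identity,
`κ = -1` is a reflection, which is an odd permutation.
-/

set_option autoImplicit false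

namespace Cfsg.Agent.Lib.Helper47.G42

open Equiv
open Cfsg.Agent.Lib.Helper12.PrimeDegree
open Cfsg.Agent.Lib.Helper12.BurnsidePrime
open Cfsg.Agent.Lib.Helper12.Degree7

/-- the reflection `j ↦ -j + b` of `ZMod 7` -/
def deg7odd_refl (b : ZMod 7) : Equiv.Perm (ZMod 7) where
  toFun j := -j + b
  invFun j := -j + b
  left_inv j := by ring
  right_inv j := by ring

theorem deg7odd_sign : ∀ b : ZMod 7, Equiv.Perm.sign (deg7odd_refl b) = -1 := by decide

theorem deg7odd_sq : ∀ κ : ZMod 7, κ * κ = 1 → κ = 1 ∨ κ = -1 := by decide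

theorem deg7odd_two : ∀ b : ZMod 7, b + b = 0 → b = 0 := by decide

/-- with a normal Sylow 7-subgroup every element is affine in a suitable labelling -/
theorem deg7odd_affine {α : Type*} [Fintype α] [DecidableEq α] [Fact (Nat.Prime 7)]
    (hα : Fintype.card α = 7)
    (G : Subgroup (Perm α)) [MulAction.IsPretransitive G α] (P : Sylow 7 G)
    (hN : Subgroup.normalizer ((P : Subgroup G) : Set G) = ⊤) :
    ∃ e : α ≃ ZMod 7, ∀ y ∈ G, ∃ κ b : ZMod 7, ∀ ω, e (y ω) = κ * e ω + b := by
  have hPcard := sylow_card hα G P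
  have hcyc : IsCyclic (P : Subgroup G) := isCyclic_of_prime_card hPcard
  obtain ⟨g, hg⟩ := hcyc.exists_generator
  have hgord : orderOf g = 7 := by
    rw [orderOf_eq_card_of_forall_mem_zpowers hg, hPcard]
  have hxord : orderOf ((g : G) : Equiv.Perm α) = 7 := by
    rw [Subgroup.orderOf_coe, Subgroup.orderOf_coe, hgord]
  obtain ⟨e, he⟩ := exists_label hα ((g : G) : Equiv.Perm α) hxord
  refine ⟨e, ?_⟩
  intro y hy
  have hyN : (⟨y, hy⟩ : G) ∈ Subgroup.normalizer ((P : Subgroup G) : Set G) := by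
    rw [hN]; trivial
  have h1 : (⟨y, hy⟩ : G) * (g : G) * (⟨y, hy⟩ : G)⁻¹ ∈ (P : Subgroup G) :=
    (Subgroup.mem_normalizer_iff.1 hyN (g : G)).1 g.2
  obtain ⟨k, hk⟩ := Subgroup.mem_zpowers_iff.1 (hg ⟨_, h1⟩)
  have h2 : y * ((g : G) : Equiv.Perm α) * y⁻¹ = ((g : G) : Equiv.Perm α) ^ k := by
    have h3 := congrArg Subtype.val hk
    rw [Subgroup.coe_zpow] at h3
    have h4 := congrArg Subtype.val h3
    rw [Subgroup.coe_zpow] at h4
    exact h4.symm
  have h5 := affine_of_conj e ((g : G) : Equiv.Perm α) y he k h2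
  exact ⟨(k : ZMod 7), e (y (e.symm 0)), h5⟩

/-- an affine involution of `ZMod 7` is odd -/
theorem deg7odd_invol_odd {α : Type*} [Fintype α] [DecidableEq α] (e : α ≃ ZMod 7) (y : Perm α)
    (hy1 : y ≠ 1) (hy2 : y * y = 1) (κ b : ZMod 7) (h : ∀ ω, e (y ω) = κ * e ω + b) :
    Equiv.Perm.sign y = -1 := by
  have hyy : ∀ ω, y (y ω) = ω := by
    intro ω
    have := congrArg (fun f : Perm α => f ω) hy2
    simpa using this
  have h0 : κ * b + b = 0 := by
    have h1 := h (y (e.symm 0))
    rw [hyy, h (e.symm 0), e.apply_symm_apply] at h1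
    rw [mul_zero, zero_add] at h1
    exact h1.symm
  have h1 : κ * κ = 1 := by
    have h2 := h (y (e.symm 1))
    rw [hyy, h (e.symm 1), e.apply_symm_apply] at h2
    have h3 : κ * (κ * 1 + b) + b = κ * κ + (κ * b + b) := by ring
    rw [h3, h0, add_zero] at h2
    exact h2.symm
  rcases deg7odd_sq κ h1 with rfl | rfl
  · exfalso
    apply hy1
    have hb : b = 0 := deg7odd_two b (by simpa using h0)
    ext ω
    apply e.injective
    rw [h ω, hb]
    simp
  · have hy : y = e.symm.permCongr (deg7odd_refl b) := by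
      ext ω
      apply e.injective
      rw [h ω]
      simp [Equiv.permCongr_apply, deg7odd_refl]
    rw [hy, Equiv.Perm.sign_permCongr, deg7odd_sign]

/-- SUB-LEAF DEG7-ODD: an even transitive group of degree 7 with normal Sylow 7 has order 7 or 21. -/
theorem deg7_card_of_normal {α : Type*} [Fintype α] [DecidableEq α] (hα : Fintype.card α = 7)
    (G : Subgroup (Perm α)) [MulAction.IsPretransitive G α] (hA : G ≤ alternatingGroup α)
    (P : Sylow 7 G) (hN : Subgroup.normalizer ((P : Subgroup G) : Set G) = ⊤) :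
    Nat.card G = 7 ∨ Nat.card G = 21 := by
  have : Fact (Nat.Prime 7) := ⟨by norm_num⟩
  obtain ⟨hr6, -, hcard⟩ := sylow_numbers hα G P
  rw [hN, Subgroup.index_top, mul_one] at hcard
  set r := (Subgroup.centralizer ((P : Subgroup G) : Set G)).relIndex ⊤ with hr
  rw [hN] at hr6
  have hr6' : r ∣ 6 := hr6
  have hrle : r ≤ 6 := Nat.le_of_dvd (by norm_num) hr6'
  have hrpos : 0 < r := Nat.pos_of_dvd_of_pos hr6' (by norm_num)
  -- no involution
  have hodd : ¬ 2 ∣ Nat.card G := by
    intro h2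
    obtain ⟨t, ht⟩ := exists_prime_orderOf_dvd_card' 2 h2
    obtain ⟨e, haff⟩ := deg7odd_affine hα G P hN
    obtain ⟨κ, b, hκ⟩ := haff (t : Perm α) t.2
    have hto : orderOf (t : Perm α) = 2 := by rw [Subgroup.orderOf_coe, ht]
    have hy1 : (t : Perm α) ≠ 1 := by
      intro h1
      rw [h1, orderOf_one] at hto
      omega
    have hy2 : (t : Perm α) * (t : Perm α) = 1 := by
      rw [← pow_two, ← hto, pow_orderOf_eq_one]
    have hs := deg7odd_invol_odd e (t : Perm α) hy1 hy2 κ b hκ
    have hev : Equiv.Perm.sign (t : Perm α) = 1 := Equiv.Perm.mem_alternatingGroup.mp (hA t.2)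
    rw [hev] at hs
    exact absurd hs (by decide)
  rw [← hcard] at hodd ⊢
  interval_cases r
  · left; rfl
  · exact absurd (by norm_num) hodd
  · right; rfl
  · exact absurd hr6' (by norm_num)
  · exact absurd hr6' (by norm_num)
  · exact absurd (by norm_num) hodd

end Cfsg.Agent.Lib.Helper47.G42
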