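import Mathlib
import Cfsg.Agent.Lib.Helper47.G42Defs
import Cfsg.Agent.Lib.Helper3.Burnside

/-!
# G42 hive (S2553), leaf G42-PRIMES

A subgroup `H ≠ 1` of `Perm (Fin 8)` without solvable normal subgroups has order divisible by `7` or
`5`: otherwise `|H|` divides `2^7 * 3^2`, so `H` is solvable by Burnside's `p^a q^b` theorem.
-/

set_option autoImplicit false

namespace Cfsg.Agent.Lib.Helper47.G42

open Equiv

/-- a radical-free solvable group is trivial -/
theorem primes_trivial_of_solvable {G : Type*} [Group G] (hR : RadFree G)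
    (hs : Group.IsSolvable G) : (⊤ : Subgroup G) = ⊥ := by
  apply hR ⊤ inferInstance
  exact Group.isSolvable_of_isSolvable_injective (f := (⊤ : Subgroup G).subtype)
    (Subgroup.subtype_injective _)

/-- LEAF G42-PRIMES. -/
theorem five_or_seven_dvd (H : Subgroup (Perm (Fin 8))) (hne : H ≠ ⊥) (hR : RadFree H) :
    7 ∣ Nat.card H ∨ 5 ∣ Nat.card H := by
  by_contra hcon
  rw [not_or] at hcon
  obtain ⟨h7, h5⟩ := hcon
  have hdvd : Nat.card H ∣ 40320 := by
    have h1 := Subgroup.card_subgroup_dvd_card H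
    have h2 : Nat.card (Perm (Fin 8)) = 40320 := by
      rw [Nat.card_eq_fintype_card, Fintype.card_perm, Fintype.card_fin]; rfl
    rwa [h2] at h1
  have hc7 : Nat.Coprime (Nat.card H) 7 :=
    (Nat.coprime_comm.mp ((Nat.Prime.coprime_iff_not_dvd (by norm_num)).mpr h7))
  have hc5 : Nat.Coprime (Nat.card H) 5 :=
    (Nat.coprime_comm.mp ((Nat.Prime.coprime_iff_not_dvd (by norm_num)).mpr h5))
  have hc35 : Nat.Coprime (Nat.card H) 35 := by
    have : (35 : ℕ) = 7 * 5 := by norm_num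
    rw [this]
    exact Nat.Coprime.mul_right hc7 hc5
  have hdvd2 : Nat.card H ∣ 2 ^ 7 * 3 ^ 2 := by
    have h3 : (40320 : ℕ) = 2 ^ 7 * 3 ^ 2 * 35 := by norm_num
    rw [h3] at hdvd
    exact hc35.dvd_of_dvd_mul_right hdvd
  obtain ⟨d1, d2, hd1, hd2, hprod⟩ := (Nat.dvd_mul).mp hdvd2
  obtain ⟨a, _, ha⟩ := (Nat.dvd_prime_pow Nat.prime_two).mp hd1
  obtain ⟨b, _, hb⟩ := (Nat.dvd_prime_pow Nat.prime_three).mp hd2
  have hcard : Nat.card H = 2 ^ a * 3 ^ b := by rw [← hprod, ha, hb]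
  have hsol : Group.IsSolvable H :=
    Cfsg.Agent.Lib.Helper3.isSolvable_of_card_eq_prime_pow_mul 2 3 a b Nat.prime_two
      Nat.prime_three hcard
  have htop := primes_trivial_of_solvable hR hsol
  apply hne
  rw [Subgroup.eq_bot_iff_forall]
  intro x hx
  have hx' : (⟨x, hx⟩ : H) ∈ (⊤ : Subgroup H) := Subgroup.mem_top _
  rw [htop, Subgroup.mem_bot] at hx'
  exact congrArg Subtype.val hx'

end Cfsg.Agent.Lib.Helper47.G42
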