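import Mathlib
import Cfsg.Agent.Lib.Helper47.G42Defs

/-!
# G42 hive (S2553), leaf G42-STAB

Orbit–stabiliser for a transitive subgroup of `Perm (Fin 8)`: `|H| = 8 * |H ∩ Stab(c)|`.
-/

set_option autoImplicit false

namespace Cfsg.Agent.Lib.Helper47.G42

open Equiv

/-- LEAF G42-STAB. -/
theorem card_eq_eight_mul_stab (H : Subgroup (Perm (Fin 8)))
    (htr : ∀ x y : Fin 8, ∃ h ∈ H, h x = y) (c : Fin 8) :
    Nat.card H = 8 * Nat.card (H ⊓ MulAction.stabilizer (Perm (Fin 8)) c : Subgroup (Perm (Fin 8))) := by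
  have hstab : MulAction.stabilizer H c = (MulAction.stabilizer (Perm (Fin 8)) c).subgroupOf H := by
    ext h
    rw [Subgroup.mem_subgroupOf, MulAction.mem_stabilizer_iff, MulAction.mem_stabilizer_iff]
    rfl
  have horb : MulAction.orbit H c = Set.univ := by
    ext y
    simp only [Set.mem_univ, iff_true]
    obtain ⟨h, hh, hy⟩ := htr c y
    exact ⟨⟨h, hh⟩, hy⟩
  have hidx : (MulAction.stabilizer H c).index = 8 := by
    rw [MulAction.index_stabilizer, horb, Set.ncard_univ, Nat.card_eq_fintype_card, Fintype.card_fin]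
  have hcard : Nat.card (MulAction.stabilizer H c) =
      Nat.card (H ⊓ MulAction.stabilizer (Perm (Fin 8)) c : Subgroup (Perm (Fin 8))) := by
    rw [hstab, ← Subgroup.inf_subgroupOf_left]
    exact Nat.card_congr (Subgroup.subgroupOfEquivOfLe inf_le_left).toEquiv
  rw [← (MulAction.stabilizer H c).index_mul_card, hidx, hcard]

end Cfsg.Agent.Lib.Helper47.G42
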