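import Cfsg.Agent.Lib.Helper93.Code24
import Cfsg.Agent.Lib.Golay.Octads
import Cfsg.Agent.Lib.Helper8.Golay

set_option autoImplicit false

namespace Cfsg.Agent.Lib.Helper27

open Cfsg Cfsg.Agent.Lib.Helper93

/-- transport of words on the 24 points to words indexed by `Fin 24` -/
noncomputable def phi24 : (GolayPt → ZMod 2) ≃ₗ[ZMod 2] (Fin 24 → ZMod 2) :=
  LinearEquiv.funCongrLeft (ZMod 2) (ZMod 2) Cfsg.Agent.Lib.Golay.idxEquiv.symm

theorem phi24_apply (w : GolayPt → ZMod 2) (i : Fin 24) :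
    phi24 w i = w (Cfsg.Agent.Lib.Golay.idxEquiv.symm i) := rfl

/-- the binary Golay code as a code on `Fin 24` -/
noncomputable def golay24 : Submodule (ZMod 2) (Fin 24 → ZMod 2) :=
  golayCode.map (phi24 : (GolayPt → ZMod 2) →ₗ[ZMod 2] (Fin 24 → ZMod 2))

theorem mem_golay24 (w : GolayPt → ZMod 2) : phi24 w ∈ golay24 ↔ w ∈ golayCode := by
  unfold golay24
  rw [Submodule.mem_map]
  constructor
  · rintro ⟨v, hv, h⟩
    have : v = w := phi24.injective h
    rwa [← this]
  · intro h; exact ⟨w, h, rfl⟩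

theorem hammingNorm_phi24 (w : GolayPt → ZMod 2) : hammingNorm (phi24 w) = hammingNorm w := by
  unfold hammingNorm
  apply Finset.card_bij (fun i _ => Cfsg.Agent.Lib.Golay.idxEquiv.symm i)
  · intro i hi
    rw [Finset.mem_filter] at hi ⊢
    exact ⟨Finset.mem_univ _, hi.2⟩
  · intro i _ j _ h
    exact Cfsg.Agent.Lib.Golay.idxEquiv.symm.injective h
  · intro p hp
    rw [Finset.mem_filter] at hp
    refine ⟨Cfsg.Agent.Lib.Golay.idxEquiv p, ?_, by simp⟩
    rw [Finset.mem_filter]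
    refine ⟨Finset.mem_univ _, ?_⟩
    rw [phi24_apply, Equiv.symm_apply_apply]
    exact hp.2

theorem code24_golay24 : Code24 golay24 where
  hdim := by
    unfold golay24
    rw [LinearEquiv.finrank_map_eq]
    exact Cfsg.Agent.Lib.Golay.finrank_golayCode
  horth := by
    intro v hv w hw
    obtain ⟨v', hv', rfl⟩ := Submodule.mem_map.mp hv
    obtain ⟨w', hw', rfl⟩ := Submodule.mem_map.mp hw
    have h := Cfsg.Agent.Lib.Helper8.golay_orth hv' hw'
    unfold Cfsg.Agent.Lib.Helper8.dot₂ at h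
    rw [← h]
    exact Equiv.sum_comp Cfsg.Agent.Lib.Golay.idxEquiv.symm (fun p => v' p * w' p)
  hmin := by
    intro w hw hw0
    obtain ⟨w', hw', rfl⟩ := Submodule.mem_map.mp hw
    have h0 : w' ≠ 0 := by
      rintro rfl
      exact hw0 (map_zero _)
    show 8 ≤ hammingNorm (phi24 w')
    rw [hammingNorm_phi24]
    have hn : hammingNorm w' ≠ 0 := by
      rw [Ne, hammingNorm_eq_zero]; exact h0
    rcases Cfsg.Agent.Lib.Golay.hammingNorm_of_mem hw' with h | h | h | h | h <;> omega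

end Cfsg.Agent.Lib.Helper27
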