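import Cfsg.Agent.Lib.Helper27.GolayRank

set_option autoImplicit false

namespace Cfsg.Agent.Lib.Helper27

open Cfsg Cfsg.Agent.Lib.Helper26
open scoped Pointwise

theorem dec_subset_iff (a b : ℕ) (ha : a < 2 ^ 24) : dec a ⊆ dec b ↔ a &&& b = a := by
  rw [← Finset.inter_eq_left, ← dec_land]
  constructor
  · intro h; exact dec_injOn (lt_of_le_of_lt Nat.and_le_left ha) ha h
  · intro h; rw [h]

theorem disjoint_dec_iff (a b : ℕ) : Disjoint (dec a) (dec b) ↔ pc 24 (a &&& b) = 0 := by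
  rw [Finset.disjoint_iff_inter_eq_empty, ← Finset.card_eq_zero, card_dec_inter]

theorem smul_disjoint_iff (g : Equiv.Perm GolayPt) (a b : Finset GolayPt) :
    Disjoint (g • a) (g • b) ↔ Disjoint a b := by
  rw [Finset.disjoint_iff_inter_eq_empty, Finset.disjoint_iff_inter_eq_empty,
    ← Finset.smul_finset_inter, Finset.smul_finset_eq_empty]

/-- all masks with exactly two bits among the lowest 24. -/
def duadL : List ℕ :=
  (List.range 24).flatMap (fun i => (List.range i).map (fun j => 2 ^ i ||| 2 ^ j))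

theorem duadL_nodup : duadL.Nodup := by decide +kernel

theorem duadL_lt : ∀ m ∈ duadL, m < 2 ^ 24 := by decide +kernel

theorem duadL_pc : ∀ m ∈ duadL, pc 24 m = 2 := by decide +kernel

theorem dec_pair (i j : ℕ) (hi : i < 24) (hj : j < 24) : dec (2 ^ i ||| 2 ^ j) = {pt i, pt j} := by
  rw [dec_lor, dec_two_pow i hi, dec_two_pow j hj]
  rfl

theorem exists_duad (t : Finset GolayPt) (ht : t.card = 2) : ∃ m ∈ duadL, t = dec m := by
  obtain ⟨a, b, hab, rfl⟩ := Finset.card_eq_two.mp ht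
  have hne : idx a ≠ idx b := fun h => hab (idx_injective h)
  rcases Nat.lt_or_gt_of_ne hne with h | h
  · refine ⟨2 ^ idx b ||| 2 ^ idx a, ?_, ?_⟩
    · simp only [duadL, List.mem_flatMap, List.mem_range, List.mem_map]
      exact ⟨idx b, idx_lt b, idx a, h, rfl⟩
    · rw [dec_pair _ _ (idx_lt b) (idx_lt a), pt_idx, pt_idx, Finset.pair_comm]
  · refine ⟨2 ^ idx a ||| 2 ^ idx b, ?_, ?_⟩
    · simp only [duadL, List.mem_flatMap, List.mem_range, List.mem_map]
      exact ⟨idx a, idx_lt a, idx b, h, rfl⟩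
    · rw [dec_pair _ _ (idx_lt a) (idx_lt b), pt_idx, pt_idx]

theorem card_dec_duad {m : ℕ} (hm : m ∈ duadL) : (dec m).card = 2 := by
  rw [card_dec, duadL_pc m hm]

/-- counting two-element sets with a property that is computable on masks. -/
theorem ncard_duads_filter (P : Finset GolayPt → Prop) (f : ℕ → Bool)
    (h : ∀ m ∈ duadL, P (dec m) ↔ f m = true) :
    {t : Finset GolayPt | t.card = 2 ∧ P t}.ncard = (duadL.filter f).length := by
  have h1 : {t : Finset GolayPt | t.card = 2 ∧ P t} =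
      {o : Finset GolayPt | ∃ c ∈ duadL, f c = true ∧ o = dec c} := by
    ext t
    simp only [Set.mem_ofPred_eq]
    constructor
    · rintro ⟨ht, hp⟩
      obtain ⟨m, hm, rfl⟩ := exists_duad t ht
      exact ⟨m, hm, (h m hm).mp hp, rfl⟩
    · rintro ⟨m, hm, hf, rfl⟩
      exact ⟨card_dec_duad hm, (h m hm).mpr hf⟩
  rw [h1, ncard_dec_filter duadL duadL_nodup duadL_lt]

theorem mem_duadL_filter {P : Finset GolayPt → Prop} {f : ℕ → Bool}
    (h : ∀ m ∈ duadL, P (dec m) ↔ f m = true) {t : Finset GolayPt} (ht : t.card = 2) (hp : P t) :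
    ∃ m ∈ duadL.filter f, t = dec m := by
  obtain ⟨m, hm, rfl⟩ := exists_duad t ht
  exact ⟨m, List.mem_filter.mpr ⟨hm, (h m hm).mp hp⟩, rfl⟩

end Cfsg.Agent.Lib.Helper27
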