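import Cfsg.Agent.Lib.Helper26.OctadMeet
import Cfsg.Agent.Lib.Helper26.Trans5

set_option autoImplicit false

namespace Cfsg.Agent.Lib.Helper27

open Cfsg Cfsg.Agent.Lib.Helper26
open scoped Pointwise

theorem smul_inter_card (g : Equiv.Perm GolayPt) (a b : Finset GolayPt) :
    (g • a ∩ g • b).card = (a ∩ b).card := by
  rw [← Finset.smul_finset_inter, Finset.card_smul_finset]

theorem apply_mem_smul_iff (g : Equiv.Perm GolayPt) (x : GolayPt) (a : Finset GolayPt) :
    g x ∈ g • a ↔ x ∈ a :=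
  Finset.smul_mem_smul_finset_iff g

theorem ncard_smul_transport (g : Equiv.Perm GolayPt) (P Q : Finset GolayPt → Prop)
    (h : ∀ o, Q (g • o) ↔ P o) : {o | Q o}.ncard = {o | P o}.ncard := by
  have h1 : {o | Q o} = (fun o => g • o) '' {o | P o} := by
    ext o
    simp only [Set.mem_ofPred_eq, Set.mem_image]
    constructor
    · intro hq
      refine ⟨g⁻¹ • o, ?_, smul_inv_smul g o⟩
      rw [← h, smul_inv_smul]; exact hq
    · rintro ⟨o', hp, rfl⟩
      exact (h o').mpr hp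
  rw [h1, Set.InjOn.ncard_image]
  exact (MulAction.injective g).injOn

/-- the subgroup of `M24` fixing the points with indices in `l` and the sets with masks in `ms`. -/
def stabK (l : List ℕ) (ms : List ℕ) : Subgroup (Equiv.Perm GolayPt) where
  carrier := {g | g ∈ M24 ∧ (∀ j ∈ l, g (pt j) = pt j) ∧ ∀ m ∈ ms, g • dec m = dec m}
  one_mem' := ⟨M24.one_mem, fun _ _ => rfl, fun _ _ => one_smul _ _⟩
  mul_mem' := by
    rintro a b ⟨ha, ha', ha''⟩ ⟨hb, hb', hb''⟩
    refine ⟨M24.mul_mem ha hb, fun j hj => ?_, fun m hm => ?_⟩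
    · rw [Equiv.Perm.mul_apply, hb' j hj, ha' j hj]
    · rw [mul_smul, hb'' m hm, ha'' m hm]
  inv_mem' := by
    rintro a ⟨ha, ha', ha''⟩
    refine ⟨M24.inv_mem ha, fun j hj => ?_, fun m hm => ?_⟩
    · rw [Equiv.Perm.inv_eq_iff_eq, ha' j hj]
    · rw [inv_smul_eq_iff, ha'' m hm]

theorem mem_stabK {l ms : List ℕ} {g : Equiv.Perm GolayPt} :
    g ∈ stabK l ms ↔ g ∈ M24 ∧ (∀ j ∈ l, g (pt j) = pt j) ∧ ∀ m ∈ ms, g • dec m = dec m :=
  Iff.rfl

/-- Boolean check that a table permutation lies in `stabK l ms`. -/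
def inStabK (d : PermData) (l ms : List ℕ) : Bool :=
  d.inM24 && d.fixesAll l && ms.all (fun m => d.applyMask m == m)

theorem toPerm_mem_stabK {d : PermData} {l ms : List ℕ} (h : inStabK d l ms = true) :
    d.toPerm ∈ stabK l ms := by
  simp only [inStabK, Bool.and_eq_true, List.all_eq_true, beq_iff_eq] at h
  obtain ⟨⟨h1, h2⟩, h3⟩ := h
  have hf := PermData.toPerm_mem_fixK h1 h2
  refine ⟨hf.1, hf.2, fun m hm => ?_⟩
  rw [PermData.smul_dec (PermData.ok_of_inM24 h1), h3 m hm]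

theorem gens_mem_stabK {gens : List PermData} {l ms : List ℕ}
    (h : gens.all (fun d => inStabK d l ms) = true) : ∀ d ∈ gens, d.toPerm ∈ stabK l ms :=
  fun d hd => toPerm_mem_stabK (List.all_eq_true.mp h d hd)

theorem gens_ok_of_stabK {gens : List PermData} {l ms : List ℕ}
    (h : gens.all (fun d => inStabK d l ms) = true) : ∀ d ∈ gens, d.ok = true := by
  intro d hd
  have := List.all_eq_true.mp h d hd
  simp only [inStabK, Bool.and_eq_true] at this
  exact PermData.ok_of_inM24 this.1.1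

/-- orbit certificate inside `stabK`. -/
theorem stabK_orbit_cert (gens : List PermData) (l ms : List ℕ)
    (hg : gens.all (fun d => inStabK d l ms) = true)
    (m₀ : ℕ) (tg : List ℕ) (ws : List (List ℕ)) (h : checkPaths gens m₀ tg ws = true) :
    ∀ m ∈ tg, ∃ g ∈ stabK l ms, g • dec m₀ = dec m :=
  orbit_cert gens (gens_ok_of_stabK hg) (stabK l ms) (gens_mem_stabK hg) m₀ tg ws h

/-- from an orbit certificate: any two targets are conjugate under the subgroup. -/
theorem orbit_pairs {K : Subgroup (Equiv.Perm GolayPt)} {m₀ : ℕ} {tg : List ℕ}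
    (h : ∀ m ∈ tg, ∃ g ∈ K, g • dec m₀ = dec m) :
    ∀ m ∈ tg, ∀ m' ∈ tg, ∃ g ∈ K, g • dec m = dec m' := by
  intro m hm m' hm'
  obtain ⟨g, hg, h1⟩ := h m hm
  obtain ⟨g', hg', h2⟩ := h m' hm'
  refine ⟨g' * g⁻¹, K.mul_mem hg' (K.inv_mem hg), ?_⟩
  rw [mul_smul, ← h1, inv_smul_smul, h2]

/-- a point orbit certificate: transitivity on the points of a mask. -/
theorem point_orbit {K : Subgroup (Equiv.Perm GolayPt)} {j₀ : ℕ} (hj₀ : j₀ < 24) {M : ℕ}
    {tg : List ℕ} (h : ∀ m ∈ tg, ∃ g ∈ K, g • dec (2 ^ j₀) = dec m)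
    (hM : ∀ i, i < 24 → M.testBit i = true → 2 ^ i ∈ tg) :
    ∀ y ∈ dec M, ∃ g ∈ K, g (pt j₀) = y := by
  intro y hy
  rw [mem_dec] at hy
  obtain ⟨g, hg, h1⟩ := h _ (hM (idx y) (idx_lt y) hy)
  refine ⟨g, hg, ?_⟩
  rw [dec_two_pow j₀ hj₀, dec_two_pow _ (idx_lt y), pt_idx, Finset.smul_finset_singleton] at h1
  exact Finset.singleton_injective h1

/-- a point orbit certificate on the complement of a mask. -/
theorem point_orbit_compl {K : Subgroup (Equiv.Perm GolayPt)} {j₀ : ℕ} (hj₀ : j₀ < 24) {M : ℕ}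
    {tg : List ℕ} (h : ∀ m ∈ tg, ∃ g ∈ K, g • dec (2 ^ j₀) = dec m)
    (hM : ∀ i, i < 24 → M.testBit i = false → 2 ^ i ∈ tg) :
    ∀ y ∉ dec M, ∃ g ∈ K, g (pt j₀) = y := by
  intro y hy
  rw [mem_dec, Bool.not_eq_true] at hy
  obtain ⟨g, hg, h1⟩ := h _ (hM (idx y) (idx_lt y) hy)
  refine ⟨g, hg, ?_⟩
  rw [dec_two_pow j₀ hj₀, dec_two_pow _ (idx_lt y), pt_idx, Finset.smul_finset_singleton] at h1
  exact Finset.singleton_injective h1


theorem pt_mem_dec_iff (j : ℕ) (hj : j < 24) (c : ℕ) : pt j ∈ dec c ↔ c.testBit j = true := by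
  rw [mem_dec, idx_pt j hj]

theorem card_dec_inter (M c : ℕ) : (dec M ∩ dec c).card = pc 24 (M &&& c) := by
  rw [← dec_land, card_dec]

/-- counting octads with a property that is computable on masks. -/
theorem ncard_octads_filter (P : Finset GolayPt → Prop) (f : ℕ → Bool)
    (h : ∀ c ∈ octL, P (dec c) ↔ f c = true) :
    {o' : Finset GolayPt | o' ∈ octads ∧ P o'}.ncard = (octL.filter f).length := by
  have h1 : {o' : Finset GolayPt | o' ∈ octads ∧ P o'} =
      {o : Finset GolayPt | ∃ c ∈ octL, f c = true ∧ o = dec c} := by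
    ext o'
    simp only [Set.mem_ofPred_eq]
    constructor
    · rintro ⟨ho, hp⟩
      obtain ⟨c, hc, rfl⟩ := (mem_octads_iff o').mp ho
      exact ⟨c, hc, (h c hc).mp hp, rfl⟩
    · rintro ⟨c, hc, hf, rfl⟩
      exact ⟨(mem_octads_iff _).mpr ⟨c, hc, rfl⟩, (h c hc).mpr hf⟩
  rw [h1, ncard_dec_filter octL octL_nodup (fun c hc => octL_lt hc)]

theorem mem_octL_filter {P : Finset GolayPt → Prop} {f : ℕ → Bool}
    (h : ∀ c ∈ octL, P (dec c) ↔ f c = true) {o : Finset GolayPt} (ho : o ∈ octads) (hp : P o) :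
    ∃ c ∈ octL.filter f, o = dec c := by
  obtain ⟨c, hc, rfl⟩ := (mem_octads_iff o).mp ho
  exact ⟨c, List.mem_filter.mpr ⟨hc, (h c hc).mp hp⟩, rfl⟩

/-- counting dodecads with a property that is computable on masks. -/
theorem ncard_dodecads_filter (P : Finset GolayPt → Prop) (f : ℕ → Bool)
    (h : ∀ c ∈ dodL, P (dec c) ↔ f c = true) :
    {o' : Finset GolayPt | o' ∈ dodecads ∧ P o'}.ncard = (dodL.filter f).length := by
  have h1 : {o' : Finset GolayPt | o' ∈ dodecads ∧ P o'} =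
      {o : Finset GolayPt | ∃ c ∈ dodL, f c = true ∧ o = dec c} := by
    ext o'
    simp only [Set.mem_ofPred_eq]
    constructor
    · rintro ⟨ho, hp⟩
      obtain ⟨c, hc, rfl⟩ := (mem_dodecads_iff o').mp ho
      exact ⟨c, hc, (h c hc).mp hp, rfl⟩
    · rintro ⟨c, hc, hf, rfl⟩
      exact ⟨(mem_dodecads_iff _).mpr ⟨c, hc, rfl⟩, (h c hc).mpr hf⟩
  rw [h1, ncard_dec_filter dodL dodL_nodup (fun c hc => dodL_lt hc)]

theorem mem_dodL_filter {P : Finset GolayPt → Prop} {f : ℕ → Bool}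
    (h : ∀ c ∈ dodL, P (dec c) ↔ f c = true) {o : Finset GolayPt} (ho : o ∈ dodecads) (hp : P o) :
    ∃ c ∈ dodL.filter f, o = dec c := by
  obtain ⟨c, hc, rfl⟩ := (mem_dodecads_iff o).mp ho
  exact ⟨c, List.mem_filter.mpr ⟨hc, (h c hc).mp hp⟩, rfl⟩

/-- an octad contained in (equivalently meeting in 8 points) another octad equals it. -/
theorem octad_eq_of_inter_card {o o' : Finset GolayPt} (ho : o ∈ octads) (ho' : o' ∈ octads)
    (h : (o ∩ o').card = 8) : o' = o := by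
  have h1 : o ∩ o' = o := Finset.eq_of_subset_of_card_le Finset.inter_subset_left
    (by rw [h, card_of_mem_octads ho])
  have h2 : o ∩ o' = o' := Finset.eq_of_subset_of_card_le Finset.inter_subset_right
    (by rw [h, card_of_mem_octads ho'])
  rw [← h2, h1]

end Cfsg.Agent.Lib.Helper27
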