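import Cfsg.Agent.Lib.Helper37.GtDefs

/-! # S2734 hive "Gt" (helper37), leaf GT-STAB-GRP: the stabiliser of the line `⟨e₁⟩` is a subgroup

(`P1` is defined in `GtDefs`.) -/

set_option autoImplicit false
set_option linter.unusedSectionVars false
set_option linter.unusedVariables false

namespace Cfsg.Agent.Lib.Helper37.Gt

open Matrix Module QuadraticMap
open Cfsg.Agent.Lib.Helper8 Cfsg.Agent.Lib.Helper13 Cfsg.Agent.Lib.Helper37 Cfsg.Agent.Lib.Helper37.D4O8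

variable {F : Type*} [Field F]

/-- GT-STAB-GRP. -/
theorem P1_one : P1 (1 : OG F) := ⟨1, one_ne_zero, by rw [act_one, one_smul]⟩

/-- GT-STAB-GRP. -/
theorem P1_mul (g h : OG F) (hg : P1 g) (hh : P1 h) : P1 (g * h) := by
  obtain ⟨c, hc, hgc⟩ := hg
  obtain ⟨d, hd, hhd⟩ := hh
  refine ⟨d * c, mul_ne_zero hd hc, ?_⟩
  rw [act_mul, hhd, act_smul, hgc, smul_smul]

/-- GT-STAB-GRP. -/
theorem P1_inv (g : OG F) (hg : P1 g) : P1 g⁻¹ := by
  obtain ⟨c, hc, hgc⟩ := hg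
  refine ⟨c⁻¹, inv_ne_zero hc, ?_⟩
  have h1 : act (Q8 F) g⁻¹ (act (Q8 F) g ve1) = ve1 := by
    rw [← act_mul, inv_mul_cancel, act_one]
  rw [hgc, act_smul] at h1
  have h2 : act (Q8 F) g⁻¹ ve1 = c⁻¹ • (c • act (Q8 F) g⁻¹ ve1) := by
    rw [smul_smul, inv_mul_cancel₀ hc, one_smul]
  rw [h2, h1]

end Cfsg.Agent.Lib.Helper37.Gt
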