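import Mathlib
import Cfsg.Agent.Lib.Helper22.LBalS
import Cfsg.Agent.S0215
import Cfsg.Agent.Lib.Helper27.LbTRcore
import Cfsg.Agent.Lib.Helper80.LbA1
import Cfsg.Agent.Lib.Helper95.LbZS

/-!
# Lb hive (S1301, owner helper22), leaf LB-TR `centralizes_or_witness`

Transport of LB-A1 (`exists_witness_of_not_isolated`, helper80) and LB-ZS (`centralizes_of_isolated`,
helper95) from the group `↥(K ⊔ zpowers u)` to the ambient group `X`: `lbtr_core` of `Helper27.LbTRcore`.
-/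

set_option autoImplicit false

namespace Cfsg.Agent.Lib.Helper22.Lb

open Subgroup Cfsg
open scoped commutatorElement
open Cfsg.Agent.Lib.Helper23 (pUp pUp_le mem_pUp_of_pow coreIn coreIn_le)
open Cfsg.Agent.Lib.Helper22.LBal

section partI

/-- LEAF LB-TR (transport of LB-A1 + LB-ZS from `H = K<u>` to an ambient group `X`). -/
theorem centralizes_or_witness {X : Type*} [Group X] [Finite X] (K : Subgroup X) [K.Normal]
    (hOK : ∀ N : Subgroup X, N ≤ K → K ≤ normalizer (N : Set X) → Odd (Nat.card N) → N = ⊥)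
    (u : X) (hu : orderOf u = 2)
    (R : Subgroup X) (hRK : R ≤ K)
    (hRsyl : ∃ S : Sylow 2 ↥K, (S : Subgroup ↥K).map K.subtype = R)
    (huR : u ∈ centralizer (R : Set X)) :
    u ∈ centralizer (K : Set X) ∨
    ∃ D : Subgroup X, D ≤ R ∧ ∃ k ∈ K, k ∈ normalizer (D : Set X) ∧
      k⁻¹ * u * k * u⁻¹ ∈ D ∧ k⁻¹ * u * k * u⁻¹ ∈ centralizer (D : Set X) ∧
      k⁻¹ * u * k * u⁻¹ ≠ 1 ∧
      ∀ x ∈ K, x ∈ centralizer (D : Set X) → (∃ n : ℕ, x ^ 2 ^ n = 1) → x ∈ D :=
  lbtr_core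
    (fun K _ u hu hKu R hRK hRsyl huR hni =>
      exists_witness_of_not_isolated K u hu hKu R hRK hRsyl huR hni)
    (fun K _ hOK u hu hKu R hRK hRsyl huR hiso =>
      centralizes_of_isolated K hOK u hu hKu R hRK hRsyl huR hiso)
    K hOK u hu R hRK hRsyl huR

end partI

end Cfsg.Agent.Lib.Helper22.Lb
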