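import Cfsg.Agent.Lib.Conway.Co2Main
import Cfsg.Agent.Lib.Helper26.Bridge

set_option autoImplicit false

/-!
Lattice vectors and automorphisms of the Leech lattice given by lists of integers: efficient
Boolean certificates for the action of table automorphisms, and orbit certificates.
-/

namespace Cfsg.Agent.Lib.Helper27.LL

open Cfsg Cfsg.Agent.Lib.Conway Cfsg.Agent.Lib.Helper93.Leech Cfsg.Agent.Lib.Helper93.Golay
open Cfsg.Agent.Lib.Golay.LeechBasis

/-- the vector with a given list of coordinates -/
def vecL (l : List ℤ) : Vec := fun p => l.getD (ptIdx p).val 0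

theorem vecL_apply (l : List ℤ) (p : GolayPt) : vecL l p = l.getD (ptIdx p).val 0 := rfl

theorem tabVec_eq (tab : List (List ℤ)) (j : Fin 24) : tabVec tab j = vecL (tab.getD j.val []) := rfl

theorem avec_eq (j : Fin 24) : avec j = vecL (Atab.getD j.val []) := rfl

/-- sums over the points as sums over a range -/
theorem sum_pt (f : ℕ → ℤ) : ∑ p : GolayPt, f (ptIdx p).val = ∑ i ∈ Finset.range 24, f i := by
  rw [← Fin.sum_univ_eq_sum_range]
  exact Equiv.sum_comp ptEquiv (fun i : Fin 24 => f i.val)

/-- scalar product of lists -/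
def dotL (l l' : List ℤ) : ℤ := (List.zipWith (· * ·) l l').sum

theorem sum_range_getD_mul : ∀ (l l' : List ℤ), l.length = l'.length →
    ∑ i ∈ Finset.range l.length, l.getD i 0 * l'.getD i 0 = dotL l l'
  | [], [], _ => by simp [dotL]
  | a :: t, b :: t', h => by
    have h' : t.length = t'.length := by simpa using h
    rw [List.length_cons, Finset.sum_range_succ', dotL, List.zipWith_cons_cons, List.sum_cons]
    simp only [List.getD_cons_succ, List.getD_cons_zero]
    rw [sum_range_getD_mul t t' h', dotL]
    ring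
  | [], _ :: _, h => by simp at h
  | _ :: _, [], h => by simp at h

theorem dotInt_vecL {l l' : List ℤ} (h : l.length = 24) (h' : l'.length = 24) :
    dotInt (vecL l) (vecL l') = dotL l l' := by
  unfold dotInt vecL
  rw [sum_pt (fun i => l.getD i 0 * l'.getD i 0), ← h, sum_range_getD_mul l l' (by rw [h, h'])]

theorem sqNorm_vecL {l : List ℤ} (h : l.length = 24) : sqNorm (vecL l) = dotL l l := by
  rw [sqNorm_eq_dotInt, dotInt_vecL h h]

theorem vecL_injOn {l l' : List ℤ} (h : l.length = 24) (h' : l'.length = 24)
    (e : vecL l = vecL l') : l = l' := by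
  apply List.ext_getElem (by rw [h, h'])
  intro i h1 h2
  have hi : i < 24 := by omega
  have := congrFun e (ptOf ⟨i, hi⟩)
  rw [vecL_apply, vecL_apply, ptIdx_ptOf] at this
  have e1 : l.getD i 0 = l[i] := List.getD_eq_getElem _ _ h1
  have e2 : l'.getD i 0 = l'[i] := List.getD_eq_getElem _ _ h2
  rw [← e1, ← e2]
  exact this

/-- a list of 24 integers in `[-128, 127]` packed into a natural number (base 256, offset 128) -/
def unpack (n : ℕ) : List ℤ :=
  (List.range 24).map fun i => (((n >>> (8 * i)) % 256 : ℕ) : ℤ) - 128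

theorem unpack_length (n : ℕ) : (unpack n).length = 24 := by simp [unpack]

/-- packing of a list of integers in `[-128, 127]` -/
def packI : List ℤ → ℕ
  | [] => 0
  | a :: t => (a + 128).toNat + 256 * packI t

/-- a list of packed vectors without repetition gives a list of vectors without repetition -/
theorem nodup_map_unpack (L : List ℕ) (h1 : L.Nodup)
    (h2 : L.all (fun n => packI (unpack n) == n) = true) : (L.map unpack).Nodup := by
  apply List.Nodup.map_on _ h1
  intro a ha b hb e
  have h3 := List.all_eq_true.mp h2 a ha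
  have h4 := List.all_eq_true.mp h2 b hb
  rw [beq_iff_eq] at h3 h4
  rw [← h3, e, h4]

theorem unpack_inj_of {a b : ℕ} (ha : packI (unpack a) = a) (hb : packI (unpack b) = b)
    (e : unpack a = unpack b) : a = b := by rw [← ha, e, hb]

/-! ### linear combinations of rows -/

/-- the combination `∑ c_j • r_j` of rows of length 24 -/
def combL : List ℤ → List (List ℤ) → List ℤ
  | c :: cs, r :: rs => List.zipWith (fun a b => c * a + b) r (combL cs rs)
  | [], _ => List.replicate 24 0
  | _ :: _, [] => List.replicate 24 0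

theorem combL_length : ∀ (cs : List ℤ) (rs : List (List ℤ)), (∀ r ∈ rs, r.length = 24) →
    (combL cs rs).length = 24
  | [], _, _ => by simp [combL]
  | _ :: _, [], _ => by simp [combL]
  | c :: cs, r :: rs, h => by
    rw [combL, List.length_zipWith, h r (by simp),
      combL_length cs rs (fun r' hr' => h r' (by simp [hr']))]
    rfl

theorem getD_zipWith {f : ℤ → ℤ → ℤ} {l l' : List ℤ} {i : ℕ} (h : i < l.length)
    (h' : i < l'.length) : (List.zipWith f l l').getD i 0 = f (l.getD i 0) (l'.getD i 0) := by
  rw [List.getD_eq_getElem _ _ (by rw [List.length_zipWith]; omega), List.getElem_zipWith,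
    List.getD_eq_getElem _ _ h, List.getD_eq_getElem _ _ h']

theorem combL_getD : ∀ (cs : List ℤ) (rs : List (List ℤ)), (∀ r ∈ rs, r.length = 24) →
    cs.length = rs.length → ∀ i, i < 24 →
    (combL cs rs).getD i 0 = ∑ j ∈ Finset.range cs.length, cs.getD j 0 * (rs.getD j []).getD i 0
  | [], [], _, _, i, hi => by
    have e : (List.replicate 24 (0 : ℤ)).getD i 0 = (List.replicate 24 (0 : ℤ))[i]'(by simpa using hi) :=
      List.getD_eq_getElem _ _ (by simpa using hi)
    rw [combL, e, List.getElem_replicate]
    simp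
  | [], _ :: _, _, h, _, _ => by simp at h
  | _ :: _, [], _, h, _, _ => by simp at h
  | c :: cs, r :: rs, h, hl, i, hi => by
    have hr : r.length = 24 := h r (by simp)
    have hrs : ∀ r' ∈ rs, r'.length = 24 := fun r' hr' => h r' (by simp [hr'])
    have hl' : cs.length = rs.length := by simpa using hl
    rw [combL, getD_zipWith (by omega) (by rw [combL_length cs rs hrs]; exact hi),
      combL_getD cs rs hrs hl' i hi, List.length_cons, Finset.sum_range_succ']
    simp only [List.getD_cons_succ, List.getD_cons_zero]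
    ring

/-! ### Boolean certificates -/

/-- the list `cl` is the list of the coordinates of `vecL xl` in the basis `bvec` -/
def coefB (xl cl : List ℤ) : Bool := Atab.map (dotL xl) == cl.map (8 * ·)

theorem Atab_length : Atab.length = 24 := rfl

theorem Atab_rows : ∀ r ∈ Atab, r.length = 24 := by decide

theorem coef_of_coefB {xl cl : List ℤ} (hx : xl.length = 24) (h : coefB xl cl = true)
    (j : Fin 24) : coef (vecL xl) j = cl.getD j.val 0 := by
  unfold coefB at h
  rw [beq_iff_eq] at h
  have hj : j.val < Atab.length := by rw [Atab_length]; exact j.isLt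
  have h1 : (Atab.map (dotL xl)).getD j.val 0 = (cl.map (8 * ·)).getD j.val 0 := by rw [h]
  have hcl : cl.length = 24 := by
    have := congrArg List.length h
    simpa [Atab_length] using this.symm
  rw [List.getD_eq_getElem _ _ (by rw [List.length_map]; exact hj), List.getElem_map,
    List.getD_eq_getElem _ _ (by rw [List.length_map, hcl]; exact j.isLt), List.getElem_map] at h1
  unfold coef
  rw [avec_eq, dotInt_vecL hx (by
    rw [List.getD_eq_getElem _ _ hj]; exact Atab_rows _ (List.getElem_mem hj)),
    List.getD_eq_getElem _ _ hj, h1, List.getD_eq_getElem _ _ (by rw [hcl]; exact j.isLt)]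
  omega

/-- Boolean check that the table automorphism with table `Wt` maps `vecL xl` to `vecL yl`, where
`cl` is the list of the coordinates of `vecL xl` -/
def stepB (Wt : List (List ℤ)) (xl cl yl : List ℤ) : Bool :=
  (xl.length == 24) && (cl.length == 24) && (Wt.length == 24) && Wt.all (fun r => r.length == 24) &&
    coefB xl cl && (combL cl Wt == yl)

theorem lin_of_stepB {Wt : List (List ℤ)} {xl cl yl : List ℤ} (h : stepB Wt xl cl yl = true) :
    lin (tabVec Wt) (vecL xl) = vecL yl := by
  simp only [stepB, Bool.and_eq_true, beq_iff_eq, List.all_eq_true] at h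
  obtain ⟨⟨⟨⟨⟨hx, hc⟩, hW⟩, hrows⟩, hcoef⟩, hcomb⟩ := h
  funext p
  rw [lin_apply, ← hcomb, vecL_apply,
    combL_getD cl Wt hrows (by rw [hc, hW]) _ (ptIdx p).isLt, hc, ← Fin.sum_univ_eq_sum_range
      (fun j => cl.getD j 0 * (Wt.getD j []).getD (ptIdx p).val 0)]
  apply Finset.sum_congr rfl
  intro j _
  rw [coef_of_coefB hx hcoef j]
  rfl

/-! ### table automorphisms -/

/-- the conditions for a pair of tables to define an automorphism and its inverse -/
structure TabOK (Wt Wt' : List (List ℤ)) : Prop where
  cond : ∀ j : Fin 24, LeechCond (tabVec Wt j) (tabVec Wt j (ptOf 0))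
  cond' : ∀ j : Fin 24, LeechCond (tabVec Wt' j) (tabVec Wt' j (ptOf 0))
  gram : ∀ j k : Fin 24, dotInt (tabVec Wt j) (tabVec Wt k) = dotInt (bvec j) (bvec k)
  inv1 : ∀ (j : Fin 24) (p : GolayPt), (∑ k, coef (tabVec Wt j) k * tabVec Wt' k p) = bvec j p
  inv2 : ∀ (j : Fin 24) (p : GolayPt), (∑ k, coef (tabVec Wt' j) k * tabVec Wt k p) = bvec j p

/-- the automorphism of a pair of tables -/
def genOf (Wt Wt' : List (List ℤ)) (h : TabOK Wt Wt') : Co0 :=
  tableAut (tabVec Wt) (tabVec Wt') (fun j => mem_of_leechCond (h.cond j))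
    (fun j => mem_of_leechCond (h.cond' j)) h.gram
    (fun j => funext fun p => by rw [lin_apply]; exact h.inv1 j p)
    (fun j => funext fun p => by rw [lin_apply]; exact h.inv2 j p)

theorem genOf_smul (Wt Wt' : List (List ℤ)) (h : TabOK Wt Wt') (v : leechLattice) :
    ((genOf Wt Wt' h • v : leechLattice) : Vec) = lin (tabVec Wt) v := rfl

theorem genOf_step {Wt Wt' : List (List ℤ)} (h : TabOK Wt Wt') {xl cl yl : List ℤ}
    (hs : stepB Wt xl cl yl = true) {x y : leechLattice} (hx : (x : Vec) = vecL xl)
    (hy : (y : Vec) = vecL yl) : genOf Wt Wt' h • x = y := by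
  apply Subtype.ext
  rw [genOf_smul, hx, hy]
  exact lin_of_stepB hs

/-! ### orbit certificates -/

/-- a step `(c, p, k)`: generator `k` maps vector number `p` to vector number `c` -/
def stepOK (tabs : List (List (List ℤ))) (XL CL : List (List ℤ)) (s : ℕ × ℕ × ℕ) : Bool :=
  stepB (tabs.getD s.2.2 []) (XL.getD s.2.1 []) (CL.getD s.2.1 []) (XL.getD s.1 [])

/-- Boolean check of a tree of steps: every parent is already reached -/
def checkTree (tabs : List (List (List ℤ))) (XL CL : List (List ℤ)) :
    List ℕ → List (ℕ × ℕ × ℕ) → Bool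
  | _, [] => true
  | reached, s :: rest =>
    reached.contains s.2.1 && stepOK tabs XL CL s && checkTree tabs XL CL (s.1 :: reached) rest

/-- a family of generators with their tables -/
structure GenFam where
  gens : List Co0
  tabs : List (List (List ℤ))
  len : gens.length = tabs.length
  spec : ∀ (k : ℕ) (hk : k < gens.length) (v : leechLattice),
    ((gens[k] • v : leechLattice) : Vec) = lin (tabVec (tabs.getD k [])) v

theorem stepB_length {Wt : List (List ℤ)} {xl cl yl : List ℤ} (h : stepB Wt xl cl yl = true) :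
    Wt.length = 24 := by
  simp only [stepB, Bool.and_eq_true, beq_iff_eq] at h
  exact h.1.1.1.2

theorem checkTree_spec (F : GenFam) (K : Subgroup Co0) (hK : ∀ g ∈ F.gens, g ∈ K)
    (XL CL : List (List ℤ)) (r : leechLattice) :
    ∀ (steps : List (ℕ × ℕ × ℕ)) (reached : List ℕ),
      (∀ i ∈ reached, ∃ g ∈ K, ((g • r : leechLattice) : Vec) = vecL (XL.getD i [])) →
      checkTree F.tabs XL CL reached steps = true →
      ∀ s ∈ steps, ∃ g ∈ K, ((g • r : leechLattice) : Vec) = vecL (XL.getD s.1 [])
  | [], _, _, _ => by simp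
  | s :: rest, reached, hr, hc => by
    simp only [checkTree, Bool.and_eq_true, List.contains_iff_mem] at hc
    obtain ⟨⟨hp, hs⟩, hrest⟩ := hc
    obtain ⟨g, hg, hgr⟩ := hr _ hp
    have hk : s.2.2 < F.gens.length := by
      by_contra hcon
      have : F.tabs.getD s.2.2 [] = [] := by
        rw [List.getD_eq_default]
        rw [← F.len]; omega
      unfold stepOK at hs
      rw [this] at hs
      have := stepB_length hs
      simp at this
    have hnew : ∃ g ∈ K, ((g • r : leechLattice) : Vec) = vecL (XL.getD s.1 []) := by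
      refine ⟨F.gens[s.2.2] * g, K.mul_mem (hK _ (List.getElem_mem hk)) hg, ?_⟩
      rw [mul_smul, F.spec s.2.2 hk, hgr]
      exact lin_of_stepB hs
    intro t ht
    rcases List.mem_cons.mp ht with rfl | ht
    · exact hnew
    · refine checkTree_spec F K hK XL CL r rest (s.1 :: reached) ?_ hrest t ht
      intro i hi
      rcases List.mem_cons.mp hi with rfl | hi
      · exact hnew
      · exact hr i hi

/-- every vector of the list is in the orbit of the root -/
theorem reach_of_tree (F : GenFam) (K : Subgroup Co0) (hK : ∀ g ∈ F.gens, g ∈ K)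
    (XL CL : List (List ℤ)) (r : leechLattice) (root : ℕ) (hroot : (r : Vec) = vecL (XL.getD root []))
    (steps : List (ℕ × ℕ × ℕ)) (hc : checkTree F.tabs XL CL [root] steps = true)
    (hall : (List.range XL.length).all (fun i => (root :: steps.map (·.1)).contains i) = true) :
    ∀ l ∈ XL, ∃ g ∈ K, ((g • r : leechLattice) : Vec) = vecL l := by
  intro l hl
  obtain ⟨i, hi, rfl⟩ := List.getElem_of_mem hl
  have := List.all_eq_true.mp hall i (List.mem_range.mpr hi)
  rw [List.contains_iff_mem, List.mem_cons] at this
  have hbase : ∀ j ∈ [root], ∃ g ∈ K, ((g • r : leechLattice) : Vec) = vecL (XL.getD j []) := by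
    intro j hj
    rw [List.mem_singleton] at hj
    subst hj
    exact ⟨1, K.one_mem, by rw [one_smul]; exact hroot⟩
  rw [← List.getD_eq_getElem _ [] hi]
  rcases this with rfl | h
  · exact hbase _ (List.mem_singleton.mpr rfl)
  · obtain ⟨s, hs, rfl⟩ := List.mem_map.mp h
    exact checkTree_spec F K hK XL CL r steps [root] hbase hc s hs

/-- counting and transitivity from a complete list of the orbit -/
theorem orbit_of_list (Ω : Set leechLattice) (K : Subgroup Co0)
    (hK : ∀ g ∈ K, ∀ x ∈ Ω, g • x ∈ Ω) (r : leechLattice) (hr : r ∈ Ω) (XL : List (List ℤ))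
    (hlen : ∀ l ∈ XL, l.length = 24) (hnd : XL.Nodup)
    (hcomp : ∀ x ∈ Ω, ∃ l ∈ XL, (x : Vec) = vecL l)
    (hreach : ∀ l ∈ XL, ∃ g ∈ K, ((g • r : leechLattice) : Vec) = vecL l) :
    Ω.ncard = XL.length ∧ ∀ x ∈ Ω, ∀ x' ∈ Ω, ∃ g ∈ K, g • x = x' := by
  constructor
  · have himg : (fun x : leechLattice => (x : Vec)) '' Ω = vecL '' {l | l ∈ XL} := by
      ext y
      constructor
      · rintro ⟨x, hx, rfl⟩
        obtain ⟨l, hl, e⟩ := hcomp x hx
        exact ⟨l, hl, e.symm⟩
      · rintro ⟨l, hl, rfl⟩
        obtain ⟨g, hg, e⟩ := hreach l hl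
        exact ⟨g • r, hK g hg r hr, e⟩
    have h1 : ((fun x : leechLattice => (x : Vec)) '' Ω).ncard = Ω.ncard :=
      Set.ncard_image_of_injective _ Subtype.val_injective
    have h2 : (vecL '' {l | l ∈ XL}).ncard = ({l | l ∈ XL} : Set (List ℤ)).ncard := by
      apply Set.InjOn.ncard_image
      intro l hl l' hl' e
      exact vecL_injOn (hlen l hl) (hlen l' hl') e
    have h3 : ({l | l ∈ XL} : Set (List ℤ)).ncard = XL.length := by
      have : ({l | l ∈ XL} : Set (List ℤ)) = ↑XL.toFinset := by
        ext l; simp
      rw [this, Set.ncard_coe_finset, List.toFinset_card_of_nodup hnd]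
    rw [← h1, himg, h2, h3]
  · intro x hx x' hx'
    obtain ⟨l, hl, e⟩ := hcomp x hx
    obtain ⟨l', hl', e'⟩ := hcomp x' hx'
    obtain ⟨g, hg, eg⟩ := hreach l hl
    obtain ⟨g', hg', eg'⟩ := hreach l' hl'
    refine ⟨g' * g⁻¹, K.mul_mem hg' (K.inv_mem hg), ?_⟩
    have h1 : g • r = x := Subtype.ext (by rw [eg, e])
    have h2 : g' • r = x' := Subtype.ext (by rw [eg', e'])
    rw [mul_smul, ← h1, inv_smul_smul, h2]

/-! ### coordinate permutations -/

open Cfsg.Agent.Lib.Helper26 (PermData idx pt idx_lt idx_pt pt_idx)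

theorem idx_eq : ∀ p : GolayPt, (ptIdx p).val = idx p := by decide

/-- action of a table permutation on a list of coordinates -/
def permL (d : PermData) (xl : List ℤ) : List ℤ := d.inv.map (fun j => xl.getD j 0)

theorem vecL_permL {d : PermData} (hd : d.ok = true) (xl : List ℤ) :
    vecL (permL d xl) = signedPerm d.toPerm ∅ (vecL xl) := by
  funext p
  rw [signedPerm_apply]
  simp only [Finset.notMem_empty, if_false]
  rw [vecL_apply, vecL_apply, PermData.toPerm_symm_apply hd, idx_eq, idx_eq]
  have hlen := (PermData.ok_spec hd).2.1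
  have hlt := ((PermData.ok_spec hd).2.2 (idx p) (idx_lt p)).2.1
  have h1 : idx p < (d.inv.map (fun j => xl.getD j 0)).length := by
    rw [List.length_map, hlen]; exact idx_lt p
  have h2 : idx p < d.inv.length := by rw [hlen]; exact idx_lt p
  rw [idx_pt _ hlt, permL, List.getD_eq_getElem _ _ h1, List.getElem_map,
    List.getD_eq_getElem _ _ h2]

/-- the automorphism of a table permutation in `M24` -/
def monoP (d : PermData) (h : d.inM24 = true) : Co0 :=
  mono d.toPerm ∅ (PermData.toPerm_mem_M24 h) empty_mem_supports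

theorem monoP_smul (d : PermData) (h : d.inM24 = true) {xl : List ℤ} {v : leechLattice}
    (hv : (v : Vec) = vecL xl) : ((monoP d h • v : leechLattice) : Vec) = vecL (permL d xl) := by
  rw [monoP, mono_smul, hv, vecL_permL (PermData.ok_of_inM24 h)]

/-- action of a word in table permutations (the last letter acts first) -/
def applyW (perms : List PermData) : List ℕ → List ℤ → List ℤ
  | [], xl => xl
  | k :: w, xl =>
    match perms[k]? with
    | some d => permL d (applyW perms w xl)
    | none => applyW perms w xl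

/-- Boolean check: every target is the image of the base under the corresponding word -/
def checkWords (perms : List PermData) (bl : List ℤ) : List (List ℤ) → List (List ℕ) → Bool
  | [], _ => true
  | _ :: _, [] => false
  | t :: ts, w :: ws => (applyW perms w bl == t) && checkWords perms bl ts ws

theorem applyW_spec (perms : List PermData) (K : Subgroup Co0)
    (hK : ∀ d ∈ perms, ∃ g ∈ K, ∀ (xl : List ℤ) (v : leechLattice), (v : Vec) = vecL xl →
      ((g • v : leechLattice) : Vec) = vecL (permL d xl)) (xl : List ℤ) (v : leechLattice)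
    (hv : (v : Vec) = vecL xl) :
    ∀ w : List ℕ, ∃ g ∈ K, ((g • v : leechLattice) : Vec) = vecL (applyW perms w xl)
  | [] => ⟨1, K.one_mem, by rw [one_smul]; exact hv⟩
  | k :: w => by
    obtain ⟨g, hg, e⟩ := applyW_spec perms K hK xl v hv w
    simp only [applyW]
    cases hk : perms[k]? with
    | none => exact ⟨g, hg, e⟩
    | some d =>
      obtain ⟨h, hh, eh⟩ := hK d (List.mem_of_getElem? hk)
      exact ⟨h * g, K.mul_mem hh hg, by rw [mul_smul]; exact eh _ _ e⟩

theorem checkWords_spec (perms : List PermData) (K : Subgroup Co0)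
    (hK : ∀ d ∈ perms, ∃ g ∈ K, ∀ (xl : List ℤ) (v : leechLattice), (v : Vec) = vecL xl →
      ((g • v : leechLattice) : Vec) = vecL (permL d xl)) (r : leechLattice) (bl : List ℤ)
    (hb : ∃ g ∈ K, ((g • r : leechLattice) : Vec) = vecL bl) :
    ∀ (ts : List (List ℤ)) (ws : List (List ℕ)), checkWords perms bl ts ws = true →
      ∀ t ∈ ts, ∃ g ∈ K, ((g • r : leechLattice) : Vec) = vecL t
  | [], _, _ => by simp
  | _ :: _, [], h => by simp [checkWords] at h
  | t :: ts, w :: ws, h => by
    simp only [checkWords, Bool.and_eq_true, beq_iff_eq] at h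
    intro t' ht'
    rcases List.mem_cons.mp ht' with rfl | ht'
    · obtain ⟨g, hg, e⟩ := hb
      obtain ⟨g', hg', e'⟩ := applyW_spec perms K hK bl (g • r) e w
      exact ⟨g' * g, K.mul_mem hg' hg, by rw [mul_smul, e', h.1]⟩
    · exact checkWords_spec perms K hK r bl hb ts ws h.2 t' ht'

end Cfsg.Agent.Lib.Helper27.LL
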