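import Cfsg.Agent.Lib.Helper27.LeechList

set_option autoImplicit false

/-!
Complements to `LeechList`: sorted packed lists, word certificates with several bases, and orbits
from a count.
-/

namespace Cfsg.Agent.Lib.Helper27.LL

open Cfsg Cfsg.Agent.Lib.Conway Cfsg.Agent.Lib.Helper93.Leech Cfsg.Agent.Lib.Helper93.Golay
open Cfsg.Agent.Lib.Golay.LeechBasis
open Cfsg.Agent.Lib.Helper26 (PermData)

/-- Boolean check: the list is strictly increasing -/
def sortedLt : List ℕ → Bool
  | a :: b :: t => decide (a < b) && sortedLt (b :: t)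
  | _ => true

theorem lt_of_sortedLt : ∀ (l : List ℕ) (a : ℕ), sortedLt (a :: l) = true → ∀ x ∈ l, a < x
  | [], _, _ => by simp
  | b :: t, a, h => by
    simp only [sortedLt, Bool.and_eq_true, decide_eq_true_eq] at h
    intro x hx
    rcases List.mem_cons.mp hx with rfl | hx
    · exact h.1
    · exact lt_trans h.1 (lt_of_sortedLt t b h.2 x hx)

theorem nodup_of_sortedLt : ∀ l : List ℕ, sortedLt l = true → l.Nodup
  | [], _ => List.nodup_nil
  | [_], _ => List.nodup_singleton _
  | a :: b :: t, h => by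
    have h' := h
    simp only [sortedLt, Bool.and_eq_true, decide_eq_true_eq] at h'
    refine List.nodup_cons.mpr ⟨?_, nodup_of_sortedLt (b :: t) h'.2⟩
    intro hmem
    exact lt_irrefl a (lt_of_sortedLt (b :: t) a h a hmem)

/-- counting and transitivity from a list of reachable points of the right length -/
theorem orbit_of_count (Ω : Set leechLattice) (K : Subgroup Co0)
    (hK : ∀ g ∈ K, ∀ x ∈ Ω, g • x ∈ Ω) (r : leechLattice) (hr : r ∈ Ω) (XL : List (List ℤ))
    (hlen : ∀ l ∈ XL, l.length = 24) (hnd : XL.Nodup) (hcount : Ω.ncard = XL.length)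
    (hpos : 0 < XL.length)
    (hreach : ∀ l ∈ XL, ∃ g ∈ K, ((g • r : leechLattice) : Vec) = vecL l) :
    (∀ x ∈ Ω, ∃ l ∈ XL, (x : Vec) = vecL l) ∧ ∀ x ∈ Ω, ∀ x' ∈ Ω, ∃ g ∈ K, g • x = x' := by
  have hfin : Ω.Finite := Set.finite_of_ncard_pos (by rw [hcount]; exact hpos)
  -- the set of the points of the list
  set S : Set leechLattice := {x | ∃ l ∈ XL, (x : Vec) = vecL l} with hS
  have hSsub : S ⊆ Ω := by
    rintro x ⟨l, hl, e⟩
    obtain ⟨g, hg, eg⟩ := hreach l hl
    have : g • r = x := Subtype.ext (by rw [eg, e])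
    rw [← this]
    exact hK g hg r hr
  have hScard : S.ncard = XL.length := by
    have himg : (fun x : leechLattice => (x : Vec)) '' S = vecL '' {l | l ∈ XL} := by
      ext y
      constructor
      · rintro ⟨x, ⟨l, hl, e⟩, rfl⟩
        exact ⟨l, hl, e.symm⟩
      · rintro ⟨l, hl, rfl⟩
        obtain ⟨g, hg, e⟩ := hreach l hl
        exact ⟨g • r, ⟨l, hl, e⟩, e⟩
    have h1 : ((fun x : leechLattice => (x : Vec)) '' S).ncard = S.ncard :=
      Set.ncard_image_of_injective _ Subtype.val_injective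
    have h2 : (vecL '' {l | l ∈ XL}).ncard = ({l | l ∈ XL} : Set (List ℤ)).ncard := by
      apply Set.InjOn.ncard_image
      intro l hl l' hl' e
      exact vecL_injOn (hlen l hl) (hlen l' hl') e
    have h3 : ({l | l ∈ XL} : Set (List ℤ)).ncard = XL.length := by
      have : ({l | l ∈ XL} : Set (List ℤ)) = ↑XL.toFinset := by
        ext l; simp
      rw [this, Set.ncard_coe_finset, List.toFinset_card_of_nodup hnd]
    rw [← h1, himg, h2, h3]
  have hEq : S = Ω := Set.eq_of_subset_of_ncard_le hSsub (by rw [hScard, hcount]) hfin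
  have hcomp : ∀ x ∈ Ω, ∃ l ∈ XL, (x : Vec) = vecL l := by
    intro x hx
    rw [← hEq] at hx
    exact hx
  exact ⟨hcomp, (orbit_of_list Ω K hK r hr XL hlen hnd hcomp hreach).2⟩

end Cfsg.Agent.Lib.Helper27.LL
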