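import Cfsg.Agent.Lib.Helper27.LeechList2

set_option autoImplicit false

/-!
Packed vectors: the action of table permutations on vectors packed into natural numbers (base 256,
offset 128), for fast kernel-checked word certificates.
-/

namespace Cfsg.Agent.Lib.Helper27.LL

open Cfsg Cfsg.Agent.Lib.Conway Cfsg.Agent.Lib.Helper93.Leech Cfsg.Agent.Lib.Helper93.Golay
open Cfsg.Agent.Lib.Golay.LeechBasis
open Cfsg.Agent.Lib.Helper26 (PermData)

/-- the base-256 digit of index `i` -/
def dig (n i : ℕ) : ℕ := (n >>> (8 * i)) % 256

/-- packing of base-256 digits -/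
def packN : List ℕ → ℕ
  | [] => 0
  | a :: t => a + 256 * packN t

theorem dig_lt (n i : ℕ) : dig n i < 256 := Nat.mod_lt _ (by norm_num)

theorem dig_zero_cons (a p : ℕ) (ha : a < 256) : dig (a + 256 * p) 0 = a := by
  unfold dig
  rw [Nat.mul_zero, Nat.shiftRight_zero, Nat.add_mul_mod_self_left, Nat.mod_eq_of_lt ha]

theorem dig_succ_cons (a p i : ℕ) (ha : a < 256) : dig (a + 256 * p) (i + 1) = dig p i := by
  unfold dig
  have h8 : 8 * (i + 1) = 8 + 8 * i := by ring
  have hdiv : (a + 256 * p) >>> 8 = p := by
    rw [Nat.shiftRight_eq_div_pow]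
    norm_num
    omega
  rw [h8, Nat.shiftRight_add, hdiv]

theorem dig_packN : ∀ (l : List ℕ), (∀ a ∈ l, a < 256) → ∀ i, dig (packN l) i = l.getD i 0
  | [], _, i => by simp [packN, dig]
  | a :: t, h, 0 => by
    rw [packN, dig_zero_cons _ _ (h a (by simp))]; rfl
  | a :: t, h, i + 1 => by
    rw [packN, dig_succ_cons _ _ _ (h a (by simp)),
      dig_packN t (fun b hb => h b (by simp [hb])) i]
    rfl

theorem unpack_eq (n : ℕ) :
    unpack n = (List.range 24).map fun i => ((dig n i : ℕ) : ℤ) - 128 := rfl

theorem unpack_getD (n j : ℕ) (hj : j < 24) :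
    (unpack n).getD j 0 = ((dig n j : ℕ) : ℤ) - 128 := by
  rw [unpack_eq, List.getD_eq_getElem _ _ (by simpa using hj), List.getElem_map,
    List.getElem_range]

/-- packed action of a table permutation -/
def permN (d : PermData) (n : ℕ) : ℕ := packN (d.inv.map fun j => dig n j)

theorem unpack_permN {d : PermData} (hd : d.ok = true) (n : ℕ) :
    unpack (permN d n) = permL d (unpack n) := by
  obtain ⟨-, hlen, hsp⟩ := PermData.ok_spec hd
  apply List.ext_getElem
  · simp [unpack, permL, hlen]
  intro i h1 h2
  have hi : i < 24 := by simpa [unpack] using h1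
  have hi' : i < d.inv.length := by omega
  have hji : d.inv[i] < 24 := by
    have := (hsp i hi).2.1
    rwa [List.getD_eq_getElem _ _ hi'] at this
  rw [← List.getD_eq_getElem _ 0 h1, unpack_getD _ _ hi, permN, dig_packN _ (by
    intro a ha
    obtain ⟨j, -, rfl⟩ := List.mem_map.mp ha
    exact dig_lt _ _)]
  simp only [permL, List.getElem_map]
  rw [unpack_getD _ _ hji, List.getD_eq_getElem _ _ (by simpa using hi'), List.getElem_map]

/-- packed action of a word in table permutations (the last letter acts first) -/
def applyWN (perms : List PermData) : List ℕ → ℕ → ℕ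
  | [], n => n
  | k :: w, n =>
    match perms[k]? with
    | some d => permN d (applyWN perms w n)
    | none => applyWN perms w n

theorem unpack_applyWN (perms : List PermData) (hok : ∀ d ∈ perms, d.ok = true) (n : ℕ) :
    ∀ w : List ℕ, unpack (applyWN perms w n) = applyW perms w (unpack n)
  | [] => rfl
  | k :: w => by
    simp only [applyWN, applyW]
    cases hk : perms[k]? with
    | none => exact unpack_applyWN perms hok n w
    | some d =>
      simp only
      rw [unpack_permN (hok d (List.mem_of_getElem? hk)), unpack_applyWN perms hok n w]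

/-- Boolean check: every packed target is the image of the indicated packed base under the word -/
def checkW3 (perms : List PermData) (bases : List ℕ) : List ℕ → List (ℕ × List ℕ) → Bool
  | [], _ => true
  | _ :: _, [] => false
  | t :: ts, bw :: ws =>
    Nat.blt bw.1 bases.length && Nat.beq (applyWN perms bw.2 (bases.getD bw.1 0)) t &&
      checkW3 perms bases ts ws

theorem checkW3_spec (perms : List PermData) (hok : ∀ d ∈ perms, d.ok = true) (K : Subgroup Co0)
    (hK : ∀ d ∈ perms, ∃ g ∈ K, ∀ (xl : List ℤ) (v : leechLattice), (v : Vec) = vecL xl →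
      ((g • v : leechLattice) : Vec) = vecL (permL d xl)) (r : leechLattice)
    (bases : List ℕ)
    (hb : ∀ i, i < bases.length →
      ∃ g ∈ K, ((g • r : leechLattice) : Vec) = vecL (unpack (bases.getD i 0))) :
    ∀ (ts : List ℕ) (ws : List (ℕ × List ℕ)), checkW3 perms bases ts ws = true →
      ∀ t ∈ ts, ∃ g ∈ K, ((g • r : leechLattice) : Vec) = vecL (unpack t)
  | [], _, _ => by simp
  | _ :: _, [], h => by simp [checkW3] at h
  | t :: ts, bw :: ws, h => by
    simp only [checkW3, Bool.and_eq_true] at h
    intro t' ht'
    rcases List.mem_cons.mp ht' with rfl | ht'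
    · obtain ⟨g, hg, e⟩ := hb bw.1 (by
        have := h.1.1
        rw [Nat.blt_eq] at this
        exact this)
      obtain ⟨g', hg', e'⟩ := applyW_spec perms K hK _ (g • r) e bw.2
      refine ⟨g' * g, K.mul_mem hg' hg, ?_⟩
      rw [mul_smul, e', ← unpack_applyWN perms hok, Nat.eq_of_beq_eq_true h.1.2]
    · exact checkW3_spec perms hok K hK r bases hb ts ws h.2 t' ht'

/-- `unpack` is injective on the numbers below `256 ^ 24` -/
theorem packN_dig : ∀ (k n : ℕ), n < 256 ^ k → packN ((List.range k).map fun i => dig n i) = n
  | 0, n, h => by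
    have : n = 0 := by simpa using h
    subst this; rfl
  | k + 1, n, h => by
    rw [List.range_succ_eq_map, List.map_cons, List.map_map, packN]
    have h1 : dig n 0 = n % 256 := by unfold dig; simp
    have h2 : ((fun i => dig n i) ∘ Nat.succ) = fun i => dig (n / 256) i := by
      funext i
      show dig n (i + 1) = dig (n / 256) i
      conv_lhs => rw [← Nat.mod_add_div n 256]
      exact dig_succ_cons _ _ _ (Nat.mod_lt _ (by norm_num))
    rw [h1, h2, packN_dig k (n / 256) (by
      rw [Nat.div_lt_iff_lt_mul (by norm_num)]
      calc n < 256 ^ (k + 1) := h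
        _ = 256 ^ k * 256 := by ring)]
    exact Nat.mod_add_div n 256

theorem unpack_injOn {a b : ℕ} (ha : a < 256 ^ 24) (hb : b < 256 ^ 24) (e : unpack a = unpack b) :
    a = b := by
  have h : (List.range 24).map (fun i => dig a i) = (List.range 24).map (fun i => dig b i) := by
    apply List.ext_getElem (by simp)
    intro i h1 h2
    have hi : i < 24 := by simpa using h1
    have := congrArg (fun l => l.getD i 0) e
    simp only [unpack_getD _ _ hi] at this
    simp only [List.getElem_map, List.getElem_range]
    omega
  rw [← packN_dig 24 a ha, h, packN_dig 24 b hb]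

/-- a strictly increasing list of packed vectors below `256 ^ 24` gives a list of vectors without
repetition -/
theorem nodup_map_unpack_of_sorted (L : List ℕ) (h1 : sortedLt L = true)
    (h2 : L.all (fun n => decide (n < 256 ^ 24)) = true) : (L.map unpack).Nodup := by
  apply List.Nodup.map_on _ (nodup_of_sortedLt L h1)
  intro a ha b hb e
  have h3 := List.all_eq_true.mp h2 a ha
  have h4 := List.all_eq_true.mp h2 b hb
  rw [decide_eq_true_eq] at h3 h4
  exact unpack_injOn h3 h4 e

end Cfsg.Agent.Lib.Helper27.LL
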