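import Cfsg.Agent.Lib.Helper27.M2025Data
import Cfsg.Agent.Lib.Helper27.Co3

set_option autoImplicit false

/-!
The action of the joint stabiliser of two minimal vectors `v`, `w` with `v . w = -8` on the 2025
minimal vectors `x` with `v . x = 0` and `w . x = 16`: transitivity, and the orbits of lengths
330, 462, 1232 of a point stabiliser.
-/

namespace Cfsg.Agent.Lib.Helper27.M2025

open Cfsg Cfsg.Agent.Lib.Conway Cfsg.Agent.Lib.Helper93.Leech Cfsg.Agent.Lib.Helper93.Golay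
open Cfsg.Agent.Lib.Golay.LeechBasis Cfsg.Agent.Lib.Helper27.LL
open Cfsg.Agent.Lib.Helper27.McL (U0 K mem_K U0_coe V0_coe U0_norm V0_norm u0_len v0_len
  perms22 perms22_mem perms22_check famG famG_mem getD_mem_of_lt co0_sub')
open Cfsg.Agent.Lib.Helper26 (PermData)
open scoped Pointwise

set_option maxRecDepth 100000 in
theorem r0_cond : LeechCond (vecL r0L) 0 := by decide +kernel

/-- the vector `(-4, 4, 0^22)` -/
def R0 : leechLattice := ⟨vecL r0L, mem_of_leechCond r0_cond⟩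

theorem R0_coe : (R0 : Vec) = vecL r0L := rfl

theorem r0_len : r0L.length = 24 := by decide

theorem nat_beq_iff (a b : ℕ) : Nat.beq a b = true ↔ a = b :=
  ⟨Nat.eq_of_beq_eq_true, fun h => h ▸ Nat.beq_refl a⟩

theorem vecL_r0 : vecL r0L = fun p => if p = pa then -4 else if p = pb then 4 else 0 := by
  funext p; revert p; decide

theorem dot_R0 (x : Vec) : dotInt (vecL r0L) x = -4 * x pa + 4 * x pb := by
  rw [vecL_r0]
  unfold dotInt
  have hpt : ∀ p, (if p = pa then (-4 : ℤ) else if p = pb then 4 else 0) * x p =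
      (if p = pa then -4 * x p else 0) + (if p = pb then 4 * x p else 0) := by
    intro p
    by_cases h1 : p = pa
    · have h2 : p ≠ pb := fun h => pa_ne_pb (h1.symm.trans h)
      simp [h1, pa_ne_pb]
    · by_cases h2 : p = pb
      · simp [h2, pa_ne_pb.symm]
      · simp [h1, h2]
  rw [Finset.sum_congr rfl (fun p _ => hpt p), Finset.sum_add_distrib, Finset.sum_ite_eq',
    Finset.sum_ite_eq']
  simp only [Finset.mem_univ, if_true]

/-- the coordinates at the two base points of an unpacked vector -/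
theorem unpack_pa (n : ℕ) : vecL (unpack n) pa = ((dig n 0 : ℕ) : ℤ) - 128 := by
  rw [vecL_apply]
  exact unpack_getD n 0 (by norm_num)

theorem unpack_pb (n : ℕ) : vecL (unpack n) pb = ((dig n 1 : ℕ) : ℤ) - 128 := by
  rw [vecL_apply]
  exact unpack_getD n 1 (by norm_num)

/-- the points (the negatives of the points of the statement) -/
def ptsN : Set leechLattice :=
  {y : leechLattice | y ∈ Co3.pts3 U0 ∧ dotInt (McL.V0 : Vec) (y : Vec) = 0}

theorem K_inv : ∀ g ∈ K, ∀ y ∈ ptsN, g • y ∈ ptsN := by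
  intro g hg y hy
  obtain ⟨hu, hv⟩ := mem_K.mp hg
  refine ⟨Co3.smul_mem_pts3 hu hy.1, ?_⟩
  have := Cfsg.Agent.Lib.Conway.co0_dot g McL.V0 y
  rw [hv] at this
  rw [this]
  exact hy.2

set_option maxRecDepth 100000 in
theorem R0_mem : R0 ∈ ptsN := by
  refine ⟨⟨?_, ?_⟩, ?_⟩
  · rw [R0_coe, sqNorm_vecL r0_len]; decide +kernel
  · rw [U0_coe, R0_coe, dotInt_vecL u0_len r0_len]; decide +kernel
  · rw [V0_coe, R0_coe, dotInt_vecL v0_len r0_len]; decide +kernel

/-- the list of the points -/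
def X2 : List (List ℤ) := X2P.map unpack

theorem X2_len : ∀ l ∈ X2, l.length = 24 := by
  intro l hl
  obtain ⟨n, -, rfl⟩ := List.mem_map.mp hl
  exact unpack_length n

theorem XcP_nodup : Co3.XcP.Nodup := nodup_of_sortedLt _ Co3.XcP_sorted

theorem XcP_bound : ∀ n ∈ Co3.XcP, n < 256 ^ 24 := by
  intro n hn
  have := List.all_eq_true.mp Co3.XcP_lt n hn
  rwa [decide_eq_true_eq] at this

theorem X2P_sub : ∀ n ∈ X2P, n ∈ Co3.XcP := fun n hn => (List.mem_filter.mp hn).1

theorem X2P_nodup : X2P.Nodup := XcP_nodup.filter _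

/-- mapping `unpack` over a sublist of the big list keeps it without repetition -/
theorem nodup_map_of_sub (L : List ℕ) (hnd : L.Nodup) (hsub : ∀ n ∈ L, n ∈ Co3.XcP) :
    (L.map unpack).Nodup := by
  apply List.Nodup.map_on _ hnd
  intro a ha b hb e
  exact unpack_injOn (XcP_bound a (hsub a ha)) (XcP_bound b (hsub b hb)) e

theorem X2_nodup : X2.Nodup := nodup_map_of_sub X2P X2P_nodup X2P_sub

theorem X2_length : X2.length = 2025 := by rw [X2, List.length_map, X2P_length]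

/-- every point is in the list -/
theorem complete (y : leechLattice) (hy : y ∈ ptsN) : ∃ n ∈ X2P, (y : Vec) = vecL (unpack n) := by
  obtain ⟨l, hl, e⟩ := Co3.main0.1 y hy.1
  obtain ⟨n, hn, rfl⟩ := List.mem_map.mp hl
  refine ⟨n, List.mem_filter.mpr ⟨hn, ?_⟩, e⟩
  have h := hy.2
  rw [V0_coe, McL.dot_V0, e, unpack_pa, unpack_pb] at h
  have : dig n 0 + dig n 1 = 256 := by omega
  rw [this]
  rfl

theorem complete' (y : leechLattice) (hy : y ∈ ptsN) : ∃ l ∈ X2, (y : Vec) = vecL l := by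
  obtain ⟨n, hn, e⟩ := complete y hy
  exact ⟨unpack n, List.mem_map.mpr ⟨n, hn, rfl⟩, e⟩

theorem perms22_ok : ∀ d ∈ perms22, d.ok = true := by
  intro d hd
  have := List.all_eq_true.mp perms22_check d hd
  simp only [Bool.and_eq_true, beq_iff_eq] at this
  exact PermData.ok_of_inM24 this.1.1

theorem reach_SL2 : ∀ l ∈ SL2, ∃ g ∈ K, ((g • R0 : leechLattice) : Vec) = vecL l :=
  reach_of_tree famG K famG_mem SL2 SC2 R0 0 (by rw [R0_coe, SL2_head.1]) steps2 tree2_check
    tree2_all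

theorem reach_bases : ∀ i, i < SL2P.length →
    ∃ g ∈ K, ((g • R0 : leechLattice) : Vec) = vecL (unpack (SL2P.getD i 0)) := by
  intro i hi
  apply reach_SL2
  rw [SL2]
  exact List.mem_map.mpr ⟨SL2P.getD i 0, getD_mem_of_lt SL2P 0 hi, rfl⟩

theorem reach_X2P : ∀ t ∈ X2P, ∃ g ∈ K, ((g • R0 : leechLattice) : Vec) = vecL (unpack t) :=
  checkW3_spec perms22 perms22_ok K perms22_mem R0 SL2P reach_bases _ _ words2_check

theorem reach_X2 : ∀ l ∈ X2, ∃ g ∈ K, ((g • R0 : leechLattice) : Vec) = vecL l := by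
  intro l hl
  obtain ⟨n, hn, rfl⟩ := List.mem_map.mp hl
  exact reach_X2P n hn

/-- 2025 points, permuted transitively -/
theorem main0 : ptsN.ncard = 2025 ∧ ∀ y ∈ ptsN, ∀ y' ∈ ptsN, ∃ g ∈ K, g • y = y' := by
  have h := orbit_of_list ptsN K K_inv R0 R0_mem X2 X2_len X2_nodup complete' reach_X2
  rw [X2_length] at h
  exact h

/-! ### the orbits of the stabiliser of the root -/

/-- the stabiliser of `U0`, `V0` and `R0` -/
def KR : Subgroup Co0 := K ⊓ MulAction.stabilizer Co0 R0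

theorem mem_KR {g : Co0} : g ∈ KR ↔ g • U0 = U0 ∧ g • McL.V0 = McL.V0 ∧ g • R0 = R0 := by
  simp [KR, Subgroup.mem_inf, MulAction.mem_stabilizer_iff, mem_K, and_assoc]

/-- the points at scalar product `d` from the root -/
def ptsD (d : ℤ) : Set leechLattice := {y : leechLattice | y ∈ ptsN ∧ dotInt (R0 : Vec) (y : Vec) = d}

theorem KR_inv (d : ℤ) : ∀ g ∈ KR, ∀ y ∈ ptsD d, g • y ∈ ptsD d := by
  intro g hg y hy
  obtain ⟨hu, hv, hr⟩ := mem_KR.mp hg
  refine ⟨K_inv g (mem_K.mpr ⟨hu, hv⟩) y hy.1, ?_⟩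
  have := Cfsg.Agent.Lib.Conway.co0_dot g R0 y
  rw [hr] at this
  rw [this]
  exact hy.2

theorem perms22R_mem : ∀ d ∈ perms22, ∃ g ∈ KR, ∀ (xl : List ℤ) (v : leechLattice),
    (v : Vec) = vecL xl → ((g • v : leechLattice) : Vec) = vecL (permL d xl) := by
  intro d hd
  obtain ⟨g, hg, hact⟩ := perms22_mem d hd
  have hfix := List.all_eq_true.mp perms22_fix d hd
  rw [beq_iff_eq] at hfix
  refine ⟨g, ?_, hact⟩
  obtain ⟨hu, hv⟩ := mem_K.mp hg
  refine mem_KR.mpr ⟨hu, hv, ?_⟩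
  apply Subtype.ext
  rw [hact r0L R0 R0_coe, hfix]
  rfl

/-- the scalar product with the root in terms of the packed coordinates -/
theorem dot_R0_unpack (y : leechLattice) (n : ℕ) (e : (y : Vec) = vecL (unpack n)) :
    dotInt (R0 : Vec) (y : Vec) = 4 * ((dig n 1 : ℕ) : ℤ) - 4 * ((dig n 0 : ℕ) : ℤ) := by
  rw [R0_coe, dot_R0, e, unpack_pa, unpack_pb]
  ring

/-- the orbit of the points at a given scalar product from the root, from its certificate -/
theorem orbitD (d : ℤ) (cond : ℕ → Bool) (base : ℕ) (W : List (ℕ × List ℕ))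
    (hcond : ∀ n, cond n = true ↔ 4 * ((dig n 1 : ℕ) : ℤ) - 4 * ((dig n 0 : ℕ) : ℤ) = d)
    (hbase : base ∈ X2P.filter cond)
    (hW : checkW3 perms22 [base] (X2P.filter cond) W = true) :
    (ptsD d).ncard = (X2P.filter cond).length ∧
      (∃ r, r ∈ ptsD d) ∧ ∀ y ∈ ptsD d, ∀ y' ∈ ptsD d, ∃ g ∈ KR, g • y = y' := by
  obtain ⟨hb1, hb2⟩ := List.mem_filter.mp hbase
  obtain ⟨g0, hg0, e0⟩ := reach_X2P base hb1
  set r : leechLattice := g0 • R0 with hr
  have hrN : r ∈ ptsN := K_inv g0 hg0 R0 R0_mem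
  have hrD : r ∈ ptsD d := ⟨hrN, by rw [dot_R0_unpack r base e0]; exact (hcond base).mp hb2⟩
  have hcomp : ∀ y ∈ ptsD d, ∃ l ∈ (X2P.filter cond).map unpack, (y : Vec) = vecL l := by
    intro y hy
    obtain ⟨n, hn, e⟩ := complete y hy.1
    refine ⟨unpack n, List.mem_map.mpr ⟨n, List.mem_filter.mpr ⟨hn, ?_⟩, rfl⟩, e⟩
    rw [hcond, ← dot_R0_unpack y n e]
    exact hy.2
  have hreachP : ∀ t ∈ X2P.filter cond,
      ∃ g ∈ KR, ((g • r : leechLattice) : Vec) = vecL (unpack t) :=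
    checkW3_spec perms22 perms22_ok KR perms22R_mem r [base] (by
      intro i hi
      have : i = 0 := by simpa using hi
      subst this
      exact ⟨1, KR.one_mem, by rw [one_smul]; exact e0⟩) _ _ hW
  have hreach : ∀ l ∈ (X2P.filter cond).map unpack,
      ∃ g ∈ KR, ((g • r : leechLattice) : Vec) = vecL l := by
    intro l hl
    obtain ⟨n, hn, rfl⟩ := List.mem_map.mp hl
    exact hreachP n hn
  have h := orbit_of_list (ptsD d) KR (KR_inv d) r hrD ((X2P.filter cond).map unpack)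
    (by
      intro l hl
      obtain ⟨n, -, rfl⟩ := List.mem_map.mp hl
      exact unpack_length n)
    (nodup_map_of_sub _ (X2P_nodup.filter _) (fun n hn => X2P_sub n (List.mem_filter.mp hn).1))
    hcomp hreach
  rw [List.length_map] at h
  exact ⟨h.1, ⟨r, hrD⟩, h.2⟩

theorem orbit0 : (ptsD 0).ncard = 330 ∧ (∃ r, r ∈ ptsD 0) ∧
    ∀ y ∈ ptsD 0, ∀ y' ∈ ptsD 0, ∃ g ∈ KR, g • y = y' := by
  have h := orbitD 0 (fun n => Nat.beq (dig n 0) (dig n 1)) base0 WD0 (by
    intro n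
    rw [nat_beq_iff]
    omega) bases_mem.1 wordsD0_check
  have e : (X2P.filter fun n => Nat.beq (dig n 0) (dig n 1)).length = 330 := C_lengths.1
  rw [e] at h
  exact h

theorem orbit16 : (ptsD 16).ncard = 462 ∧ (∃ r, r ∈ ptsD 16) ∧
    ∀ y ∈ ptsD 16, ∀ y' ∈ ptsD 16, ∃ g ∈ KR, g • y = y' := by
  have h := orbitD 16 (fun n => Nat.beq (dig n 0 + 4) (dig n 1)) base16 WD16 (by
    intro n
    rw [nat_beq_iff]
    omega) bases_mem.2.1 wordsD16_check
  have e : (X2P.filter fun n => Nat.beq (dig n 0 + 4) (dig n 1)).length = 462 := C_lengths.2.1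
  rw [e] at h
  exact h

theorem orbit8 : (ptsD 8).ncard = 1232 ∧ (∃ r, r ∈ ptsD 8) ∧
    ∀ y ∈ ptsD 8, ∀ y' ∈ ptsD 8, ∃ g ∈ KR, g • y = y' := by
  have h := orbitD 8 (fun n => Nat.beq (dig n 0 + 2) (dig n 1)) base8 WD8 (by
    intro n
    rw [nat_beq_iff]
    omega) bases_mem.2.2 wordsD8_check
  have e : (X2P.filter fun n => Nat.beq (dig n 0 + 2) (dig n 1)).length = 1232 := C_lengths.2.2
  rw [e] at h
  exact h

end Cfsg.Agent.Lib.Helper27.M2025
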