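import Cfsg.Agent.Lib.Helper27.McLData

set_option autoImplicit false

/-!
Certificates for the McLaughlin configuration: two automorphisms `G1`, `G2` fixing `u0 = (5, 1^23)` and
`v0 = (4, 4, 0^22)`, two automorphisms `H1`, `H2` fixing moreover `x0 = (4, 0, 4, 0^21)`, table
permutations generating the monomial parts of the two stabilisers, the list of the 275 points and
the orbit certificates.
-/

namespace Cfsg.Agent.Lib.Helper27.McL

open Cfsg Cfsg.Agent.Lib.Conway Cfsg.Agent.Lib.Helper93.Leech Cfsg.Agent.Lib.Helper93.Golay
open Cfsg.Agent.Lib.Golay.LeechBasis Cfsg.Agent.Lib.Helper27.LL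
open Cfsg.Agent.Lib.Helper26 (PermData)

set_option maxRecDepth 1000000 in
theorem fix_check : [G1Tab, G2Tab, H1Tab, H2Tab].all (fun T =>
    stepB T u0L u0C u0L && stepB T v0L v0C v0L) = true := by decide +kernel

set_option maxRecDepth 1000000 in
theorem fixH_check : [H1Tab, H2Tab].all (fun T => stepB T x0L x0C x0L) = true := by decide +kernel

set_option maxRecDepth 1000000 in
theorem perms22_check : perms22.all (fun d => d.inM24 && (permL d u0L == u0L) &&
    (permL d v0L == v0L)) = true := by decide +kernel

set_option maxRecDepth 1000000 in
theorem perms21_check : perms21.all (fun d => d.inM24 && (permL d u0L == u0L) &&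
    (permL d v0L == v0L) && (permL d x0L == x0L)) = true := by decide +kernel

set_option maxRecDepth 1000000 in
theorem treeM_check : checkTree famG.tabs SLm SCm [0] stepsM = true := by decide +kernel

set_option maxRecDepth 1000000 in
theorem wordsM_check : checkWords perms22 (SLm.getD (baseM.getD 0 0) []) (XL.take 22) wordsM0 &&
    checkWords perms22 (SLm.getD (baseM.getD 1 0) []) ((XL.drop 22).take 77) wordsM1 &&
    checkWords perms22 (SLm.getD (baseM.getD 2 0) []) (XL.drop 99) wordsM2 = true := by
  decide +kernel

set_option maxRecDepth 1000000 in
theorem treeM_all : (List.range SLm.length).all (fun i => (0 :: stepsM.map (·.1)).contains i) = true := by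
  decide +kernel

set_option maxRecDepth 1000000 in
theorem tree112_all : (List.range SL112.length).all (fun i => (0 :: steps112.map (·.1)).contains i) = true := by
  decide +kernel

set_option maxRecDepth 1000000 in
theorem tree162_all : (List.range SL162.length).all (fun i => (0 :: steps162.map (·.1)).contains i) = true := by
  decide +kernel

set_option maxRecDepth 1000000 in
theorem bases_lt : baseM.all (fun b => b < SLm.length) && decide (base112_0 < SL112.length) &&
    decide (base112_1 < SL112.length) && decide (base162_0 < SL162.length) &&
    decide (base162_1 < SL162.length) && decide (base162_2 < SL162.length) = true := by decide +kernel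

/-- the list of the points by families -/
def f1L (j : ℕ) : List ℤ := (List.range 24).map fun i => if i = 0 ∨ i = j then 4 else 0
def f2L (m : ℕ) : List ℤ := (List.range 24).map fun i => if m.testBit i then 2 else 0
def f3L (m : ℕ) : List ℤ := (List.range 24).map fun i => if i = 0 then 3 else if m.testBit i then -1 else 1

set_option maxRecDepth 1000000 in
theorem XL_eq : XL = (List.range' 2 22).map f1L ++ (octTy true true).map f2L ++
    (octTy true false).map f3L := by decide +kernel

set_option maxRecDepth 1000000 in
theorem tree112_check : checkTree famH.tabs SL112 SC112 [0] steps112 = true := by decide +kernel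

set_option maxRecDepth 1000000 in
theorem tree162_check : checkTree famH.tabs SL162 SC162 [0] steps162 = true := by decide +kernel

set_option maxRecDepth 1000000 in
theorem words112_check : checkWords perms21 (SL112.getD base112_0 []) T112_0 words112_0 &&
    checkWords perms21 (SL112.getD base112_1 []) T112_1 words112_1 = true := by decide +kernel

set_option maxRecDepth 1000000 in
theorem words162_check : checkWords perms21 (SL162.getD base162_0 []) T162_0 words162_0 &&
    checkWords perms21 (SL162.getD base162_1 []) T162_1 words162_1 &&
    checkWords perms21 (SL162.getD base162_2 []) T162_2 words162_2 = true := by decide +kernel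

set_option maxRecDepth 1000000 in
theorem XL_length : XLP.length = 275 := by decide +kernel

set_option maxRecDepth 1000000 in
theorem XLP_nodup : XLP.Nodup := by decide +kernel

set_option maxRecDepth 1000000 in
theorem XLP_pack : XLP.all (fun n => packI (unpack n) == n) = true := by decide +kernel

set_option maxRecDepth 1000000 in
theorem XL_head : XL.getD 0 [] = x0L ∧ SLm.getD 0 [] = x0L ∧ XLP.getD 0 0 = x0P ∧ unpack x0P = x0L := by
  decide +kernel

/-- the two classes of points different from `x0` -/
def T112P : List ℕ := T112_0P ++ T112_1P
def T162P : List ℕ := T162_0P ++ T162_1P ++ T162_2P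

set_option maxRecDepth 1000000 in
theorem T_facts : T112P.length = 112 ∧ T162P.length = 162 ∧ T112P.Nodup ∧ T162P.Nodup := by
  decide +kernel

set_option maxRecDepth 1000000 in
theorem T_pack : (T112P ++ T162P).all (fun n => packI (unpack n) == n) = true := by decide +kernel

set_option maxRecDepth 1000000 in
theorem class_check : XLP.all (fun n => (n == x0P) ||
    ((dotL x0L (unpack n) == 8) && T112P.contains n) ||
    ((dotL x0L (unpack n) == 16) && T162P.contains n)) = true := by decide +kernel

set_option maxRecDepth 1000000 in
theorem roots_check : SL112P.getD 0 0 ∈ T112P ∧ SL162P.getD 0 0 ∈ T162P ∧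
    SL112P.getD 0 0 ∈ XLP ∧ SL162P.getD 0 0 ∈ XLP ∧
    dotL x0L (SL112.getD 0 []) = 8 ∧ dotL x0L (SL162.getD 0 []) = 16 := by decide +kernel

end Cfsg.Agent.Lib.Helper27.McL
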