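import Cfsg.Agent.Lib.Helper27.Co3Cert
import Cfsg.Agent.Lib.Helper27.McLCert

set_option autoImplicit false

/-!
Data and certificates for the action of the joint stabiliser of `u0 = (5, 1^23)` and
`v0 = (4, 4, 0^22)` on the 2025 minimal vectors `y` with `u0 . y = -16` and `v0 . y = 0`.
-/

namespace Cfsg.Agent.Lib.Helper27.M2025

open Cfsg Cfsg.Agent.Lib.Conway Cfsg.Agent.Lib.Helper93.Leech Cfsg.Agent.Lib.Helper93.Golay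
open Cfsg.Agent.Lib.Golay.LeechBasis Cfsg.Agent.Lib.Helper27.LL
open Cfsg.Agent.Lib.Helper26 (PermData)

set_option maxRecDepth 1000000 in
def SL2P : List ℕ := [3150858910311745638317572730080710985337652928985868305532, 3126435138229385123934183306720465498849568654021550375295, 3101819053004037020622864880382845364481119510865872191616, 3101819050081033920185641332654505259810073867520489586816, 3175474244325251630868406768576941352409418518141022994815, 3150858162022862723407540004539363385428382165709292077694]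

set_option maxRecDepth 1000000 in
def SL2 : List (List ℤ) := SL2P.map unpack

set_option maxRecDepth 1000000 in
def SC2P : List ℕ := [3150858910311745638317572730080710985337652928985868304767, 3126435138235116415791822484442440884033471817550143651974, 3101915209586993398802107737316102433512670700952157650824, 3101915208125491848583495963451622896167326251636236451467, 3175378463353947599927045283287285439276978463670492299892, 3150858536167304180862556367310037190123831056865440071807]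

set_option maxRecDepth 1000000 in
def SC2 : List (List ℤ) := SC2P.map unpack

set_option maxRecDepth 1000000 in
def steps2 : List (ℕ × ℕ × ℕ) := [(1, 0, 0), (2, 1, 0), (3, 1, 1), (4, 3, 0), (5, 4, 0)]

set_option maxRecDepth 1000000 in
def W2 : List (ℕ × List ℕ) := [(1, [6, 3, 2, 2]), (1, [3, 4, 5, 4]), (1, [2, 4]), (1, [3, 5, 6, 2]), (1, [5, 5, 0, 0]), (1, [5, 3, 2, 4, 0]), (1, [3, 5, 5, 4, 0]), (1, [4, 4, 0, 5]), (1, [3, 6, 1]), (1, [5, 1, 2, 3]), (1, [6, 5, 2, 6]), (1, [3, 5, 6, 6]), (1, [4, 5, 5, 1]), (1, [3, 0, 3, 0]), (1, [0, 4, 1, 4]), (1, [2, 6, 6, 5]), (1, [4, 2, 4, 1]), (1, [5, 1, 0, 1]), (1, [0, 5, 5, 4]), (1, [6, 1, 4, 4]), (1, [3, 4, 0]), (1, [4, 3, 0, 6]), (1, [3, 2, 2, 5]), (1, [4, 5, 1, 1]), (1, [1, 6, 1, 1]),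 (1, [1, 6, 5, 1]), (1, [4, 3]), (1, [3, 6, 4, 1]), (1, [6, 4, 5]), (1, [1, 5, 0, 4]), (1, [6, 5, 4]), (1, [3, 4, 4, 5]), (1, [0, 4, 0, 1]), (1, [6, 5, 2, 2]), (1, [0, 6, 0, 4, 0]), (1, [0, 0, 0]), (1, [2, 5, 3, 0]), (1, [6, 1, 6, 5]), (1, [5, 4, 3, 3]), (1, [6, 4, 6, 4]), (1, [3, 2, 3, 3]), (1, [4, 0, 1, 4]), (1, [4, 2, 1]), (1, [6, 3, 4]), (1, [1, 5, 4, 0, 0]), (1, [2, 1, 0]), (1, [1, 1, 0, 0]), (1, [1, 2, 3, 0, 0]), (1, [5, 3, 3, 0]), (1, [6, 5, 1, 0]), (1, [1, 5, 6]), (1, [2, 1, 5, 1, 0]), (1, [6, 0, 1, 2, 1]), (1, [1, 5, 2]), (1, [5, 3, 6, 5]), (1, [6, 0]), (2, [0, 0, 4, 3]), (2, [5, 3, 3]), (2, [2, 4, 4]), (2, [3, 5]), (2, [0, 1]), (2, [6, 4, 1]), (2, [0, 5]), (2, [1, 0, 0, 0]), (2, [5, 2, 6]), (5, [2, 3, 4]), (2, [0, 5,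 6, 5]), (5, [0, 4, 3]), (2, [6, 2, 5]), (2, [5, 1]), (5, [2, 6, 2]), (2, [3, 2, 2]), (2, [2, 6, 3]), (2, [2, 3]), (2, [2, 1]), (2, [4, 4, 5, 2]), (5, [0, 5, 5]), (5, [6, 6]), (2, [6]), (2, [3, 5, 6, 3]), (2, [1, 6, 2]), (2, [3, 2, 3, 0]), (5, [6, 2, 3, 0]), (2, [0, 5, 5, 1]), (2, [1, 0, 5, 1]), (2, [0, 1, 4, 0]), (2, [1, 2]), (2, [5, 4, 5, 1]), (5, [4, 4, 3, 0]), (5, [6, 1, 0, 3]), (2, [1, 6, 1, 2]), (5, [2, 3, 6]), (2, [6, 3, 0]), (2, [2, 1, 4]), (2, [3, 6, 1, 2]), (2, [1, 1, 2]), (2, [4, 1, 5]), (2, [1, 5, 3]), (2, [1, 2, 3, 0]), (2, [3, 5, 2]), (5, [3, 0, 5, 3]), (5, [4, 1, 6, 1]), (5, [5, 1, 4]), (2, [6, 6, 4]), (2, [6, 6, 5]), (2, [0, 4]), (5, [3, 5, 4, 2]), (5, [6, 1, 2]), (5, [4, 0, 4]), (2, [1, 6, 0]), (2, [4, 3, 6, 0]),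 (5, [6, 3]), (5, [3, 0, 1]), (5, [1, 2, 1]), (5, [1, 0, 1]), (5, [2, 1, 6]), (2, [4, 3, 4, 0]), (2, [2, 2, 5]), (2, [3, 2, 4]), (2, [5, 6, 4, 1]), (2, [1, 4, 4, 1]), (5, [4, 6, 4]), (2, [0, 3, 6, 2]), (5, [4, 0, 1, 2]), (2, [3, 2, 1]), (2, [6, 2, 1]), (2, [3, 6, 3]), (5, [4, 0, 3]), (2, [4, 4, 1]), (2, [5, 0]), (2, [4, 5, 4]), (2, [3, 3]), (2, [4, 1, 1, 2]), (2, [5, 6, 2]), (5, [5, 3, 2]), (5, [5, 1, 1]), (5, [4, 4, 4, 4]), (2, [0, 0, 5, 0]), (2, [2, 6, 4, 0]), (2, [1, 6, 4]), (2, [5, 1, 4, 0]), (5, [4, 6, 3]), (5, [0, 5, 3]), (2, [6, 4, 3]), (5, [5, 6, 0]), (2, [3, 2, 2, 1]), (2, [0, 1, 6, 0]), (2, [6, 5, 1]), (2, [0, 0, 5, 1]), (2, [5, 6, 6]), (2, [4, 1, 2]), (2, [5, 2, 5, 0]), (2, [0, 1, 5]), (5, [6, 3, 5, 2]), (5, [5, 0, 1,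 2]), (5, [5, 4, 6, 1]), (5, [4, 2, 6]), (5, [3, 6, 6]), (5, [0, 3, 2]), (5, [0, 1, 0, 0]), (2, [4, 1, 4, 3]), (2, [6, 4, 6, 1]), (2, [3, 4, 4]), (2, [2, 3, 3, 0]), (2, [4, 4, 3, 2]), (2, [2, 6, 6, 1]), (5, [4, 4, 2, 3]), (5, [0, 3, 0]), (5, [6, 4, 4, 1]), (2, [6, 6, 1]), (2, [5, 5, 1]), (2, [3, 4]), (2, [4, 2, 3, 0]), (2, [5, 5, 0]), (2, [6, 4]), (2, [0, 6, 4, 1]), (2, [4, 0]), (2, [6, 3, 3]), (2, [6, 0, 4]), (2, [0, 0, 1, 4, 0]), (5, [2]), (5, [2, 1, 1, 2]), (5, [2, 5, 1]), (5, [3, 4, 0, 0]), (2, [6, 5, 4, 2]), (5, [4, 6, 5, 2]), (5, [2, 1, 5]), (2, [6, 6, 3]), (5, [6, 4, 0, 0]), (5, [3, 3]), (5, [6, 1, 4]), (5, [2, 6, 4]), (2, [3, 0, 3]), (2, [4, 2, 2]), (5, [3]), (2, [5, 6, 0, 0]), (2, [5, 0, 6, 0]), (2, [5, 4, 2]), (5, [4,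 4, 4, 1]), (2, [6, 1, 5]), (2, [3, 6, 2]), (2, [6, 2, 2]), (2, [4, 1, 0, 1]), (2, [4, 4, 0]), (5, [1, 1, 4, 1]), (5, [6, 4, 5, 0]), (2, [3, 3, 0, 0]), (5, [0, 4, 1]), (2, [0, 0]), (2, [4, 3, 2]), (5, [3, 0, 0, 3]), (5, [3, 5, 1]), (2, [3, 4, 2, 4]), (2, [4, 5, 0]), (2, [5, 1, 4, 1]), (2, [2, 6, 4, 1]), (2, [2, 5, 3]), (2, [1, 0, 4]), (5, [1, 5, 5, 1]), (5, [1, 5]), (5, [3, 3, 2, 2]), (2, [6, 1, 4, 0]), (5, [0, 0, 3]), (5, [2, 5, 4]), (5, [3, 3, 4, 1]), (2, [5, 2, 2]), (5, [2, 6, 1]), (5, [2, 1, 2, 1]), (2, [0, 1, 4]), (2, []), (2, [4, 5, 2]), (2, [0, 3, 0]), (5, [5, 0, 0, 4]), (5, [5, 2, 4]), (5, [4, 5, 6, 0]), (5, [0, 3, 0, 1]), (5, [6, 5, 2]), (5, [4, 5, 4, 3]), (2, [4, 6, 0, 0]), (5, [6, 0, 5, 0]), (5, [2, 3, 6, 1]), (5, [6,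 3, 2]), (5, [2, 4, 0]), (2, [5, 4, 1]), (5, [3, 4, 3]), (2, [4, 3, 4]), (2, [1, 2, 4]), (5, [3, 4, 1, 2]), (2, [2, 4, 2]), (2, [5, 0, 3]), (5, [1, 6, 3, 0]), (5, [1, 1, 4, 3]), (5, [4, 3, 0]), (5, [0, 3, 4, 0]), (2, [6, 2, 4]), (2, [2, 5, 4, 1]), (5, [1, 5, 5]), (5, [5]), (5, [5, 5, 1]), (5, [5, 1, 1, 2]), (5, [1, 1, 2, 2]), (5, [4, 0, 6]), (5, [4, 1, 0]), (5, [6, 5]), (5, [4, 2, 2, 1]), (5, [5, 3, 5, 2]), (5, [1, 5, 0]), (5, [1, 2]), (5, [0, 5, 0, 0]), (5, [1, 0]), (5, [1, 4, 4]), (5, [5, 5, 0, 3]), (5, [6, 0, 0]), (5, [2, 2]), (5, [0, 1]), (5, [5, 6, 4]), (5, [3, 4, 5, 2]), (5, [0, 3, 5]), (5, [3, 4, 3, 2]), (5, [4, 5, 3, 0]), (5, [1, 1, 6, 0]), (1, [1, 0, 6, 2]), (1, [3, 2, 1]), (1, [5, 6, 4]), (1, [0, 5, 1, 2]), (1, [4, 4,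 4, 6]), (1, [2, 3, 5]), (1, [5, 5, 3, 4, 1]), (1, [1, 4, 4, 3]), (1, [1, 1, 0, 3]), (1, [0, 1, 6, 0]), (1, [6, 2, 3]), (1, [3, 2, 5, 3]), (1, [6, 0, 5, 3]), (1, [4, 1, 6, 0, 0]), (1, [3, 6, 3, 6]), (1, [1, 5, 4, 1]), (1, [3, 3]), (1, [2, 3, 3, 5]), (1, [1, 5, 1]), (1, [5, 5]), (1, [0, 6, 0, 3]), (1, [0, 6, 4, 1]), (1, [0, 6, 1]), (1, [2, 6, 4]), (1, [5, 6, 2, 6]), (1, [5, 3, 5]), (1, [0, 0, 3, 0]), (1, [6, 1, 1, 0]), (1, [1, 2, 6, 2]), (1, [6, 1, 4]), (1, [0, 1, 2, 4]), (1, [4, 1, 5, 0, 1]), (1, [6, 2, 2, 1]), (1, [6, 0, 1]), (1, [3, 2, 4, 1]), (1, [5, 0, 5, 5]), (1, [6, 4, 1, 2, 3]), (1, [1, 4, 6, 0]), (1, [3, 5, 5, 1]), (1, [6, 4, 5, 0, 0]), (1, [3, 5, 6, 0]), (1, [3, 3, 0]), (1, [4, 1, 5, 1]), (1, [4, 1, 2, 1, 2]), (1, [5,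 2, 2, 4]), (1, [5, 2, 6, 0]), (1, [1, 0, 4, 1]), (1, [1, 1, 2, 6]), (1, [3, 0, 6, 3]), (1, [5, 0, 0]), (1, [3, 5, 2, 1, 0]), (1, [6, 5, 1, 1, 2]), (1, [1, 2, 3]), (1, [5, 0, 3, 4]), (1, [0, 5, 2, 2, 1]), (1, [1, 0, 1]), (1, [2, 4, 0, 3, 0]), (1, [6, 3, 3, 6]), (1, [6, 6, 6, 0]), (1, [2, 5, 0, 5]), (1, [6, 3, 6, 3]), (1, [1, 5, 2, 3, 0]), (1, [5, 2, 4, 3]), (1, [3, 4, 1, 0]), (1, [6, 4, 6, 1]), (1, [1, 1, 2, 2]), (1, [3, 6, 5]), (1, [3, 2, 4, 0]), (1, [0, 3, 6]), (1, [2, 1, 4, 3]), (1, [6, 6, 5, 3, 0]), (1, [6, 5]), (1, [2, 6, 0, 3]), (1, [4, 4]), (1, [2, 5, 1, 6]), (1, [0, 6, 3]), (1, [1, 4, 5, 5]), (1, [1, 1, 5, 6, 3]), (1, [1, 4, 3, 3]), (1, [2, 4, 5, 4]), (1, [0, 4, 6]), (1, [5, 2, 1, 0]), (1, [3, 5, 1, 0]), (1, [2, 5, 2, 5,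 1]), (1, [3, 3, 2, 2]), (1, [3, 5, 4]), (1, [0, 6, 2, 1]), (1, [5, 3, 4, 2, 1]), (1, [0, 0, 5]), (1, [2, 2, 4, 0]), (1, [5, 1, 0, 0]), (1, [0, 4, 2, 6, 1]), (1, [2, 2, 6, 1]), (1, [1, 6, 4, 3]), (1, [5, 5, 0, 4]), (1, [5, 5, 2]), (1, [4, 0, 1, 0]), (1, [4, 1, 4, 6]), (1, [0, 4, 3, 0]), (1, [5, 4, 4, 4, 0]), (1, [5, 1, 2]), (1, [2, 5, 6, 4]), (1, [5, 4, 5, 6]), (1, [6, 5, 2, 4, 1]), (1, [3, 4, 2, 1, 1]), (1, [4, 1, 4, 4]), (1, [3, 4, 1, 2]), (1, [1, 4, 2, 1]), (1, [4, 5, 0, 0]), (1, [5, 5, 5, 2]), (1, [0, 0, 3]), (1, [6, 3, 0, 0]), (1, [1, 6, 4, 4]), (1, [4, 0, 6, 3]), (1, [2, 4, 0, 4]), (1, [1, 6, 6]), (1, [4, 6, 3, 5]), (1, [1, 6, 0, 0]), (1, [0, 4, 1, 0, 0]), (1, [6, 6, 0, 3]), (1, [0, 3]), (1, [1, 6, 2, 1]), (1, [6, 2, 1, 1]),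 (1, [1, 0, 0, 3, 0]), (1, [2, 4, 0, 0, 0]), (1, [5, 2, 6, 3]), (1, [0, 3, 4, 1]), (1, [5, 0, 0, 4]), (1, [2, 6, 3, 0, 0]), (1, [6, 4, 5, 3, 0]), (1, [6, 4, 1, 1]), (1, [4, 4, 5, 2]), (1, [1, 0, 0, 1, 0]), (1, [1, 2, 6, 0]), (1, [5, 4, 5, 4, 0]), (1, [4, 0, 1]), (1, [0, 3, 4, 3]), (1, [6, 1, 5, 2]), (1, [2, 1, 0, 1]), (1, [5, 2, 2, 1]), (1, [4, 1, 6, 1, 1]), (1, [0, 0, 6]), (1, [2, 4, 4, 4]), (1, [0, 6, 3, 4]), (1, [5, 4, 5]), (1, [4, 2, 6, 2]), (1, [5, 1, 1]), (1, [3, 5, 6, 5]), (1, [5, 5, 2, 2]), (1, [0, 5, 6]), (1, [0, 0, 1, 2]), (1, [6, 2, 1, 0]), (1, [6, 3, 2, 1, 0]), (1, [5, 6, 4, 5, 2]), (1, [6, 4, 4, 3]), (1, [5, 0, 4, 6]), (1, [3, 6, 0, 4, 0]), (1, [2, 3, 2, 5]), (1, [1, 0, 0]), (1, [4, 0, 5, 4, 0]), (1, [6, 4, 0, 4]),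 (1, [3, 3, 2]), (1, [2, 3, 6]), (1, [6, 6, 0, 0]), (1, [5, 0, 4, 1]), (1, [0, 1, 6]), (1, [5, 3, 0, 3]), (1, [6, 2, 4, 4, 0]), (1, [3, 0, 0, 0]), (1, [1, 0, 0, 6]), (1, [0, 4, 0, 0]), (1, [3, 4, 4, 0, 0]), (1, [6, 1, 0, 1]), (1, [5, 2]), (1, [0, 5, 2]), (1, [1, 0, 1, 6, 0]), (1, [1, 6]), (1, [4, 0, 0, 0]), (1, [3, 5, 4, 4]), (1, [1, 0, 0, 4]), (1, [6, 6, 2, 2, 1]), (1, [5, 3, 3]), (1, [6, 2, 6, 0]), (1, [3, 6, 5, 4]), (1, [2, 6, 6, 2]), (1, [4, 1, 4]), (1, [6, 1, 2]), (1, [4, 3, 6, 0]), (1, [6, 0, 6, 5]), (1, [6, 0, 0, 1, 0]), (1, [4, 5, 4, 0]), (1, [3, 2, 5, 4]), (1, [1, 2, 6]), (1, [6, 1, 4, 0]), (1, [1, 5, 4, 1, 0]), (1, [6, 4, 3, 2]), (1, [5, 1, 0, 5]), (1, [6, 3, 5, 2]), (1, [2, 1, 2]), (1, [0, 0, 6, 1]), (1, [6, 1, 0, 3]),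 (1, [5, 3, 0, 0]), (1, [5, 2, 3, 3, 0]), (1, [5, 5, 6, 4]), (1, [2, 3, 5, 1]), (1, [2, 3, 0, 0]), (1, [1, 4, 6, 1, 0]), (1, [6, 4, 5, 1]), (1, [2, 5, 5, 2, 1]), (1, [4, 4, 0]), (1, [0, 1, 5, 5, 1]), (1, [2, 1, 1, 6]), (1, [0, 5, 3, 0]), (1, [5, 3, 4]), (1, [6, 6]), (1, [6, 4, 0, 4, 1]), (1, [5, 0, 3]), (1, [0, 5, 5]), (1, [1, 5, 6, 0, 1]), (1, [6, 6, 3, 6, 0]), (1, [6, 6, 1, 4]), (1, [5, 2, 2]), (1, [6, 4, 3, 3]), (1, [6, 4, 1, 4, 5]), (1, [5, 2, 5, 5, 2]), (1, [6, 4, 2, 3]), (1, [0, 3, 4, 3, 0]), (1, [3, 4]), (1, [3, 0, 5, 3]), (1, [1, 1, 6, 0]), (1, [4, 0, 1, 2]), (1, [4, 5, 6]), (1, [0]), (1, [2, 1, 1, 2]), (1, [5, 1, 0, 3]), (1, [3, 2, 6, 5]), (1, [6, 0, 6, 2]), (1, [2, 4, 0, 0]), (1, [4, 1, 2, 2]), (1, [1, 0, 4, 0]), (1,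 [5, 1, 6]), (1, [0, 0, 6, 3]), (1, [0, 6, 5]), (1, [5, 6, 2]), (1, [0, 3, 0]), (1, [1, 6, 3, 0]), (1, [4, 1, 0, 1]), (1, [0, 1, 6, 1, 2]), (1, [5, 3, 3, 2]), (1, [5, 3, 3, 6]), (1, [4, 0, 0, 5]), (1, [5, 3, 5, 1]), (1, [4, 6, 1, 2]), (1, [2, 4, 5, 1]), (1, [1, 4, 6, 6]), (1, [1, 6, 4, 1]), (1, [6, 6, 2, 1]), (1, [3, 2, 3, 6]), (1, [4, 1, 6, 1]), (1, [6, 3, 4, 1]), (1, [0, 3, 2, 2]), (1, [6, 4, 1, 0, 0]), (1, [3, 6, 3]), (1, [3, 6, 2, 4, 0]), (1, [4, 3, 6, 3]), (1, [3, 2, 3]), (1, [0, 3, 0, 1]), (1, [5, 0, 6, 1]), (1, [1, 0, 3]), (1, [3, 4, 1, 6, 1]), (1, [1, 6, 0, 5, 1]), (1, [2, 5, 0, 4]), (1, [1, 6, 2, 3]), (1, [3, 0, 0, 5]), (1, [4, 6, 3, 3, 0]), (1, [3, 2, 2, 1]), (1, [0, 1, 6, 3]), (1, [4, 5, 4, 0, 0]), (1, [5, 5, 6, 3]),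 (1, [6, 5, 5, 4]), (1, [5, 3, 2, 3]), (1, [4, 2, 1, 0, 0]), (1, [3, 6, 4, 5]), (1, [2, 3, 4, 0]), (1, [6, 2, 6, 3]), (1, [4, 2, 5, 3, 0]), (1, [2, 4, 3, 0]), (1, [5, 1, 5, 1]), (1, [2, 1]), (1, [5, 4, 5, 4]), (1, [6, 2, 6, 1]), (1, [4, 2, 1, 1]), (1, [6, 3, 4, 0]), (1, [0, 1]), (1, [3, 5, 2, 6, 0]), (1, [4, 6, 5]), (1, [5, 0, 5, 0, 0]), (1, [0, 1, 0, 5]), (1, [3, 5, 6, 4]), (1, [2, 5, 2, 3, 0]), (1, [2]), (1, [4, 4, 4, 4]), (1, [6, 0, 0]), (1, [3, 3, 0, 1]), (1, [4, 2, 6, 0, 0]), (1, [1, 2, 5]), (1, [6, 2]), (1, [2, 6, 0]), (1, [3, 4, 0, 1]), (1, [0, 0, 1, 0]), (1, [4, 2, 4, 0]), (1, [0, 5, 5, 1]), (1, [0, 3, 5, 3, 0]), (1, [6, 4, 0, 0]), (1, [1, 1, 6, 2]), (1, [1, 6, 2, 6]), (1, [1, 1, 6, 5]), (1, [2, 3, 0, 3]), (1, [6, 5, 1,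 4, 1]), (1, [6, 3, 0, 6]), (1, [3, 0, 3, 0, 1]), (1, [6, 2, 3, 5, 1]), (1, [4, 3, 5, 6, 1]), (1, [2, 6, 6, 4]), (1, [4, 3, 4]), (1, [0, 3, 3, 2, 2]), (1, [5, 0, 5, 1]), (1, [2, 1, 5, 1]), (1, [2, 6, 0, 1]), (1, [1, 1, 0]), (1, [4, 6, 4, 6, 1]), (1, [5, 3, 2]), (1, [1, 5, 4, 0]), (1, [4, 5, 6, 0]), (1, [6, 6, 3, 2, 1]), (1, [2, 1, 2, 3]), (1, [5, 2, 6]), (1, [6, 4, 0, 4, 0]), (1, [2, 1, 6, 1]), (1, [5, 3, 3, 4]), (1, [4, 4, 5, 0, 0]), (1, [5, 1, 6, 0]), (1, [5, 4, 1]), (1, [5, 0, 0, 1]), (1, [3, 0, 0, 3]), (1, [2, 6, 1, 4, 1]), (1, [0, 0, 4]), (1, [1, 6, 0, 1]), (1, [4, 1, 4, 0]), (1, [1, 1, 2, 1]), (1, [2, 4, 6, 0]), (1, [4, 6, 1]), (1, [1, 4, 6, 3]), (1, [2, 2, 6, 0]), (1, [3, 6, 2, 6]), (1, [0, 4, 1, 2]), (1, [0, 1, 0]), (1,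 [2, 6, 0, 0]), (1, [4, 4, 3]), (1, [0, 3, 0, 3, 0]), (1, [6, 3, 5, 3]), (1, [0, 1, 6, 5]), (1, [2, 5, 5, 2]), (1, [2, 4, 0, 1, 0]), (1, [6, 1, 0]), (1, [3, 0, 1, 2]), (1, [0, 1, 4, 5]), (1, [3, 5, 6]), (1, [2, 4, 1]), (1, [2, 6, 2]), (1, [2, 2]), (1, [5, 0, 5, 4, 0]), (1, [5, 6, 5, 3]), (1, [1, 0, 5]), (1, [2, 4, 6, 5]), (1, [6, 1, 6, 6]), (1, [1, 6, 4, 6]), (1, [6, 6, 0, 5]), (1, [1, 2, 1, 1]), (1, [5, 2, 3]), (1, [0, 5, 6, 1]), (1, [5, 6, 6, 6]), (1, [6, 3, 0]), (1, [2, 2, 1, 0]), (1, [4, 4, 5, 6]), (1, [0, 1, 1, 4]), (1, [5, 4, 3, 5]), (1, [3, 3, 5, 1]), (1, [6, 6, 3]), (1, [1, 4, 0, 0]), (1, [3, 0, 4, 0]), (1, [4, 6, 2, 6]), (1, [3, 4, 2, 1]), (1, [4, 1, 0, 1, 0]), (1, [2, 5, 6, 3]), (1, [6, 1, 2, 1]), (1, [1, 6, 0, 3]), (1,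 [2, 6, 5, 2]), (1, [3, 4, 6, 3]), (1, [1, 5, 3, 6, 0]), (1, [6, 4, 5, 2]), (1, [4, 2, 2, 5]), (1, [6, 1, 0, 6]), (1, [2, 6, 6, 3]), (1, [2, 4, 0, 5]), (1, [2, 4, 3, 3]), (1, [5, 6, 3, 3, 0]), (1, [4, 4, 4, 0]), (1, [3, 2, 4, 3]), (1, [4, 2, 1, 2]), (1, [6, 1, 6, 3]), (1, [0, 1, 0, 1]), (1, [5, 4, 5, 1]), (1, [3, 6, 3, 4]), (1, [1, 4, 6, 4]), (1, [3, 0, 6]), (1, [3, 3, 2, 3]), (1, [0, 0, 1, 2, 1]), (1, [6, 2, 3, 0]), (1, [4, 0, 3, 0]), (1, [4, 5, 3, 4, 0]), (1, [5, 4, 0, 3]), (1, [6, 5, 1, 2]), (1, [1, 4, 6]), (1, [5, 6, 1]), (1, [4, 4, 6]), (1, [1, 2, 5, 4]), (1, [5, 0, 4]), (1, [0, 3, 0, 3]), (1, [5, 3, 4, 1]), (1, [1, 2, 5, 2, 2]), (1, [2, 2, 6, 3, 3]), (1, [2, 4, 0]), (1, [4, 5, 6, 5]), (1, [3, 4, 5]), (1, [3, 3, 2, 6]), (1,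 [4, 1, 0]), (1, [4, 5, 3, 0]), (1, [5, 3, 4, 0]), (1, [5, 3, 6, 1]), (1, [1, 4, 6, 0, 1]), (1, [0, 6, 6, 0, 0]), (1, [6, 6, 3, 2]), (1, [3, 3, 6, 2]), (1, [6, 0, 1, 4]), (1, [2, 1, 1, 0, 1]), (1, [3, 3, 6, 6]), (1, [1, 6, 3, 4]), (1, [4, 4, 3, 5]), (1, [0, 4, 1, 0]), (1, [1, 4, 3]), (1, [4, 3, 2, 6]), (1, [3, 3, 6, 5]), (1, [1, 1, 4, 5]), (1, [0, 5, 3]), (1, [3, 4, 6, 1]), (1, [3, 4, 4, 6]), (1, [5, 0, 0, 3]), (1, [0, 1, 2]), (1, [2, 4, 0, 1]), (1, [3, 4, 3]), (1, [6, 6, 3, 5]), (1, [3, 6, 5, 5]), (1, [5, 4, 4, 3]), (1, [2, 1, 6, 0, 0]), (1, [1, 4, 4]), (1, [1, 6, 1, 0]), (1, [5, 6]), (1, [1, 2, 4, 1]), (1, [0, 5, 5, 2, 1]), (1, [1, 5, 2, 1]), (1, [5, 6, 6, 4]), (1, [0, 5, 4]), (1, [2, 5, 4]), (1, [6, 3, 6, 2]), (1, [4, 4, 5,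 4]), (1, [1, 6, 4]), (1, [3, 3, 2, 4]), (1, [3, 5, 5, 1, 0]), (1, [3, 3, 5, 3]), (1, [0, 6, 4, 3]), (1, [0, 3, 2, 1]), (1, [3, 5, 4, 1]), (1, [4, 4, 2, 3]), (1, [1, 2, 1]), (1, [0, 3, 5]), (1, [0, 0, 5, 1]), (1, [6, 3, 0, 1]), (1, [3, 5, 4, 0]), (1, [2, 1, 0, 0]), (1, [5, 0, 6, 5]), (1, [4, 5, 6, 6]), (1, [5, 5, 2, 4]), (1, [1, 2, 4, 4]), (1, [5, 5, 3, 5]), (1, [3]), (1, [5, 6, 2, 3, 0]), (1, [4]), (1, [3, 3, 6, 0]), (1, [4, 3, 4, 3, 0]), (1, [2, 2, 5, 3]), (1, [4, 1, 1, 4]), (1, [2, 3, 2]), (1, [1, 4, 1]), (1, [5, 3, 3, 5, 1]), (1, [1, 0, 6]), (1, [1, 5, 1, 0]), (1, [6, 4, 6]), (1, [4, 6, 4, 6, 0]), (1, [3, 0, 6, 2]), (1, [3, 4, 2, 3]), (1, [4, 4, 2, 4]), (1, [5, 1, 1, 2]), (1, [5, 0, 5, 6]), (1, [2, 1, 1, 0, 0]), (1, [6, 3,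 2]), (1, [6, 1, 1, 0, 0]), (1, [1, 0, 5, 1]), (1, [1, 5, 6, 0]), (1, [6, 5, 0, 0]), (1, [6, 1, 4, 1]), (1, [3, 6, 0, 1, 0]), (1, [5, 0, 1]), (1, [4, 6, 0]), (1, [0, 5, 4, 1]), (1, [2, 2, 5]), (1, [6, 4, 4, 1]), (1, [1, 2, 2]), (1, [1, 6, 4, 0, 0]), (1, [4, 6, 3]), (1, [3, 6, 5, 6]), (1, [1, 2, 2, 4]), (1, [4, 2, 2, 1]), (1, [1, 2, 5, 3]), (1, [3, 4, 5, 1]), (1, [1, 0, 4, 6]), (1, [2, 1, 4]), (1, [0, 1, 0, 0]), (1, [3, 4, 5, 6, 0]), (1, [3, 2, 5]), (1, [3, 6, 5, 1, 0]), (1, [1, 0, 4, 3, 0]), (1, [1, 5, 6, 2]), (1, [6, 3, 6, 0, 0]), (1, [0, 1, 2, 1]), (1, [4, 3, 5, 5]), (1, [3, 4, 6]), (1, [5, 6, 3, 0, 0]), (1, [3, 0, 6, 1]), (1, [0, 6, 6, 6]), (1, [4, 0, 6]), (1, [6, 2, 6, 4]), (1, [5, 6, 1, 2]), (1, [6, 5, 1]), (1, [4, 6, 4, 1]),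 (1, [4, 6]), (1, [3, 0, 1, 0]), (1, [5, 3, 2, 1, 0]), (1, [4, 4, 5]), (1, [1, 4]), (1, [2, 6, 3, 2]), (1, [4, 3, 0]), (1, [2, 5, 0, 0]), (1, [5, 5, 4, 1, 0]), (1, [0, 3, 2, 3]), (1, [2, 3, 6, 1]), (1, [1, 4, 3, 2, 2]), (1, [5, 0, 4, 0]), (1, [0, 4, 2, 1, 1]), (1, [5, 1, 6, 1]), (1, [6, 0, 0, 5]), (1, [2, 1, 4, 1]), (1, [5, 4, 4, 1]), (1, [3, 5, 3, 0]), (1, [1]), (1, [5, 5, 1]), (1, [4, 2, 6, 5]), (1, [5, 0, 5, 1, 1]), (1, [3, 6, 0]), (1, [5, 4, 6, 1, 0]), (1, [5, 4, 4, 4]), (1, [1, 4, 1, 0]), (1, [6, 6, 3, 0]), (1, [5, 5, 6, 0]), (1, [1, 2, 5, 1]), (1, [6, 5, 4, 1]), (1, [5, 1, 1, 0, 1]), (1, [4, 1, 1]), (1, [4, 3, 2, 2]), (1, [5, 5, 0, 5]), (1, [4, 1, 6, 6, 2]), (1, [5, 2, 6, 1]), (1, [3, 5, 6, 1]), (1, [4, 3, 0, 5, 2]), (1,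 [6, 6, 5, 6, 0]), (1, [6, 3, 2, 1]), (1, [5, 4, 0]), (1, [5, 4, 0, 4]), (1, [0, 5, 0, 4]), (1, [4, 0, 5]), (1, [1, 5, 3, 2]), (1, [1, 0, 0, 3]), (1, [2, 3, 6, 3]), (1, [6, 6, 3, 4, 0]), (1, [3, 2, 6, 1]), (1, [4, 1, 5, 4, 1]), (1, [3, 4, 4]), (1, [0, 5, 0, 1]), (1, [5, 2, 3, 4, 0]), (1, [4, 6, 1, 1, 0]), (1, [5, 6, 3, 3]), (1, [4, 0, 4, 0]), (1, [3, 0, 0, 6]), (1, [5, 1, 5, 6]), (1, [5, 6, 3, 4]), (1, [2, 5, 1, 2]), (1, [5, 5, 5, 0, 0]), (1, [6, 6, 4]), (1, [5, 2, 4]), (1, [6, 2, 4, 3, 0]), (1, [6, 6, 1, 0]), (1, [6, 3]), (1, [3, 0, 4]), (1, [1, 4, 6, 1]), (1, [2, 4, 4]), (1, [1, 6, 2, 4]), (1, [3, 4, 0, 0]), (1, [3, 0, 5, 2]), (1, [1, 5, 5, 0, 0]), (1, [5, 2, 4, 6, 0]), (1, [5, 5, 4, 5, 4]), (1, [4, 1, 2, 3]), (1, [0, 4, 5, 3]),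 (1, [6, 1, 6, 1]), (1, [2, 2, 1]), (1, [3, 6, 6, 0]), (1, [1, 1, 2]), (1, [5, 5, 3, 2]), (1, [2, 3, 3, 0]), (1, [2, 4, 5, 2]), (1, [1, 5, 2, 4]), (1, [6, 6, 5, 2]), (1, [6, 6, 1, 6]), (1, [0, 3, 4]), (1, [3, 3, 4, 1]), (1, [5, 5, 2, 1]), (1, [3, 2, 4, 3, 0]), (1, [6, 5, 6, 0]), (1, [4, 2, 6, 0]), (1, [5, 2, 6, 2]), (1, [6, 4, 3]), (1, [6, 6, 1, 2]), (1, [3, 0, 0]), (1, [2, 1, 4, 4]), (1, [1, 2]), (1, [1, 2, 3, 3, 0]), (1, [4, 4, 1, 4, 0]), (1, [3, 5, 1]), (1, [6, 4, 6, 0]), (1, [4, 2, 4, 6, 0]), (1, [5, 3, 2, 1]), (1, [0, 5, 1, 0, 3]), (1, [0, 0]), (1, [1, 5, 6, 4]), (1, [4, 5, 0, 4]), (1, [3, 3, 6, 2, 1]), (1, [3, 5, 1, 4]), (1, [6, 0, 1, 4, 0]), (1, [2, 2, 4]), (1, [3, 4, 2, 2, 1]), (1, [4, 4, 6, 0]), (1, [2, 5, 3]), (1, [1,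 2, 6, 3]), (1, [2, 4, 2, 6, 1]), (1, [2, 1, 6, 3]), (1, [6, 0, 6, 1]), (1, [0, 4, 2, 4]), (1, [6, 6, 3, 5, 1]), (1, [4, 4, 6, 4, 1]), (1, [5, 0, 3, 0]), (1, [0, 5, 0, 0]), (1, [2, 5, 4, 5, 4]), (1, [0, 6, 4, 6]), (1, [3, 6, 0, 4]), (1, [6, 0, 4, 0, 1]), (1, [1, 4, 6, 6, 2]), (1, [6, 0, 6, 6, 0]), (1, [2, 6, 3]), (1, [1, 6, 6, 2]), (1, [4, 5, 3, 3]), (1, [6]), (1, [3, 5, 2]), (1, [5, 5, 5]), (1, [1, 4, 5, 3]), (1, [6, 6, 2, 4, 0]), (1, [6, 0, 5, 1]), (1, [1, 1, 6, 3]), (1, [3, 5, 1, 0, 0]), (1, [6, 3, 5, 4]), (1, [3, 2, 2, 4]), (1, [5, 5, 4, 1]), (1, [0, 3, 3, 6]), (1, [6, 4]), (1, [5, 2, 1]), (1, [1, 1, 2, 4]), (1, [6, 4, 1]), (1, [4, 5, 4]), (1, [0, 4, 1]), (1, [4, 0, 4, 6]), (1, [3, 6, 4, 3]), (1, [1, 4, 1, 6, 1]), (1, [2, 5,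 3, 2]), (1, [5, 5, 3, 0, 0]), (1, [4, 4, 0, 1]), (1, [5, 5, 1, 2]), (1, [2, 3, 6, 5]), (1, [5, 0, 1, 0]), (1, [5, 6, 5]), (1, [1, 0, 5, 6]), (1, [0, 4, 5, 5]), (1, [2, 5, 4, 0]), (1, [3, 6, 5, 6, 0]), (1, [0, 6, 2, 3]), (1, [2, 3, 5, 6]), (1, [2, 1, 1, 0]), (1, [1, 4, 5]), (1, [0, 3, 5, 0, 0]), (1, [5, 6, 3]), (1, [0, 4, 1, 1]), (1, [2, 3, 5, 3]), (1, [4, 6, 6]), (1, [5, 1, 6, 6]), (1, [6, 5, 2]), (1, [6, 0, 1, 6]), (1, [6, 1, 6]), (1, [0, 4, 6, 5]), (1, [6, 2, 1]), (1, [6, 2, 4, 1]), (1, [4, 5, 2, 2]), (1, [6, 5, 2, 1]), (1, [0, 4, 0, 3]), (1, [2, 4, 5, 5]), (1, [1, 1]), (1, [6, 0, 3, 0]), (1, [0, 1, 5, 1]), (1, [3, 5, 4, 5]), (1, [5, 1, 5, 3]), (1, [0, 6, 5, 2]), (1, [4, 5]), (1, [5, 3, 0]), (1, [1, 5, 5, 1]), (1, [1, 4, 3,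 0]), (1, [3, 3, 5]), (1, [3, 2, 4]), (1, [5, 5, 1, 0]), (1, [3, 5, 3]), (1, [0, 1, 4, 0]), (1, [6, 0, 6, 3]), (1, [3, 2, 5, 1]), (1, [1, 2, 2, 5]), (1, [1, 6, 6, 5]), (1, [0, 4, 0, 5]), (1, [5, 1, 6, 3]), (1, [2, 5, 2, 1]), (1, [3, 3, 6]), (1, [4, 4, 1, 0]), (1, [2, 6, 3, 3]), (1, [3, 3, 4, 3]), (1, [0, 6, 3, 5]), (1, [1, 6, 0, 4]), (1, [0, 6, 2]), (1, [0, 1, 2, 5]), (1, [4, 2, 3]), (1, [4, 0, 5, 1]), (1, [6, 5, 1, 5, 1]), (1, [3, 0, 3]), (1, [4, 4, 5, 6, 0]), (1, [0, 6, 2, 4]), (1, [6, 4, 4]), (1, [2, 3, 5, 5]), (1, [1, 1, 2, 3]), (1, [0, 5, 5, 2]), (1, [4, 5, 4, 1, 0]), (1, [2, 6, 5]), (1, [6, 6, 3, 6]), (1, [6, 2, 5, 3]), (1, [5, 6, 6]), (1, [0, 0, 4, 6]), (1, [0, 5, 2, 1]), (1, [0, 5]), (1, [4, 3, 2]), (1, [4, 6, 4]), (1,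 [0, 6, 0, 1]), (1, [5, 5, 1, 1]), (1, [5, 0, 0, 6]), (1, [2, 5, 1, 2, 2]), (1, [6, 3, 6, 0]), (1, [5, 2, 4, 1]), (1, [0, 4, 6, 2]), (1, [5, 4, 4]), (1, [3, 2, 2]), (1, [4, 3, 5, 3]), (1, [4, 5, 5, 1, 0]), (1, [0, 1, 5, 3]), (1, [0, 6, 4]), (1, [4, 0, 6, 5, 1]), (1, [5, 6, 3, 4, 1]), (1, [5, 5, 3, 5, 1]), (1, [4, 1, 4, 6, 1]), (1, [3, 3, 4, 0]), (1, [1, 1, 6, 1]), (1, [3, 5, 5, 4]), (1, [0, 3, 0, 4, 0]), (1, [6, 5, 6, 2]), (1, [1, 0, 0, 1]), (1, [3, 0, 0, 4]), (1, [5, 2, 2, 6, 1]), (1, [4, 2, 1, 0]), (1, [6, 2, 2]), (1, [1, 0]), (1, [4, 1, 2]), (1, [0, 0, 6, 3, 0]), (1, [3, 3, 0, 3]), (1, [6, 0, 4]), (1, [3, 6, 2, 1]), (1, [6, 2, 2, 4]), (1, [6, 4, 4, 6, 0]), (1, [0, 5, 2, 2]), (1, [1, 0, 0, 0]), (1, [5, 2, 3, 0]), (1, [4, 6, 6,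 1, 0]), (1, [1, 5, 0, 1]), (1, [0, 6, 5, 1]), (1, [0, 6, 6, 6, 0]), (1, [2, 6, 1, 4, 0]), (1, []), (1, [3, 4, 3, 0]), (1, [3, 5, 5]), (1, [0, 6, 1, 1, 0]), (1, [0, 6, 4, 4]), (2, [2, 2, 1]), (2, [6, 1, 1]), (2, [5, 0, 3, 0]), (2, [4, 4, 6, 0]), (2, [4, 1]), (2, [0, 0, 6]), (2, [3, 2, 2, 6]), (2, [5, 1, 6, 0]), (2, [0, 3, 5]), (5, [4, 6, 1]), (5, [6, 4]), (5, [4, 5, 4]), (2, [5, 5, 2, 4]), (5, [5, 1, 4, 1]), (2, [3, 4, 0]), (5, [0, 0, 4]), (2, [2, 1, 1]), (2, [3, 6, 3, 3]), (2, [5, 0, 5, 1]), (2, [5, 1, 4]), (5, [2, 4]), (2, [0, 3]), (2, [6, 2, 1, 1]), (2, [1]), (2, [4, 2, 1]), (2, [6, 6, 5, 1]), (2, [4, 3, 5]), (2, [3, 2, 5, 0]), (5, [3, 6, 4]), (5, [4, 0, 4, 3]), (2, [4, 4, 3, 5]), (5, [5, 6, 0, 3]), (2, [5, 3, 6, 0]), (2, [3,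 5, 1, 2]), (2, [1, 0, 4, 3]), (2, [6, 6]), (2, [5, 4]), (5, [5, 5, 0, 0]), (5, [5, 4, 1]), (5, [1, 0, 6]), (5, [0, 5, 1]), (5, [3, 0, 3]), (5, [0, 3, 0, 0]), (5, [0, 1, 2]), (2, [4, 2, 6, 2]), (2, [0, 3, 0, 0]), (5, [3, 0, 6, 1]), (2, [2, 3, 4]), (5, [4, 5, 1]), (2, [4, 3]), (2, [6, 0, 3, 0]), (2, [2, 5, 5, 1]), (5, [3, 4, 4, 1]), (2, [6, 0, 1, 4]), (2, [2, 4, 6, 1]), (2, [0, 1, 0, 1]), (2, [5]), (2, [2, 4]), (2, [2, 5, 2]), (2, [0, 5, 0]), (2, [6, 4, 5, 1]), (2, [2, 2, 6]), (2, [3, 2, 6, 1]), (5, [3, 6, 3]), (5, [4, 2]), (2, [5, 2, 1]), (5, [1, 6, 0]), (5, [0, 6, 1, 0]), (5, [3, 4, 5, 0]), (5, [0, 3, 4, 6, 0]), (2, [5, 3, 4]), (2, [1, 5, 2]), (5, [4, 1, 0, 0]), (5, [0, 4, 5]), (5, [1, 1, 6]), (2, [5, 3, 0, 1]), (2, [1, 0, 0]),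 (2, [5, 2, 3, 2]), (2, [3, 5, 6, 0]), (2, [3, 3, 2]), (2, [5, 2, 6, 1]), (2, [5, 6, 0]), (2, [6, 4, 0]), (2, [5, 1, 1]), (2, [2, 3, 6, 3]), (2, [2, 3, 2, 1]), (5, [1, 4, 3]), (5, [3, 4, 3, 0]), (5, [4, 0, 6, 2]), (2, [5, 3]), (2, [2, 6, 1]), (5, [5, 2, 4, 1]), (5, [1, 0, 4, 0]), (5, [0, 1, 1, 0]), (5, [3, 3, 6, 5]), (5, [1, 4, 1, 2]), (2, [0, 3, 4]), (2, [4, 3, 3]), (2, [1, 4, 4, 0]), (5, [3, 3, 2, 3]), (5, [4, 3, 2]), (5, [0, 5, 1, 0]), (2, [4, 6, 1]), (2, [6, 2, 4, 0]), (5, [5, 6]), (5, [1, 6, 3, 2]), (2, [6, 5, 5, 0]), (5, [5, 2, 3, 0]), (2, [4]), (5, [2, 6, 5, 4]), (5, [4, 0, 0]), (2, [5, 6, 3]), (5, [2, 5, 0, 0]), (5, [6, 0, 1, 0]), (5, [4, 1, 2]), (5, [4, 4, 4]), (2, [2, 5, 6, 2]), (5, [5, 4]), (5, [5, 5, 5, 0]), (2, [4,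 3, 2, 1]), (2, [1, 6, 3]), (5, [3, 5, 3, 0]), (2, [5, 5, 6, 0]), (2, [3, 0]), (5, [6, 1]), (2, [2, 3, 3]), (2, [6, 0, 0, 0]), (5, [6, 6, 1]), (5, [2, 5, 0]), (5, [6, 5, 4]), (2, [2, 6, 0]), (5, [4, 5, 3]), (2, [0, 6, 0, 0]), (2, [4, 6, 0]), (5, [4, 4, 1, 0]), (5, [5, 6, 4, 0]), (5, [4, 2, 4, 0]), (2, [2]), (5, [2, 6]), (2, [1, 4]), (5, [0, 0, 1]), (5, [0, 5, 6, 0]), (5, [0, 0, 5, 3]), (5, [3, 3, 0]), (5, [6, 6, 0, 0]), (5, [3, 6, 4, 0]), (5, [5, 0, 0]), (5, [6, 5, 3]), (5, [2, 6, 4, 0]), (5, [6, 5, 1, 4]), (5, [2, 4, 1]), (5, [1, 5, 6]), (5, [5, 4, 0, 0]), (5, [5, 5, 0]), (5, [3, 4, 0, 4]), (5, [0, 5, 4, 2]), (5, [0, 3]), (5, [1, 6, 5]), (5, [3, 0, 1, 2]), (5, [0]), (2, [0, 5, 6]), (2, [1, 6, 5, 1]), (2, [4, 6, 6]), (5, [4, 2,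 3, 6]), (2, [3, 6, 4]), (5, [6, 3, 5, 0]), (2, [5, 5, 4, 1]), (2, [1, 4, 1]), (5, [1, 5, 3, 0]), (2, [5, 3, 3, 0, 0]), (2, [3, 0, 6, 0]), (2, [5, 5, 5, 0]), (2, [3, 6, 1]), (2, [1, 5, 3, 3]), (5, [4, 2, 4, 1]), (5, [3, 5, 2]), (5, [3, 0, 5, 0]), (2, [2, 5, 0]), (2, [0, 6, 0]), (2, [2, 6, 0, 0]), (2, [3, 4, 3]), (2, [6, 5, 6]), (2, [1, 2, 5, 0]), (2, [6, 0, 3, 5]), (5, [6, 5, 2, 3]), (5, [6, 3, 4]), (5, [6, 6, 2]), (2, [6, 0, 1]), (5, [0, 6, 3, 0]), (5, [2, 4, 3]), (5, [6, 1, 4, 1]), (2, [2, 4, 1]), (2, [5, 2]), (2, [4, 2, 4]), (2, [2, 6]), (2, [1, 6, 4, 0]), (2, [4, 0, 1]), (2, [6, 2, 6, 0]), (2, [4, 0, 3]), (5, [5, 3, 5]), (5, [4, 5, 4, 1]), (5, [5, 5, 5]), (2, [4, 3, 2, 2]), (2, [4, 1, 5, 2]), (2, [3, 2, 5, 2]), (2, [4, 1, 0,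 0]), (5, [1, 4]), (5, [3, 3, 6]), (2, [6, 1, 1, 2]), (5, [6, 6, 1, 0]), (5, [0, 5, 4]), (5, [4, 0]), (2, [5, 6, 5]), (2, [4, 5, 1]), (5, [3, 6, 6, 2]), (5, [2, 1, 4, 2]), (2, [6, 0, 0]), (5, [2, 6, 3]), (2, [0, 1, 1]), (2, [1, 4, 0]), (2, [6, 2]), (5, [5, 1]), (5, [1, 1, 2]), (5, [3, 5, 1, 2]), (2, [2, 2]), (2, [4, 4]), (5, []), (5, [2, 6, 1, 2]), (2, [1, 6, 5]), (2, [0, 4, 6, 0]), (2, [6, 6, 6]), (5, [1, 6, 1]), (5, [2, 6, 2, 2]), (5, [6, 2, 2]), (2, [4, 0, 5]), (2, [6, 4, 2, 4]), (5, [5, 3, 0]), (2, [3, 0, 5, 0]), (2, [3, 5, 6]), (5, [6, 4, 3]), (5, [1, 4, 4, 0]), (5, [5, 3, 4, 0]), (5, [1, 6]), (5, [6, 1, 4, 4]), (2, [0]), (5, [4, 6, 6]), (2, [1, 2, 1, 2]), (5, [4, 4, 2]), (5, [2, 6, 0, 1]), (5, [5, 4, 3]), (5, [5, 4, 1, 2]),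 (5, [3, 4]), (5, [1, 1]), (2, [3, 0, 0, 0]), (2, [5, 3, 2]), (5, [0, 4, 5, 0]), (5, [3, 4, 2]), (5, [6, 5, 4, 1]), (5, [6, 0]), (2, [4, 2]), (5, [1, 4, 6, 0]), (5, [3, 2]), (5, [5, 2, 3]), (5, [3, 2, 3]), (5, [5, 0, 6]), (5, [1, 1, 4, 0, 0]), (5, [3, 5, 3]), (5, [0, 4, 1, 0]), (5, [0, 6, 1]), (5, [2, 2, 4, 3]), (5, [1, 6, 0, 0]), (5, [4, 3, 3, 0]), (2, [0, 4, 3]), (2, [2, 5]), (2, [1, 5, 1]), (2, [3, 3, 0]), (2, [1, 0, 1]), (5, [6, 6, 4, 0]), (5, [5, 5]), (5, [2, 6, 6]), (2, [1, 4, 2, 4]), (2, [5, 1, 2]), (2, [0, 1, 2]), (2, [5, 4, 5, 0]), (2, [5, 6]), (2, [1, 6, 0, 1]), (5, [5, 3, 3]), (5, [0, 5, 0]), (5, [3, 3, 4, 0]), (2, [6, 5, 4]), (2, [6, 5, 2]), (5, [5, 2]), (5, [3, 5]), (2, [5, 0, 0]), (2, [6, 2, 6]), (5, [5, 1, 0]), (5,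 [0, 0, 3, 0]), (2, [0, 6, 5, 2]), (5, [4, 5, 0, 3]), (5, [4, 5, 2]), (2, [4, 2, 5]), (5, [0, 4]), (2, [6, 3]), (2, [4, 6, 3]), (5, [5, 6, 5]), (2, [3]), (2, [3, 5, 3]), (5, [3, 0, 0]), (5, [2, 4, 3, 2]), (2, [5, 2, 3]), (2, [0, 0, 0]), (2, [1, 1]), (5, [3, 3, 2]), (5, [5, 3]), (5, [4, 4, 0]), (2, [2, 5, 2, 2]), (2, [4, 4, 5, 1]), (5, [4, 5, 2, 3]), (5, [4, 3, 4]), (5, [1, 6, 4]), (5, [0, 3, 6, 0]), (5, [1]), (2, [6, 1]), (2, [1, 1, 4, 0]), (2, [1, 5, 4]), (5, [2, 3]), (5, [3, 6, 0, 1]), (5, [3, 2, 5, 3]), (5, [0, 1, 4]), (2, [2, 1, 4, 0]), (2, [2, 6, 2]), (2, [0, 5, 3]), (5, [6, 5, 0]), (5, [0, 4, 0]), (5, [1, 2, 4]), (5, [4, 1, 5]), (5, [3, 6]), (5, [1, 1, 4]), (5, [5, 6, 6]), (5, [5, 1, 0, 1]), (2, [3, 6, 2, 2]), (5, [5, 0,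 5, 5]), (5, [5, 2, 4, 0]), (5, [3, 2, 1]), (5, [5, 1, 2]), (5, [4, 6, 2]), (5, [0, 1, 0]), (5, [0, 5, 5, 0]), (5, [0, 5, 2]), (5, [5, 2, 5, 1]), (2, [3, 6, 6]), (2, [6, 3, 2]), (2, [3, 4, 2]), (2, [3, 0, 0]), (2, [3, 5, 1, 1]), (2, [0, 6]), (5, [3, 5, 0, 0]), (5, [0, 4, 2]), (2, [6, 1, 2]), (5, [4, 5]), (2, [5, 2, 4]), (5, [1, 6, 3]), (5, [5, 1, 6, 0]), (5, [3, 4, 6, 0]), (5, [6, 1, 0]), (5, [3, 4, 1]), (2, [6, 5]), (2, [3, 0, 1]), (5, [3, 5, 4, 1]), (5, [6, 6, 3, 0]), (2, [3, 6, 5, 1]), (5, [5, 6, 0, 1]), (2, [4, 2, 6]), (2, [2, 4, 0]), (5, [3, 6, 0]), (5, [3, 3, 4, 2]), (5, [4, 3, 4, 2]), (5, [4, 6, 0]), (5, [5, 2, 1]), (2, [5, 0, 4, 2]), (5, [0, 6, 2]), (5, [0, 3, 4]), (5, [3, 0, 3, 4]), (2, [1, 4, 3]), (2, [1, 1, 0, 1]), (5,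 [0, 1, 6]), (2, [6, 0]), (5, [2, 5, 2, 2]), (5, [4, 3, 6, 0]), (5, [6, 0, 3]), (2, [4, 3, 0, 0]), (5, [1, 2, 3, 2]), (2, [5, 2, 3, 0]), (5, [2, 1]), (5, [2, 5, 3]), (5, [6, 0, 1]), (5, [2, 4, 4, 0]), (2, [2, 6, 4]), (5, [2, 3, 3, 2]), (5, [6, 6, 4]), (5, [4, 1, 2, 2]), (5, [3, 0]), (5, [1, 6, 1, 0]), (5, [3, 6, 6, 1]), (5, [4, 1, 1, 0]), (2, [5, 6, 4, 0]), (2, [5, 4, 3]), (2, [2, 1, 2]), (5, [3, 0, 3, 2]), (5, [6, 4, 1, 0]), (5, [1, 1, 5]), (2, [6, 4, 2]), (2, [4, 1, 4, 0]), (5, [3, 5, 3, 2]), (2, [6, 5, 4, 1]), (2, [2, 5, 1, 4]), (5, [1, 0, 3, 0]), (5, [1, 6, 1, 4]), (5, [1, 1, 0]), (2, [5, 2, 6, 2]), (5, [0, 3, 6]), (2, [4, 6, 2, 2]), (2, [3, 6, 0]), (5, [3, 4, 1, 0]), (5, [3, 2, 4, 0]), (5, [4, 2, 1]), (5, [0, 0, 4, 0]), (2,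 [2, 3, 0]), (2, [3, 4, 4, 0]), (5, [4, 6]), (5, [6, 0, 0, 4]), (5, [3, 0, 5]), (5, [4, 2, 3, 0]), (5, [6, 2, 4]), (5, [0, 6, 5, 0]), (5, [3, 0, 0, 1]), (5, [3, 2, 2]), (2, [1, 4, 6, 0]), (2, [2, 4, 0, 1]), (5, [6, 1, 1, 2]), (5, [2, 3, 0]), (2, [6, 3, 5]), (5, [0, 6, 4, 0]), (5, [5, 6, 1, 0]), (5, [1, 1, 0, 0]), (5, [4, 5, 3, 2]), (2, [1, 5, 1, 1]), (5, [5, 3, 6, 0]), (2, [1, 0, 6]), (5, [6, 0, 5]), (2, [0, 4, 2]), (2, [2, 3, 2]), (5, [1, 5, 2]), (5, [1, 5, 3, 3]), (5, [5, 5, 3, 3]), (5, [3, 4, 0]), (5, [2, 4, 3, 0]), (5, [0, 0, 0, 1]), (5, [6]), (2, [6, 6, 2]), (2, [3, 2]), (2, [3, 3, 0, 1]), (5, [2, 4, 6, 0]), (5, [2, 3, 6, 0]), (5, [3, 6, 5]), (5, [4, 2, 3]), (5, [5, 0, 4, 0]), (2, [0, 5, 1]), (5, [3, 6, 1]), (5, [2, 6, 0]),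 (5, [6, 1, 2, 2]), (5, [6, 3, 5]), (5, [0, 0]), (5, [4, 3, 4, 1]), (5, [0, 0, 5, 1]), (2, [1, 5]), (5, [2, 3, 2]), (5, [4, 4, 5]), (5, [4, 5, 0]), (2, [1, 4, 6, 1]), (5, [1, 4, 6]), (5, [4, 5, 2, 4]), (5, [4, 6, 5]), (5, [3, 3, 0, 1]), (5, [0, 5]), (5, [1, 5, 0, 0]), (5, [2, 3, 4, 3]), (5, [1, 4, 1]), (5, [5, 1, 1, 0]), (5, [3, 5, 0]), (0, []), (5, [2, 4, 1, 0]), (5, [6, 4, 2]), (5, [1, 4, 1, 0, 0]), (5, [2, 4, 4]), (5, [5, 6, 5, 0]), (5, [6, 5, 1]), (5, [4, 2, 2]), (5, [6, 6, 6]), (5, [2, 6, 3, 0]), (5, [1, 5, 0, 1]), (5, [6, 6, 0]), (5, [5, 3, 6, 1]), (5, [5, 4, 2, 1]), (5, [5, 4, 2]), (5, [0, 6]), (5, [2, 1, 0, 3]), (5, [4, 5, 5]), (5, [1, 0, 0]), (5, [1, 2, 3]), (5, [1, 2, 2]), (5, [6, 0, 4]), (5, [5, 5, 0, 1]), (5, [2, 2,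 4]), (5, [0, 1, 2, 3]), (5, [1, 0, 3]), (5, [4, 5, 1, 0]), (5, [2, 6, 6, 0]), (5, [0, 1, 2, 1]), (5, [1, 5, 0, 6]), (5, [5, 1, 5]), (5, [6, 1, 6]), (5, [2, 6, 5, 0]), (5, [4, 4, 1]), (5, [6, 0, 0, 1]), (5, [6, 2, 3]), (5, [0, 5, 3, 0]), (5, [4, 4]), (5, [6, 2]), (5, [2, 2, 1]), (5, [5, 3, 0, 5]), (5, [0, 3, 5, 1]), (5, [3, 0, 4, 0]), (5, [0, 6, 6, 0]), (5, [6, 6, 5]), (5, [4]), (5, [4, 3, 3]), (5, [3, 2, 6, 0]), (5, [6, 3, 0]), (5, [6, 4, 4, 4]), (5, [4, 1, 1]), (5, [4, 3]), (5, [2, 4, 5, 3]), (5, [0, 1, 5, 0]), (5, [4, 1]), (5, [6, 4, 0]), (5, [5, 0, 4]), (1, [3, 0, 1, 1, 0]), (1, [1, 5, 0, 3]), (1, [0, 4, 0]), (1, [5, 6, 2, 2]), (1, [1, 6, 5, 6]), (1, [2, 6, 2, 2]), (1, [0, 0, 4, 1, 0]), (1, [1, 2, 1, 2]), (1, [6, 0, 4, 1]),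 (1, [2, 5]), (1, [1, 0, 1, 2]), (1, [0, 5, 6, 2]), (1, [6, 1, 2, 2]), (1, [1, 0, 1, 6]), (1, [3, 4, 0, 5]), (1, [0, 0, 6, 5]), (1, [4, 2, 3, 5]), (1, [6, 5, 0, 5]), (1, [4, 2, 6, 4]), (1, [2, 6, 6, 0]), (1, [0, 1, 6, 0, 0]), (1, [4, 5, 5]), (1, [3, 0, 4, 6]), (1, [2, 1, 0, 5]), (1, [2, 1, 4, 3, 0]), (1, [1, 0, 5, 2, 1]), (1, [2, 4, 4, 0]), (1, [4, 3, 3]), (1, [3, 4, 3, 5]), (1, [2, 6, 1]), (1, [3, 5, 2, 2]), (1, [4, 1, 5, 1, 0]), (1, [3, 3, 4]), (1, [5, 2, 5, 3, 0]), (1, [0, 3, 0, 4]), (1, [5, 6, 0]), (1, [6, 3, 5]), (1, [0, 1, 1, 6]), (1, [3, 6]), (1, [4, 0, 4]), (1, [2, 5, 6, 0]), (1, [0, 0, 3, 5]), (1, [6, 5, 5, 1]), (1, [4, 0]), (1, [1, 2, 1, 0]), (1, [1, 2, 4]), (1, [6, 3, 5, 1]), (1, [2, 3, 3]), (1, [2, 3]), (1, [5, 4, 6]),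 (1, [4, 3, 2, 4, 0]), (1, [1, 6, 2]), (1, [4, 2, 6, 1]), (1, [3, 4, 3, 6]), (1, [5, 1]), (1, [4, 0, 5, 2]), (1, [3, 5, 0, 3]), (1, [4, 5, 5, 5, 2]), (1, [6, 0, 5]), (1, [5, 6, 0, 1]), (1, [4, 5, 2]), (1, [4, 4, 1]), (1, [3, 5, 6, 3]), (1, [4, 3, 5, 0, 0]), (1, [3, 6, 1, 6]), (1, [6, 6, 0]), (1, [6, 2, 2, 5]), (1, [3, 5]), (1, [5, 3]), (1, [1, 5, 5, 1, 0]), (1, [3, 3, 5, 2, 1]), (1, [4, 3, 4, 0]), (1, [3, 0, 1]), (1, [6, 6, 6, 6]), (1, [0, 6, 1, 1]), (1, [1, 1, 2, 5]), (1, [1, 4, 6, 5]), (1, [6, 3, 2, 3]), (1, [1, 6, 3]), (1, [5, 1, 4, 1]), (1, [2, 1, 0, 3]), (1, [6, 5, 2, 3]), (1, [5, 3, 4, 6]), (1, [0, 6, 6, 0]), (1, [3, 4, 6, 0]), (1, [6, 2, 4, 0]), (1, [6, 5, 0, 4, 0]), (1, [0, 5, 1]), (1, [5, 1, 2, 2]), (1, [0, 4, 5, 2]),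 (1, [1, 0, 3, 6]), (1, [0, 6, 0, 5]), (1, [1, 5, 2, 6]), (1, [2, 2, 4, 6]), (1, [6, 0, 4, 0]), (1, [6, 4, 2, 1]), (1, [1, 0, 3, 4, 0]), (1, [3, 5, 0, 0]), (1, [3, 6, 0, 0]), (1, [4, 3, 6]), (1, [1, 2, 6, 1]), (1, [6, 4, 2, 4]), (1, [2, 4, 2, 1]), (1, [3, 4, 0, 3]), (1, [5, 0, 5]), (1, [1, 5, 3]), (1, [4, 6, 2]), (1, [0, 1, 4]), (1, [1, 0, 6, 3, 0]), (1, [2, 4, 3, 2]), (1, [5]), (1, [4, 6, 6, 2]), (1, [3, 5, 2, 1]), (1, [0, 6, 1, 0]), (1, [1, 4, 0, 3]), (1, [2, 3, 4, 1]), (1, [1, 1, 4, 0]), (1, [1, 6, 1]), (1, [4, 1]), (1, [4, 5, 4, 4, 1]), (1, [0, 1, 1, 0]), (1, [6, 1]), (1, [1, 5, 6, 5]), (1, [4, 4, 4]), (1, [6, 0, 3, 4]), (1, [4, 5, 5, 0, 0]), (1, [1, 6, 5]), (1, [6, 2, 6]), (1, [0, 1, 5, 2]), (1, [1, 0, 1, 0]), (1, [4, 5, 1,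 2]), (1, [0, 6, 1, 2]), (1, [5, 4, 3, 2]), (1, [6, 6, 2]), (1, [1, 2, 6, 4]), (1, [5, 6, 5, 0, 0]), (1, [3, 2, 1, 0]), (1, [5, 1, 5, 6, 0]), (1, [5, 1, 4, 3]), (1, [4, 6, 1, 0]), (1, [0, 5, 1, 1]), (1, [4, 3, 5, 6]), (1, [2, 4, 3]), (1, [3, 2, 5, 3, 0]), (1, [0, 4]), (1, [6, 3, 6]), (1, [4, 0, 4, 1, 0]), (1, [4, 0, 3]), (1, [1, 2, 4, 2, 1]), (1, [0, 3, 4, 0]), (1, [1, 4, 0]), (1, [6, 5, 1, 1]), (1, [2, 3, 3, 4]), (1, [2, 6, 6, 1, 0]), (1, [1, 6, 0]), (1, [5, 2, 1, 1]), (1, [2, 1, 0, 4, 0]), (1, [3, 5, 0, 5]), (1, [4, 3, 5, 1, 0]), (1, [6, 5, 6]), (1, [6, 3, 3, 0]), (1, [5, 4, 0, 0]), (1, [6, 1, 2, 4, 1]), (1, [4, 5, 1]), (1, [0, 3, 6, 3]), (1, [2, 1, 4, 0]), (1, [5, 5, 4]), (1, [1, 5, 6, 6]), (1, [2, 4, 0, 3]), (1, [4, 5, 4, 5,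 1]), (1, [6, 6, 6]), (1, [6, 0, 5, 3, 0]), (1, [3, 4, 0, 6]), (1, [1, 4, 1, 1]), (1, [5, 5, 1, 4]), (1, [5, 2, 4, 6]), (1, [3, 4, 5, 5]), (1, [2, 3, 5, 2]), (1, [2, 6]), (1, [4, 5, 4, 5]), (1, [3, 4, 0, 1, 2]), (1, [2, 2, 6, 3]), (1, [0, 4, 0, 5, 1]), (1, [0, 0, 6, 2]), (1, [6, 5, 3]), (1, [0, 0, 5, 1, 1]), (1, [6, 5, 4, 5]), (1, [4, 1, 6, 4, 1]), (1, [3, 6, 6]), (1, [3, 5, 3, 4]), (1, [1, 2, 4, 0, 1]), (1, [6, 5, 5]), (1, [3, 6, 5, 0, 0]), (1, [4, 3, 3, 4]), (1, [0, 5, 4, 0]), (1, [6, 2, 4]), (1, [5, 1, 5, 2]), (1, [0, 4, 0, 4]), (1, [4, 1, 4, 5]), (1, [5, 3, 6, 0]), (1, [4, 4, 0, 0]), (1, [5, 3, 3, 4, 0]), (1, [4, 6, 0, 3, 0]), (1, [6, 4, 6, 6]), (1, [3, 4, 3, 3]), (1, [3, 6, 2, 4]), (1, [4, 2, 3, 0]), (1, [6, 5, 3, 0]), (1,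 [6, 1, 1]), (1, [5, 2, 4, 0]), (1, [4, 2, 2, 4]), (1, [2, 3, 5, 6, 2]), (1, [3, 6, 1, 1, 0]), (1, [5, 4]), (1, [4, 6, 3, 3]), (1, [6, 3, 6, 1]), (1, [1, 6, 1, 2]), (1, [1, 4, 1, 4]), (1, [5, 0, 4, 1, 0]), (1, [5, 2, 3, 2]), (1, [2, 3, 5, 6, 0]), (1, [6, 6, 4, 1]), (1, [4, 0, 5, 2, 1]), (1, [3, 4, 1, 1]), (1, [2, 5, 1]), (1, [4, 3, 6, 2, 1]), (1, [2, 3, 4, 3]), (1, [4, 4, 2, 1, 0]), (1, [2, 3, 0, 4]), (1, [3, 6, 3, 0]), (1, [5, 2, 5, 4]), (1, [0, 3, 2, 4]), (1, [6, 0, 3]), (1, [3, 4, 0, 4, 0]), (1, [2, 4, 6]), (1, [5, 1, 4]), (1, [4, 3, 0, 3]), (1, [3, 6, 4, 5, 2]), (1, [6, 3, 4, 3]), (1, [2, 2, 5, 5, 2]), (1, [3, 3, 5, 5]), (1, [4, 0, 3, 4]), (1, [2, 4, 5]), (1, [2, 1, 1]), (1, [5, 2, 5, 1]), (1, [1, 6, 5, 0, 0]), (1, [3, 5, 3,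 4, 1]), (1, [2, 5, 2, 2]), (1, [4, 2, 6, 3]), (1, [1, 0, 6, 4]), (1, [6, 6, 5]), (1, [1, 1, 4, 3]), (1, [6, 0, 1, 0]), (1, [3, 5, 2, 3]), (1, [4, 2, 1, 1, 0]), (1, [4, 0, 4, 1]), (1, [1, 5, 6, 3]), (1, [6, 0, 5, 0, 0]), (1, [4, 6, 0, 1]), (1, [1, 1, 4]), (1, [1, 1, 0, 1]), (1, [3, 0]), (1, [5, 0, 0, 0]), (1, [3, 2]), (1, [1, 4, 4, 0]), (1, [2, 3, 0]), (1, [6, 6, 5, 0, 0]), (1, [3, 4, 6, 2]), (1, [2, 5, 1, 1]), (1, [1, 5, 2, 3]), (1, [3, 6, 0, 4, 1]), (1, [0, 1, 6, 1]), (1, [3, 3, 5, 0, 0]), (1, [3, 4, 1]), (1, [5, 3, 5, 5]), (1, [4, 1, 0, 0]), (1, [5, 1, 2, 1]), (1, [3, 5, 3, 3, 0]), (1, [3, 6, 3, 3]), (1, [3, 2, 3, 0]), (1, [3, 2, 4, 0, 0]), (1, [5, 4, 1, 0]), (1, [2, 6, 4, 5]), (1, [2, 6, 1, 1]), (1, [5, 1, 0]), (1, [0, 0, 1,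 6, 0]), (1, [5, 4, 1, 2]), (1, [0, 6]), (1, [2, 2, 6, 5]), (1, [4, 2, 4]), (1, [4, 3, 5]), (1, [4, 5, 3]), (1, [3, 2, 6, 3]), (1, [2, 3, 4, 4]), (1, [2, 4, 1, 2]), (1, [0, 6, 3, 0]), (1, [0, 6, 6, 4]), (1, [2, 3, 0, 6]), (1, [4, 5, 5, 2]), (1, [0, 6, 3, 2]), (1, [6, 2, 5, 1]), (1, [3, 5, 5, 2]), (1, [0, 0, 5, 5]), (1, [6, 6, 6, 0, 0]), (1, [3, 2, 3, 2]), (1, [6, 1, 4, 5]), (1, [6, 3, 3]), (1, [5, 0, 1, 2]), (1, [1, 5, 4, 4]), (1, [4, 2, 1, 4, 3]), (1, [3, 6, 2]), (1, [5, 3, 6, 3, 0]), (1, [2, 1, 5, 3]), (1, [6, 6, 3, 4]), (1, [1, 1, 6, 1, 0]), (1, [6, 3, 4, 1, 0]), (1, [6, 4, 1, 0]), (1, [1, 4, 3, 2]), (1, [3, 6, 0, 1]), (1, [0, 0, 1]), (1, [2, 4, 3, 4]), (1, [5, 5, 4, 0]), (1, [1, 1, 6]), (1, [1, 6, 1, 6]), (1, [4, 0, 0]), (1,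 [1, 4, 5, 4]), (1, [1, 1, 5, 1]), (1, [0, 6, 6]), (1, [1, 0, 5, 2]), (1, [2, 1, 6, 5]), (1, [5, 3, 0, 1, 0]), (1, [2, 4, 2, 6, 0]), (1, [0, 4, 3, 3]), (1, [5, 6, 1, 1]), (1, [3, 2, 6]), (1, [4, 6, 4, 3]), (5, [4, 1, 4, 3]), (5, [4, 2, 6, 0]), (5, [0, 1, 5]), (5, [1, 0, 5]), (5, [1, 4, 2]), (5, [5, 2, 2]), (5, [5, 4, 4]), (5, [2, 3, 3, 0]), (5, [5, 0, 3]), (5, [5, 0, 1]), (5, [5, 6, 0, 0]), (5, [3, 2, 4, 1]), (5, [4, 1, 4]), (5, [5, 0]), (5, [5, 5, 1, 5]), (5, [0, 6, 4]), (5, [3, 2, 4]), (5, [1, 4, 0, 0]), (5, [4, 0, 3, 0]), (5, [3, 6, 6, 0]), (5, [6, 1, 1, 0])]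

set_option maxRecDepth 1000000 in
def base0 : ℕ := 3101819053004037020622864880382845364481119510865872191616

set_option maxRecDepth 1000000 in
def WD0 : List (ℕ × List ℕ) := [(0, [0, 0, 4, 3]), (0, [5, 3, 3]), (0, [2, 4, 4]), (0, [3, 5]), (0, [0, 1]), (0, [6, 4, 1]), (0, [0, 5]), (0, [1, 0, 0, 0]), (0, [5, 2, 6]), (0, [0, 5, 6, 5]), (0, [6, 2, 5]), (0, [5, 1]), (0, [3, 2, 2]), (0, [2, 6, 3]), (0, [2, 3]), (0, [2, 1]), (0, [4, 4, 5, 2]), (0, [6]), (0, [3, 5, 6, 3]), (0, [1, 6, 2]), (0, [3, 2, 3, 0]), (0, [0, 5, 5, 1]), (0, [1, 0, 5, 1]), (0, [0, 1, 4, 0]), (0, [1, 2]), (0, [5, 4, 5, 1]), (0, [1, 6, 1, 2]), (0, [6, 3, 0]), (0, [2, 1, 4]), (0, [3, 6, 1, 2]), (0, [1, 1, 2]), (0, [4, 1, 5]), (0, [1, 5, 3]), (0, [1, 2, 3, 0]), (0,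 [3, 5, 2]), (0, [6, 6, 4]), (0, [6, 6, 5]), (0, [0, 4]), (0, [1, 6, 0]), (0, [4, 3, 6, 0]), (0, [4, 3, 4, 0]), (0, [2, 2, 5]), (0, [3, 2, 4]), (0, [5, 6, 4, 1]), (0, [1, 4, 4, 1]), (0, [0, 3, 6, 2]), (0, [3, 2, 1]), (0, [6, 2, 1]), (0, [3, 6, 3]), (0, [4, 4, 1]), (0, [5, 0]), (0, [4, 5, 4]), (0, [3, 3]), (0, [4, 1, 1, 2]), (0, [5, 6, 2]), (0, [0, 0, 5, 0]), (0, [2, 6, 4, 0]), (0, [1, 6, 4]), (0, [5, 1, 4, 0]), (0, [6, 4, 3]), (0, [3, 2, 2, 1]), (0, [0, 1, 6, 0]), (0, [6, 5, 1]), (0, [0, 0, 5, 1]), (0, [5, 6, 6]), (0, [4, 1, 2]), (0, [5, 2, 5, 0]), (0, [0, 1, 5]), (0, [4, 1, 4, 3]), (0, [6, 4, 6, 1]), (0, [3, 4, 4]), (0, [2, 3, 3, 0]), (0, [4, 4, 3, 2]), (0, [2, 6, 6, 1]), (0, [6, 6, 1]), (0, [5, 5, 1]), (0, [3, 4]), (0, [4, 2,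 3, 0]), (0, [5, 5, 0]), (0, [6, 4]), (0, [0, 6, 4, 1]), (0, [4, 0]), (0, [6, 3, 3]), (0, [6, 0, 4]), (0, [0, 0, 1, 4, 0]), (0, [6, 5, 4, 2]), (0, [6, 6, 3]), (0, [3, 0, 3]), (0, [4, 2, 2]), (0, [5, 6, 0, 0]), (0, [5, 0, 6, 0]), (0, [5, 4, 2]), (0, [6, 1, 5]), (0, [3, 6, 2]), (0, [6, 2, 2]), (0, [4, 1, 0, 1]), (0, [4, 4, 0]), (0, [3, 3, 0, 0]), (0, [0, 0]), (0, [4, 3, 2]), (0, [3, 4, 2, 4]), (0, [4, 5, 0]), (0, [5, 1, 4, 1]), (0, [2, 6, 4, 1]), (0, [2, 5, 3]), (0, [1, 0, 4]), (0, [6, 1, 4, 0]), (0, [5, 2, 2]), (0, [0, 1, 4]), (0, []), (0, [4, 5, 2]), (0, [0, 3, 0]), (0, [4, 6, 0, 0]), (0, [5, 4, 1]), (0, [4, 3, 4]), (0, [1, 2, 4]), (0, [2, 4, 2]), (0, [5, 0, 3]), (0, [6, 2, 4]), (0, [2, 5, 4, 1]), (0, [2, 2, 1]), (0, [6, 1, 1]),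 (0, [5, 0, 3, 0]), (0, [4, 4, 6, 0]), (0, [4, 1]), (0, [0, 0, 6]), (0, [3, 2, 2, 6]), (0, [5, 1, 6, 0]), (0, [0, 3, 5]), (0, [5, 5, 2, 4]), (0, [3, 4, 0]), (0, [2, 1, 1]), (0, [3, 6, 3, 3]), (0, [5, 0, 5, 1]), (0, [5, 1, 4]), (0, [0, 3]), (0, [6, 2, 1, 1]), (0, [1]), (0, [4, 2, 1]), (0, [6, 6, 5, 1]), (0, [4, 3, 5]), (0, [3, 2, 5, 0]), (0, [4, 4, 3, 5]), (0, [5, 3, 6, 0]), (0, [3, 5, 1, 2]), (0, [1, 0, 4, 3]), (0, [6, 6]), (0, [5, 4]), (0, [4, 2, 6, 2]), (0, [0, 3, 0, 0]), (0, [2, 3, 4]), (0, [4, 3]), (0, [6, 0, 3, 0]), (0, [2, 5, 5, 1]), (0, [6, 0, 1, 4]), (0, [2, 4, 6, 1]), (0, [0, 1, 0, 1]), (0, [5]), (0, [2, 4]), (0, [2, 5, 2]), (0, [0, 5, 0]), (0, [6, 4, 5, 1]), (0, [2, 2, 6]), (0, [3, 2, 6, 1]), (0, [5, 2, 1]), (0, [5, 3,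 4]), (0, [1, 5, 2]), (0, [5, 3, 0, 1]), (0, [1, 0, 0]), (0, [5, 2, 3, 2]), (0, [3, 5, 6, 0]), (0, [3, 3, 2]), (0, [5, 2, 6, 1]), (0, [5, 6, 0]), (0, [6, 4, 0]), (0, [5, 1, 1]), (0, [2, 3, 6, 3]), (0, [2, 3, 2, 1]), (0, [5, 3]), (0, [2, 6, 1]), (0, [0, 3, 4]), (0, [4, 3, 3]), (0, [1, 4, 4, 0]), (0, [4, 6, 1]), (0, [6, 2, 4, 0]), (0, [6, 5, 5, 0]), (0, [4]), (0, [5, 6, 3]), (0, [2, 5, 6, 2]), (0, [4, 3, 2, 1]), (0, [1, 6, 3]), (0, [5, 5, 6, 0]), (0, [3, 0]), (0, [2, 3, 3]), (0, [6, 0, 0, 0]), (0, [2, 6, 0]), (0, [0, 6, 0, 0]), (0, [4, 6, 0]), (0, [2]), (0, [1, 4]), (0, [0, 5, 6]), (0, [1, 6, 5, 1]), (0, [4, 6, 6]), (0, [3, 6, 4]), (0, [5, 5, 4, 1]), (0, [1, 4, 1]), (0, [5, 3, 3, 0, 0]), (0, [3, 0, 6, 0]), (0, [5, 5, 5, 0]), (0,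 [3, 6, 1]), (0, [1, 5, 3, 3]), (0, [2, 5, 0]), (0, [0, 6, 0]), (0, [2, 6, 0, 0]), (0, [3, 4, 3]), (0, [6, 5, 6]), (0, [1, 2, 5, 0]), (0, [6, 0, 3, 5]), (0, [6, 0, 1]), (0, [2, 4, 1]), (0, [5, 2]), (0, [4, 2, 4]), (0, [2, 6]), (0, [1, 6, 4, 0]), (0, [4, 0, 1]), (0, [6, 2, 6, 0]), (0, [4, 0, 3]), (0, [4, 3, 2, 2]), (0, [4, 1, 5, 2]), (0, [3, 2, 5, 2]), (0, [4, 1, 0, 0]), (0, [6, 1, 1, 2]), (0, [5, 6, 5]), (0, [4, 5, 1]), (0, [6, 0, 0]), (0, [0, 1, 1]), (0, [1, 4, 0]), (0, [6, 2]), (0, [2, 2]), (0, [4, 4]), (0, [1, 6, 5]), (0, [0, 4, 6, 0]), (0, [6, 6, 6]), (0, [4, 0, 5]), (0, [6, 4, 2, 4]), (0, [3, 0, 5, 0]), (0, [3, 5, 6]), (0, [0]), (0, [1, 2, 1, 2]), (0, [3, 0, 0, 0]), (0, [5, 3, 2]), (0, [4, 2]), (0, [0, 4, 3]), (0, [2, 5]),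 (0, [1, 5, 1]), (0, [3, 3, 0]), (0, [1, 0, 1]), (0, [1, 4, 2, 4]), (0, [5, 1, 2]), (0, [0, 1, 2]), (0, [5, 4, 5, 0]), (0, [5, 6]), (0, [1, 6, 0, 1]), (0, [6, 5, 4]), (0, [6, 5, 2]), (0, [5, 0, 0]), (0, [6, 2, 6]), (0, [0, 6, 5, 2]), (0, [4, 2, 5]), (0, [6, 3]), (0, [4, 6, 3]), (0, [3]), (0, [3, 5, 3]), (0, [5, 2, 3]), (0, [0, 0, 0]), (0, [1, 1]), (0, [2, 5, 2, 2]), (0, [4, 4, 5, 1]), (0, [6, 1]), (0, [1, 1, 4, 0]), (0, [1, 5, 4]), (0, [2, 1, 4, 0]), (0, [2, 6, 2]), (0, [0, 5, 3]), (0, [3, 6, 2, 2]), (0, [3, 6, 6]), (0, [6, 3, 2]), (0, [3, 4, 2]), (0, [3, 0, 0]), (0, [3, 5, 1, 1]), (0, [0, 6]), (0, [6, 1, 2]), (0, [5, 2, 4]), (0, [6, 5]), (0, [3, 0, 1]), (0, [3, 6, 5, 1]), (0, [4, 2, 6]), (0, [2, 4, 0]), (0, [5, 0, 4, 2]), (0,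 [1, 4, 3]), (0, [1, 1, 0, 1]), (0, [6, 0]), (0, [4, 3, 0, 0]), (0, [5, 2, 3, 0]), (0, [2, 6, 4]), (0, [5, 6, 4, 0]), (0, [5, 4, 3]), (0, [2, 1, 2]), (0, [6, 4, 2]), (0, [4, 1, 4, 0]), (0, [6, 5, 4, 1]), (0, [2, 5, 1, 4]), (0, [5, 2, 6, 2]), (0, [4, 6, 2, 2]), (0, [3, 6, 0]), (0, [2, 3, 0]), (0, [3, 4, 4, 0]), (0, [1, 4, 6, 0]), (0, [2, 4, 0, 1]), (0, [6, 3, 5]), (0, [1, 5, 1, 1]), (0, [1, 0, 6]), (0, [0, 4, 2]), (0, [2, 3, 2]), (0, [6, 6, 2]), (0, [3, 2]), (0, [3, 3, 0, 1]), (0, [0, 5, 1]), (0, [1, 5]), (0, [1, 4, 6, 1])]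

set_option maxRecDepth 1000000 in
def base16 : ℕ := 3150858162022862723407540004539363385428382165709292077694

set_option maxRecDepth 1000000 in
def WD16 : List (ℕ × List ℕ) := [(0, [2, 3, 4]), (0, [0, 4, 3]), (0, [2, 6, 2]), (0, [0, 5, 5]), (0, [6, 6]), (0, [6, 2, 3, 0]), (0, [4, 4, 3, 0]), (0, [6, 1, 0, 3]), (0, [2, 3, 6]), (0, [3, 0, 5, 3]), (0, [4, 1, 6, 1]), (0, [5, 1, 4]), (0, [3, 5, 4, 2]), (0, [6, 1, 2]), (0, [4, 0, 4]), (0, [6, 3]), (0, [3, 0, 1]), (0, [1, 2, 1]), (0, [1, 0, 1]), (0, [2, 1, 6]), (0, [4, 6, 4]), (0, [4, 0, 1, 2]), (0, [4, 0, 3]), (0, [5, 3, 2]), (0, [5, 1, 1]), (0, [4, 4, 4, 4]), (0, [4, 6, 3]), (0, [0, 5, 3]), (0, [5, 6, 0]), (0, [6, 3, 5, 2]), (0, [5, 0, 1, 2]), (0, [5, 4, 6, 1]), (0, [4, 2, 6]), (0,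 [3, 6, 6]), (0, [0, 3, 2]), (0, [0, 1, 0, 0]), (0, [4, 4, 2, 3]), (0, [0, 3, 0]), (0, [6, 4, 4, 1]), (0, [2]), (0, [2, 1, 1, 2]), (0, [2, 5, 1]), (0, [3, 4, 0, 0]), (0, [4, 6, 5, 2]), (0, [2, 1, 5]), (0, [6, 4, 0, 0]), (0, [3, 3]), (0, [6, 1, 4]), (0, [2, 6, 4]), (0, [3]), (0, [4, 4, 4, 1]), (0, [1, 1, 4, 1]), (0, [6, 4, 5, 0]), (0, [0, 4, 1]), (0, [3, 0, 0, 3]), (0, [3, 5, 1]), (0, [1, 5, 5, 1]), (0, [1, 5]), (0, [3, 3, 2, 2]), (0, [0, 0, 3]), (0, [2, 5, 4]), (0, [3, 3, 4, 1]), (0, [2, 6, 1]), (0, [2, 1, 2, 1]), (0, [5, 0, 0, 4]), (0, [5, 2, 4]), (0, [4, 5, 6, 0]), (0, [0, 3, 0, 1]), (0, [6, 5, 2]), (0, [4, 5, 4, 3]), (0, [6, 0, 5, 0]), (0, [2, 3, 6, 1]), (0, [6, 3, 2]), (0, [2, 4, 0]), (0, [3, 4, 3]), (0, [3, 4, 1, 2]), (0,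 [1, 6, 3, 0]), (0, [1, 1, 4, 3]), (0, [4, 3, 0]), (0, [0, 3, 4, 0]), (0, [1, 5, 5]), (0, [5]), (0, [5, 5, 1]), (0, [5, 1, 1, 2]), (0, [1, 1, 2, 2]), (0, [4, 0, 6]), (0, [4, 1, 0]), (0, [6, 5]), (0, [4, 2, 2, 1]), (0, [5, 3, 5, 2]), (0, [1, 5, 0]), (0, [1, 2]), (0, [0, 5, 0, 0]), (0, [1, 0]), (0, [1, 4, 4]), (0, [5, 5, 0, 3]), (0, [6, 0, 0]), (0, [2, 2]), (0, [0, 1]), (0, [5, 6, 4]), (0, [3, 4, 5, 2]), (0, [0, 3, 5]), (0, [3, 4, 3, 2]), (0, [4, 5, 3, 0]), (0, [1, 1, 6, 0]), (0, [4, 6, 1]), (0, [6, 4]), (0, [4, 5, 4]), (0, [5, 1, 4, 1]), (0, [0, 0, 4]), (0, [2, 4]), (0, [3, 6, 4]), (0, [4, 0, 4, 3]), (0, [5, 6, 0, 3]), (0, [5, 5, 0, 0]), (0, [5, 4, 1]), (0, [1, 0, 6]), (0, [0, 5, 1]), (0, [3, 0, 3]), (0, [0, 3, 0, 0]), (0, [0, 1,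 2]), (0, [3, 0, 6, 1]), (0, [4, 5, 1]), (0, [3, 4, 4, 1]), (0, [3, 6, 3]), (0, [4, 2]), (0, [1, 6, 0]), (0, [0, 6, 1, 0]), (0, [3, 4, 5, 0]), (0, [0, 3, 4, 6, 0]), (0, [4, 1, 0, 0]), (0, [0, 4, 5]), (0, [1, 1, 6]), (0, [1, 4, 3]), (0, [3, 4, 3, 0]), (0, [4, 0, 6, 2]), (0, [5, 2, 4, 1]), (0, [1, 0, 4, 0]), (0, [0, 1, 1, 0]), (0, [3, 3, 6, 5]), (0, [1, 4, 1, 2]), (0, [3, 3, 2, 3]), (0, [4, 3, 2]), (0, [0, 5, 1, 0]), (0, [5, 6]), (0, [1, 6, 3, 2]), (0, [5, 2, 3, 0]), (0, [2, 6, 5, 4]), (0, [4, 0, 0]), (0, [2, 5, 0, 0]), (0, [6, 0, 1, 0]), (0, [4, 1, 2]), (0, [4, 4, 4]), (0, [5, 4]), (0, [5, 5, 5, 0]), (0, [3, 5, 3, 0]), (0, [6, 1]), (0, [6, 6, 1]), (0, [2, 5, 0]), (0, [6, 5, 4]), (0, [4, 5, 3]), (0, [4, 4, 1, 0]), (0, [5, 6, 4, 0]),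 (0, [4, 2, 4, 0]), (0, [2, 6]), (0, [0, 0, 1]), (0, [0, 5, 6, 0]), (0, [0, 0, 5, 3]), (0, [3, 3, 0]), (0, [6, 6, 0, 0]), (0, [3, 6, 4, 0]), (0, [5, 0, 0]), (0, [6, 5, 3]), (0, [2, 6, 4, 0]), (0, [6, 5, 1, 4]), (0, [2, 4, 1]), (0, [1, 5, 6]), (0, [5, 4, 0, 0]), (0, [5, 5, 0]), (0, [3, 4, 0, 4]), (0, [0, 5, 4, 2]), (0, [0, 3]), (0, [1, 6, 5]), (0, [3, 0, 1, 2]), (0, [0]), (0, [4, 2, 3, 6]), (0, [6, 3, 5, 0]), (0, [1, 5, 3, 0]), (0, [4, 2, 4, 1]), (0, [3, 5, 2]), (0, [3, 0, 5, 0]), (0, [6, 5, 2, 3]), (0, [6, 3, 4]), (0, [6, 6, 2]), (0, [0, 6, 3, 0]), (0, [2, 4, 3]), (0, [6, 1, 4, 1]), (0, [5, 3, 5]), (0, [4, 5, 4, 1]), (0, [5, 5, 5]), (0, [1, 4]), (0, [3, 3, 6]), (0, [6, 6, 1, 0]), (0, [0, 5, 4]), (0, [4, 0]), (0, [3, 6, 6, 2]),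 (0, [2, 1, 4, 2]), (0, [2, 6, 3]), (0, [5, 1]), (0, [1, 1, 2]), (0, [3, 5, 1, 2]), (0, []), (0, [2, 6, 1, 2]), (0, [1, 6, 1]), (0, [2, 6, 2, 2]), (0, [6, 2, 2]), (0, [5, 3, 0]), (0, [6, 4, 3]), (0, [1, 4, 4, 0]), (0, [5, 3, 4, 0]), (0, [1, 6]), (0, [6, 1, 4, 4]), (0, [4, 6, 6]), (0, [4, 4, 2]), (0, [2, 6, 0, 1]), (0, [5, 4, 3]), (0, [5, 4, 1, 2]), (0, [3, 4]), (0, [1, 1]), (0, [0, 4, 5, 0]), (0, [3, 4, 2]), (0, [6, 5, 4, 1]), (0, [6, 0]), (0, [1, 4, 6, 0]), (0, [3, 2]), (0, [5, 2, 3]), (0, [3, 2, 3]), (0, [5, 0, 6]), (0, [1, 1, 4, 0, 0]), (0, [3, 5, 3]), (0, [0, 4, 1, 0]), (0, [0, 6, 1]), (0, [2, 2, 4, 3]), (0, [1, 6, 0, 0]), (0, [4, 3, 3, 0]), (0, [6, 6, 4, 0]), (0, [5, 5]), (0, [2, 6, 6]), (0, [5, 3, 3]), (0, [0, 5, 0]), (0,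 [3, 3, 4, 0]), (0, [5, 2]), (0, [3, 5]), (0, [5, 1, 0]), (0, [0, 0, 3, 0]), (0, [4, 5, 0, 3]), (0, [4, 5, 2]), (0, [0, 4]), (0, [5, 6, 5]), (0, [3, 0, 0]), (0, [2, 4, 3, 2]), (0, [3, 3, 2]), (0, [5, 3]), (0, [4, 4, 0]), (0, [4, 5, 2, 3]), (0, [4, 3, 4]), (0, [1, 6, 4]), (0, [0, 3, 6, 0]), (0, [1]), (0, [2, 3]), (0, [3, 6, 0, 1]), (0, [3, 2, 5, 3]), (0, [0, 1, 4]), (0, [6, 5, 0]), (0, [0, 4, 0]), (0, [1, 2, 4]), (0, [4, 1, 5]), (0, [3, 6]), (0, [1, 1, 4]), (0, [5, 6, 6]), (0, [5, 1, 0, 1]), (0, [5, 0, 5, 5]), (0, [5, 2, 4, 0]), (0, [3, 2, 1]), (0, [5, 1, 2]), (0, [4, 6, 2]), (0, [0, 1, 0]), (0, [0, 5, 5, 0]), (0, [0, 5, 2]), (0, [5, 2, 5, 1]), (0, [3, 5, 0, 0]), (0, [0, 4, 2]), (0, [4, 5]), (0, [1, 6, 3]), (0, [5, 1, 6, 0]), (0,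 [3, 4, 6, 0]), (0, [6, 1, 0]), (0, [3, 4, 1]), (0, [3, 5, 4, 1]), (0, [6, 6, 3, 0]), (0, [5, 6, 0, 1]), (0, [3, 6, 0]), (0, [3, 3, 4, 2]), (0, [4, 3, 4, 2]), (0, [4, 6, 0]), (0, [5, 2, 1]), (0, [0, 6, 2]), (0, [0, 3, 4]), (0, [3, 0, 3, 4]), (0, [0, 1, 6]), (0, [2, 5, 2, 2]), (0, [4, 3, 6, 0]), (0, [6, 0, 3]), (0, [1, 2, 3, 2]), (0, [2, 1]), (0, [2, 5, 3]), (0, [6, 0, 1]), (0, [2, 4, 4, 0]), (0, [2, 3, 3, 2]), (0, [6, 6, 4]), (0, [4, 1, 2, 2]), (0, [3, 0]), (0, [1, 6, 1, 0]), (0, [3, 6, 6, 1]), (0, [4, 1, 1, 0]), (0, [3, 0, 3, 2]), (0, [6, 4, 1, 0]), (0, [1, 1, 5]), (0, [3, 5, 3, 2]), (0, [1, 0, 3, 0]), (0, [1, 6, 1, 4]), (0, [1, 1, 0]), (0, [0, 3, 6]), (0, [3, 4, 1, 0]), (0, [3, 2, 4, 0]), (0, [4, 2, 1]), (0, [0, 0, 4, 0]), (0,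 [4, 6]), (0, [6, 0, 0, 4]), (0, [3, 0, 5]), (0, [4, 2, 3, 0]), (0, [6, 2, 4]), (0, [0, 6, 5, 0]), (0, [3, 0, 0, 1]), (0, [3, 2, 2]), (0, [6, 1, 1, 2]), (0, [2, 3, 0]), (0, [0, 6, 4, 0]), (0, [5, 6, 1, 0]), (0, [1, 1, 0, 0]), (0, [4, 5, 3, 2]), (0, [5, 3, 6, 0]), (0, [6, 0, 5]), (0, [1, 5, 2]), (0, [1, 5, 3, 3]), (0, [5, 5, 3, 3]), (0, [3, 4, 0]), (0, [2, 4, 3, 0]), (0, [0, 0, 0, 1]), (0, [6]), (0, [2, 4, 6, 0]), (0, [2, 3, 6, 0]), (0, [3, 6, 5]), (0, [4, 2, 3]), (0, [5, 0, 4, 0]), (0, [3, 6, 1]), (0, [2, 6, 0]), (0, [6, 1, 2, 2]), (0, [6, 3, 5]), (0, [0, 0]), (0, [4, 3, 4, 1]), (0, [0, 0, 5, 1]), (0, [2, 3, 2]), (0, [4, 4, 5]), (0, [4, 5, 0]), (0, [1, 4, 6]), (0, [4, 5, 2, 4]), (0, [4, 6, 5]), (0, [3, 3, 0, 1]), (0, [0, 5]), (0,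 [1, 5, 0, 0]), (0, [2, 3, 4, 3]), (0, [1, 4, 1]), (0, [5, 1, 1, 0]), (0, [3, 5, 0]), (0, [2, 4, 1, 0]), (0, [6, 4, 2]), (0, [1, 4, 1, 0, 0]), (0, [2, 4, 4]), (0, [5, 6, 5, 0]), (0, [6, 5, 1]), (0, [4, 2, 2]), (0, [6, 6, 6]), (0, [2, 6, 3, 0]), (0, [1, 5, 0, 1]), (0, [6, 6, 0]), (0, [5, 3, 6, 1]), (0, [5, 4, 2, 1]), (0, [5, 4, 2]), (0, [0, 6]), (0, [2, 1, 0, 3]), (0, [4, 5, 5]), (0, [1, 0, 0]), (0, [1, 2, 3]), (0, [1, 2, 2]), (0, [6, 0, 4]), (0, [5, 5, 0, 1]), (0, [2, 2, 4]), (0, [0, 1, 2, 3]), (0, [1, 0, 3]), (0, [4, 5, 1, 0]), (0, [2, 6, 6, 0]), (0, [0, 1, 2, 1]), (0, [1, 5, 0, 6]), (0, [5, 1, 5]), (0, [6, 1, 6]), (0, [2, 6, 5, 0]), (0, [4, 4, 1]), (0, [6, 0, 0, 1]), (0, [6, 2, 3]), (0, [0, 5, 3, 0]), (0, [4, 4]), (0, [6, 2]),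 (0, [2, 2, 1]), (0, [5, 3, 0, 5]), (0, [0, 3, 5, 1]), (0, [3, 0, 4, 0]), (0, [0, 6, 6, 0]), (0, [6, 6, 5]), (0, [4]), (0, [4, 3, 3]), (0, [3, 2, 6, 0]), (0, [6, 3, 0]), (0, [6, 4, 4, 4]), (0, [4, 1, 1]), (0, [4, 3]), (0, [2, 4, 5, 3]), (0, [0, 1, 5, 0]), (0, [4, 1]), (0, [6, 4, 0]), (0, [5, 0, 4]), (0, [4, 1, 4, 3]), (0, [4, 2, 6, 0]), (0, [0, 1, 5]), (0, [1, 0, 5]), (0, [1, 4, 2]), (0, [5, 2, 2]), (0, [5, 4, 4]), (0, [2, 3, 3, 0]), (0, [5, 0, 3]), (0, [5, 0, 1]), (0, [5, 6, 0, 0]), (0, [3, 2, 4, 1]), (0, [4, 1, 4]), (0, [5, 0]), (0, [5, 5, 1, 5]), (0, [0, 6, 4]), (0, [3, 2, 4]), (0, [1, 4, 0, 0]), (0, [4, 0, 3, 0]), (0, [3, 6, 6, 0]), (0, [6, 1, 1, 0])]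

set_option maxRecDepth 1000000 in
def base8 : ℕ := 3126435138229385123934183306720465498849568654021550375295

set_option maxRecDepth 1000000 in
def WD8 : List (ℕ × List ℕ) := [(0, [6, 3, 2, 2]), (0, [3, 4, 5, 4]), (0, [2, 4]), (0, [3, 5, 6, 2]), (0, [5, 5, 0, 0]), (0, [5, 3, 2, 4, 0]), (0, [3, 5, 5, 4, 0]), (0, [4, 4, 0, 5]), (0, [3, 6, 1]), (0, [5, 1, 2, 3]), (0, [6, 5, 2, 6]), (0, [3, 5, 6, 6]), (0, [4, 5, 5, 1]), (0, [3, 0, 3, 0]), (0, [0, 4, 1, 4]), (0, [2, 6, 6, 5]), (0, [4, 2, 4, 1]), (0, [5, 1, 0, 1]), (0, [0, 5, 5, 4]), (0, [6, 1, 4, 4]), (0, [3, 4, 0]), (0, [4, 3, 0, 6]), (0, [3, 2, 2, 5]), (0, [4, 5, 1, 1]), (0, [1, 6, 1, 1]), (0, [1, 6, 5, 1]), (0, [4, 3]), (0, [3, 6, 4, 1]), (0, [6, 4, 5]), (0, [1, 5, 0, 4]), (0,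 [6, 5, 4]), (0, [3, 4, 4, 5]), (0, [0, 4, 0, 1]), (0, [6, 5, 2, 2]), (0, [0, 6, 0, 4, 0]), (0, [0, 0, 0]), (0, [2, 5, 3, 0]), (0, [6, 1, 6, 5]), (0, [5, 4, 3, 3]), (0, [6, 4, 6, 4]), (0, [3, 2, 3, 3]), (0, [4, 0, 1, 4]), (0, [4, 2, 1]), (0, [6, 3, 4]), (0, [1, 5, 4, 0, 0]), (0, [2, 1, 0]), (0, [1, 1, 0, 0]), (0, [1, 2, 3, 0, 0]), (0, [5, 3, 3, 0]), (0, [6, 5, 1, 0]), (0, [1, 5, 6]), (0, [2, 1, 5, 1, 0]), (0, [6, 0, 1, 2, 1]), (0, [1, 5, 2]), (0, [5, 3, 6, 5]), (0, [6, 0]), (0, [1, 0, 6, 2]), (0, [3, 2, 1]), (0, [5, 6, 4]), (0, [0, 5, 1, 2]), (0, [4, 4, 4, 6]), (0, [2, 3, 5]), (0, [5, 5, 3, 4, 1]), (0, [1, 4, 4, 3]), (0, [1, 1, 0, 3]), (0, [0, 1, 6, 0]), (0, [6, 2, 3]), (0, [3, 2, 5, 3]), (0, [6, 0, 5, 3]), (0, [4, 1, 6, 0, 0]),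 (0, [3, 6, 3, 6]), (0, [1, 5, 4, 1]), (0, [3, 3]), (0, [2, 3, 3, 5]), (0, [1, 5, 1]), (0, [5, 5]), (0, [0, 6, 0, 3]), (0, [0, 6, 4, 1]), (0, [0, 6, 1]), (0, [2, 6, 4]), (0, [5, 6, 2, 6]), (0, [5, 3, 5]), (0, [0, 0, 3, 0]), (0, [6, 1, 1, 0]), (0, [1, 2, 6, 2]), (0, [6, 1, 4]), (0, [0, 1, 2, 4]), (0, [4, 1, 5, 0, 1]), (0, [6, 2, 2, 1]), (0, [6, 0, 1]), (0, [3, 2, 4, 1]), (0, [5, 0, 5, 5]), (0, [6, 4, 1, 2, 3]), (0, [1, 4, 6, 0]), (0, [3, 5, 5, 1]), (0, [6, 4, 5, 0, 0]), (0, [3, 5, 6, 0]), (0, [3, 3, 0]), (0, [4, 1, 5, 1]), (0, [4, 1, 2, 1, 2]), (0, [5, 2, 2, 4]), (0, [5, 2, 6, 0]), (0, [1, 0, 4, 1]), (0, [1, 1, 2, 6]), (0, [3, 0, 6, 3]), (0, [5, 0, 0]), (0, [3, 5, 2, 1, 0]), (0, [6, 5, 1, 1, 2]), (0, [1, 2, 3]), (0, [5, 0, 3, 4]),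 (0, [0, 5, 2, 2, 1]), (0, [1, 0, 1]), (0, [2, 4, 0, 3, 0]), (0, [6, 3, 3, 6]), (0, [6, 6, 6, 0]), (0, [2, 5, 0, 5]), (0, [6, 3, 6, 3]), (0, [1, 5, 2, 3, 0]), (0, [5, 2, 4, 3]), (0, [3, 4, 1, 0]), (0, [6, 4, 6, 1]), (0, [1, 1, 2, 2]), (0, [3, 6, 5]), (0, [3, 2, 4, 0]), (0, [0, 3, 6]), (0, [2, 1, 4, 3]), (0, [6, 6, 5, 3, 0]), (0, [6, 5]), (0, [2, 6, 0, 3]), (0, [4, 4]), (0, [2, 5, 1, 6]), (0, [0, 6, 3]), (0, [1, 4, 5, 5]), (0, [1, 1, 5, 6, 3]), (0, [1, 4, 3, 3]), (0, [2, 4, 5, 4]), (0, [0, 4, 6]), (0, [5, 2, 1, 0]), (0, [3, 5, 1, 0]), (0, [2, 5, 2, 5, 1]), (0, [3, 3, 2, 2]), (0, [3, 5, 4]), (0, [0, 6, 2, 1]), (0, [5, 3, 4, 2, 1]), (0, [0, 0, 5]), (0, [2, 2, 4, 0]), (0, [5, 1, 0, 0]), (0, [0, 4, 2, 6, 1]), (0, [2, 2, 6, 1]), (0,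 [1, 6, 4, 3]), (0, [5, 5, 0, 4]), (0, [5, 5, 2]), (0, [4, 0, 1, 0]), (0, [4, 1, 4, 6]), (0, [0, 4, 3, 0]), (0, [5, 4, 4, 4, 0]), (0, [5, 1, 2]), (0, [2, 5, 6, 4]), (0, [5, 4, 5, 6]), (0, [6, 5, 2, 4, 1]), (0, [3, 4, 2, 1, 1]), (0, [4, 1, 4, 4]), (0, [3, 4, 1, 2]), (0, [1, 4, 2, 1]), (0, [4, 5, 0, 0]), (0, [5, 5, 5, 2]), (0, [0, 0, 3]), (0, [6, 3, 0, 0]), (0, [1, 6, 4, 4]), (0, [4, 0, 6, 3]), (0, [2, 4, 0, 4]), (0, [1, 6, 6]), (0, [4, 6, 3, 5]), (0, [1, 6, 0, 0]), (0, [0, 4, 1, 0, 0]), (0, [6, 6, 0, 3]), (0, [0, 3]), (0, [1, 6, 2, 1]), (0, [6, 2, 1, 1]), (0, [1, 0, 0, 3, 0]), (0, [2, 4, 0, 0, 0]), (0, [5, 2, 6, 3]), (0, [0, 3, 4, 1]), (0, [5, 0, 0, 4]), (0, [2, 6, 3, 0, 0]), (0, [6, 4, 5, 3, 0]), (0, [6, 4, 1, 1]), (0, [4, 4, 5,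 2]), (0, [1, 0, 0, 1, 0]), (0, [1, 2, 6, 0]), (0, [5, 4, 5, 4, 0]), (0, [4, 0, 1]), (0, [0, 3, 4, 3]), (0, [6, 1, 5, 2]), (0, [2, 1, 0, 1]), (0, [5, 2, 2, 1]), (0, [4, 1, 6, 1, 1]), (0, [0, 0, 6]), (0, [2, 4, 4, 4]), (0, [0, 6, 3, 4]), (0, [5, 4, 5]), (0, [4, 2, 6, 2]), (0, [5, 1, 1]), (0, [3, 5, 6, 5]), (0, [5, 5, 2, 2]), (0, [0, 5, 6]), (0, [0, 0, 1, 2]), (0, [6, 2, 1, 0]), (0, [6, 3, 2, 1, 0]), (0, [5, 6, 4, 5, 2]), (0, [6, 4, 4, 3]), (0, [5, 0, 4, 6]), (0, [3, 6, 0, 4, 0]), (0, [2, 3, 2, 5]), (0, [1, 0, 0]), (0, [4, 0, 5, 4, 0]), (0, [6, 4, 0, 4]), (0, [3, 3, 2]), (0, [2, 3, 6]), (0, [6, 6, 0, 0]), (0, [5, 0, 4, 1]), (0, [0, 1, 6]), (0, [5, 3, 0, 3]), (0, [6, 2, 4, 4, 0]), (0, [3, 0, 0, 0]), (0, [1, 0, 0, 6]), (0, [0, 4, 0,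 0]), (0, [3, 4, 4, 0, 0]), (0, [6, 1, 0, 1]), (0, [5, 2]), (0, [0, 5, 2]), (0, [1, 0, 1, 6, 0]), (0, [1, 6]), (0, [4, 0, 0, 0]), (0, [3, 5, 4, 4]), (0, [1, 0, 0, 4]), (0, [6, 6, 2, 2, 1]), (0, [5, 3, 3]), (0, [6, 2, 6, 0]), (0, [3, 6, 5, 4]), (0, [2, 6, 6, 2]), (0, [4, 1, 4]), (0, [6, 1, 2]), (0, [4, 3, 6, 0]), (0, [6, 0, 6, 5]), (0, [6, 0, 0, 1, 0]), (0, [4, 5, 4, 0]), (0, [3, 2, 5, 4]), (0, [1, 2, 6]), (0, [6, 1, 4, 0]), (0, [1, 5, 4, 1, 0]), (0, [6, 4, 3, 2]), (0, [5, 1, 0, 5]), (0, [6, 3, 5, 2]), (0, [2, 1, 2]), (0, [0, 0, 6, 1]), (0, [6, 1, 0, 3]), (0, [5, 3, 0, 0]), (0, [5, 2, 3, 3, 0]), (0, [5, 5, 6, 4]), (0, [2, 3, 5, 1]), (0, [2, 3, 0, 0]), (0, [1, 4, 6, 1, 0]), (0, [6, 4, 5, 1]), (0, [2, 5, 5, 2, 1]), (0, [4, 4, 0]),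 (0, [0, 1, 5, 5, 1]), (0, [2, 1, 1, 6]), (0, [0, 5, 3, 0]), (0, [5, 3, 4]), (0, [6, 6]), (0, [6, 4, 0, 4, 1]), (0, [5, 0, 3]), (0, [0, 5, 5]), (0, [1, 5, 6, 0, 1]), (0, [6, 6, 3, 6, 0]), (0, [6, 6, 1, 4]), (0, [5, 2, 2]), (0, [6, 4, 3, 3]), (0, [6, 4, 1, 4, 5]), (0, [5, 2, 5, 5, 2]), (0, [6, 4, 2, 3]), (0, [0, 3, 4, 3, 0]), (0, [3, 4]), (0, [3, 0, 5, 3]), (0, [1, 1, 6, 0]), (0, [4, 0, 1, 2]), (0, [4, 5, 6]), (0, [0]), (0, [2, 1, 1, 2]), (0, [5, 1, 0, 3]), (0, [3, 2, 6, 5]), (0, [6, 0, 6, 2]), (0, [2, 4, 0, 0]), (0, [4, 1, 2, 2]), (0, [1, 0, 4, 0]), (0, [5, 1, 6]), (0, [0, 0, 6, 3]), (0, [0, 6, 5]), (0, [5, 6, 2]), (0, [0, 3, 0]), (0, [1, 6, 3, 0]), (0, [4, 1, 0, 1]), (0, [0, 1, 6, 1, 2]), (0, [5, 3, 3, 2]), (0, [5, 3, 3, 6]),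 (0, [4, 0, 0, 5]), (0, [5, 3, 5, 1]), (0, [4, 6, 1, 2]), (0, [2, 4, 5, 1]), (0, [1, 4, 6, 6]), (0, [1, 6, 4, 1]), (0, [6, 6, 2, 1]), (0, [3, 2, 3, 6]), (0, [4, 1, 6, 1]), (0, [6, 3, 4, 1]), (0, [0, 3, 2, 2]), (0, [6, 4, 1, 0, 0]), (0, [3, 6, 3]), (0, [3, 6, 2, 4, 0]), (0, [4, 3, 6, 3]), (0, [3, 2, 3]), (0, [0, 3, 0, 1]), (0, [5, 0, 6, 1]), (0, [1, 0, 3]), (0, [3, 4, 1, 6, 1]), (0, [1, 6, 0, 5, 1]), (0, [2, 5, 0, 4]), (0, [1, 6, 2, 3]), (0, [3, 0, 0, 5]), (0, [4, 6, 3, 3, 0]), (0, [3, 2, 2, 1]), (0, [0, 1, 6, 3]), (0, [4, 5, 4, 0, 0]), (0, [5, 5, 6, 3]), (0, [6, 5, 5, 4]), (0, [5, 3, 2, 3]), (0, [4, 2, 1, 0, 0]), (0, [3, 6, 4, 5]), (0, [2, 3, 4, 0]), (0, [6, 2, 6, 3]), (0, [4, 2, 5, 3, 0]), (0, [2, 4, 3, 0]), (0, [5, 1, 5, 1]),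 (0, [2, 1]), (0, [5, 4, 5, 4]), (0, [6, 2, 6, 1]), (0, [4, 2, 1, 1]), (0, [6, 3, 4, 0]), (0, [0, 1]), (0, [3, 5, 2, 6, 0]), (0, [4, 6, 5]), (0, [5, 0, 5, 0, 0]), (0, [0, 1, 0, 5]), (0, [3, 5, 6, 4]), (0, [2, 5, 2, 3, 0]), (0, [2]), (0, [4, 4, 4, 4]), (0, [6, 0, 0]), (0, [3, 3, 0, 1]), (0, [4, 2, 6, 0, 0]), (0, [1, 2, 5]), (0, [6, 2]), (0, [2, 6, 0]), (0, [3, 4, 0, 1]), (0, [0, 0, 1, 0]), (0, [4, 2, 4, 0]), (0, [0, 5, 5, 1]), (0, [0, 3, 5, 3, 0]), (0, [6, 4, 0, 0]), (0, [1, 1, 6, 2]), (0, [1, 6, 2, 6]), (0, [1, 1, 6, 5]), (0, [2, 3, 0, 3]), (0, [6, 5, 1, 4, 1]), (0, [6, 3, 0, 6]), (0, [3, 0, 3, 0, 1]), (0, [6, 2, 3, 5, 1]), (0, [4, 3, 5, 6, 1]), (0, [2, 6, 6, 4]), (0, [4, 3, 4]), (0, [0, 3, 3, 2, 2]), (0, [5, 0, 5, 1]), (0, [2,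 1, 5, 1]), (0, [2, 6, 0, 1]), (0, [1, 1, 0]), (0, [4, 6, 4, 6, 1]), (0, [5, 3, 2]), (0, [1, 5, 4, 0]), (0, [4, 5, 6, 0]), (0, [6, 6, 3, 2, 1]), (0, [2, 1, 2, 3]), (0, [5, 2, 6]), (0, [6, 4, 0, 4, 0]), (0, [2, 1, 6, 1]), (0, [5, 3, 3, 4]), (0, [4, 4, 5, 0, 0]), (0, [5, 1, 6, 0]), (0, [5, 4, 1]), (0, [5, 0, 0, 1]), (0, [3, 0, 0, 3]), (0, [2, 6, 1, 4, 1]), (0, [0, 0, 4]), (0, [1, 6, 0, 1]), (0, [4, 1, 4, 0]), (0, [1, 1, 2, 1]), (0, [2, 4, 6, 0]), (0, [4, 6, 1]), (0, [1, 4, 6, 3]), (0, [2, 2, 6, 0]), (0, [3, 6, 2, 6]), (0, [0, 4, 1, 2]), (0, [0, 1, 0]), (0, [2, 6, 0, 0]), (0, [4, 4, 3]), (0, [0, 3, 0, 3, 0]), (0, [6, 3, 5, 3]), (0, [0, 1, 6, 5]), (0, [2, 5, 5, 2]), (0, [2, 4, 0, 1, 0]), (0, [6, 1, 0]), (0, [3, 0, 1, 2]), (0, [0, 1,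 4, 5]), (0, [3, 5, 6]), (0, [2, 4, 1]), (0, [2, 6, 2]), (0, [2, 2]), (0, [5, 0, 5, 4, 0]), (0, [5, 6, 5, 3]), (0, [1, 0, 5]), (0, [2, 4, 6, 5]), (0, [6, 1, 6, 6]), (0, [1, 6, 4, 6]), (0, [6, 6, 0, 5]), (0, [1, 2, 1, 1]), (0, [5, 2, 3]), (0, [0, 5, 6, 1]), (0, [5, 6, 6, 6]), (0, [6, 3, 0]), (0, [2, 2, 1, 0]), (0, [4, 4, 5, 6]), (0, [0, 1, 1, 4]), (0, [5, 4, 3, 5]), (0, [3, 3, 5, 1]), (0, [6, 6, 3]), (0, [1, 4, 0, 0]), (0, [3, 0, 4, 0]), (0, [4, 6, 2, 6]), (0, [3, 4, 2, 1]), (0, [4, 1, 0, 1, 0]), (0, [2, 5, 6, 3]), (0, [6, 1, 2, 1]), (0, [1, 6, 0, 3]), (0, [2, 6, 5, 2]), (0, [3, 4, 6, 3]), (0, [1, 5, 3, 6, 0]), (0, [6, 4, 5, 2]), (0, [4, 2, 2, 5]), (0, [6, 1, 0, 6]), (0, [2, 6, 6, 3]), (0, [2, 4, 0, 5]), (0, [2, 4, 3, 3]), (0, [5,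 6, 3, 3, 0]), (0, [4, 4, 4, 0]), (0, [3, 2, 4, 3]), (0, [4, 2, 1, 2]), (0, [6, 1, 6, 3]), (0, [0, 1, 0, 1]), (0, [5, 4, 5, 1]), (0, [3, 6, 3, 4]), (0, [1, 4, 6, 4]), (0, [3, 0, 6]), (0, [3, 3, 2, 3]), (0, [0, 0, 1, 2, 1]), (0, [6, 2, 3, 0]), (0, [4, 0, 3, 0]), (0, [4, 5, 3, 4, 0]), (0, [5, 4, 0, 3]), (0, [6, 5, 1, 2]), (0, [1, 4, 6]), (0, [5, 6, 1]), (0, [4, 4, 6]), (0, [1, 2, 5, 4]), (0, [5, 0, 4]), (0, [0, 3, 0, 3]), (0, [5, 3, 4, 1]), (0, [1, 2, 5, 2, 2]), (0, [2, 2, 6, 3, 3]), (0, [2, 4, 0]), (0, [4, 5, 6, 5]), (0, [3, 4, 5]), (0, [3, 3, 2, 6]), (0, [4, 1, 0]), (0, [4, 5, 3, 0]), (0, [5, 3, 4, 0]), (0, [5, 3, 6, 1]), (0, [1, 4, 6, 0, 1]), (0, [0, 6, 6, 0, 0]), (0, [6, 6, 3, 2]), (0, [3, 3, 6, 2]), (0, [6, 0, 1, 4]), (0, [2,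 1, 1, 0, 1]), (0, [3, 3, 6, 6]), (0, [1, 6, 3, 4]), (0, [4, 4, 3, 5]), (0, [0, 4, 1, 0]), (0, [1, 4, 3]), (0, [4, 3, 2, 6]), (0, [3, 3, 6, 5]), (0, [1, 1, 4, 5]), (0, [0, 5, 3]), (0, [3, 4, 6, 1]), (0, [3, 4, 4, 6]), (0, [5, 0, 0, 3]), (0, [0, 1, 2]), (0, [2, 4, 0, 1]), (0, [3, 4, 3]), (0, [6, 6, 3, 5]), (0, [3, 6, 5, 5]), (0, [5, 4, 4, 3]), (0, [2, 1, 6, 0, 0]), (0, [1, 4, 4]), (0, [1, 6, 1, 0]), (0, [5, 6]), (0, [1, 2, 4, 1]), (0, [0, 5, 5, 2, 1]), (0, [1, 5, 2, 1]), (0, [5, 6, 6, 4]), (0, [0, 5, 4]), (0, [2, 5, 4]), (0, [6, 3, 6, 2]), (0, [4, 4, 5, 4]), (0, [1, 6, 4]), (0, [3, 3, 2, 4]), (0, [3, 5, 5, 1, 0]), (0, [3, 3, 5, 3]), (0, [0, 6, 4, 3]), (0, [0, 3, 2, 1]), (0, [3, 5, 4, 1]), (0, [4, 4, 2, 3]), (0, [1, 2, 1]), (0, [0,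 3, 5]), (0, [0, 0, 5, 1]), (0, [6, 3, 0, 1]), (0, [3, 5, 4, 0]), (0, [2, 1, 0, 0]), (0, [5, 0, 6, 5]), (0, [4, 5, 6, 6]), (0, [5, 5, 2, 4]), (0, [1, 2, 4, 4]), (0, [5, 5, 3, 5]), (0, [3]), (0, [5, 6, 2, 3, 0]), (0, [4]), (0, [3, 3, 6, 0]), (0, [4, 3, 4, 3, 0]), (0, [2, 2, 5, 3]), (0, [4, 1, 1, 4]), (0, [2, 3, 2]), (0, [1, 4, 1]), (0, [5, 3, 3, 5, 1]), (0, [1, 0, 6]), (0, [1, 5, 1, 0]), (0, [6, 4, 6]), (0, [4, 6, 4, 6, 0]), (0, [3, 0, 6, 2]), (0, [3, 4, 2, 3]), (0, [4, 4, 2, 4]), (0, [5, 1, 1, 2]), (0, [5, 0, 5, 6]), (0, [2, 1, 1, 0, 0]), (0, [6, 3, 2]), (0, [6, 1, 1, 0, 0]), (0, [1, 0, 5, 1]), (0, [1, 5, 6, 0]), (0, [6, 5, 0, 0]), (0, [6, 1, 4, 1]), (0, [3, 6, 0, 1, 0]), (0, [5, 0, 1]), (0, [4, 6, 0]), (0, [0, 5, 4, 1]), (0, [2,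 2, 5]), (0, [6, 4, 4, 1]), (0, [1, 2, 2]), (0, [1, 6, 4, 0, 0]), (0, [4, 6, 3]), (0, [3, 6, 5, 6]), (0, [1, 2, 2, 4]), (0, [4, 2, 2, 1]), (0, [1, 2, 5, 3]), (0, [3, 4, 5, 1]), (0, [1, 0, 4, 6]), (0, [2, 1, 4]), (0, [0, 1, 0, 0]), (0, [3, 4, 5, 6, 0]), (0, [3, 2, 5]), (0, [3, 6, 5, 1, 0]), (0, [1, 0, 4, 3, 0]), (0, [1, 5, 6, 2]), (0, [6, 3, 6, 0, 0]), (0, [0, 1, 2, 1]), (0, [4, 3, 5, 5]), (0, [3, 4, 6]), (0, [5, 6, 3, 0, 0]), (0, [3, 0, 6, 1]), (0, [0, 6, 6, 6]), (0, [4, 0, 6]), (0, [6, 2, 6, 4]), (0, [5, 6, 1, 2]), (0, [6, 5, 1]), (0, [4, 6, 4, 1]), (0, [4, 6]), (0, [3, 0, 1, 0]), (0, [5, 3, 2, 1, 0]), (0, [4, 4, 5]), (0, [1, 4]), (0, [2, 6, 3, 2]), (0, [4, 3, 0]), (0, [2, 5, 0, 0]), (0, [5, 5, 4, 1, 0]), (0, [0, 3, 2, 3]), (0,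 [2, 3, 6, 1]), (0, [1, 4, 3, 2, 2]), (0, [5, 0, 4, 0]), (0, [0, 4, 2, 1, 1]), (0, [5, 1, 6, 1]), (0, [6, 0, 0, 5]), (0, [2, 1, 4, 1]), (0, [5, 4, 4, 1]), (0, [3, 5, 3, 0]), (0, [1]), (0, [5, 5, 1]), (0, [4, 2, 6, 5]), (0, [5, 0, 5, 1, 1]), (0, [3, 6, 0]), (0, [5, 4, 6, 1, 0]), (0, [5, 4, 4, 4]), (0, [1, 4, 1, 0]), (0, [6, 6, 3, 0]), (0, [5, 5, 6, 0]), (0, [1, 2, 5, 1]), (0, [6, 5, 4, 1]), (0, [5, 1, 1, 0, 1]), (0, [4, 1, 1]), (0, [4, 3, 2, 2]), (0, [5, 5, 0, 5]), (0, [4, 1, 6, 6, 2]), (0, [5, 2, 6, 1]), (0, [3, 5, 6, 1]), (0, [4, 3, 0, 5, 2]), (0, [6, 6, 5, 6, 0]), (0, [6, 3, 2, 1]), (0, [5, 4, 0]), (0, [5, 4, 0, 4]), (0, [0, 5, 0, 4]), (0, [4, 0, 5]), (0, [1, 5, 3, 2]), (0, [1, 0, 0, 3]), (0, [2, 3, 6, 3]), (0, [6, 6, 3, 4, 0]),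 (0, [3, 2, 6, 1]), (0, [4, 1, 5, 4, 1]), (0, [3, 4, 4]), (0, [0, 5, 0, 1]), (0, [5, 2, 3, 4, 0]), (0, [4, 6, 1, 1, 0]), (0, [5, 6, 3, 3]), (0, [4, 0, 4, 0]), (0, [3, 0, 0, 6]), (0, [5, 1, 5, 6]), (0, [5, 6, 3, 4]), (0, [2, 5, 1, 2]), (0, [5, 5, 5, 0, 0]), (0, [6, 6, 4]), (0, [5, 2, 4]), (0, [6, 2, 4, 3, 0]), (0, [6, 6, 1, 0]), (0, [6, 3]), (0, [3, 0, 4]), (0, [1, 4, 6, 1]), (0, [2, 4, 4]), (0, [1, 6, 2, 4]), (0, [3, 4, 0, 0]), (0, [3, 0, 5, 2]), (0, [1, 5, 5, 0, 0]), (0, [5, 2, 4, 6, 0]), (0, [5, 5, 4, 5, 4]), (0, [4, 1, 2, 3]), (0, [0, 4, 5, 3]), (0, [6, 1, 6, 1]), (0, [2, 2, 1]), (0, [3, 6, 6, 0]), (0, [1, 1, 2]), (0, [5, 5, 3, 2]), (0, [2, 3, 3, 0]), (0, [2, 4, 5, 2]), (0, [1, 5, 2, 4]), (0, [6, 6, 5, 2]), (0, [6, 6, 1, 6]),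 (0, [0, 3, 4]), (0, [3, 3, 4, 1]), (0, [5, 5, 2, 1]), (0, [3, 2, 4, 3, 0]), (0, [6, 5, 6, 0]), (0, [4, 2, 6, 0]), (0, [5, 2, 6, 2]), (0, [6, 4, 3]), (0, [6, 6, 1, 2]), (0, [3, 0, 0]), (0, [2, 1, 4, 4]), (0, [1, 2]), (0, [1, 2, 3, 3, 0]), (0, [4, 4, 1, 4, 0]), (0, [3, 5, 1]), (0, [6, 4, 6, 0]), (0, [4, 2, 4, 6, 0]), (0, [5, 3, 2, 1]), (0, [0, 5, 1, 0, 3]), (0, [0, 0]), (0, [1, 5, 6, 4]), (0, [4, 5, 0, 4]), (0, [3, 3, 6, 2, 1]), (0, [3, 5, 1, 4]), (0, [6, 0, 1, 4, 0]), (0, [2, 2, 4]), (0, [3, 4, 2, 2, 1]), (0, [4, 4, 6, 0]), (0, [2, 5, 3]), (0, [1, 2, 6, 3]), (0, [2, 4, 2, 6, 1]), (0, [2, 1, 6, 3]), (0, [6, 0, 6, 1]), (0, [0, 4, 2, 4]), (0, [6, 6, 3, 5, 1]), (0, [4, 4, 6, 4, 1]), (0, [5, 0, 3, 0]), (0, [0, 5, 0, 0]), (0, [2, 5,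 4, 5, 4]), (0, [0, 6, 4, 6]), (0, [3, 6, 0, 4]), (0, [6, 0, 4, 0, 1]), (0, [1, 4, 6, 6, 2]), (0, [6, 0, 6, 6, 0]), (0, [2, 6, 3]), (0, [1, 6, 6, 2]), (0, [4, 5, 3, 3]), (0, [6]), (0, [3, 5, 2]), (0, [5, 5, 5]), (0, [1, 4, 5, 3]), (0, [6, 6, 2, 4, 0]), (0, [6, 0, 5, 1]), (0, [1, 1, 6, 3]), (0, [3, 5, 1, 0, 0]), (0, [6, 3, 5, 4]), (0, [3, 2, 2, 4]), (0, [5, 5, 4, 1]), (0, [0, 3, 3, 6]), (0, [6, 4]), (0, [5, 2, 1]), (0, [1, 1, 2, 4]), (0, [6, 4, 1]), (0, [4, 5, 4]), (0, [0, 4, 1]), (0, [4, 0, 4, 6]), (0, [3, 6, 4, 3]), (0, [1, 4, 1, 6, 1]), (0, [2, 5, 3, 2]), (0, [5, 5, 3, 0, 0]), (0, [4, 4, 0, 1]), (0, [5, 5, 1, 2]), (0, [2, 3, 6, 5]), (0, [5, 0, 1, 0]), (0, [5, 6, 5]), (0, [1, 0, 5, 6]), (0, [0, 4, 5, 5]), (0, [2, 5, 4, 0]), (0,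 [3, 6, 5, 6, 0]), (0, [0, 6, 2, 3]), (0, [2, 3, 5, 6]), (0, [2, 1, 1, 0]), (0, [1, 4, 5]), (0, [0, 3, 5, 0, 0]), (0, [5, 6, 3]), (0, [0, 4, 1, 1]), (0, [2, 3, 5, 3]), (0, [4, 6, 6]), (0, [5, 1, 6, 6]), (0, [6, 5, 2]), (0, [6, 0, 1, 6]), (0, [6, 1, 6]), (0, [0, 4, 6, 5]), (0, [6, 2, 1]), (0, [6, 2, 4, 1]), (0, [4, 5, 2, 2]), (0, [6, 5, 2, 1]), (0, [0, 4, 0, 3]), (0, [2, 4, 5, 5]), (0, [1, 1]), (0, [6, 0, 3, 0]), (0, [0, 1, 5, 1]), (0, [3, 5, 4, 5]), (0, [5, 1, 5, 3]), (0, [0, 6, 5, 2]), (0, [4, 5]), (0, [5, 3, 0]), (0, [1, 5, 5, 1]), (0, [1, 4, 3, 0]), (0, [3, 3, 5]), (0, [3, 2, 4]), (0, [5, 5, 1, 0]), (0, [3, 5, 3]), (0, [0, 1, 4, 0]), (0, [6, 0, 6, 3]), (0, [3, 2, 5, 1]), (0, [1, 2, 2, 5]), (0, [1, 6, 6, 5]), (0, [0, 4, 0, 5]),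 (0, [5, 1, 6, 3]), (0, [2, 5, 2, 1]), (0, [3, 3, 6]), (0, [4, 4, 1, 0]), (0, [2, 6, 3, 3]), (0, [3, 3, 4, 3]), (0, [0, 6, 3, 5]), (0, [1, 6, 0, 4]), (0, [0, 6, 2]), (0, [0, 1, 2, 5]), (0, [4, 2, 3]), (0, [4, 0, 5, 1]), (0, [6, 5, 1, 5, 1]), (0, [3, 0, 3]), (0, [4, 4, 5, 6, 0]), (0, [0, 6, 2, 4]), (0, [6, 4, 4]), (0, [2, 3, 5, 5]), (0, [1, 1, 2, 3]), (0, [0, 5, 5, 2]), (0, [4, 5, 4, 1, 0]), (0, [2, 6, 5]), (0, [6, 6, 3, 6]), (0, [6, 2, 5, 3]), (0, [5, 6, 6]), (0, [0, 0, 4, 6]), (0, [0, 5, 2, 1]), (0, [0, 5]), (0, [4, 3, 2]), (0, [4, 6, 4]), (0, [0, 6, 0, 1]), (0, [5, 5, 1, 1]), (0, [5, 0, 0, 6]), (0, [2, 5, 1, 2, 2]), (0, [6, 3, 6, 0]), (0, [5, 2, 4, 1]), (0, [0, 4, 6, 2]), (0, [5, 4, 4]), (0, [3, 2, 2]), (0, [4, 3, 5, 3]), (0,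 [4, 5, 5, 1, 0]), (0, [0, 1, 5, 3]), (0, [0, 6, 4]), (0, [4, 0, 6, 5, 1]), (0, [5, 6, 3, 4, 1]), (0, [5, 5, 3, 5, 1]), (0, [4, 1, 4, 6, 1]), (0, [3, 3, 4, 0]), (0, [1, 1, 6, 1]), (0, [3, 5, 5, 4]), (0, [0, 3, 0, 4, 0]), (0, [6, 5, 6, 2]), (0, [1, 0, 0, 1]), (0, [3, 0, 0, 4]), (0, [5, 2, 2, 6, 1]), (0, [4, 2, 1, 0]), (0, [6, 2, 2]), (0, [1, 0]), (0, [4, 1, 2]), (0, [0, 0, 6, 3, 0]), (0, [3, 3, 0, 3]), (0, [6, 0, 4]), (0, [3, 6, 2, 1]), (0, [6, 2, 2, 4]), (0, [6, 4, 4, 6, 0]), (0, [0, 5, 2, 2]), (0, [1, 0, 0, 0]), (0, [5, 2, 3, 0]), (0, [4, 6, 6, 1, 0]), (0, [1, 5, 0, 1]), (0, [0, 6, 5, 1]), (0, [0, 6, 6, 6, 0]), (0, [2, 6, 1, 4, 0]), (0, []), (0, [3, 4, 3, 0]), (0, [3, 5, 5]), (0, [0, 6, 1, 1, 0]), (0, [0, 6, 4, 4]), (0, [3, 0,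 1, 1, 0]), (0, [1, 5, 0, 3]), (0, [0, 4, 0]), (0, [5, 6, 2, 2]), (0, [1, 6, 5, 6]), (0, [2, 6, 2, 2]), (0, [0, 0, 4, 1, 0]), (0, [1, 2, 1, 2]), (0, [6, 0, 4, 1]), (0, [2, 5]), (0, [1, 0, 1, 2]), (0, [0, 5, 6, 2]), (0, [6, 1, 2, 2]), (0, [1, 0, 1, 6]), (0, [3, 4, 0, 5]), (0, [0, 0, 6, 5]), (0, [4, 2, 3, 5]), (0, [6, 5, 0, 5]), (0, [4, 2, 6, 4]), (0, [2, 6, 6, 0]), (0, [0, 1, 6, 0, 0]), (0, [4, 5, 5]), (0, [3, 0, 4, 6]), (0, [2, 1, 0, 5]), (0, [2, 1, 4, 3, 0]), (0, [1, 0, 5, 2, 1]), (0, [2, 4, 4, 0]), (0, [4, 3, 3]), (0, [3, 4, 3, 5]), (0, [2, 6, 1]), (0, [3, 5, 2, 2]), (0, [4, 1, 5, 1, 0]), (0, [3, 3, 4]), (0, [5, 2, 5, 3, 0]), (0, [0, 3, 0, 4]), (0, [5, 6, 0]), (0, [6, 3, 5]), (0, [0, 1, 1, 6]), (0, [3, 6]), (0, [4, 0, 4]), (0,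 [2, 5, 6, 0]), (0, [0, 0, 3, 5]), (0, [6, 5, 5, 1]), (0, [4, 0]), (0, [1, 2, 1, 0]), (0, [1, 2, 4]), (0, [6, 3, 5, 1]), (0, [2, 3, 3]), (0, [2, 3]), (0, [5, 4, 6]), (0, [4, 3, 2, 4, 0]), (0, [1, 6, 2]), (0, [4, 2, 6, 1]), (0, [3, 4, 3, 6]), (0, [5, 1]), (0, [4, 0, 5, 2]), (0, [3, 5, 0, 3]), (0, [4, 5, 5, 5, 2]), (0, [6, 0, 5]), (0, [5, 6, 0, 1]), (0, [4, 5, 2]), (0, [4, 4, 1]), (0, [3, 5, 6, 3]), (0, [4, 3, 5, 0, 0]), (0, [3, 6, 1, 6]), (0, [6, 6, 0]), (0, [6, 2, 2, 5]), (0, [3, 5]), (0, [5, 3]), (0, [1, 5, 5, 1, 0]), (0, [3, 3, 5, 2, 1]), (0, [4, 3, 4, 0]), (0, [3, 0, 1]), (0, [6, 6, 6, 6]), (0, [0, 6, 1, 1]), (0, [1, 1, 2, 5]), (0, [1, 4, 6, 5]), (0, [6, 3, 2, 3]), (0, [1, 6, 3]), (0, [5, 1, 4, 1]), (0, [2, 1, 0, 3]), (0, [6,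 5, 2, 3]), (0, [5, 3, 4, 6]), (0, [0, 6, 6, 0]), (0, [3, 4, 6, 0]), (0, [6, 2, 4, 0]), (0, [6, 5, 0, 4, 0]), (0, [0, 5, 1]), (0, [5, 1, 2, 2]), (0, [0, 4, 5, 2]), (0, [1, 0, 3, 6]), (0, [0, 6, 0, 5]), (0, [1, 5, 2, 6]), (0, [2, 2, 4, 6]), (0, [6, 0, 4, 0]), (0, [6, 4, 2, 1]), (0, [1, 0, 3, 4, 0]), (0, [3, 5, 0, 0]), (0, [3, 6, 0, 0]), (0, [4, 3, 6]), (0, [1, 2, 6, 1]), (0, [6, 4, 2, 4]), (0, [2, 4, 2, 1]), (0, [3, 4, 0, 3]), (0, [5, 0, 5]), (0, [1, 5, 3]), (0, [4, 6, 2]), (0, [0, 1, 4]), (0, [1, 0, 6, 3, 0]), (0, [2, 4, 3, 2]), (0, [5]), (0, [4, 6, 6, 2]), (0, [3, 5, 2, 1]), (0, [0, 6, 1, 0]), (0, [1, 4, 0, 3]), (0, [2, 3, 4, 1]), (0, [1, 1, 4, 0]), (0, [1, 6, 1]), (0, [4, 1]), (0, [4, 5, 4, 4, 1]), (0, [0, 1, 1, 0]), (0, [6,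 1]), (0, [1, 5, 6, 5]), (0, [4, 4, 4]), (0, [6, 0, 3, 4]), (0, [4, 5, 5, 0, 0]), (0, [1, 6, 5]), (0, [6, 2, 6]), (0, [0, 1, 5, 2]), (0, [1, 0, 1, 0]), (0, [4, 5, 1, 2]), (0, [0, 6, 1, 2]), (0, [5, 4, 3, 2]), (0, [6, 6, 2]), (0, [1, 2, 6, 4]), (0, [5, 6, 5, 0, 0]), (0, [3, 2, 1, 0]), (0, [5, 1, 5, 6, 0]), (0, [5, 1, 4, 3]), (0, [4, 6, 1, 0]), (0, [0, 5, 1, 1]), (0, [4, 3, 5, 6]), (0, [2, 4, 3]), (0, [3, 2, 5, 3, 0]), (0, [0, 4]), (0, [6, 3, 6]), (0, [4, 0, 4, 1, 0]), (0, [4, 0, 3]), (0, [1, 2, 4, 2, 1]), (0, [0, 3, 4, 0]), (0, [1, 4, 0]), (0, [6, 5, 1, 1]), (0, [2, 3, 3, 4]), (0, [2, 6, 6, 1, 0]), (0, [1, 6, 0]), (0, [5, 2, 1, 1]), (0, [2, 1, 0, 4, 0]), (0, [3, 5, 0, 5]), (0, [4, 3, 5, 1, 0]), (0, [6, 5, 6]), (0, [6, 3, 3, 0]),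 (0, [5, 4, 0, 0]), (0, [6, 1, 2, 4, 1]), (0, [4, 5, 1]), (0, [0, 3, 6, 3]), (0, [2, 1, 4, 0]), (0, [5, 5, 4]), (0, [1, 5, 6, 6]), (0, [2, 4, 0, 3]), (0, [4, 5, 4, 5, 1]), (0, [6, 6, 6]), (0, [6, 0, 5, 3, 0]), (0, [3, 4, 0, 6]), (0, [1, 4, 1, 1]), (0, [5, 5, 1, 4]), (0, [5, 2, 4, 6]), (0, [3, 4, 5, 5]), (0, [2, 3, 5, 2]), (0, [2, 6]), (0, [4, 5, 4, 5]), (0, [3, 4, 0, 1, 2]), (0, [2, 2, 6, 3]), (0, [0, 4, 0, 5, 1]), (0, [0, 0, 6, 2]), (0, [6, 5, 3]), (0, [0, 0, 5, 1, 1]), (0, [6, 5, 4, 5]), (0, [4, 1, 6, 4, 1]), (0, [3, 6, 6]), (0, [3, 5, 3, 4]), (0, [1, 2, 4, 0, 1]), (0, [6, 5, 5]), (0, [3, 6, 5, 0, 0]), (0, [4, 3, 3, 4]), (0, [0, 5, 4, 0]), (0, [6, 2, 4]), (0, [5, 1, 5, 2]), (0, [0, 4, 0, 4]), (0, [4, 1, 4, 5]), (0, [5, 3, 6,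 0]), (0, [4, 4, 0, 0]), (0, [5, 3, 3, 4, 0]), (0, [4, 6, 0, 3, 0]), (0, [6, 4, 6, 6]), (0, [3, 4, 3, 3]), (0, [3, 6, 2, 4]), (0, [4, 2, 3, 0]), (0, [6, 5, 3, 0]), (0, [6, 1, 1]), (0, [5, 2, 4, 0]), (0, [4, 2, 2, 4]), (0, [2, 3, 5, 6, 2]), (0, [3, 6, 1, 1, 0]), (0, [5, 4]), (0, [4, 6, 3, 3]), (0, [6, 3, 6, 1]), (0, [1, 6, 1, 2]), (0, [1, 4, 1, 4]), (0, [5, 0, 4, 1, 0]), (0, [5, 2, 3, 2]), (0, [2, 3, 5, 6, 0]), (0, [6, 6, 4, 1]), (0, [4, 0, 5, 2, 1]), (0, [3, 4, 1, 1]), (0, [2, 5, 1]), (0, [4, 3, 6, 2, 1]), (0, [2, 3, 4, 3]), (0, [4, 4, 2, 1, 0]), (0, [2, 3, 0, 4]), (0, [3, 6, 3, 0]), (0, [5, 2, 5, 4]), (0, [0, 3, 2, 4]), (0, [6, 0, 3]), (0, [3, 4, 0, 4, 0]), (0, [2, 4, 6]), (0, [5, 1, 4]), (0, [4, 3, 0, 3]), (0, [3, 6, 4, 5, 2]),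 (0, [6, 3, 4, 3]), (0, [2, 2, 5, 5, 2]), (0, [3, 3, 5, 5]), (0, [4, 0, 3, 4]), (0, [2, 4, 5]), (0, [2, 1, 1]), (0, [5, 2, 5, 1]), (0, [1, 6, 5, 0, 0]), (0, [3, 5, 3, 4, 1]), (0, [2, 5, 2, 2]), (0, [4, 2, 6, 3]), (0, [1, 0, 6, 4]), (0, [6, 6, 5]), (0, [1, 1, 4, 3]), (0, [6, 0, 1, 0]), (0, [3, 5, 2, 3]), (0, [4, 2, 1, 1, 0]), (0, [4, 0, 4, 1]), (0, [1, 5, 6, 3]), (0, [6, 0, 5, 0, 0]), (0, [4, 6, 0, 1]), (0, [1, 1, 4]), (0, [1, 1, 0, 1]), (0, [3, 0]), (0, [5, 0, 0, 0]), (0, [3, 2]), (0, [1, 4, 4, 0]), (0, [2, 3, 0]), (0, [6, 6, 5, 0, 0]), (0, [3, 4, 6, 2]), (0, [2, 5, 1, 1]), (0, [1, 5, 2, 3]), (0, [3, 6, 0, 4, 1]), (0, [0, 1, 6, 1]), (0, [3, 3, 5, 0, 0]), (0, [3, 4, 1]), (0, [5, 3, 5, 5]), (0, [4, 1, 0, 0]), (0, [5, 1, 2, 1]), (0,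 [3, 5, 3, 3, 0]), (0, [3, 6, 3, 3]), (0, [3, 2, 3, 0]), (0, [3, 2, 4, 0, 0]), (0, [5, 4, 1, 0]), (0, [2, 6, 4, 5]), (0, [2, 6, 1, 1]), (0, [5, 1, 0]), (0, [0, 0, 1, 6, 0]), (0, [5, 4, 1, 2]), (0, [0, 6]), (0, [2, 2, 6, 5]), (0, [4, 2, 4]), (0, [4, 3, 5]), (0, [4, 5, 3]), (0, [3, 2, 6, 3]), (0, [2, 3, 4, 4]), (0, [2, 4, 1, 2]), (0, [0, 6, 3, 0]), (0, [0, 6, 6, 4]), (0, [2, 3, 0, 6]), (0, [4, 5, 5, 2]), (0, [0, 6, 3, 2]), (0, [6, 2, 5, 1]), (0, [3, 5, 5, 2]), (0, [0, 0, 5, 5]), (0, [6, 6, 6, 0, 0]), (0, [3, 2, 3, 2]), (0, [6, 1, 4, 5]), (0, [6, 3, 3]), (0, [5, 0, 1, 2]), (0, [1, 5, 4, 4]), (0, [4, 2, 1, 4, 3]), (0, [3, 6, 2]), (0, [5, 3, 6, 3, 0]), (0, [2, 1, 5, 3]), (0, [6, 6, 3, 4]), (0, [1, 1, 6, 1, 0]), (0, [6, 3, 4, 1, 0]),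 (0, [6, 4, 1, 0]), (0, [1, 4, 3, 2]), (0, [3, 6, 0, 1]), (0, [0, 0, 1]), (0, [2, 4, 3, 4]), (0, [5, 5, 4, 0]), (0, [1, 1, 6]), (0, [1, 6, 1, 6]), (0, [4, 0, 0]), (0, [1, 4, 5, 4]), (0, [1, 1, 5, 1]), (0, [0, 6, 6]), (0, [1, 0, 5, 2]), (0, [2, 1, 6, 5]), (0, [5, 3, 0, 1, 0]), (0, [2, 4, 2, 6, 0]), (0, [0, 4, 3, 3]), (0, [5, 6, 1, 1]), (0, [3, 2, 6]), (0, [4, 6, 4, 3])]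

/-- coordinates of the root `(-4, 4, 0^22)` -/
def r0L : List ℤ := [-4, 4, 0, 0, 0, 0, 0, 0, 0, 0, 0, 0, 0, 0, 0, 0, 0, 0, 0, 0, 0, 0, 0, 0]
def r0C : List ℤ := [-1, 1, 0, 0, 0, 0, 0, 0, 0, 0, 0, 0, 0, 0, 0, 0, 0, 0, 0, 0, 0, 0, 0, 0]
def r0P : ℕ := 3150858910311745638317572730080710985337652928985868305532

/-- the packed points: those of the list of `Co3Data` orthogonal to `v0` -/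
def X2P : List ℕ := Co3.XcP.filter fun n => Nat.beq (dig n 0 + dig n 1) 256

/-- the classes by the scalar product with the root -/
def C0P : List ℕ := X2P.filter fun n => Nat.beq (dig n 0) (dig n 1)
def C16P : List ℕ := X2P.filter fun n => Nat.beq (dig n 0 + 4) (dig n 1)
def C8P : List ℕ := X2P.filter fun n => Nat.beq (dig n 0 + 2) (dig n 1)

set_option maxRecDepth 1000000 in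
theorem tree2_check : checkTree McL.famG.tabs SL2 SC2 [0] steps2 = true := by decide +kernel

set_option maxRecDepth 1000000 in
theorem tree2_all : (List.range SL2.length).all (fun i => (0 :: steps2.map (·.1)).contains i) = true := by
  decide +kernel

set_option maxRecDepth 1000000 in
theorem SL2_head : SL2.getD 0 [] = r0L ∧ unpack r0P = r0L := by decide +kernel

set_option maxRecDepth 1000000 in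
theorem X2P_length : X2P.length = 2025 := by decide +kernel

set_option maxRecDepth 1000000 in
theorem words2_check : checkW3 McL.perms22 SL2P X2P W2 = true := by decide +kernel

set_option maxRecDepth 1000000 in
theorem perms22_fix : McL.perms22.all (fun d => permL d r0L == r0L) = true := by decide +kernel

set_option maxRecDepth 1000000 in
theorem C_lengths : C0P.length = 330 ∧ C16P.length = 462 ∧ C8P.length = 1232 := by decide +kernel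

set_option maxRecDepth 1000000 in
theorem bases_mem : base0 ∈ C0P ∧ base16 ∈ C16P ∧ base8 ∈ C8P := by decide +kernel

set_option maxRecDepth 1000000 in
theorem wordsD0_check : checkW3 McL.perms22 [base0] C0P WD0 = true := by decide +kernel

set_option maxRecDepth 1000000 in
theorem wordsD16_check : checkW3 McL.perms22 [base16] C16P WD16 = true := by decide +kernel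

set_option maxRecDepth 1000000 in
theorem wordsD8_check : checkW3 McL.perms22 [base8] C8P WD8 = true := by decide +kernel

end Cfsg.Agent.Lib.Helper27.M2025
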