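import Cfsg.Agent.Lib.Helper27.McLCert

set_option autoImplicit false

/-!
The McLaughlin configuration in the Leech lattice: the 275 points attached to `u0 = (5, 1^23)` and
`v0 = (4, 4, 0^22)`, transitivity of the joint stabiliser on them, and rank 3.
-/

namespace Cfsg.Agent.Lib.Helper27.McL

open Cfsg Cfsg.Agent.Lib.Conway Cfsg.Agent.Lib.Helper93.Leech Cfsg.Agent.Lib.Helper93.Golay
open Cfsg.Agent.Lib.Golay.LeechBasis Cfsg.Agent.Lib.Helper27.LL
open Cfsg.Agent.Lib.Helper26 (PermData)
open scoped Pointwise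

set_option maxRecDepth 100000 in
theorem u0_cond : LeechCond (vecL u0L) 1 := by decide +kernel
set_option maxRecDepth 100000 in
theorem v0_cond : LeechCond (vecL v0L) 0 := by decide +kernel
set_option maxRecDepth 100000 in
theorem x0_cond : LeechCond (vecL x0L) 0 := by decide +kernel

/-- the vector `(5, 1^23)` -/
def U0 : leechLattice := ⟨vecL u0L, mem_of_leechCond u0_cond⟩
/-- the vector `(4, 4, 0^22)` -/
def V0 : leechLattice := ⟨vecL v0L, mem_of_leechCond v0_cond⟩
/-- the vector `(4, 0, 4, 0^21)` -/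
def X0 : leechLattice := ⟨vecL x0L, mem_of_leechCond x0_cond⟩

theorem U0_coe : (U0 : Vec) = vecL u0L := rfl
theorem V0_coe : (V0 : Vec) = vecL v0L := rfl
theorem X0_coe : (X0 : Vec) = vecL x0L := rfl

/-- the stabiliser of `U0` and `V0` -/
def K : Subgroup Co0 := MulAction.stabilizer Co0 U0 ⊓ MulAction.stabilizer Co0 V0

/-- the stabiliser of `U0`, `V0` and `X0` -/
def KX : Subgroup Co0 := K ⊓ MulAction.stabilizer Co0 X0

theorem mem_K {g : Co0} : g ∈ K ↔ g • U0 = U0 ∧ g • V0 = V0 := by
  simp [K, Subgroup.mem_inf, MulAction.mem_stabilizer_iff]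

theorem mem_KX {g : Co0} : g ∈ KX ↔ g • U0 = U0 ∧ g • V0 = V0 ∧ g • X0 = X0 := by
  simp [KX, Subgroup.mem_inf, MulAction.mem_stabilizer_iff, mem_K, and_assoc]

theorem fix_tab (T T' : List (List ℤ)) (h : TabOK T T') (hT : T ∈ [G1Tab, G2Tab, H1Tab, H2Tab]) :
    genOf T T' h ∈ K := by
  have := List.all_eq_true.mp fix_check T hT
  rw [Bool.and_eq_true] at this
  exact mem_K.mpr ⟨genOf_step h this.1 U0_coe U0_coe, genOf_step h this.2 V0_coe V0_coe⟩

theorem fixX_tab (T T' : List (List ℤ)) (h : TabOK T T') (hT : T ∈ [H1Tab, H2Tab]) :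
    genOf T T' h ∈ KX := by
  have h1 := fix_tab T T' h (by
    simp only [List.mem_cons, List.not_mem_nil, or_false] at hT ⊢
    rcases hT with rfl | rfl
    · exact Or.inr (Or.inr (Or.inl rfl))
    · exact Or.inr (Or.inr (Or.inr rfl)))
  have := List.all_eq_true.mp fixH_check T hT
  exact Subgroup.mem_inf.mpr ⟨h1, MulAction.mem_stabilizer_iff.mpr (genOf_step h this X0_coe X0_coe)⟩

theorem famG_mem : ∀ g ∈ famG.gens, g ∈ K := by
  intro g hg
  simp only [famG, List.mem_cons, List.not_mem_nil, or_false] at hg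
  rcases hg with rfl | rfl
  · exact fix_tab _ _ _ (by simp)
  · exact fix_tab _ _ _ (by simp)

theorem famH_mem : ∀ g ∈ famH.gens, g ∈ KX := by
  intro g hg
  simp only [famH, List.mem_cons, List.not_mem_nil, or_false] at hg
  rcases hg with rfl | rfl
  · exact fixX_tab _ _ _ (by simp)
  · exact fixX_tab _ _ _ (by simp)

theorem perms22_mem : ∀ d ∈ perms22, ∃ g ∈ K, ∀ (xl : List ℤ) (v : leechLattice),
    (v : Vec) = vecL xl → ((g • v : leechLattice) : Vec) = vecL (permL d xl) := by
  intro d hd
  have := List.all_eq_true.mp perms22_check d hd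
  simp only [Bool.and_eq_true, beq_iff_eq] at this
  obtain ⟨⟨h1, h2⟩, h3⟩ := this
  refine ⟨monoP d h1, mem_K.mpr ⟨?_, ?_⟩, fun xl v hv => monoP_smul d h1 hv⟩
  · exact Subtype.ext (by rw [monoP_smul d h1 U0_coe, h2]; rfl)
  · exact Subtype.ext (by rw [monoP_smul d h1 V0_coe, h3]; rfl)

theorem perms21_mem : ∀ d ∈ perms21, ∃ g ∈ KX, ∀ (xl : List ℤ) (v : leechLattice),
    (v : Vec) = vecL xl → ((g • v : leechLattice) : Vec) = vecL (permL d xl) := by
  intro d hd
  have := List.all_eq_true.mp perms21_check d hd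
  simp only [Bool.and_eq_true, beq_iff_eq] at this
  obtain ⟨⟨⟨h1, h2⟩, h3⟩, h4⟩ := this
  refine ⟨monoP d h1, mem_KX.mpr ⟨?_, ?_, ?_⟩, fun xl v hv => monoP_smul d h1 hv⟩
  · exact Subtype.ext (by rw [monoP_smul d h1 U0_coe, h2]; rfl)
  · exact Subtype.ext (by rw [monoP_smul d h1 V0_coe, h3]; rfl)
  · exact Subtype.ext (by rw [monoP_smul d h1 X0_coe, h4]; rfl)

/-! ### the orbit of `X0` under the stabiliser of `U0`, `V0` -/

theorem reach_SLm : ∀ l ∈ SLm, ∃ g ∈ K, ((g • X0 : leechLattice) : Vec) = vecL l :=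
  reach_of_tree famG K famG_mem SLm SCm X0 0 (by rw [X0_coe, XL_head.2.1]) stepsM treeM_check
    treeM_all

theorem getD_mem_of_lt {α : Type*} (L : List α) (d : α) {i : ℕ} (h : i < L.length) :
    L.getD i d ∈ L := by
  rw [List.getD_eq_getElem _ _ h]
  exact List.getElem_mem h

theorem reach_XL : ∀ l ∈ XL, ∃ g ∈ K, ((g • X0 : leechLattice) : Vec) = vecL l := by
  have hb := bases_lt
  simp only [Bool.and_eq_true, List.all_eq_true, decide_eq_true_eq] at hb
  obtain ⟨⟨⟨⟨⟨hbM, -⟩, -⟩, -⟩, -⟩, -⟩ := hb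
  have hw := wordsM_check
  simp only [Bool.and_eq_true, decide_eq_true_eq] at hw
  obtain ⟨⟨hw0, hw1⟩, hw2⟩ := hw
  have hmemb : ∀ i, i < 3 → baseM.getD i 0 ∈ baseM := fun i hi =>
    getD_mem_of_lt baseM 0 (by simpa [baseM] using hi)
  have r0 := checkWords_spec perms22 K perms22_mem X0 _
    (reach_SLm _ (getD_mem_of_lt SLm [] (hbM _ (hmemb 0 (by norm_num))))) _ _ hw0
  have r1 := checkWords_spec perms22 K perms22_mem X0 _
    (reach_SLm _ (getD_mem_of_lt SLm [] (hbM _ (hmemb 1 (by norm_num))))) _ _ hw1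
  have r2 := checkWords_spec perms22 K perms22_mem X0 _
    (reach_SLm _ (getD_mem_of_lt SLm [] (hbM _ (hmemb 2 (by norm_num))))) _ _ hw2
  intro l hl
  have h1 : XL = XL.take 22 ++ ((XL.drop 22).take 77 ++ XL.drop 99) := by
    have e1 := (List.take_append_drop 22 XL).symm
    have e2 := (List.take_append_drop 77 (XL.drop 22)).symm
    rw [List.drop_drop] at e2
    conv_lhs => rw [e1, e2]
  rw [h1, List.mem_append, List.mem_append] at hl
  rcases hl with hl | hl | hl
  · exact r0 l hl
  · exact r1 l hl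
  · exact r2 l hl

/-! ### completeness of the list -/

theorem vecL_u0 : vecL u0L = fun p => if p = pa then 5 else 1 := by
  funext p; revert p; decide

theorem vecL_v0 : vecL v0L = fun p => if p = pa then 4 else if p = pb then 4 else 0 := by
  funext p; revert p; decide

theorem dot_U0 (x : Vec) : dotInt (vecL u0L) x = 4 * x pa + ∑ p, x p := by
  rw [vecL_u0]
  unfold dotInt
  have : ∀ p, (if p = pa then (5 : ℤ) else 1) * x p = x p + (if p = pa then 4 * x p else 0) := by
    intro p; split <;> ring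
  rw [Finset.sum_congr rfl (fun p _ => this p), Finset.sum_add_distrib, Finset.sum_ite_eq']
  simp only [Finset.mem_univ, if_true]
  ring

theorem dot_V0 (x : Vec) : dotInt (vecL v0L) x = 4 * x pa + 4 * x pb := by
  rw [vecL_v0]
  unfold dotInt
  have hpt : ∀ p, (if p = pa then (4 : ℤ) else if p = pb then 4 else 0) * x p =
      (if p = pa then 4 * x p else 0) + (if p = pb then 4 * x p else 0) := by
    intro p
    by_cases h1 : p = pa
    · have h2 : p ≠ pb := fun h => pa_ne_pb (h1.symm.trans h)
      simp [h1, pa_ne_pb]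
    · by_cases h2 : p = pb
      · simp [h2, pa_ne_pb.symm]
      · simp [h1, h2]
  rw [Finset.sum_congr rfl (fun p _ => hpt p), Finset.sum_add_distrib, Finset.sum_ite_eq',
    Finset.sum_ite_eq']
  simp only [Finset.mem_univ, if_true]

theorem sqNorm_sub (a b : Vec) : sqNorm (a - b) = sqNorm a - 2 * dotInt a b + sqNorm b := by
  unfold sqNorm dotInt
  simp only [Pi.sub_apply]
  rw [Finset.mul_sum, ← Finset.sum_sub_distrib, ← Finset.sum_add_distrib]
  exact Finset.sum_congr rfl fun p _ => by ring

theorem getD_map_range (f : ℕ → ℤ) {i : ℕ} (hi : i < 24) :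
    ((List.range 24).map f).getD i 0 = f i := by
  rw [List.getD_eq_getElem _ _ (by simpa using hi)]
  simp

theorem vecL_f1L (j : GolayPt) :
    vecL (f1L (ptIdx j).val) = fun p => if p = pa ∨ p = j then 4 else 0 := by
  funext p
  rw [vecL_apply, f1L, getD_map_range _ (ptIdx p).isLt]
  have h0 : (ptIdx p).val = 0 ↔ p = pa := by
    constructor
    · intro h
      apply ptEquiv.injective
      apply Fin.ext
      rw [show ((ptEquiv p : Fin 24) : ℕ) = (ptIdx p).val from rfl, h]
      rfl
    · intro h; rw [h]; rfl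
  have hj : (ptIdx p).val = (ptIdx j).val ↔ p = j := by
    constructor
    · intro h
      exact ptEquiv.injective (Fin.ext h)
    · intro h; rw [h]
  simp only [h0, hj]

theorem vecL_f2L (m : ℕ) :
    vecL (f2L m) = fun p => if m.testBit (ptIdx p).val then 2 else 0 := by
  funext p
  rw [vecL_apply, f2L, getD_map_range _ (ptIdx p).isLt]

theorem vecL_f3L (m : ℕ) :
    vecL (f3L m) = fun p => if p = pa then 3 else if m.testBit (ptIdx p).val then -1 else 1 := by
  funext p
  rw [vecL_apply, f3L, getD_map_range _ (ptIdx p).isLt]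
  have h0 : (ptIdx p).val = 0 ↔ p = pa := by
    constructor
    · intro h
      apply ptEquiv.injective
      apply Fin.ext
      rw [show ((ptEquiv p : Fin 24) : ℕ) = (ptIdx p).val from rfl, h]
      rfl
    · intro h; rw [h]; rfl
  simp only [h0]

theorem mem_octTy {D : Finset GolayPt} (hD : D ∈ octads) :
    fmask D ∈ octTy (decide (pa ∈ D)) (decide (pb ∈ D)) := by
  unfold octTy
  rw [List.mem_filter]
  refine ⟨(fmask_mem_octList_iff D).mpr hD, ?_⟩
  have h0 := testBit_fmask D pa
  have h1 := testBit_fmask D pb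
  rw [ptIdx_P] at h0 h1
  rw [h0, h1]
  simp

theorem sum_ind (c : Finset GolayPt) :
    ∑ i : GolayPt, (if i ∈ c then (-1 : ℤ) else 1) = 24 - 2 * (c.card : ℤ) := by
  have : ∀ i : GolayPt, (if i ∈ c then (-1 : ℤ) else 1) = 1 - (if i ∈ c then (2 : ℤ) else 0) := by
    intro i; split <;> norm_num
  rw [Finset.sum_congr rfl (fun i _ => this i), Finset.sum_sub_distrib, Finset.sum_ite_mem,
    Finset.univ_inter, Finset.sum_const, Finset.sum_const, card_univ_golayPt]
  simp only [nsmul_eq_mul]
  push_cast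
  ring

/-- the odd case -/
theorem complete_odd (x : leechLattice) (hn : sqNorm (x : Vec) = 32)
    (h1 : (x : Vec) pa + (x : Vec) pb = 4) (h2 : 4 * (x : Vec) pa + ∑ p, (x : Vec) p = 24)
    (hodd : (x : Vec) none % 2 = 1) : ∃ l ∈ XL, (x : Vec) = vecL l := by
  obtain ⟨m, hpar, -, hcls⟩ := mem_data x.2
  have hall : ∀ i, (x : Vec) i % 2 = 1 := fun i => by rw [hpar i, ← hpar none]; exact hodd
  have hc : (cls (x : Vec) 1)ᶜ ∈ CS := compl_mem_supports (hcls 1)
  set c : Finset GolayPt := (cls (x : Vec) 1)ᶜ with hcdef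
  have hmemc : ∀ i, i ∈ c ↔ (x : Vec) i % 4 = 3 := by
    intro i
    rw [hcdef, Finset.mem_compl, mem_cls]
    have := hall i
    omega
  set w : Vec := fun i => if i ∈ c then -(x : Vec) i else (x : Vec) i with hw
  have hw4 : ∀ i, w i % 4 = 1 := by
    intro i
    simp only [hw]
    have := hall i
    by_cases hi : i ∈ c
    · rw [if_pos hi]
      rw [hmemc] at hi
      omega
    · rw [if_neg hi]
      rw [hmemc] at hi
      omega
  have hwn : sqNorm w = 32 := by
    rw [← hn]
    unfold sqNorm
    apply Finset.sum_congr rfl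
    intro i _
    simp only [hw]
    split <;> ring
  obtain ⟨i0, h3, hone⟩ := shape_31 hw4 hwn
  -- the coordinates of `x`
  set ind : GolayPt → ℤ := fun i => if i ∈ c then -1 else 1 with hind
  have hx : ∀ i, (x : Vec) i = ind i * w i := by
    intro i
    simp only [hind, hw]
    split <;> ring
  have hxi : ∀ i, i ≠ i0 → (x : Vec) i = ind i := fun i hi => by rw [hx i, hone i hi, mul_one]
  have hx0 : (x : Vec) i0 = -3 * ind i0 := by rw [hx i0, h3]; ring
  have hindv : ∀ i, ind i = 1 ∨ ind i = -1 := by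
    intro i
    simp only [hind]
    split
    · right; rfl
    · left; rfl
  have hS : ∑ p, (x : Vec) p = 24 - 2 * (c.card : ℤ) - 4 * ind i0 := by
    have : ∀ p, (x : Vec) p = ind p + (if p = i0 then -4 * ind i0 else 0) := by
      intro p
      by_cases hp : p = i0
      · rw [if_pos hp, hp, hx0]; ring
      · rw [if_neg hp, hxi p hp]; ring
    rw [Finset.sum_congr rfl (fun p _ => this p), Finset.sum_add_distrib, Finset.sum_ite_eq',
      sum_ind]
    simp only [Finset.mem_univ, if_true]
    ring
  have hcard := card_of_mem_supports hc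
  by_cases ha : pa = i0
  · -- the good case
    have hb : pb ≠ i0 := fun h => pa_ne_pb (ha.trans h.symm)
    have hxa : (x : Vec) pa = -3 * ind pa := by rw [ha]; exact hx0
    have hxb : (x : Vec) pb = ind pb := hxi pb hb
    have hia : ind pa = -1 := by
      rcases hindv pa with h | h <;> rcases hindv pb with h' | h' <;> rw [hxa, hxb, h, h'] at h1 <;>
        omega
    have hib : ind pb = 1 := by
      rcases hindv pb with h' | h' <;> rw [hxa, hxb, hia, h'] at h1 <;> omega
    have hcc : c.card = 8 := by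
      rw [hS, ← ha, hxa, hia] at h2
      have : (c.card : ℤ) = 8 := by omega
      exact_mod_cast this
    have hpac : pa ∈ c := by
      by_contra h
      simp only [hind] at hia
      rw [if_neg h] at hia
      norm_num at hia
    have hpbc : pb ∉ c := by
      intro h
      simp only [hind] at hib
      rw [if_pos h] at hib
      norm_num at hib
    have hoct : c ∈ octads := ⟨hc, hcc⟩
    have hm := mem_octTy hoct
    rw [decide_eq_true hpac, decide_eq_false hpbc] at hm
    refine ⟨f3L (fmask c), ?_, ?_⟩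
    · rw [XL_eq]
      exact List.mem_append_right _ (List.mem_map.mpr ⟨_, hm, rfl⟩)
    · rw [vecL_f3L]
      funext p
      by_cases hp : p = pa
      · rw [if_pos hp, hp, hxa, hia]; norm_num
      · rw [if_neg hp, hxi p (fun h => hp (h.trans ha.symm)), testBit_fmask]
        simp only [hind]
        by_cases hpc : p ∈ c
        · simp [hpc]
        · simp [hpc]
  · by_cases hb : pb = i0
    · exfalso
      have hxb : (x : Vec) pb = -3 * ind pb := by rw [hb]; exact hx0
      have hxa : (x : Vec) pa = ind pa := hxi pa ha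
      have hib : ind pb = -1 := by
        rcases hindv pa with h | h <;> rcases hindv pb with h' | h' <;>
          rw [hxa, hxb, h, h'] at h1 <;> omega
      have hia : ind pa = 1 := by
        rcases hindv pa with h' | h' <;> rw [hxa, hxb, hib, h'] at h1 <;> omega
      rw [hS, ← hb, hxa, hia, hib] at h2
      have : (c.card : ℤ) = 4 := by omega
      have : c.card = 4 := by exact_mod_cast this
      omega
    · exfalso
      have hxa : (x : Vec) pa = ind pa := hxi pa ha
      have hxb : (x : Vec) pb = ind pb := hxi pb hb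
      rcases hindv pa with h | h <;> rcases hindv pb with h' | h' <;>
        rw [hxa, hxb, h, h'] at h1 <;> omega

theorem ptIdx_ge_two {j : GolayPt} (ha : j ≠ pa) (hb : j ≠ pb) : 2 ≤ (ptIdx j).val := by
  revert j
  decide

/-- the case of coordinates divisible by 4 -/
theorem complete_44 (x : leechLattice) (hn : sqNorm (x : Vec) = 32)
    (h1 : (x : Vec) pa + (x : Vec) pb = 4) (h2 : 4 * (x : Vec) pa + ∑ p, (x : Vec) p = 24)
    (h4 : ∀ i, (x : Vec) i % 4 = 0) : ∃ l ∈ XL, (x : Vec) = vecL l := by
  obtain ⟨i, j, hij, hi, hj, hk⟩ := shape_44 h4 hn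
  have hS : ∑ p, (x : Vec) p = (x : Vec) i + (x : Vec) j :=
    Finset.sum_eq_add i j hij (fun c _ hc => hk c hc.1 hc.2) (fun h => absurd (Finset.mem_univ i) h)
      (fun h => absurd (Finset.mem_univ j) h)
  rw [hS] at h2
  -- reduce to the case `pa = i`
  have key : ∀ i j : GolayPt, i ≠ j → ((x : Vec) i = 4 ∨ (x : Vec) i = -4) →
      ((x : Vec) j = 4 ∨ (x : Vec) j = -4) → (∀ k, k ≠ i → k ≠ j → (x : Vec) k = 0) →
      4 * (x : Vec) pa + ((x : Vec) i + (x : Vec) j) = 24 → pa = i →
      ∃ l ∈ XL, (x : Vec) = vecL l := by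
    intro i j hij hi hj hk h2 hai
    have hbi : pb ≠ i := fun h => pa_ne_pb (hai.trans h.symm)
    by_cases hbj : pb = j
    · exfalso
      rw [hai, hbj] at h1
      rcases hi with hi | hi <;> rcases hj with hj | hj <;> rw [hi, hj] at h1 <;> omega
    · have hxb : (x : Vec) pb = 0 := hk pb hbi hbj
      rw [hxb, hai] at h1
      have hxi : (x : Vec) i = 4 := by omega
      rw [hai, hxi] at h2
      have hxj : (x : Vec) j = 4 := by omega
      have hja : j ≠ pa := fun h => hij (hai ▸ h).symm
      have hjb : j ≠ pb := fun h => hbj h.symm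
      refine ⟨f1L (ptIdx j).val, ?_, ?_⟩
      · rw [XL_eq]
        apply List.mem_append_left
        apply List.mem_append_left
        refine List.mem_map.mpr ⟨(ptIdx j).val, ?_, rfl⟩
        rw [List.mem_range'_1]
        exact ⟨ptIdx_ge_two hja hjb, by have := (ptIdx j).isLt; omega⟩
      · rw [vecL_f1L]
        funext p
        by_cases hp : p = pa
        · rw [if_pos (Or.inl hp), hp, hai, hxi]
        · by_cases hpj : p = j
          · rw [if_pos (Or.inr hpj), hpj, hxj]
          · rw [if_neg (by tauto)]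
            exact hk p (fun h => hp (h.trans hai.symm)) hpj
  by_cases hai : pa = i
  · exact key i j hij hi hj hk h2 hai
  · by_cases haj : pa = j
    · exact key j i hij.symm hj hi (fun k h1 h2 => hk k h2 h1) (by rw [add_comm ((x : Vec) j)]; exact h2) haj
    · exfalso
      have hxa : (x : Vec) pa = 0 := hk pa hai haj
      rw [hxa] at h2
      rcases hi with hi | hi <;> rcases hj with hj | hj <;> rw [hi, hj] at h2 <;> omega

/-- the case of an octad -/
theorem complete_2 (x : leechLattice) (hn : sqNorm (x : Vec) = 32)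
    (h1 : (x : Vec) pa + (x : Vec) pb = 4) (h2 : 4 * (x : Vec) pa + ∑ p, (x : Vec) p = 24)
    (hpar : ∀ i, (x : Vec) i % 2 = 0) (h2' : ∃ i, (x : Vec) i % 4 = 2) :
    ∃ l ∈ XL, (x : Vec) = vecL l := by
  obtain ⟨m, -, -, hcls⟩ := mem_data x.2
  have hD : cls (x : Vec) 2 ∈ CS := hcls 2
  obtain ⟨i2, hi2⟩ := h2'
  have hDne : i2 ∈ cls (x : Vec) 2 := by rw [mem_cls]; omega
  have hle := four_card_cls_le (x : Vec)
  rw [hn] at hle
  have hDcard : (cls (x : Vec) 2).card = 8 := by
    rcases card_of_mem_supports hD with h | h | h | h | h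
    · rw [Finset.card_eq_zero] at h
      rw [h] at hDne
      simp at hDne
    · exact h
    · rw [h] at hle; norm_num at hle
    · rw [h] at hle; norm_num at hle
    · rw [h] at hle; norm_num at hle
  have hDoct : cls (x : Vec) 2 ∈ octads := ⟨hD, hDcard⟩
  obtain ⟨hin, hout⟩ := shape_2n hpar (by rw [hn, hDcard]; norm_num)
  set D := cls (x : Vec) 2 with hDdef
  have hval : ∀ i, (x : Vec) i = 2 ∨ (x : Vec) i = -2 ∨ (x : Vec) i = 0 := by
    intro i
    by_cases hi : i ∈ D
    · rcases hin i hi with h | h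
      · exact Or.inl h
      · exact Or.inr (Or.inl h)
    · exact Or.inr (Or.inr (hout i hi))
  have hxa : (x : Vec) pa = 2 := by
    rcases hval pa with h | h | h <;> rcases hval pb with h' | h' | h' <;> rw [h, h'] at h1 <;> omega
  have hxb : (x : Vec) pb = 2 := by omega
  have haD : pa ∈ D := by
    by_contra h
    rw [hout pa h] at hxa
    norm_num at hxa
  have hbD : pb ∈ D := by
    by_contra h
    rw [hout pb h] at hxb
    norm_num at hxb
  have hS : ∑ p, (x : Vec) p = 16 := by omega
  -- all the signs are positive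
  have hsum0 : ∑ p ∈ D, (2 - (x : Vec) p) = 0 := by
    have e1 : ∑ p, (x : Vec) p = ∑ p ∈ D, (x : Vec) p := by
      symm
      apply Finset.sum_subset (Finset.subset_univ D)
      intro p _ hp
      exact hout p hp
    rw [Finset.sum_sub_distrib, ← e1, hS, Finset.sum_const, hDcard]
    norm_num
  have hall2 : ∀ p ∈ D, (x : Vec) p = 2 := by
    intro p hp
    have := (Finset.sum_eq_zero_iff_of_nonneg (fun q hq => by
      rcases hin q hq with h | h <;> rw [h] <;> norm_num)).mp hsum0 p hp
    omega
  have hm := mem_octTy hDoct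
  rw [decide_eq_true haD, decide_eq_true hbD] at hm
  refine ⟨f2L (fmask D), ?_, ?_⟩
  · rw [XL_eq]
    apply List.mem_append_left
    apply List.mem_append_right
    exact List.mem_map.mpr ⟨_, hm, rfl⟩
  · rw [vecL_f2L]
    funext p
    rw [testBit_fmask]
    by_cases hp : p ∈ D
    · simp [hp, hall2 p hp]
    · simp [hp, hout p hp]

/-- the set of the points attached to `u` and `v` -/
def pts (u v : leechLattice) : Set leechLattice :=
  {x : leechLattice | sqNorm (x : Vec) = 32 ∧ sqNorm ((u - x : leechLattice) : Vec) = 32 ∧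
    dotInt (v : Vec) (x : Vec) = 16}

set_option maxRecDepth 100000 in
theorem sqNorm_u0 : sqNorm (vecL u0L) = 48 := by unfold sqNorm; decide +kernel

/-- every point is in the list -/
theorem complete (x : leechLattice) (hx : x ∈ pts U0 V0) : ∃ l ∈ XL, (x : Vec) = vecL l := by
  obtain ⟨hn, hu, hv⟩ := hx
  rw [AddSubgroup.coe_sub, sqNorm_sub, U0_coe, sqNorm_u0, hn, dot_U0] at hu
  rw [V0_coe, dot_V0] at hv
  have h1 : (x : Vec) pa + (x : Vec) pb = 4 := by omega
  have h2 : 4 * (x : Vec) pa + ∑ p, (x : Vec) p = 24 := by omega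
  by_cases hodd : (x : Vec) none % 2 = 1
  · exact complete_odd x hn h1 h2 hodd
  · obtain ⟨m, hpar, -, -⟩ := mem_data x.2
    have hev : ∀ i, (x : Vec) i % 2 = 0 := by
      intro i
      rw [hpar i, ← hpar none]
      omega
    by_cases h4 : ∀ i, (x : Vec) i % 4 = 0
    · exact complete_44 x hn h1 h2 h4
    · push Not at h4
      obtain ⟨i, hi⟩ := h4
      exact complete_2 x hn h1 h2 hev ⟨i, by have := hev i; omega⟩

end Cfsg.Agent.Lib.Helper27.McL
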