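import Mathlib
import Cfsg.Prelude.Def_Balance

/-!
# Mc hive (S1305, helper18), leaf MC-OCOMM: `comm_split`
-/

set_option autoImplicit false

open Cfsg

namespace Cfsg.Agent.Lib.Helper18.Mc

open Subgroup

/-- elements of `N ⊔ M` for elementwise commuting `N`, `M` are products -/
theorem mcocomm_exists_mul {X : Type*} [Group X] {N M : Subgroup X}
    (hc : ∀ n ∈ N, ∀ m ∈ M, n * m = m * n) {x : X}
    (hx : x ∈ N ⊔ M) : ∃ n ∈ N, ∃ m ∈ M, x = n * m := by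
  rw [Subgroup.sup_eq_closure] at hx
  induction hx using Subgroup.closure_induction with
  | mem x hx =>
    rcases hx with hx | hx
    · exact ⟨x, hx, 1, M.one_mem, by simp⟩
    · exact ⟨1, N.one_mem, x, hx, by simp⟩
  | one => exact ⟨1, N.one_mem, 1, M.one_mem, by simp⟩
  | mul x y _ _ ihx ihy =>
    obtain ⟨l, hl, m, hm, rfl⟩ := ihx
    obtain ⟨l', hl', m', hm', rfl⟩ := ihy
    refine ⟨l * l', N.mul_mem hl hl', m * m', M.mul_mem hm hm', ?_⟩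
    have := hc l' hl' m hm
    calc l * m * (l' * m') = l * (m * l') * m' := by group
      _ = l * (l' * m) * m' := by rw [this]
      _ = l * l' * (m * m') := by group
  | inv x _ ihx =>
    obtain ⟨l, hl, m, hm, rfl⟩ := ihx
    refine ⟨l⁻¹, N.inv_mem hl, m⁻¹, M.inv_mem hm, ?_⟩
    have := hc l⁻¹ (N.inv_mem hl) m⁻¹ (M.inv_mem hm)
    calc (l * m)⁻¹ = m⁻¹ * l⁻¹ := by group
      _ = l⁻¹ * m⁻¹ := this.symm

/-- commutators ignore "central" factors -/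
theorem mcocomm_aux {X : Type*} [Group X] (n n' z z' : X) (h2 : Commute z n') (h3 : Commute z' n)
    (h5 : Commute z z') :
    (n * z) * (n' * z') * (n * z)⁻¹ * (n' * z')⁻¹ = n * n' * n⁻¹ * n'⁻¹ := by
  have e1 : z * (n' * z') * z⁻¹ = n' * z' := by
    have : Commute z (n' * z') := h2.mul_right h5
    rw [this.eq, mul_inv_cancel_right]
  have e2 : z' * n⁻¹ * z'⁻¹ = n⁻¹ := by
    have : Commute z' n⁻¹ := h3.inv_right
    rw [this.eq, mul_inv_cancel_right]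
  calc (n * z) * (n' * z') * (n * z)⁻¹ * (n' * z')⁻¹
      = n * (z * (n' * z') * z⁻¹) * n⁻¹ * (n' * z')⁻¹ := by group
    _ = n * (n' * z') * n⁻¹ * (n' * z')⁻¹ := by rw [e1]
    _ = n * n' * (z' * n⁻¹ * z'⁻¹) * n'⁻¹ := by group
    _ = n * n' * n⁻¹ * n'⁻¹ := by rw [e2]

/-- the "defect" `z = n⁻¹ n^a = m (m^a)⁻¹` of a fixed element `n m`. -/
theorem mcocomm_defect {X : Type*} [Group X] (a : X) (N M : Subgroup X)
    (hNa : ∀ n ∈ N, a * n * a⁻¹ ∈ N) (hMa : ∀ m ∈ M, a * m * a⁻¹ ∈ M)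
    (n m : X) (hn : n ∈ N) (hm : m ∈ M) (hfix : a * (n * m) * a⁻¹ = n * m) :
    ∃ z : X, z ∈ N ∧ z ∈ M ∧ a * n * a⁻¹ = n * z ∧ a * m * a⁻¹ = z⁻¹ * m := by
  refine ⟨n⁻¹ * (a * n * a⁻¹), N.mul_mem (N.inv_mem hn) (hNa n hn), ?_, ?_, ?_⟩
  · have : n⁻¹ * (a * n * a⁻¹) = m * (a * m * a⁻¹)⁻¹ := by
      calc n⁻¹ * (a * n * a⁻¹) = n⁻¹ * (a * (n * m) * a⁻¹) * (a * m * a⁻¹)⁻¹ := by group
        _ = n⁻¹ * (n * m) * (a * m * a⁻¹)⁻¹ := by rw [hfix]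
        _ = m * (a * m * a⁻¹)⁻¹ := by group
    rw [this]
    exact M.mul_mem hm (M.inv_mem (hMa m hm))
  · group
  · calc a * m * a⁻¹ = (a * n * a⁻¹)⁻¹ * (a * (n * m) * a⁻¹) := by group
      _ = (a * n * a⁻¹)⁻¹ * (n * m) := by rw [hfix]
      _ = (n⁻¹ * (a * n * a⁻¹))⁻¹ * m := by group

/-- MC-OCOMM. -/
theorem comm_split {X : Type*} [Group X] (a : X) (N M : Subgroup X)
    (hNM : ∀ n ∈ N, ∀ m ∈ M, n * m = m * n) (hNa : ∀ n ∈ N, a * n * a⁻¹ ∈ N) (hMa : ∀ m ∈ M, a * m * a⁻¹ ∈ M)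
    (x y : X) (hx : x ∈ N ⊔ M) (hy : y ∈ N ⊔ M) (hxa : x ∈ centralizer ({a} : Set X))
    (hya : y ∈ centralizer ({a} : Set X)) :
    x * y * x⁻¹ * y⁻¹ ∈ (N ⊓ centralizer ({a} : Set X)) ⊔ (M ⊓ centralizer ({a} : Set X)) := by
  obtain ⟨n, hn, m, hm, rfl⟩ := mcocomm_exists_mul hNM hx
  obtain ⟨n', hn', m', hm', rfl⟩ := mcocomm_exists_mul hNM hy
  have hfix : a * (n * m) * a⁻¹ = n * m := by
    have := (Subgroup.mem_centralizer_iff.mp hxa) a rfl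
    rw [this, mul_inv_cancel_right]
  have hfix' : a * (n' * m') * a⁻¹ = n' * m' := by
    have := (Subgroup.mem_centralizer_iff.mp hya) a rfl
    rw [this, mul_inv_cancel_right]
  obtain ⟨z, hzN, hzM, hnz, hmz⟩ := mcocomm_defect a N M hNa hMa n m hn hm hfix
  obtain ⟨z', hz'N, hz'M, hnz', hmz'⟩ := mcocomm_defect a N M hNa hMa n' m' hn' hm' hfix'
  -- the decomposition `[x,y] = [n,n'] [m,m']`
  have hxy : n * m * (n' * m') = (n * n') * (m * m') := by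
    have := hNM n' hn' m hm
    calc n * m * (n' * m') = n * (m * n') * m' := by group
      _ = n * (n' * m) * m' := by rw [this]
      _ = n * n' * (m * m') := by group
  have hyx : n' * m' * (n * m) = (n' * n) * (m' * m) := by
    have := hNM n hn m' hm'
    calc n' * m' * (n * m) = n' * (m' * n) * m := by group
      _ = n' * (n * m') * m := by rw [this]
      _ = n' * n * (m' * m) := by group
  have hdec : n * m * (n' * m') * (n * m)⁻¹ * (n' * m')⁻¹ =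
      (n * n' * n⁻¹ * n'⁻¹) * (m * m' * m⁻¹ * m'⁻¹) := by
    have hu : (m * m') * (m' * m)⁻¹ ∈ M := M.mul_mem (M.mul_mem hm hm') (M.inv_mem (M.mul_mem hm' hm))
    have hv : (n' * n)⁻¹ ∈ N := N.inv_mem (N.mul_mem hn' hn)
    have hc := hNM _ hv _ hu
    calc n * m * (n' * m') * (n * m)⁻¹ * (n' * m')⁻¹
        = (n * m * (n' * m')) * (n' * m' * (n * m))⁻¹ := by group
      _ = (n * n') * (m * m') * ((n' * n) * (m' * m))⁻¹ := by rw [hxy, hyx]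
      _ = (n * n') * ((m * m') * (m' * m)⁻¹ * (n' * n)⁻¹) := by group
      _ = (n * n') * ((n' * n)⁻¹ * ((m * m') * (m' * m)⁻¹)) := by rw [hc]
      _ = (n * n' * n⁻¹ * n'⁻¹) * (m * m' * m⁻¹ * m'⁻¹) := by group
  rw [hdec]
  -- both factors are fixed by `a`
  have hcN : a * (n * n' * n⁻¹ * n'⁻¹) * a⁻¹ = n * n' * n⁻¹ * n'⁻¹ := by
    calc a * (n * n' * n⁻¹ * n'⁻¹) * a⁻¹
        = (a * n * a⁻¹) * (a * n' * a⁻¹) * (a * n * a⁻¹)⁻¹ * (a * n' * a⁻¹)⁻¹ := by group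
      _ = (n * z) * (n' * z') * (n * z)⁻¹ * (n' * z')⁻¹ := by rw [hnz, hnz']
      _ = n * n' * n⁻¹ * n'⁻¹ :=
        mcocomm_aux n n' z z' (hNM n' hn' z hzM).symm (hNM n hn z' hz'M).symm (hNM z hzN z' hz'M)
  have hmz2 : a * m * a⁻¹ = m * z⁻¹ := by rw [hmz]; exact hNM z⁻¹ (N.inv_mem hzN) m hm
  have hmz2' : a * m' * a⁻¹ = m' * z'⁻¹ := by rw [hmz']; exact hNM z'⁻¹ (N.inv_mem hz'N) m' hm'
  have hcM : a * (m * m' * m⁻¹ * m'⁻¹) * a⁻¹ = m * m' * m⁻¹ * m'⁻¹ := by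
    calc a * (m * m' * m⁻¹ * m'⁻¹) * a⁻¹
        = (a * m * a⁻¹) * (a * m' * a⁻¹) * (a * m * a⁻¹)⁻¹ * (a * m' * a⁻¹)⁻¹ := by group
      _ = (m * z⁻¹) * (m' * z'⁻¹) * (m * z⁻¹)⁻¹ * (m' * z'⁻¹)⁻¹ := by rw [hmz2, hmz2']
      _ = m * m' * m⁻¹ * m'⁻¹ :=
        mcocomm_aux m m' z⁻¹ z'⁻¹ (hNM z⁻¹ (N.inv_mem hzN) m' hm') (hNM z'⁻¹ (N.inv_mem hz'N) m hm)
          (hNM z⁻¹ (N.inv_mem hzN) z'⁻¹ (M.inv_mem hz'M))
  have hcent : ∀ c : X, a * c * a⁻¹ = c → c ∈ centralizer ({a} : Set X) := by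
    intro c hc
    rw [Subgroup.mem_centralizer_iff]
    intro g hg
    rw [Set.mem_singleton_iff] at hg
    subst hg
    calc g * c = (g * c * g⁻¹) * g := by group
      _ = c * g := by rw [hc]
  apply Subgroup.mul_mem_sup
  · refine ⟨?_, hcent _ hcN⟩
    exact N.mul_mem (N.mul_mem (N.mul_mem hn hn') (N.inv_mem hn)) (N.inv_mem hn')
  · refine ⟨?_, hcent _ hcM⟩
    exact M.mul_mem (M.mul_mem (M.mul_mem hm hm') (M.inv_mem hm)) (M.inv_mem hm')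

end Cfsg.Agent.Lib.Helper18.Mc
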