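import Cfsg.Agent.Lib.Helper64.MiKIDefs

/-! # Mi hive (S2140, helper81) / MI-KI sub-hive (helper64), leaf KI-MAT (helper27): an additive torus-equivariant
map `α` is given by a symmetric matrix `A ≠ 0` with `hᵀ A h = det(h)⁻¹ A`. -/

set_option autoImplicit false

namespace Cfsg.Agent.Lib.Helper81.Mi

open Matrix

section abstractKI

variable {F : Type*} [Field F] {k : ℕ} {G : Type*} [Group G]

theorem heis_matrix (hk : 1 ≤ k) (α : (Fin k → F) → (Fin k → F))
    (hadd : ∀ b b' : Fin k → F, α (b + b') = α b + α b')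
    (hsym : ∀ b b' : Fin k → F, (α b) ⬝ᵥ b' = (α b') ⬝ᵥ b)
    (hinj0 : ∀ b : Fin k → F, α b = 0 → b = 0)
    (halt : (2 : F) = 0 → ∀ b : Fin k → F, (α b) ⬝ᵥ b = 0)
    (hinv : ∀ (h : Matrix (Fin k) (Fin k) F) (c1 c3 : F), c1 * c3 * h.det = 1 →
      ∀ b : Fin k → F, α (c3⁻¹ • (h *ᵥ b)) = c1 • ((h⁻¹)ᵀ *ᵥ α b)) :
    ∃ A : Matrix (Fin k) (Fin k) F, A ≠ 0 ∧ Aᵀ = A ∧
      (∀ h : Matrix (Fin k) (Fin k) F, IsUnit h.det → hᵀ * A * h = (h.det)⁻¹ • A) ∧
      (ringChar F = 2 → ∀ b : Fin k → F, b ⬝ᵥ (A *ᵥ b) = 0) := by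
  classical
  -- `α 0 = 0`
  have h0 : α 0 = 0 := by
    have h := hadd 0 0
    rw [add_zero] at h
    exact left_eq_add.mp h
  -- homogeneity
  have hsmul : ∀ (t : F) (b : Fin k → F), α (t • b) = t • α b := by
    intro t b
    by_cases ht : t = 0
    · subst ht
      rw [zero_smul, zero_smul, h0]
    · have h := hinv 1 t t⁻¹ (by rw [Matrix.det_one, mul_one, mul_inv_cancel₀ ht]) b
      rw [inv_inv, Matrix.one_mulVec, inv_one, Matrix.transpose_one, Matrix.one_mulVec] at h
      exact h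
  -- the linear map and its matrix
  let L : (Fin k → F) →ₗ[F] (Fin k → F) :=
    { toFun := α
      map_add' := hadd
      map_smul' := fun t b => by rw [RingHom.id_apply]; exact hsmul t b }
  have hL : ∀ b, L b = α b := fun _ => rfl
  refine ⟨LinearMap.toMatrix' L, ?_, ?_, ?_, ?_⟩
  · -- `A ≠ 0`
    intro hA
    have hz : ∀ b, α b = 0 := by
      intro b
      rw [← hL, ← LinearMap.toMatrix'_mulVec, hA, Matrix.zero_mulVec]
    have hb := hinj0 (Pi.single ⟨0, hk⟩ 1) (hz _)
    have := congrFun hb ⟨0, hk⟩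
    simp at this
  · -- symmetric
    ext i j
    rw [Matrix.transpose_apply, LinearMap.toMatrix'_apply, LinearMap.toMatrix'_apply, hL, hL]
    have h := hsym (Pi.single i 1) (Pi.single j 1)
    rw [dotProduct_single, dotProduct_single, mul_one, mul_one] at h
    exact h
  · -- invariance
    intro h hh
    have hdet : h.det ≠ 0 := hh.ne_zero
    have hAh : LinearMap.toMatrix' L * h = (h.det)⁻¹ • ((h⁻¹)ᵀ * LinearMap.toMatrix' L) := by
      apply Matrix.toLin'.injective
      apply LinearMap.ext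
      intro b
      rw [Matrix.toLin'_apply, ← Matrix.mulVec_mulVec, LinearMap.toMatrix'_mulVec, hL,
        Matrix.toLin'_apply, Matrix.smul_mulVec, ← Matrix.mulVec_mulVec,
        LinearMap.toMatrix'_mulVec, hL]
      have h1 := hinv h (h.det)⁻¹ 1 (by rw [mul_one, inv_mul_cancel₀ hdet]) b
      rw [inv_one, one_smul] at h1
      exact h1
    rw [Matrix.mul_assoc, hAh, Matrix.mul_smul, ← Matrix.mul_assoc, ← Matrix.transpose_mul,
      Matrix.nonsing_inv_mul h hh, Matrix.transpose_one, Matrix.one_mul]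
  · -- characteristic 2
    intro h2 b
    have h20 : (2 : F) = 0 := by
      have : CharP F 2 := by rw [← h2]; exact ringChar.charP F
      exact_mod_cast CharP.cast_eq_zero F 2
    rw [LinearMap.toMatrix'_mulVec, hL, dotProduct_comm]
    exact halt h20 b

end abstractKI

end Cfsg.Agent.Lib.Helper81.Mi
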