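import Cfsg.Agent.Lib.Conway.Order
import Cfsg.Agent.Lib.Helper26.Bridge
import Cfsg.Agent.Lib.Helper26.Data

set_option autoImplicit false

/-!
A finite set of vectors of sum of squares 64 that contains `8 e` and is invariant under the stabiliser
of the standard cross has `2` elements modulo `23`: an element of order 23 of the monomial group
fixes exactly two vectors of sum of squares 64.
-/

namespace Cfsg.Agent.Lib.Helper27.Mod23

open Cfsg Cfsg.Agent.Lib.Conway Cfsg.Agent.Lib.Helper93.Leech Cfsg.Agent.Lib.Helper93.Golay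
open Cfsg.Agent.Lib.Golay.LeechBasis
open Cfsg.Agent.Lib.Helper26 (PermData gTr m24Gens m24Gens_inM24)
open Cfsg.Agent.S1571 (Stab mono_stab fr_mem_stdCross)

theorem gTr_inM24 : gTr.inM24 = true :=
  List.all_eq_true.mp m24Gens_inM24 gTr (by simp [m24Gens])

/-- the translation of the projective line -/
noncomputable def σt : Equiv.Perm GolayPt := gTr.toPerm

theorem σt_mem : σt ∈ M24 := PermData.toPerm_mem_M24 gTr_inM24

/-- the inverse translation on the points -/
def tinv : GolayPt → GolayPt
  | none => none
  | some k => some (k - 1)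

theorem σt_symm_apply (p : GolayPt) : σt.symm p = tinv p := by
  rw [σt, PermData.toPerm_symm_apply (PermData.ok_of_inM24 gTr_inM24)]
  revert p
  decide

theorem tinv_iter : ∀ p : GolayPt, tinv^[23] p = p := by decide

/-- the monomial element of order 23 -/
noncomputable def g23 : Co0 := mono σt ∅ σt_mem empty_mem_supports

theorem g23_stab : Stab g23 := mono_stab _ _ _ _

theorem g23_smul (x : leechLattice) (p : GolayPt) :
    ((g23 • x : leechLattice) : Vec) p = (x : Vec) (tinv p) := by
  rw [g23, mono_smul, signedPerm_apply, σt_symm_apply]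
  simp

theorem g23_pow_smul (n : ℕ) (x : leechLattice) (p : GolayPt) :
    ((g23 ^ n • x : leechLattice) : Vec) p = (x : Vec) (tinv^[n] p) := by
  induction n generalizing x p with
  | zero => simp
  | succ n ih =>
    rw [pow_succ, mul_smul, ih, g23_smul, Function.iterate_succ_apply']

theorem g23_pow (x : leechLattice) : g23 ^ 23 • x = x := by
  apply Subtype.ext
  funext p
  rw [g23_pow_smul, tinv_iter]

/-- a vector fixed by the translation is constant on the affine line -/
theorem const_of_fix (x : leechLattice) (h : g23 • x = x) (k : ZMod 23) :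
    (x : Vec) (some k) = (x : Vec) (some 0) := by
  have key : ∀ j : ZMod 23, (x : Vec) (some j) = (x : Vec) (some (j - 1)) := by
    intro j
    have := g23_smul x (some j)
    rw [h] at this
    exact this
  have : ∀ n : ℕ, (x : Vec) (some ((n : ℕ) : ZMod 23)) = (x : Vec) (some 0) := by
    intro n
    induction n with
    | zero => simp
    | succ n ih =>
      have e : (((n + 1 : ℕ) : ZMod 23) - 1) = ((n : ℕ) : ZMod 23) := by
        push_cast
        ring
      rw [key, e]
      exact ih
  have hk := this k.val
  rwa [ZMod.natCast_zmod_val] at hk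

theorem sq_cases (a c : ℤ) (h : a ^ 2 + 23 * c ^ 2 = 64) : c = 0 ∧ (a = 8 ∨ a = -8) := by
  have hc : -1 ≤ c ∧ c ≤ 1 := by constructor <;> nlinarith [sq_nonneg a]
  have ha : -8 ≤ a ∧ a ≤ 8 := by constructor <;> nlinarith [sq_nonneg c]
  obtain ⟨hc1, hc2⟩ := hc
  obtain ⟨ha1, ha2⟩ := ha
  interval_cases c <;> interval_cases a <;> simp_all

/-- the fixed vectors of sum of squares 64 -/
theorem fix_cases (x : leechLattice) (hn : sqNorm (x : Vec) = 64) (h : g23 • x = x) :
    x = fr none ∨ x = -fr none := by
  have hc := const_of_fix x h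
  have hsum : sqNorm (x : Vec) = (x : Vec) none ^ 2 + 23 * (x : Vec) (some 0) ^ 2 := by
    unfold sqNorm
    rw [Fintype.sum_option]
    congr 1
    rw [Finset.sum_congr rfl (fun k _ => by rw [hc k]), Finset.sum_const, Finset.card_univ,
      ZMod.card, nsmul_eq_mul]
    norm_num
  rw [hn] at hsum
  obtain ⟨h0, h8⟩ := sq_cases _ _ hsum.symm
  have hval : ∀ p : GolayPt, p ≠ none → (x : Vec) p = 0 := by
    intro p hp
    cases p with
    | none => exact absurd rfl hp
    | some k => rw [hc k, h0]
  rcases h8 with h8 | h8
  · left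
    apply Subtype.ext
    funext p
    rw [fr_coe]
    by_cases hp : p = none
    · subst hp; simp [h8]
    · rw [hval p hp]; simp [hp]
  · right
    apply Subtype.ext
    funext p
    rw [AddSubgroup.coe_neg, fr_coe, Pi.neg_apply]
    by_cases hp : p = none
    · subst hp; simp [h8]
    · rw [hval p hp]; simp [hp]

theorem g23_fix_fr : g23 • fr none = fr none := by
  apply Subtype.ext
  funext p
  rw [g23_smul, fr_coe]
  cases p with
  | none => rfl
  | some k => simp [tinv]

theorem g23_fix_neg_fr : g23 • (-fr none) = -fr none := by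
  rw [co0_neg, g23_fix_fr]

theorem fr_ne_neg : fr none ≠ -fr none := fr_ne_neg_fr none none

theorem ncard_mod_23 (S : Set leechLattice) (hfin : S.Finite)
    (hS : ∀ x ∈ S, sqNorm (x : Vec) = 64)
    (hinv : ∀ g : Co0, Cfsg.Agent.S1571.Stab g → ∀ x ∈ S, g • x ∈ S) (hF : F0 ∈ S) :
    S.ncard % 23 = 2 := by
  classical
  have : Fintype ↥S := hfin.fintype
  have : Fact (Nat.Prime 23) := ⟨by norm_num⟩
  -- the two fixed vectors lie in `S`
  have hmem : ∀ f : leechLattice, (f : Vec) ∈ stdCross → f ∈ S := by
    intro f hf
    obtain ⟨g, hg, e⟩ := exists_mono_frame f hf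
    rw [← e]
    exact hinv g hg F0 hF
  have h1 : fr none ∈ S := hmem _ (fr_mem_stdCross none)
  have h2 : -fr none ∈ S := hmem _ ⟨none, -8, Or.inr rfl, by
    rw [AddSubgroup.coe_neg, fr_coe, ← Pi.single_neg]⟩
  -- the action of the element of order 23
  let f : Function.End ↥S := fun x => ⟨g23 • x.1, hinv g23 g23_stab x.1 x.2⟩
  have hpow : ∀ (n : ℕ) (x : ↥S), ((f ^ n) x).1 = g23 ^ n • x.1 := by
    intro n
    induction n with
    | zero =>
      intro x
      rw [pow_zero, pow_zero, one_smul]
      rfl
    | succ n ih =>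
      intro x
      rw [pow_succ]
      show ((f ^ n) (f x)).1 = _
      rw [ih, pow_succ, mul_smul]
  have hf : f ^ 23 ^ 1 = 1 := by
    funext x
    apply Subtype.ext
    rw [pow_one, hpow, g23_pow]
    rfl
  have hmod := Equiv.Perm.card_fixedPoints_modEq (p := 23) (n := 1) hf
  have hfix : Function.fixedPoints f = {⟨fr none, h1⟩, ⟨-fr none, h2⟩} := by
    ext x
    simp only [Function.mem_fixedPoints, Function.IsFixedPt, Set.mem_insert_iff,
      Set.mem_singleton_iff]
    constructor
    · intro hx
      have hx' : g23 • x.1 = x.1 := congrArg Subtype.val hx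
      rcases fix_cases x.1 (hS x.1 x.2) hx' with e | e
      · left; exact Subtype.ext e
      · right; exact Subtype.ext e
    · rintro (rfl | rfl)
      · exact Subtype.ext g23_fix_fr
      · exact Subtype.ext g23_fix_neg_fr
  have hcardfix : Fintype.card ↥(Function.fixedPoints f) = 2 := by
    rw [← Nat.card_eq_fintype_card, Nat.card_coe_set_eq, hfix]
    exact Set.ncard_pair (fun e => fr_ne_neg (congrArg Subtype.val e))
  rw [hcardfix, ← Nat.card_eq_fintype_card, Nat.card_coe_set_eq] at hmod
  exact hmod

end Cfsg.Agent.Lib.Helper27.Mod23
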