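import Mathlib
import Cfsg.Prelude.Def_Transfer

/-!
# Oc hive (S2924, helper22), leaf OC5c: the abstract commuting lemma (Mathlib only)
-/

set_option autoImplicit false
set_option linter.unusedVariables false
open Cfsg Subgroup

namespace Cfsg.Agent.Lib.Helper22.Oc

universe u

/-- a fixed-point-free involution normalizing a finite subgroup inverts it -/
theorem oc5c_inv {X : Type u} [Group X] [Finite X] (N : Subgroup X) (z : X) (hz2 : z * z = 1)
    (hzN : ∀ n ∈ N, z * n * z⁻¹ ∈ N) (hfpf : ∀ n ∈ N, n * z = z * n → n = 1) :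
    ∀ n ∈ N, z * n * z⁻¹ = n⁻¹ := by
  have hzinv : z⁻¹ = z := inv_eq_of_mul_eq_one_right hz2
  let f : ↥N → ↥N := fun n => ⟨(n : X)⁻¹ * (z * (n : X) * z⁻¹), N.mul_mem (N.inv_mem n.2) (hzN n n.2)⟩
  have hinj : Function.Injective f := by
    intro n m hnm
    have h1 : (n : X)⁻¹ * (z * (n : X) * z⁻¹) = (m : X)⁻¹ * (z * (m : X) * z⁻¹) :=
      congrArg Subtype.val hnm
    have h2 : ((m : X) * (n : X)⁻¹) * z = z * ((m : X) * (n : X)⁻¹) := by
      have h3 : (n : X)⁻¹ * z * (n : X) = (m : X)⁻¹ * z * (m : X) := by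
        have := congrArg (fun x => x * z) h1
        simpa [mul_assoc] using this
      calc (m : X) * (n : X)⁻¹ * z = (m : X) * ((n : X)⁻¹ * z * (n : X)) * (n : X)⁻¹ := by group
        _ = (m : X) * ((m : X)⁻¹ * z * (m : X)) * (n : X)⁻¹ := by rw [h3]
        _ = z * ((m : X) * (n : X)⁻¹) := by group
    have h4 := hfpf _ (N.mul_mem m.2 (N.inv_mem n.2)) h2
    have h5 : (m : X) = (n : X) := by
      have := mul_inv_eq_one.mp h4
      exact this
    exact Subtype.ext h5.symm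
  have hsurj : Function.Surjective f := Finite.surjective_of_injective hinj
  intro m hm
  obtain ⟨n, hn⟩ := hsurj ⟨m, hm⟩
  have hm' : m = (n : X)⁻¹ * (z * (n : X) * z⁻¹) := (congrArg Subtype.val hn).symm
  rw [hm']
  calc z * ((n : X)⁻¹ * (z * (n : X) * z⁻¹)) * z⁻¹
      = (z * (n : X)⁻¹ * z⁻¹) * ((z * z) * (n : X) * (z * z)⁻¹) := by group
    _ = (z * (n : X)⁻¹ * z⁻¹) * (n : X) := by rw [hz2]; group
    _ = ((n : X)⁻¹ * (z * (n : X) * z⁻¹))⁻¹ := by group

/-- splitting an element of an odd-order abelian subgroup inverted by `z` along an involution `t` -/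
theorem oc5c_split {X : Type u} [Group X] [Finite X] (N : Subgroup X) (hodd : Odd (Nat.card ↥N))
    (hab : ∀ m ∈ N, ∀ n ∈ N, m * n = n * m) (z t : X) (ht2 : t * t = 1)
    (htN : ∀ n ∈ N, t * n * t⁻¹ ∈ N) (hzinv : ∀ n ∈ N, z * n * z⁻¹ = n⁻¹)
    (a : X) (ha : a ∈ N) :
    ∃ a1 ∈ N, ∃ a2 ∈ N, a = a1 * a2 ∧ Commute a1 t ∧ Commute a2 (t * z) := by
  have htinv : t⁻¹ = t := inv_eq_of_mul_eq_one_right ht2
  obtain ⟨k, hk⟩ := hodd
  set r : X := a ^ (k + 1) with hr
  have hrN : r ∈ N := N.pow_mem ha _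
  have hacard : a ^ (Nat.card ↥N) = 1 := by
    have := pow_card_eq_one' (G := ↥N) (x := ⟨a, ha⟩)
    exact congrArg Subtype.val this
  have hrr : r * r = a := by
    rw [hr, ← pow_add]
    have : k + 1 + (k + 1) = Nat.card ↥N + 1 := by omega
    rw [this, pow_succ, hacard, one_mul]
  set s : X := t * r * t⁻¹ with hs
  have hsN : s ∈ N := htN r hrN
  have hrs : r * s = s * r := hab r hrN s hsN
  have hts : t * s * t⁻¹ = r := by
    rw [hs, htinv]
    calc t * (t * r * t) * t = (t * t) * r * (t * t) := by group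
      _ = r := by rw [ht2]; group
  refine ⟨r * s, N.mul_mem hrN hsN, r * s⁻¹, N.mul_mem hrN (N.inv_mem hsN), ?_, ?_, ?_⟩
  · calc a = r * r := hrr.symm
      _ = r * (s * s⁻¹) * r := by group
      _ = (r * s) * s⁻¹ * r := by group
      _ = (r * s) * (r * s⁻¹) := by
        have : s⁻¹ * r = r * s⁻¹ := by
          have h1 : r * s⁻¹ = s⁻¹ * r := by
            calc r * s⁻¹ = s⁻¹ * (s * r) * s⁻¹ := by group
              _ = s⁻¹ * (r * s) * s⁻¹ := by rw [hrs]
              _ = s⁻¹ * r := by group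
          exact h1.symm
        rw [mul_assoc (r * s) s⁻¹ r, this]
  · -- `t (r s) t⁻¹ = s r = r s`
    show (r * s) * t = t * (r * s)
    have h1 : t * (r * s) * t⁻¹ = r * s := by
      calc t * (r * s) * t⁻¹ = (t * r * t⁻¹) * (t * s * t⁻¹) := by group
        _ = s * r := by rw [hts]
        _ = r * s := hrs.symm
    calc (r * s) * t = (t * (r * s) * t⁻¹) * t := by rw [h1]
      _ = t * (r * s) := by group
  · show (r * s⁻¹) * (t * z) = (t * z) * (r * s⁻¹)
    have hmem : r * s⁻¹ ∈ N := N.mul_mem hrN (N.inv_mem hsN)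
    have h1 : t * (r * s⁻¹) * t⁻¹ = (r * s⁻¹)⁻¹ := by
      calc t * (r * s⁻¹) * t⁻¹ = (t * r * t⁻¹) * (t * s * t⁻¹)⁻¹ := by group
        _ = s * r⁻¹ := by rw [hts]
        _ = (r * s⁻¹)⁻¹ := by group
    have h2 : z * (r * s⁻¹) * z⁻¹ = (r * s⁻¹)⁻¹ := hzinv _ hmem
    have h3 : (t * z) * (r * s⁻¹) * (t * z)⁻¹ = r * s⁻¹ := by
      calc (t * z) * (r * s⁻¹) * (t * z)⁻¹ = t * (z * (r * s⁻¹) * z⁻¹) * t⁻¹ := by group
        _ = t * (r * s⁻¹)⁻¹ * t⁻¹ := by rw [h2]
        _ = (t * (r * s⁻¹) * t⁻¹)⁻¹ := by group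
        _ = r * s⁻¹ := by rw [h1, inv_inv]
    calc (r * s⁻¹) * (t * z) = ((t * z) * (r * s⁻¹) * (t * z)⁻¹) * (t * z) := by rw [h3]
      _ = (t * z) * (r * s⁻¹) := by group

/-- OC5c. Abstract commuting lemma. -/
theorem oc5c {X : Type u} [Group X] [Finite X] (Y : Subgroup X) (hY : IsElementaryAbelian 2 Y)
    (h8 : 8 ≤ Nat.card Y) (z : X) (hzY : z ∈ Y) (hz1 : z ≠ 1) (θ : X → Subgroup X)
    (hnorm : ∀ u ∈ Y, u ≠ 1 → ∀ t ∈ Y, ∀ a ∈ θ u, t * a * t⁻¹ ∈ θ u)
    (hcent : ∀ u ∈ Y, u ≠ 1 → ∀ a ∈ θ u, a * u = u * a)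
    (hodd : ∀ u ∈ Y, u ≠ 1 → Odd (Nat.card (θ u)))
    (hfpf : ∀ u ∈ Y, u ≠ 1 → ∀ a ∈ θ u, a * z = z * a → a = 1)
    (hbal : ∀ u ∈ Y, u ≠ 1 → ∀ v ∈ Y, v ≠ 1 → ∀ a ∈ θ u, a * v = v * a → a ∈ θ v) :
    ∀ u ∈ Y, u ≠ 1 → ∀ v ∈ Y, v ≠ 1 → ∀ a ∈ θ u, ∀ b ∈ θ v, a * b = b * a := by
  -- basic facts on `Y`
  have hYc : ∀ s ∈ Y, ∀ t ∈ Y, s * t = t * s := by
    intro s hs t ht
    exact congrArg Subtype.val (hY.1.is_comm.comm ⟨s, hs⟩ ⟨t, ht⟩)
  have hY2 : ∀ s ∈ Y, s * s = 1 := by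
    intro s hs
    have := hY.2 s hs
    rwa [pow_two] at this
  have hz2 : z * z = 1 := hY2 z hzY
  -- `z` inverts every `θ w`
  have hinv : ∀ w ∈ Y, w ≠ 1 → ∀ n ∈ θ w, z * n * z⁻¹ = n⁻¹ := by
    intro w hw hw1
    exact oc5c_inv (θ w) z hz2 (hnorm w hw hw1 z hzY) (hfpf w hw hw1)
  -- every `θ w` is abelian
  have hab : ∀ w ∈ Y, w ≠ 1 → ∀ m ∈ θ w, ∀ n ∈ θ w, m * n = n * m := by
    intro w hw hw1 m hm n hn
    have h1 := hinv w hw hw1 (m * n) ((θ w).mul_mem hm hn)
    have h2 := hinv w hw hw1 m hm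
    have h3 := hinv w hw hw1 n hn
    have h4 : z * (m * n) * z⁻¹ = (z * m * z⁻¹) * (z * n * z⁻¹) := by group
    rw [h4, h2, h3] at h1
    -- `m⁻¹ n⁻¹ = (m n)⁻¹ = n⁻¹ m⁻¹`
    have h5 : m⁻¹ * n⁻¹ = n⁻¹ * m⁻¹ := by rw [h1]; group
    calc m * n = (n⁻¹ * m⁻¹)⁻¹ := by group
      _ = (m⁻¹ * n⁻¹)⁻¹ := by rw [h5]
      _ = n * m := by group
  -- the key step
  have key : ∀ w ∈ Y, w ≠ 1 → ∀ u' ∈ Y, u' ≠ 1 → ∀ v' ∈ Y, v' ≠ 1 → ∀ a' ∈ θ u', ∀ b' ∈ θ v',
      Commute a' w → Commute b' w → Commute a' b' := by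
    intro w hw hw1 u' hu' hu'1 v' hv' hv'1 a' ha' b' hb' haw hbw
    exact hab w hw hw1 a' (hbal u' hu' hu'1 w hw hw1 a' ha' haw) b'
      (hbal v' hv' hv'1 w hw hw1 b' hb' hbw)
  intro u hu hu1 v hv hv1 a ha b hb
  -- the four-pairs argument for a splitting involution `t`
  have pairs : ∀ t ∈ Y, t ≠ 1 → t * z ≠ 1 → ∀ w12 ∈ Y, w12 ≠ 1 → ∀ w21 ∈ Y, w21 ≠ 1 →
      (∀ x, Commute x u → Commute x t → Commute x w12) →
      (∀ x, Commute x v → Commute x (t * z) → Commute x w12) →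
      (∀ x, Commute x u → Commute x (t * z) → Commute x w21) →
      (∀ x, Commute x v → Commute x t → Commute x w21) → a * b = b * a := by
    intro t ht ht1 htz1 w12 hw12 hw12' w21 hw21 hw21' f1 f2 f3 f4
    have htzY : t * z ∈ Y := Y.mul_mem ht hzY
    obtain ⟨a1, ha1, a2, ha2, haeq, hca1, hca2⟩ :=
      oc5c_split (θ u) (hodd u hu hu1) (hab u hu hu1) z t (hY2 t ht) (hnorm u hu hu1 t ht)
        (hinv u hu hu1) a ha
    obtain ⟨b1, hb1, b2, hb2, hbeq, hcb1, hcb2⟩ :=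
      oc5c_split (θ v) (hodd v hv hv1) (hab v hv hv1) z t (hY2 t ht) (hnorm v hv hv1 t ht)
        (hinv v hv hv1) b hb
    have c11 : Commute a1 b1 := key t ht ht1 u hu hu1 v hv hv1 a1 ha1 b1 hb1 hca1 hcb1
    have c22 : Commute a2 b2 := key (t * z) htzY htz1 u hu hu1 v hv hv1 a2 ha2 b2 hb2 hca2 hcb2
    have c12 : Commute a1 b2 := key w12 hw12 hw12' u hu hu1 v hv hv1 a1 ha1 b2 hb2
      (f1 a1 (hcent u hu hu1 a1 ha1) hca1) (f2 b2 (hcent v hv hv1 b2 hb2) hcb2)
    have c21 : Commute a2 b1 := key w21 hw21 hw21' u hu hu1 v hv hv1 a2 ha2 b1 hb1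
      (f3 a2 (hcent u hu hu1 a2 ha2) hca2) (f4 b1 (hcent v hv hv1 b1 hb1) hcb1)
    rw [haeq, hbeq]
    exact ((c11.mul_right c12).mul_left (c21.mul_right c22))
  by_cases huv : v = u
  · subst huv
    exact hab v hv hv1 a ha b hb
  by_cases hvz : v = u * z
  · -- choose `t ∈ Y` outside `{1, u, z, u z}`
    obtain ⟨t, ht, ht1, htu, htz, htuz⟩ : ∃ t ∈ Y, t ≠ 1 ∧ t ≠ u ∧ t ≠ z ∧ t ≠ u * z := by
      by_contra hcon
      push Not at hcon
      have hsub : (Y : Set X) ⊆ {1, u, z, u * z} := by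
        intro t ht
        by_cases h1 : t = 1
        · simp [h1]
        by_cases h2 : t = u
        · simp [h2]
        by_cases h3 : t = z
        · simp [h3]
        have := hcon t ht h1 h2 h3
        simp [this]
      have hfin : ({1, u, z, u * z} : Set X).Finite := Set.toFinite _
      have h1 : (Y : Set X).ncard ≤ ({1, u, z, u * z} : Set X).ncard := Set.ncard_le_ncard hsub hfin
      have h2 : ({1, u, z, u * z} : Set X).ncard ≤ 4 := by
        calc ({1, u, z, u * z} : Set X).ncard ≤ ({u, z, u * z} : Set X).ncard + 1 :=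
              Set.ncard_insert_le _ _
          _ ≤ (({z, u * z} : Set X).ncard + 1) + 1 := by
              have := Set.ncard_insert_le u ({z, u * z} : Set X); omega
          _ ≤ ((({u * z} : Set X).ncard + 1) + 1) + 1 := by
              have := Set.ncard_insert_le z ({u * z} : Set X); omega
          _ = 4 := by rw [Set.ncard_singleton]
      have h3 : Nat.card ↥Y = (Y : Set X).ncard := by
        exact (_root_.Nat.card_coe_set_eq (Y : Set X))
      omega
    have htz1 : t * z ≠ 1 := by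
      intro h
      apply htz
      have : t * z * z = z := by rw [h, one_mul]
      rw [mul_assoc, hz2, mul_one] at this
      exact this
    have hw12 : u * t ≠ 1 := by
      intro h
      apply htu
      have : u * (u * t) = u := by rw [h, mul_one]
      rw [← mul_assoc, hY2 u hu, one_mul] at this
      exact this
    have hw21 : u * (t * z) ≠ 1 := by
      intro h
      apply htuz
      have e : u * (u * (t * z)) * z = u * z := by rw [h, mul_one]
      have e2 : u * (u * (t * z)) * z = (u * u) * t * (z * z) := by group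
      rw [e2, hY2 u hu, hz2, one_mul, mul_one] at e
      exact e
    refine pairs t ht ht1 htz1 (u * t) (Y.mul_mem hu ht) hw12 (u * (t * z))
      (Y.mul_mem hu (Y.mul_mem ht hzY)) hw21 ?_ ?_ ?_ ?_
    · intro x hxu hxt
      exact hxu.mul_right hxt
    · intro x hxv hxtz
      -- `u t = v (t z)`
      have e : u * t = v * (t * z) := by
        rw [hvz]
        have h1 : z * (t * z) = t := by
          rw [hYc t ht z hzY, ← mul_assoc, hz2, one_mul]
        rw [mul_assoc u z (t * z), h1]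
      rw [e]
      exact hxv.mul_right hxtz
    · intro x hxu hxtz
      exact hxu.mul_right hxtz
    · intro x hxv hxt
      have e : u * (t * z) = v * t := by
        rw [hvz, mul_assoc u z t, hYc z hzY t ht]
      rw [e]
      exact hxv.mul_right hxt
  · -- independent case: `t = u v`
    have ht : u * v ∈ Y := Y.mul_mem hu hv
    have ht1 : u * v ≠ 1 := by
      intro h
      apply huv
      have : u * (u * v) = u := by rw [h, mul_one]
      rw [← mul_assoc, hY2 u hu, one_mul] at this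
      exact this
    have htz1 : u * v * z ≠ 1 := by
      intro h
      apply hvz
      have e : u * (u * v * z) * z = u * z := by rw [h, mul_one]
      have e2 : u * (u * v * z) * z = (u * u) * v * (z * z) := by group
      rw [e2, hY2 u hu, hz2, one_mul, mul_one] at e
      exact e
    refine pairs (u * v) ht ht1 htz1 v hv hv1 u hu hu1 ?_ ?_ ?_ ?_
    · intro x hxu hxt
      have e : v = u * (u * v) := by rw [← mul_assoc, hY2 u hu, one_mul]
      rw [e]
      exact hxu.mul_right hxt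
    · intro x hxv _
      exact hxv
    · intro x hxu _
      exact hxu
    · intro x hxv hxt
      have e : u = (u * v) * v := by rw [mul_assoc, hY2 v hv, mul_one]
      rw [e]
      exact hxt.mul_right hxv

end Cfsg.Agent.Lib.Helper22.Oc
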