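import Mathlib

/-! # Og hive (S2413 / S2414 / S2415), leaf OG-PERF: `le_of_twisted_gens` -/

set_option autoImplicit false

namespace Cfsg.Agent.Lib.Helper67.Og

open scoped commutatorElement

theorem perf_comm_twist {G : Type*} [Group G] (x y s t : G) (hsy : Commute s y)
    (htx : Commute t x) (hst : Commute s t) : ⁅x * s, y * t⁆ = ⁅x, y⁆ := by
  rw [commutatorElement_def, commutatorElement_def, mul_inv_rev, mul_inv_rev]
  have h1 : x * s * (y * t) * (s⁻¹ * x⁻¹) * (t⁻¹ * y⁻¹)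
      = x * (s * y) * (t * s⁻¹) * x⁻¹ * t⁻¹ * y⁻¹ := by group
  have h2 : t * s⁻¹ = s⁻¹ * t := (hst.inv_left.symm).eq
  have h3 : x * (y * s) * (s⁻¹ * t) * x⁻¹ * t⁻¹ * y⁻¹ = x * y * (t * x⁻¹) * t⁻¹ * y⁻¹ := by group
  have h4 : t * x⁻¹ = x⁻¹ * t := (htx.inv_right).eq
  have h5 : x * y * (x⁻¹ * t) * t⁻¹ * y⁻¹ = x * y * x⁻¹ * y⁻¹ := by group
  rw [h1, hsy.eq, h2, h3, h4, h5]

/-- OG-PERF : a perfect group is recovered from generators twisted by a centralizing element -/
theorem le_of_twisted_gens {S G : Type*} [Group S] [Group G] (hS : commutator S = ⊤)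
    (L : S →* G) (σ : G) (hσ : ∀ A, Commute σ (L A)) (a b : S)
    (hab : Subgroup.closure ({a, b} : Set S) = ⊤) (H : Subgroup G) (ha : L a * σ ∈ H)
    (hb : L b ∈ H) (A : S) : L A ∈ H := by
  let T : Subgroup S :=
    { carrier := {A | ∃ n : ℤ, L A * σ ^ n ∈ H}
      one_mem' := ⟨0, by simp [H.one_mem]⟩
      mul_mem' := by
        rintro A B ⟨n, hn⟩ ⟨m, hm⟩
        refine ⟨n + m, ?_⟩
        have hc : Commute (σ ^ n) (L B) := (hσ B).zpow_left n
        have h1 : L (A * B) * σ ^ (n + m) = (L A * σ ^ n) * (L B * σ ^ m) := by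
          rw [map_mul, zpow_add]
          calc L A * L B * (σ ^ n * σ ^ m) = L A * (L B * σ ^ n) * σ ^ m := by group
            _ = L A * (σ ^ n * L B) * σ ^ m := by rw [hc.eq]
            _ = L A * σ ^ n * (L B * σ ^ m) := by group
        rw [h1]
        exact H.mul_mem hn hm
      inv_mem' := by
        rintro A ⟨n, hn⟩
        refine ⟨-n, ?_⟩
        have hc : Commute (σ ^ n) (L A) := (hσ A).zpow_left n
        have h1 : L A⁻¹ * σ ^ (-n) = (L A * σ ^ n)⁻¹ := by
          rw [map_inv, mul_inv_rev, zpow_neg]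
          exact (hc.inv_inv).eq.symm
        rw [h1]
        exact H.inv_mem hn }
  have hT : T = ⊤ := by
    rw [eq_top_iff, ← hab, Subgroup.closure_le]
    rintro x (rfl | rfl)
    · exact ⟨1, by simpa using ha⟩
    · exact ⟨0, by simpa using hb⟩
  have hcomm : ∀ A B : S, L ⁅A, B⁆ ∈ H := by
    intro A B
    obtain ⟨n, hn⟩ : A ∈ T := by rw [hT]; trivial
    obtain ⟨m, hm⟩ : B ∈ T := by rw [hT]; trivial
    have h1 : L ⁅A, B⁆ = ⁅L A * σ ^ n, L B * σ ^ m⁆ := by
      rw [map_commutatorElement]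
      exact (perf_comm_twist (L A) (L B) (σ ^ n) (σ ^ m) ((hσ B).zpow_left n)
        ((hσ A).zpow_left m) ((Commute.refl σ).zpow_zpow n m)).symm
    rw [h1, commutatorElement_def]
    exact H.mul_mem (H.mul_mem (H.mul_mem hn hm) (H.inv_mem hn)) (H.inv_mem hm)
  have hle : commutator S ≤ H.comap L := by
    rw [commutator_def, Subgroup.commutator_le]
    intro g₁ _ g₂ _
    exact hcomm g₁ g₂
  have hA : A ∈ commutator S := by rw [hS]; trivial
  exact hle hA
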