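import Mathlib

set_option autoImplicit false

namespace Cfsg.Agent.Lib.Helper27

variable {G β C : Type*} [Group G] [MulAction G β]

/-- the orbit of `x` under a subgroup `K`, in set-builder form. -/
def orbK (K : Subgroup G) (x : β) : Set β := {y | ∃ g ∈ K, g • x = y}

theorem mem_orbK {K : Subgroup G} {x y : β} : y ∈ orbK K x ↔ ∃ g ∈ K, g • x = y := Iff.rfl

theorem self_mem_orbK (K : Subgroup G) (x : β) : x ∈ orbK K x := ⟨1, K.one_mem, one_smul _ _⟩

/-- an orbit class given by codes: representative, list of elements, value of the invariant. -/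
structure OrbCls (C : Type*) where
  rep : C
  elems : List C
  val : ℕ

/-- validity of a class certificate. -/
structure OrbCls.Valid (K : Subgroup G) (D : C → β) (inv : β → ℕ) (c : OrbCls C) : Prop where
  orb : ∀ l ∈ c.elems, ∃ g ∈ K, g • D c.rep = D l
  invc : ∀ l ∈ c.elems, inv (D l) = c.val
  nodup : c.elems.Nodup
  rep_mem : c.rep ∈ c.elems

section
variable (K : Subgroup G) (D : C → β) (inv : β → ℕ) (Ω : Set β) (cls : List (OrbCls C))

theorem cls_eq_of_val {cls : List (OrbCls C)}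
    (hvals : cls.Pairwise (fun c c' => c.val ≠ c'.val)) {c c' : OrbCls C} (hc : c ∈ cls)
    (hc' : c' ∈ cls) (h : c.val = c'.val) : c = c' := by
  by_contra hne
  have : Std.Symm (fun c c' : OrbCls C => c.val ≠ c'.val) := ⟨fun _ _ h => h.symm⟩
  exact (hvals.forall hc hc' hne) h

theorem elems_mem_Ω {K : Subgroup G} {D : C → β} {inv : β → ℕ} {Ω : Set β} {cls : List (OrbCls C)}
    (hv : ∀ c ∈ cls, c.Valid K D inv)
    (hΩ : ∀ g ∈ K, ∀ y ∈ Ω, g • y ∈ Ω) (hrep : ∀ c ∈ cls, D c.rep ∈ Ω)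
    {c : OrbCls C} (hc : c ∈ cls) {l : C} (hl : l ∈ c.elems) : D l ∈ Ω := by
  obtain ⟨g, hg, h⟩ := (hv c hc).orb l hl
  rw [← h]
  exact hΩ g hg _ (hrep c hc)

/-- completeness of the classes from a count. -/
theorem complete_of_ncard
    (hv : ∀ c ∈ cls, c.Valid K D inv)
    (hΩ : ∀ g ∈ K, ∀ y ∈ Ω, g • y ∈ Ω) (hrep : ∀ c ∈ cls, D c.rep ∈ Ω)
    (hvals : cls.Pairwise (fun c c' => c.val ≠ c'.val))
    (hinj : ∀ c ∈ cls, ∀ c' ∈ cls, ∀ l ∈ c.elems, ∀ l' ∈ c'.elems, D l = D l' → l = l')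
    (hfin : Ω.Finite) (hcard : Ω.ncard ≤ (cls.map (fun c => c.elems.length)).sum) :
    ∀ y ∈ Ω, ∃ c ∈ cls, ∃ l ∈ c.elems, D l = y := by
  classical
  set All : List C := cls.flatMap (fun c => c.elems) with hAll
  have hmemAll : ∀ l, l ∈ All ↔ ∃ c ∈ cls, l ∈ c.elems := fun l => by
    rw [hAll, List.mem_flatMap]
  have hnd : All.Nodup := by
    rw [hAll, List.nodup_flatMap]
    refine ⟨fun c hc => (hv c hc).nodup, ?_⟩
    have : ∀ c ∈ cls, ∀ c' ∈ cls, c.val ≠ c'.val →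
        Function.onFun List.Disjoint (fun c : OrbCls C => c.elems) c c' := by
      intro c hc c' hc' hne l hl hl'
      exact hne (by rw [← (hv c hc).invc l hl, ← (hv c' hc').invc l hl'])
    exact hvals.imp_of_mem (fun {a b} ha hb h => this a ha b hb h)
  have hsub : D '' {l | l ∈ All} ⊆ Ω := by
    rintro _ ⟨l, hl, rfl⟩
    obtain ⟨c, hc, hlc⟩ := (hmemAll l).mp hl
    exact elems_mem_Ω hv hΩ hrep hc hlc
  have hinjOn : Set.InjOn D {l | l ∈ All} := by
    intro l hl l' hl' h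
    obtain ⟨c, hc, hlc⟩ := (hmemAll l).mp hl
    obtain ⟨c', hc', hlc'⟩ := (hmemAll l').mp hl'
    exact hinj c hc c' hc' l hlc l' hlc' h
  have hcardAll : (D '' {l | l ∈ All}).ncard = (cls.map (fun c => c.elems.length)).sum := by
    rw [hinjOn.ncard_image]
    have : {l | l ∈ All} = (↑All.toFinset : Set C) := by
      ext l; simp
    rw [this, Set.ncard_coe_finset, List.toFinset_card_of_nodup hnd, hAll, List.length_flatMap]
  have heq : D '' {l | l ∈ All} = Ω :=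
    Set.eq_of_subset_of_ncard_le hsub (by rw [hcardAll]; exact hcard) hfin
  intro y hy
  rw [← heq] at hy
  obtain ⟨l, hl, rfl⟩ := hy
  obtain ⟨c, hc, hlc⟩ := (hmemAll l).mp hl
  exact ⟨c, hc, l, hlc, rfl⟩

/-- the classes are exactly the orbits. -/
theorem orbit_classes
    (hv : ∀ c ∈ cls, c.Valid K D inv)
    (hinv : ∀ g ∈ K, ∀ y, inv (g • y) = inv y)
    (hΩ : ∀ g ∈ K, ∀ y ∈ Ω, g • y ∈ Ω) (hrep : ∀ c ∈ cls, D c.rep ∈ Ω)
    (hvals : cls.Pairwise (fun c c' => c.val ≠ c'.val))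
    (hinj : ∀ c ∈ cls, ∀ c' ∈ cls, ∀ l ∈ c.elems, ∀ l' ∈ c'.elems, D l = D l' → l = l')
    (hcomplete : ∀ y ∈ Ω, ∃ c ∈ cls, ∃ l ∈ c.elems, D l = y) :
    (∀ c ∈ cls, orbK K (D c.rep) = D '' {l | l ∈ c.elems} ∧
      (orbK K (D c.rep)).ncard = c.elems.length) ∧
    (∀ y, y ∈ Ω ↔ ∃ c ∈ cls, y ∈ orbK K (D c.rep)) := by
  classical
  have horb : ∀ c ∈ cls, orbK K (D c.rep) = D '' {l | l ∈ c.elems} := by
    intro c hc
    ext y
    constructor
    · rintro ⟨g, hg, rfl⟩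
      have hyΩ : g • D c.rep ∈ Ω := hΩ g hg _ (hrep c hc)
      obtain ⟨c', hc', l', hl', h⟩ := hcomplete _ hyΩ
      have h1 : inv (g • D c.rep) = c.val := by
        rw [hinv g hg, (hv c hc).invc _ (hv c hc).rep_mem]
      have h2 : inv (g • D c.rep) = c'.val := by
        rw [← h, (hv c' hc').invc _ hl']
      have : c = c' := cls_eq_of_val hvals hc hc' (by rw [← h1, h2])
      subst this
      exact ⟨l', hl', h⟩
    · rintro ⟨l, hl, rfl⟩
      exact (hv c hc).orb l hl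
  refine ⟨fun c hc => ⟨horb c hc, ?_⟩, fun y => ⟨fun hy => ?_, ?_⟩⟩
  · rw [horb c hc, Set.InjOn.ncard_image]
    · have : {l | l ∈ c.elems} = (↑c.elems.toFinset : Set C) := by
        ext l; simp
      rw [this, Set.ncard_coe_finset, List.toFinset_card_of_nodup (hv c hc).nodup]
    · intro l hl l' hl' h
      exact hinj c hc c hc l hl l' hl' h
  · obtain ⟨c, hc, l, hl, rfl⟩ := hcomplete y hy
    exact ⟨c, hc, (hv c hc).orb l hl⟩
  · rintro ⟨c, hc, g, hg, rfl⟩
    exact hΩ g hg _ (hrep c hc)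

end

/-- transport of a subgroup orbit along a group element. -/
theorem orbK_conj (K K' : Subgroup G) (g0 : G)
    (hK : ∀ g, g ∈ K' ↔ g0⁻¹ * g * g0 ∈ K) (x : β) :
    orbK K' (g0 • x) = (fun y => g0 • y) '' orbK K x := by
  ext y
  constructor
  · rintro ⟨g, hg, rfl⟩
    refine ⟨(g0⁻¹ * g * g0) • x, ⟨_, (hK g).mp hg, rfl⟩, ?_⟩
    simp only [mul_smul, smul_inv_smul]
  · rintro ⟨_, ⟨k, hk, rfl⟩, rfl⟩
    refine ⟨g0 * k * g0⁻¹, (hK _).mpr ?_, ?_⟩
    · have : g0⁻¹ * (g0 * k * g0⁻¹) * g0 = k := by group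
      rw [this]; exact hk
    · simp only [mul_smul, inv_smul_smul]

theorem ncard_image_smul (g0 : G) (s : Set β) : ((fun y => g0 • y) '' s).ncard = s.ncard :=
  Set.ncard_image_of_injective _ (MulAction.injective g0)

end Cfsg.Agent.Lib.Helper27
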