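import Mathlib

/-! # S4427 hive (architect helper56), leaf P3-L2b: the idempotent cut out by a comaximal factorisation of an
annihilating polynomial

`ε = (b h)(t)`: `ε² - ε = -(a b)(t) (g h)(t) = 0`; `g = u + X d` with `u = g(0)` a unit gives
`b h - X W = u⁻¹ b (g h)` for `W = -u⁻¹ d b h`, so `ε = t W(t)`; and `φ ε = b(1) h(1) = 1` because
`g(1) h(1) = 0`, `h(1)` is a unit and `a(1) g(1) + b(1) h(1) = 1`.  (Mathlib only.) -/

set_option autoImplicit false

namespace Cfsg.Agent.Lib.P3

open Polynomial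

/-! ### P3-L2b : the idempotent cut out by a comaximal factorisation of an annihilating polynomial -/
theorem p3_L2b_idem {S : Type*} [CommRing S] [IsDomain S] {A : Type*} [Ring A] [Algebra S A]
    (t : A) (g h a b : Polynomial S) (hann : Polynomial.aeval t (g * h) = 0)
    (hab : a * g + b * h = 1) (hg0 : IsUnit (g.eval 0)) (hh1 : IsUnit (h.eval 1)) :
    ∃ ε w : A, ε * ε = ε ∧ ε = t * w ∧ ∀ φ : A →ₐ[S] S, φ t = 1 → φ ε = 1 := by
  obtain ⟨u, hu⟩ := hg0
  have hg : g = C (u : S) + X * divX g := by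
    conv_lhs => rw [← Polynomial.divX_mul_X_add g]
    rw [Polynomial.coeff_zero_eq_eval_zero, ← hu]
    ring
  have hCu : C ((u⁻¹ : Sˣ) : S) * C (u : S) = 1 := by
    rw [← C_mul, Units.inv_mul, C_1]
  have key : ∀ d : Polynomial S, g = C (u : S) + X * d →
      b * h - X * (-C ((u⁻¹ : Sˣ) : S) * d * b * h) = C ((u⁻¹ : Sˣ) : S) * b * (g * h) := by
    intro d hd
    rw [hd]
    linear_combination (-(b * h)) * hCu
  have hkey := key (divX g) hg
  have hidem : b * h * (b * h) - b * h = -(a * b) * (g * h) := by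
    linear_combination (b * h) * hab
  refine ⟨aeval t (b * h), aeval t (-C ((u⁻¹ : Sˣ) : S) * divX g * b * h), ?_, ?_, ?_⟩
  · have h1 : aeval t (b * h * (b * h) - b * h) = 0 := by
      rw [hidem, map_mul, hann, mul_zero]
    rw [map_sub, map_mul (aeval t) (b * h) (b * h), sub_eq_zero] at h1
    exact h1
  · have h1 : aeval t (b * h - X * (-C ((u⁻¹ : Sˣ) : S) * divX g * b * h)) = 0 := by
      rw [hkey, map_mul, hann, mul_zero]
    rw [map_sub, map_mul (aeval t) X, aeval_X, sub_eq_zero] at h1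
    exact h1
  · intro φ hφ
    have hev : ∀ p : Polynomial S, φ (aeval t p) = p.eval 1 := by
      intro p
      rw [← Polynomial.aeval_algHom_apply, hφ, Polynomial.coe_aeval_eq_eval]
    have h1 : g.eval 1 * h.eval 1 = 0 := by
      rw [← eval_mul, ← hev, hann, map_zero]
    have h2 : g.eval 1 = 0 := (hh1.mul_left_eq_zero).mp h1
    have h3 := congrArg (Polynomial.eval 1) hab
    rw [eval_add, eval_mul, eval_mul, h2, mul_zero, zero_add, eval_one] at h3
    rw [hev, eval_mul]
    exact h3

end Cfsg.Agent.Lib.P3
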