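import Mathlib
import Cfsg.Agent.Lib.Helper14.P4Defs

/-! Shared facts for the S6000 hive (P4): a `PauliLike` group forces a square root of `-1` in `F`
(the `unit` field is vacuous otherwise), via the twirl. All names prefixed `a4_`. -/

set_option autoImplicit false

namespace Cfsg.Agent.Lib.Helper14.P4

open Matrix

variable {F : Type*} [Field F]

/-- non-scalar elements of `R` are traceless (own copy of P4-B1). -/
theorem a4_trace_zero (h2 : (2 : F) ≠ 0) (R : Subgroup (GL (Fin 4) F))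
    (hR : PauliLike R) (g : GL (Fin 4) F) (hg : g ∈ R)
    (hns : ∀ c : F, (g : Matrix (Fin 4) (Fin 4) F) ≠ c • 1) :
    Matrix.trace (g : Matrix (Fin 4) (Fin 4) F) = 0 := by
  have hex : ∃ h ∈ R, ¬ ((g : Matrix (Fin 4) (Fin 4) F) * (h : Matrix (Fin 4) (Fin 4) F) =
      (h : Matrix (Fin 4) (Fin 4) F) * (g : Matrix (Fin 4) (Fin 4) F)) := by
    by_contra hcon
    push Not at hcon
    obtain ⟨c, hc⟩ := hR.comm (g : Matrix (Fin 4) (Fin 4) F) (fun h hh => hcon h hh)
    exact hns c hc
  obtain ⟨h, hh, hne⟩ := hex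
  have hanti := (hR.anti g hg h hh).resolve_left hne
  have h1 : Matrix.trace ((g : Matrix (Fin 4) (Fin 4) F) * (h : Matrix (Fin 4) (Fin 4) F) *
      ((h⁻¹ : GL (Fin 4) F) : Matrix (Fin 4) (Fin 4) F)) =
      Matrix.trace (g : Matrix (Fin 4) (Fin 4) F) := by
    rw [Matrix.mul_assoc, Units.mul_inv, Matrix.mul_one]
  have h3 : Matrix.trace ((g : Matrix (Fin 4) (Fin 4) F) * (h : Matrix (Fin 4) (Fin 4) F) *
      ((h⁻¹ : GL (Fin 4) F) : Matrix (Fin 4) (Fin 4) F)) =
      - Matrix.trace (g : Matrix (Fin 4) (Fin 4) F) := by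
    rw [hanti, Matrix.neg_mul, Matrix.trace_neg, Matrix.trace_mul_cycle, Units.inv_mul,
      Matrix.one_mul]
  have h4 : (2 : F) * Matrix.trace (g : Matrix (Fin 4) (Fin 4) F) = 0 := by
    have := h1.symm.trans h3
    linear_combination this
  exact (mul_eq_zero.mp h4).resolve_left h2

/-- the twirl: `∑_{h ∈ R} h A h⁻¹ = 16 tr(A) • 1`. -/
theorem a4_twirl (h2 : (2 : F) ≠ 0) (R : Subgroup (GL (Fin 4) F)) (hR : PauliLike R) [Fintype R]
    (A : Matrix (Fin 4) (Fin 4) F) :
    ∑ h : R, ((h : GL (Fin 4) F) : Matrix (Fin 4) (Fin 4) F) * A *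
      (((h : GL (Fin 4) F)⁻¹ : GL (Fin 4) F) : Matrix (Fin 4) (Fin 4) F) =
      (16 * Matrix.trace A) • (1 : Matrix (Fin 4) (Fin 4) F) := by
  set S : Matrix (Fin 4) (Fin 4) F := ∑ h : R, ((h : GL (Fin 4) F) : Matrix (Fin 4) (Fin 4) F) * A *
      (((h : GL (Fin 4) F)⁻¹ : GL (Fin 4) F) : Matrix (Fin 4) (Fin 4) F) with hS
  have hcomm : ∀ g ∈ R, S * (g : Matrix (Fin 4) (Fin 4) F) = (g : Matrix (Fin 4) (Fin 4) F) * S := by
    intro g hg
    have e1 : (g : Matrix (Fin 4) (Fin 4) F) * S * ((g⁻¹ : GL (Fin 4) F) : Matrix (Fin 4) (Fin 4) F)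
        = S := by
      rw [hS, Finset.mul_sum, Finset.sum_mul]
      refine Fintype.sum_equiv (Equiv.mulLeft (⟨g, hg⟩ : R)) _ _ ?_
      intro h
      simp only [Equiv.coe_mulLeft, Subgroup.coe_mul, _root_.mul_inv_rev, Units.val_mul]
      simp only [Matrix.mul_assoc]
    calc S * (g : Matrix (Fin 4) (Fin 4) F)
        = (g : Matrix (Fin 4) (Fin 4) F) * S * ((g⁻¹ : GL (Fin 4) F) : Matrix (Fin 4) (Fin 4) F)
            * (g : Matrix (Fin 4) (Fin 4) F) := by rw [e1]
      _ = (g : Matrix (Fin 4) (Fin 4) F) * S := by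
          rw [Matrix.mul_assoc, Units.inv_mul, Matrix.mul_one]
  obtain ⟨c, hc⟩ := hR.comm S hcomm
  have htr : Matrix.trace S = 64 * Matrix.trace A := by
    rw [hS, Matrix.trace_sum]
    have : ∀ h : R, Matrix.trace (((h : GL (Fin 4) F) : Matrix (Fin 4) (Fin 4) F) * A *
      (((h : GL (Fin 4) F)⁻¹ : GL (Fin 4) F) : Matrix (Fin 4) (Fin 4) F)) = Matrix.trace A := by
      intro h
      rw [Matrix.trace_mul_cycle, Units.inv_mul, Matrix.one_mul]
    simp only [this, Finset.sum_const, Finset.card_univ]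
    have hc64 : Fintype.card R = 64 := by rw [← Nat.card_eq_fintype_card]; exact hR.card
    rw [hc64]; simp
  have h4 : (4 : F) ≠ 0 := by
    have : (4 : F) = 2 * 2 := by norm_num
    rw [this]; exact mul_ne_zero h2 h2
  have hc' : c = 16 * Matrix.trace A := by
    have := htr
    rw [hc, Matrix.trace_smul, Matrix.trace_one] at this
    simp only [Fintype.card_fin, smul_eq_mul] at this
    have h5 : (4 : F) * c = 4 * (16 * Matrix.trace A) := by
      push_cast at this; linear_combination this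
    exact mul_left_cancel₀ h4 h5
  rw [hc, hc']

/-- scalars in `R` are fourth roots of unity. -/
theorem a4_scalar_pow_four (R : Subgroup (GL (Fin 4) F)) (hR : PauliLike R)
    (g : GL (Fin 4) F) (hg : g ∈ R) (c : F) (hc : (g : Matrix (Fin 4) (Fin 4) F) = c • 1) :
    c * c = 1 ∨ c * c = -1 := by
  rcases hR.sq g hg with h | h
  · left
    have := congrFun (congrFun h 0) 0
    rw [hc] at this
    simpa [Matrix.mul_apply, Matrix.smul_apply, Matrix.one_apply] using this
  · right
    have := congrFun (congrFun h 0) 0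
    rw [hc] at this
    simpa [Matrix.mul_apply, Matrix.smul_apply, Matrix.one_apply] using this

/-- a subgroup of `R` consisting of scalars has at most 4 elements. -/
theorem a4_card_le_four_of_scalar (R : Subgroup (GL (Fin 4) F)) (hR : PauliLike R)
    (D : Subgroup (GL (Fin 4) F)) (hDR : D ≤ R)
    (hcon : ∀ g ∈ D, ∃ c : F, (g : Matrix (Fin 4) (Fin 4) F) = c • 1) : Nat.card D ≤ 4 := by
  have key : ∀ g : D, ((g : GL (Fin 4) F) : Matrix (Fin 4) (Fin 4) F) 0 0 ∈
      Polynomial.nthRootsFinset 4 (1 : F) := by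
    intro g
    obtain ⟨c, hc⟩ := hcon g g.2
    rw [Polynomial.mem_nthRootsFinset (by norm_num)]
    have h00 : ((g : GL (Fin 4) F) : Matrix (Fin 4) (Fin 4) F) 0 0 = c := by
      rw [hc]; simp
    rw [h00]
    rcases a4_scalar_pow_four R hR g (hDR g.2) c hc with h | h
    · calc c ^ 4 = (c * c) * (c * c) := by ring
        _ = 1 := by rw [h]; ring
    · calc c ^ 4 = (c * c) * (c * c) := by ring
        _ = 1 := by rw [h]; ring
  let f : D → {c : F // c ∈ Polynomial.nthRootsFinset 4 (1 : F)} := fun g =>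
    ⟨((g : GL (Fin 4) F) : Matrix (Fin 4) (Fin 4) F) 0 0, key g⟩
  have hinj : Function.Injective f := by
    intro g g' hgg
    have h0 : ((g : GL (Fin 4) F) : Matrix (Fin 4) (Fin 4) F) 0 0 =
        ((g' : GL (Fin 4) F) : Matrix (Fin 4) (Fin 4) F) 0 0 := congrArg Subtype.val hgg
    obtain ⟨c, hc⟩ := hcon g g.2
    obtain ⟨c', hc'⟩ := hcon g' g'.2
    have e1 : c = c' := by
      rw [hc, hc'] at h0; simpa using h0
    apply Subtype.ext
    apply Units.ext
    rw [hc, hc', e1]
  have h1 := Nat.card_le_card_of_injective f hinj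
  have h2 : Nat.card {c : F // c ∈ Polynomial.nthRootsFinset 4 (1 : F)} ≤ 4 := by
    rw [Nat.card_eq_fintype_card, Fintype.card_coe]
    classical
    calc (Polynomial.nthRootsFinset 4 (1 : F)).card
        ≤ Multiset.card (Polynomial.nthRoots 4 (1 : F)) := by
          unfold Polynomial.nthRootsFinset
          convert Multiset.toFinset_card_le _
      _ ≤ 4 := Polynomial.card_nthRoots 4 1
  omega

/-- `R` contains a non-scalar element. -/
theorem a4_exists_not_scalar (R : Subgroup (GL (Fin 4) F)) (hR : PauliLike R) :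
    ∃ g ∈ R, ∀ c : F, (g : Matrix (Fin 4) (Fin 4) F) ≠ c • 1 := by
  by_contra hcon
  push Not at hcon
  have := a4_card_le_four_of_scalar R hR R le_rfl hcon
  rw [hR.card] at this
  omega

/-- `-1 ∈ R`. -/
theorem a4_neg_one_mem (R : Subgroup (GL (Fin 4) F)) (hR : PauliLike R) :
    ∃ m ∈ R, (m : Matrix (Fin 4) (Fin 4) F) = -1 := by
  obtain ⟨g, hg, hns⟩ := a4_exists_not_scalar R hR
  have hex : ∃ h ∈ R, ¬ ((g : Matrix (Fin 4) (Fin 4) F) * (h : Matrix (Fin 4) (Fin 4) F) =
      (h : Matrix (Fin 4) (Fin 4) F) * (g : Matrix (Fin 4) (Fin 4) F)) := by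
    by_contra hcon
    push Not at hcon
    obtain ⟨c, hc⟩ := hR.comm (g : Matrix (Fin 4) (Fin 4) F) (fun h hh => hcon h hh)
    exact hns c hc
  obtain ⟨h, hh, hne⟩ := hex
  have hanti := (hR.anti g hg h hh).resolve_left hne
  refine ⟨g * h * g⁻¹ * h⁻¹, R.mul_mem (R.mul_mem (R.mul_mem hg hh) (R.inv_mem hg)) (R.inv_mem hh), ?_⟩
  simp only [Units.val_mul]
  rw [hanti, Matrix.neg_mul, Matrix.neg_mul, Matrix.mul_assoc (h : Matrix (Fin 4) (Fin 4) F),
    Units.mul_inv, Matrix.mul_one, Units.mul_inv]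

/-- entries of the twirl of a matrix unit. -/
theorem a4_twirl_entries (h2 : (2 : F) ≠ 0) (R : Subgroup (GL (Fin 4) F)) (hR : PauliLike R)
    [Fintype R] (a b : Fin 4) :
    ∑ h : R, ((h : GL (Fin 4) F) : Matrix (Fin 4) (Fin 4) F) a a *
      (((h : GL (Fin 4) F)⁻¹ : GL (Fin 4) F) : Matrix (Fin 4) (Fin 4) F) b b =
      if a = b then 16 else 0 := by
  have h := a4_twirl h2 R hR (Matrix.single a b (1 : F))
  have h' := congrFun (congrFun h a) b
  rw [Matrix.sum_apply] at h'
  have e : ∀ h : R, (((h : GL (Fin 4) F) : Matrix (Fin 4) (Fin 4) F) * Matrix.single a b (1 : F) *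
      (((h : GL (Fin 4) F)⁻¹ : GL (Fin 4) F) : Matrix (Fin 4) (Fin 4) F)) a b =
      ((h : GL (Fin 4) F) : Matrix (Fin 4) (Fin 4) F) a a *
      (((h : GL (Fin 4) F)⁻¹ : GL (Fin 4) F) : Matrix (Fin 4) (Fin 4) F) b b := by
    intro h
    simp [Matrix.mul_apply, Matrix.single_apply, Finset.sum_ite_eq, ite_and]
  simp only [e] at h'
  rw [h']
  by_cases hab : a = b
  · subst hab; simp [Matrix.trace_single_eq_same]
  · simp [hab, Matrix.one_apply_ne hab]

theorem a4_sum_trace (h2 : (2 : F) ≠ 0) (R : Subgroup (GL (Fin 4) F)) (hR : PauliLike R)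
    [Fintype R] :
    ∑ h : R, Matrix.trace ((h : GL (Fin 4) F) : Matrix (Fin 4) (Fin 4) F) *
      Matrix.trace (((h : GL (Fin 4) F)⁻¹ : GL (Fin 4) F) : Matrix (Fin 4) (Fin 4) F) = 64 := by
  simp only [Matrix.trace, Matrix.diag_apply, Finset.sum_mul_sum]
  rw [Finset.sum_comm]
  simp only [Finset.sum_comm (s := (Finset.univ : Finset R))]
  simp only [a4_twirl_entries h2 R hR]
  simp
  norm_num

/-- A `PauliLike` group can only exist when `-1` is a square. -/
theorem a4_exists_i (h2 : (2 : F) ≠ 0) (R : Subgroup (GL (Fin 4) F)) (hR : PauliLike R) :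
    ∃ i : F, i * i = -1 := by
  by_contra hno
  push Not at hno
  have hfin : Finite R := Nat.finite_of_card_ne_zero (by rw [hR.card]; norm_num)
  let _ : Fintype R := Fintype.ofFinite R
  obtain ⟨m, hm, hm1⟩ := a4_neg_one_mem R hR
  classical
  have hterm : ∀ h : R, Matrix.trace ((h : GL (Fin 4) F) : Matrix (Fin 4) (Fin 4) F) *
      Matrix.trace (((h : GL (Fin 4) F)⁻¹ : GL (Fin 4) F) : Matrix (Fin 4) (Fin 4) F) =
      (if h = 1 then (16 : F) else 0) + (if h = ⟨m, hm⟩ then (16 : F) else 0) := by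
    intro h
    have hm_ne : (⟨m, hm⟩ : R) ≠ 1 := by
      intro e
      have e' : m = 1 := congrArg Subtype.val e
      rw [e'] at hm1
      have := congrFun (congrFun hm1 0) 0
      simp at this
      apply h2
      linear_combination this
    by_cases hs : ∃ c : F, ((h : GL (Fin 4) F) : Matrix (Fin 4) (Fin 4) F) = c • 1
    · obtain ⟨c, hc⟩ := hs
      have hcc : c * c = 1 := (a4_scalar_pow_four R hR h h.2 c hc).resolve_right (hno c)
      have hc1 : c = 1 ∨ c = -1 := by
        have : (c - 1) * (c + 1) = 0 := by ring_nf; rw [pow_two, hcc]; ring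
        rcases mul_eq_zero.mp this with h | h
        · left; exact sub_eq_zero.mp h
        · right; exact eq_neg_of_add_eq_zero_left h
      rcases hc1 with rfl | rfl
      · have h1 : h = 1 := by
          apply Subtype.ext; apply Units.ext; rw [hc]; simp
        subst h1
        rw [if_pos rfl, if_neg (Ne.symm hm_ne)]
        simp [Matrix.trace_one]; norm_num
      · have h1 : h = ⟨m, hm⟩ := by
          apply Subtype.ext; apply Units.ext; rw [hc, hm1]; simp
        subst h1
        rw [if_neg hm_ne, if_pos rfl]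
        have hinv : ((m⁻¹ : GL (Fin 4) F) : Matrix (Fin 4) (Fin 4) F) = -1 := by
          have : m⁻¹ = m := by
            rw [inv_eq_iff_mul_eq_one]
            apply Units.ext
            rw [Units.val_mul, hm1]; simp
          rw [this, hm1]
        simp only [hinv, hm1, Matrix.trace_neg, Matrix.trace_one, Fintype.card_fin]
        push_cast; norm_num
    · push Not at hs
      have h0 := a4_trace_zero h2 R hR h h.2 hs
      have hne1 : h ≠ 1 := by
        rintro rfl
        exact hs 1 (by simp)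
      have hne2 : h ≠ ⟨m, hm⟩ := by
        rintro rfl
        exact hs (-1) (by rw [hm1]; simp)
      rw [h0, if_neg hne1, if_neg hne2]; simp
  have hsum := a4_sum_trace h2 R hR
  simp only [hterm] at hsum
  rw [Finset.sum_add_distrib, Finset.sum_ite_eq', Finset.sum_ite_eq'] at hsum
  simp only [Finset.mem_univ, if_true] at hsum
  apply h2
  have h32 : (32 : F) = 0 := by linear_combination -hsum
  have : (2 : F) ^ 5 = 0 := by
    have e5 : (2 : F) ^ 5 = 32 := by norm_num
    rw [e5, h32]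
  exact pow_eq_zero_iff (by norm_num) |>.mp this

/-- any subgroup containing the scalars of `R` has order divisible by 4. -/
theorem a4_four_dvd (h2 : (2 : F) ≠ 0) (R : Subgroup (GL (Fin 4) F)) (hR : PauliLike R)
    (D : Subgroup (GL (Fin 4) F))
    (hD : ∀ g ∈ R, (∃ c : F, (g : Matrix (Fin 4) (Fin 4) F) = c • 1) → g ∈ D) :
    4 ∣ Nat.card D := by
  obtain ⟨i, hi⟩ := a4_exists_i h2 R hR
  obtain ⟨g, hg, hgi⟩ := hR.unit i hi
  have hgD : g ∈ D := hD g hg ⟨i, hgi⟩
  have h2' : g ^ 2 ≠ 1 := by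
    intro e
    have e2 : (g : Matrix (Fin 4) (Fin 4) F) * (g : Matrix (Fin 4) (Fin 4) F) = (i * i) • 1 := by
      rw [hgi, Matrix.smul_mul, Matrix.mul_smul, smul_smul, Matrix.one_mul]
    have e' := congrArg (fun u : GL (Fin 4) F => (u : Matrix (Fin 4) (Fin 4) F) 0 0) e
    simp only [pow_two, Units.val_mul, e2, Units.val_one, hi] at e'
    simp at e'
    apply h2
    linear_combination -e'
  have h4 : g ^ 4 = 1 := by
    apply Units.ext
    have : (g : Matrix (Fin 4) (Fin 4) F) ^ 4 = 1 := by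
      rw [hgi, smul_pow, one_pow]
      have : i ^ 4 = 1 := by
        calc i ^ 4 = (i * i) * (i * i) := by ring
          _ = 1 := by rw [hi]; ring
      rw [this, one_smul]
    simpa using this
  have : Fact (Nat.Prime 2) := ⟨Nat.prime_two⟩
  have ho : orderOf g = 2 ^ (1 + 1) := orderOf_eq_prime_pow (by simpa using h2') (by simpa using h4)
  have ho' : orderOf (⟨g, hgD⟩ : D) = 4 := by
    rw [← Subgroup.orderOf_coe]; simpa using ho
  have hd := orderOf_dvd_natCard (⟨g, hgD⟩ : D)
  rwa [ho'] at hd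

end Cfsg.Agent.Lib.Helper14.P4
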