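import Mathlib
import Cfsg.Agent.Lib.Helper14.P4Defs
import Cfsg.Agent.Lib.Helper27.P4Scal

/-! S6000 hive, leaf P4-A4: an element of prime order `r ≥ 7` normalizing a `PauliLike` group is
scalar. -/

set_option autoImplicit false

namespace Cfsg.Agent.Lib.Helper14.P4

open Matrix

/-- fixed points of an element of prime order `r` acting by conjugation on a finite subgroup it
normalizes. -/
theorem a4_card_fixed {G : Type*} [Group G] (y : G) (K : Subgroup G) [Finite K]
    (hy : y ∈ Subgroup.normalizer (K : Set G)) (r : ℕ) [Fact r.Prime] (hyr : y ^ r = 1) :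
    Nat.card K ≡ Nat.card (K ⊓ Subgroup.centralizer {y} : Subgroup G) [MOD r] := by
  have hP : Subgroup.zpowers y ≤ Subgroup.normalizer (K : Set G) := Subgroup.zpowers_le.mpr hy
  let act : MulAction (Subgroup.zpowers y) K :=
    { smul := fun g k => ⟨(g : G) * k * (g : G)⁻¹,
        (Subgroup.mem_normalizer_iff.mp (hP g.2) k).mp k.2⟩
      one_smul := fun k => by
        apply Subtype.ext
        change ((1 : Subgroup.zpowers y) : G) * k * ((1 : Subgroup.zpowers y) : G)⁻¹ = k
        simp
      mul_smul := fun g h k => by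
        apply Subtype.ext
        change ((g * h : Subgroup.zpowers y) : G) * k * ((g * h : Subgroup.zpowers y) : G)⁻¹ =
          (g : G) * ((h : G) * k * (h : G)⁻¹) * (g : G)⁻¹
        simp [mul_assoc] }
  have hsmul : ∀ (g : Subgroup.zpowers y) (k : K), ((g • k : K) : G) = (g : G) * k * (g : G)⁻¹ :=
    fun _ _ => rfl
  have hPg : IsPGroup r (Subgroup.zpowers y) := by
    intro g
    refine ⟨1, ?_⟩
    obtain ⟨n, hn⟩ := Subgroup.mem_zpowers_iff.mp g.2
    apply Subtype.ext
    rw [pow_one, Subgroup.coe_pow, ← hn, Subgroup.coe_one, ← zpow_natCast, ← _root_.zpow_mul,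
      mul_comm, _root_.zpow_mul, zpow_natCast, hyr, _root_.one_zpow]
  have hmod := hPg.card_modEq_card_fixedPoints K
  have hcard : Nat.card (MulAction.fixedPoints (Subgroup.zpowers y) K) =
      Nat.card (K ⊓ Subgroup.centralizer {y} : Subgroup G) := by
    refine Nat.card_congr
      { toFun := fun k => ⟨(k.1 : G), ⟨k.1.2, ?_⟩⟩
        invFun := fun k => ⟨⟨(k : G), k.2.1⟩, ?_⟩
        left_inv := fun k => rfl
        right_inv := fun k => rfl }
    · change (k.1 : G) ∈ Subgroup.centralizer {y}
      rw [Subgroup.mem_centralizer_singleton_iff]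
      have h := k.2 ⟨y, Subgroup.mem_zpowers y⟩
      have h' := congrArg Subtype.val h
      rw [hsmul] at h'
      simp only at h'
      calc (k.1 : G) * y = y * (k.1 : G) * y⁻¹ * y := by rw [h']
        _ = y * (k.1 : G) := by group
    · intro g
      obtain ⟨n, hn⟩ := Subgroup.mem_zpowers_iff.mp g.2
      apply Subtype.ext
      rw [hsmul]
      have hc : (k : G) * y = y * (k : G) := Subgroup.mem_centralizer_singleton_iff.mp k.2.2
      have hc' : Commute y (k : G) := hc.symm
      have := (hc'.zpow_left n)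
      rw [hn] at this
      simp only
      rw [this.eq, mul_assoc, mul_inv_cancel, mul_one]
  rw [← hcard]
  exact hmod

variable {F : Type*} [Field F]

theorem a4_comm_iff (g h : GL (Fin 4) F) :
    g * h = h * g ↔ (g : Matrix (Fin 4) (Fin 4) F) * (h : Matrix (Fin 4) (Fin 4) F) =
      (h : Matrix (Fin 4) (Fin 4) F) * (g : Matrix (Fin 4) (Fin 4) F) := by
  rw [← Units.val_mul, ← Units.val_mul, Units.ext_iff]

theorem a4_scalar_comm (g y : GL (Fin 4) F) (c : F)
    (hc : (g : Matrix (Fin 4) (Fin 4) F) = c • 1) : g * y = y * g := by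
  rw [a4_comm_iff, hc, Matrix.smul_mul, Matrix.mul_smul, Matrix.one_mul, Matrix.mul_one]

/-- conjugation by an element commuting with `h0` preserves the centralizer of `h0`. -/
theorem a4_conj_mem_centralizer {G : Type*} [Group G] (y h0 g : G) (hc : h0 * y = y * h0) :
    g ∈ Subgroup.centralizer {h0} ↔ y * g * y⁻¹ ∈ Subgroup.centralizer {h0} := by
  rw [Subgroup.mem_centralizer_singleton_iff, Subgroup.mem_centralizer_singleton_iff]
  have hc' : y⁻¹ * h0 = h0 * y⁻¹ := by
    calc y⁻¹ * h0 = y⁻¹ * (h0 * y) * y⁻¹ := by group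
      _ = h0 * y⁻¹ := by rw [hc]; group
  constructor
  · intro h
    calc y * g * y⁻¹ * h0 = y * (g * h0) * y⁻¹ := by rw [mul_assoc, hc']; group
      _ = (y * h0) * g * y⁻¹ := by rw [h]; group
      _ = h0 * (y * g * y⁻¹) := by rw [← hc]; group
  · intro h
    calc g * h0 = y⁻¹ * (y * g * y⁻¹ * h0) * y := by rw [mul_assoc (y * g), hc']; group
      _ = (y⁻¹ * h0) * y * g := by rw [h]; group
      _ = h0 * g := by rw [hc']; group

/-- the centralizer in `R` of a non-central element has index 2 (lower bound on its order). -/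
theorem a4_card_centralizer (R : Subgroup (GL (Fin 4) F)) (hR : PauliLike R)
    (h0 t : GL (Fin 4) F) (hh0 : h0 ∈ R) (ht : t ∈ R)
    (hanti : (t : Matrix (Fin 4) (Fin 4) F) * (h0 : Matrix (Fin 4) (Fin 4) F) =
      -((h0 : Matrix (Fin 4) (Fin 4) F) * (t : Matrix (Fin 4) (Fin 4) F))) :
    64 ≤ 2 * Nat.card (R ⊓ Subgroup.centralizer {h0} : Subgroup (GL (Fin 4) F)) := by
  have hfin : Finite R := Nat.finite_of_card_ne_zero (by rw [hR.card]; norm_num)
  set K : Subgroup (GL (Fin 4) F) := R ⊓ Subgroup.centralizer {h0} with hK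
  have hKfin : (K : Set (GL (Fin 4) F)).Finite :=
    Set.Finite.subset (Set.toFinite (R : Set (GL (Fin 4) F))) (by
      intro x hx; exact (inf_le_left : K ≤ R) hx)
  have hsub : (R : Set (GL (Fin 4) F)) ⊆
      (K : Set (GL (Fin 4) F)) ∪ (fun g => t * g) '' (K : Set (GL (Fin 4) F)) := by
    intro g hg
    have hg' : g ∈ R := hg
    rcases hR.anti g hg' h0 hh0 with h | h
    · left
      refine ⟨hg', ?_⟩
      change g ∈ Subgroup.centralizer {h0}
      rw [Subgroup.mem_centralizer_singleton_iff, a4_comm_iff]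
      exact h
    · right
      refine ⟨t⁻¹ * g, ⟨R.mul_mem (R.inv_mem ht) hg', ?_⟩, by group⟩
      change t⁻¹ * g ∈ Subgroup.centralizer {h0}
      rw [Subgroup.mem_centralizer_singleton_iff, a4_comm_iff]
      simp only [Units.val_mul]
      have e1 : ((t⁻¹ : GL (Fin 4) F) : Matrix (Fin 4) (Fin 4) F) * (h0 : Matrix (Fin 4) (Fin 4) F)
          = -((h0 : Matrix (Fin 4) (Fin 4) F) * ((t⁻¹ : GL (Fin 4) F) : Matrix (Fin 4) (Fin 4) F)) := by
        have : ((t⁻¹ : GL (Fin 4) F) : Matrix (Fin 4) (Fin 4) F) *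
            ((t : Matrix (Fin 4) (Fin 4) F) * (h0 : Matrix (Fin 4) (Fin 4) F)) *
            ((t⁻¹ : GL (Fin 4) F) : Matrix (Fin 4) (Fin 4) F) =
            ((t⁻¹ : GL (Fin 4) F) : Matrix (Fin 4) (Fin 4) F) *
            (-((h0 : Matrix (Fin 4) (Fin 4) F) * (t : Matrix (Fin 4) (Fin 4) F))) *
            ((t⁻¹ : GL (Fin 4) F) : Matrix (Fin 4) (Fin 4) F) := by rw [hanti]
        rw [← Matrix.mul_assoc, Units.inv_mul, Matrix.one_mul, Matrix.mul_neg, Matrix.neg_mul,
          Matrix.mul_assoc, Matrix.mul_assoc, Units.mul_inv, Matrix.mul_one] at this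
        rw [this, neg_neg]
      rw [Matrix.mul_assoc, h, Matrix.mul_neg, ← Matrix.mul_assoc, e1, Matrix.neg_mul, neg_neg,
        Matrix.mul_assoc]
  have h1 : (R : Set (GL (Fin 4) F)).ncard ≤
      ((K : Set (GL (Fin 4) F)) ∪ (fun g => t * g) '' (K : Set (GL (Fin 4) F))).ncard :=
    Set.ncard_le_ncard hsub (hKfin.union (hKfin.image _))
  have h2 := Set.ncard_union_le (K : Set (GL (Fin 4) F)) ((fun g => t * g) '' (K : Set (GL (Fin 4) F)))
  have h3 : ((fun g => t * g) '' (K : Set (GL (Fin 4) F))).ncard ≤ (K : Set (GL (Fin 4) F)).ncard :=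
    Set.ncard_image_le hKfin
  have h4 : (R : Set (GL (Fin 4) F)).ncard = 64 := by
    rw [← Nat.card_coe_set_eq]; exact hR.card
  have h5 : (K : Set (GL (Fin 4) F)).ncard = Nat.card K := by
    rw [← Nat.card_coe_set_eq]; rfl
  omega

/-- if `y` commutes with all of `R` then `y` is scalar. -/
theorem a4_scalar_of_centralizer (R : Subgroup (GL (Fin 4) F)) (hR : PauliLike R)
    (y : GL (Fin 4) F) (h : R ≤ Subgroup.centralizer {y}) :
    ∃ c : F, (y : Matrix (Fin 4) (Fin 4) F) = c • 1 := by
  apply hR.comm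
  intro g hg
  have := Subgroup.mem_centralizer_singleton_iff.mp (h hg)
  rw [a4_comm_iff] at this
  exact this.symm

/-- the scalars of `R`, as the subgroup `R ⊓ C(R)`, have order exactly 4. -/
theorem a4_card_center (h2 : (2 : F) ≠ 0) (R : Subgroup (GL (Fin 4) F)) (hR : PauliLike R) :
    Nat.card (R ⊓ Subgroup.centralizer (R : Set (GL (Fin 4) F)) : Subgroup (GL (Fin 4) F)) = 4 := by
  have hfin : Finite R := Nat.finite_of_card_ne_zero (by rw [hR.card]; norm_num)
  have h1 : Nat.card (R ⊓ Subgroup.centralizer (R : Set (GL (Fin 4) F)) :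
      Subgroup (GL (Fin 4) F)) ≤ 4 := by
    apply a4_card_le_four_of_scalar R hR _ inf_le_left
    intro g hg
    apply hR.comm
    intro k hk
    have := (Subgroup.mem_centralizer_iff.mp hg.2) k hk
    rw [a4_comm_iff] at this
    exact this.symm
  have h4 : 4 ∣ Nat.card (R ⊓ Subgroup.centralizer (R : Set (GL (Fin 4) F)) :
      Subgroup (GL (Fin 4) F)) := by
    apply a4_four_dvd h2 R hR
    rintro g hg ⟨c, hc⟩
    refine ⟨hg, ?_⟩
    change g ∈ Subgroup.centralizer (R : Set (GL (Fin 4) F))
    rw [Subgroup.mem_centralizer_iff]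
    intro k _
    exact (a4_scalar_comm g k c hc).symm
  have hpos : 0 < Nat.card (R ⊓ Subgroup.centralizer (R : Set (GL (Fin 4) F)) :
      Subgroup (GL (Fin 4) F)) := by
    have : Finite (R ⊓ Subgroup.centralizer (R : Set (GL (Fin 4) F)) :
      Subgroup (GL (Fin 4) F)) := Finite.of_injective
        (Subgroup.inclusion (inf_le_left : R ⊓ Subgroup.centralizer (R : Set (GL (Fin 4) F)) ≤ R))
        (Subgroup.inclusion_injective _)
    exact Nat.card_pos
  exact le_antisymm h1 (Nat.le_of_dvd hpos h4)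

/-- P4-A4.  An element of `N(R)` of prime order `r ≥ 7` is scalar. -/
theorem scalar_of_pow_prime [Fintype F] (h2 : (2 : F) ≠ 0) (R : Subgroup (GL (Fin 4) F))
    (hR : PauliLike R)
    (r : ℕ) (hr : r.Prime) (hr7 : 7 ≤ r) (y : GL (Fin 4) F)
    (hy : y ∈ Subgroup.normalizer (R : Set (GL (Fin 4) F))) (hyr : y ^ r = 1) :
    ∃ c : F, (y : Matrix (Fin 4) (Fin 4) F) = c • 1 := by
  have hfin : Finite R := Nat.finite_of_card_ne_zero (by rw [hR.card]; norm_num)
  have : Fact r.Prime := ⟨hr⟩
  set C : Subgroup (GL (Fin 4) F) := R ⊓ Subgroup.centralizer {y} with hC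
  have hCR : C ≤ R := inf_le_left
  have hmod : Nat.card R ≡ Nat.card C [MOD r] := a4_card_fixed y R hy r hyr
  rw [hR.card] at hmod
  have hdvd : Nat.card C ∣ 64 := by
    have := Subgroup.card_dvd_of_le hCR
    rwa [hR.card] at this
  have hscalC : ∀ g ∈ R, (∃ c : F, (g : Matrix (Fin 4) (Fin 4) F) = c • 1) → g ∈ C := by
    rintro g hg ⟨c, hc⟩
    refine ⟨hg, ?_⟩
    change g ∈ Subgroup.centralizer {y}
    rw [Subgroup.mem_centralizer_singleton_iff]
    exact a4_scalar_comm g y c hc
  have h4dvd : 4 ∣ Nat.card C := a4_four_dvd h2 R hR C hscalC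
  obtain ⟨k, hk6, hk⟩ := (Nat.dvd_prime_pow Nat.prime_two).mp (show Nat.card C ∣ 2 ^ 6 from hdvd)
  have hle : Nat.card C ≤ 64 := Nat.le_of_dvd (by norm_num) hdvd
  have hrd : r ∣ 64 - Nat.card C := (Nat.modEq_iff_dvd' hle).mp hmod.symm
  have hk2 : 2 ≤ k := by
    by_contra hlt
    push Not at hlt
    interval_cases k
    · rw [hk] at h4dvd; omega
    · rw [hk] at h4dvd; omega
  -- the cases
  have hcases : Nat.card C = 64 ∨ (r = 7 ∧ Nat.card C = 8) := by
    interval_cases k
    · exfalso
      rw [hk] at hrd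
      have hr60 : r ≤ 60 := Nat.le_of_dvd (by norm_num) hrd
      interval_cases r <;> first | omega | (exfalso; revert hr; norm_num)
    · right
      rw [hk] at hrd
      have hr56 : r ≤ 56 := Nat.le_of_dvd (by norm_num) hrd
      refine ⟨?_, by rw [hk]; norm_num⟩
      interval_cases r <;> first | rfl | omega | (exfalso; revert hr; norm_num)
    · exfalso
      rw [hk] at hrd
      have hr48 : r ≤ 48 := Nat.le_of_dvd (by norm_num) hrd
      interval_cases r <;> first | omega | (exfalso; revert hr; norm_num)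
    · exfalso
      rw [hk] at hrd
      have hr32 : r ≤ 32 := Nat.le_of_dvd (by norm_num) hrd
      interval_cases r <;> first | omega | (exfalso; revert hr; norm_num)
    · left; rw [hk]; norm_num
  rcases hcases with h64 | ⟨hr7', h8⟩
  · -- C = R
    have hCeq : C = R := Subgroup.eq_of_le_of_card_ge hCR (by rw [hR.card, h64])
    apply a4_scalar_of_centralizer R hR y
    rw [← hCeq]
    exact inf_le_right
  · exfalso
    subst hr7'
    -- a non-scalar element of C
    have hex : ∃ h0 ∈ C, ∀ c : F, (h0 : Matrix (Fin 4) (Fin 4) F) ≠ c • 1 := by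
      by_contra hcon
      push Not at hcon
      have := a4_card_le_four_of_scalar R hR C hCR hcon
      omega
    obtain ⟨h0, hh0C, hh0ns⟩ := hex
    have hh0R : h0 ∈ R := hCR hh0C
    have hh0y : h0 * y = y * h0 := Subgroup.mem_centralizer_singleton_iff.mp hh0C.2
    -- t anticommuting with h0
    have hext : ∃ t ∈ R, ¬ ((t : Matrix (Fin 4) (Fin 4) F) * (h0 : Matrix (Fin 4) (Fin 4) F) =
        (h0 : Matrix (Fin 4) (Fin 4) F) * (t : Matrix (Fin 4) (Fin 4) F)) := by
      by_contra hcon
      push Not at hcon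
      obtain ⟨c, hc⟩ := hR.comm (h0 : Matrix (Fin 4) (Fin 4) F) (fun t ht => (hcon t ht).symm)
      exact hh0ns c hc
    obtain ⟨t, ht, htne⟩ := hext
    have hanti := (hR.anti t ht h0 hh0R).resolve_left htne
    set K : Subgroup (GL (Fin 4) F) := R ⊓ Subgroup.centralizer {h0} with hK
    have hKR : K ≤ R := inf_le_left
    have hKfin : Finite K := Finite.of_injective
        (Subgroup.inclusion hKR) (Subgroup.inclusion_injective _)
    have hK64 : 64 ≤ 2 * Nat.card K := a4_card_centralizer R hR h0 t hh0R ht hanti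
    have hKdvd : Nat.card K ∣ 64 := by
      have := Subgroup.card_dvd_of_le hKR
      rwa [hR.card] at this
    have hKne : Nat.card K ≠ 64 := by
      intro e
      have hKeq : K = R := Subgroup.eq_of_le_of_card_ge hKR (by rw [hR.card, e])
      have : t ∈ K := by rw [hKeq]; exact ht
      have := Subgroup.mem_centralizer_singleton_iff.mp this.2
      rw [a4_comm_iff] at this
      exact htne this
    have hK32 : Nat.card K = 32 := by
      obtain ⟨j, hj6, hj⟩ := (Nat.dvd_prime_pow Nat.prime_two).mp (show Nat.card K ∣ 2 ^ 6 from hKdvd)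
      interval_cases j <;> omega
    -- y normalizes K
    have hyK : y ∈ Subgroup.normalizer (K : Set (GL (Fin 4) F)) := by
      rw [Subgroup.mem_normalizer_iff]
      intro g
      have h1 := Subgroup.mem_normalizer_iff.mp hy g
      have h2 := a4_conj_mem_centralizer y h0 g hh0y
      constructor
      · rintro ⟨ha, hb⟩
        exact ⟨h1.mp ha, h2.mp hb⟩
      · rintro ⟨ha, hb⟩
        exact ⟨h1.mpr ha, h2.mpr hb⟩
    have hmodK : Nat.card K ≡ Nat.card (K ⊓ Subgroup.centralizer {y} : Subgroup (GL (Fin 4) F))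
        [MOD 7] := a4_card_fixed y K hyK 7 hyr
    set E : Subgroup (GL (Fin 4) F) := K ⊓ Subgroup.centralizer {y} with hE
    have hEC : E ≤ C := by
      intro g hg
      exact ⟨hg.1.1, hg.2⟩
    have hEdvd : Nat.card E ∣ 8 := by
      have := Subgroup.card_dvd_of_le hEC
      rwa [h8] at this
    have hE4 : 4 ∣ Nat.card E := by
      apply a4_four_dvd h2 R hR
      rintro g hg ⟨c, hc⟩
      refine ⟨⟨hg, ?_⟩, ?_⟩
      · change g ∈ Subgroup.centralizer {h0}
        rw [Subgroup.mem_centralizer_singleton_iff]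
        exact a4_scalar_comm g h0 c hc
      · change g ∈ Subgroup.centralizer {y}
        rw [Subgroup.mem_centralizer_singleton_iff]
        exact a4_scalar_comm g y c hc
    have hh0E : h0 ∈ E := by
      refine ⟨⟨hh0R, ?_⟩, hh0C.2⟩
      change h0 ∈ Subgroup.centralizer {h0}
      rw [Subgroup.mem_centralizer_singleton_iff]
    have hEne4 : Nat.card E ≠ 4 := by
      intro e4
      set Z : Subgroup (GL (Fin 4) F) := R ⊓ Subgroup.centralizer (R : Set (GL (Fin 4) F)) with hZ
      have hZ4 : Nat.card Z = 4 := a4_card_center h2 R hR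
      have hZE : Z ≤ E := by
        intro g hg
        have hgs : ∃ c : F, (g : Matrix (Fin 4) (Fin 4) F) = c • 1 := by
          apply hR.comm
          intro k hk
          have := (Subgroup.mem_centralizer_iff.mp hg.2) k hk
          rw [a4_comm_iff] at this
          exact this.symm
        obtain ⟨c, hc⟩ := hgs
        refine ⟨⟨hg.1, ?_⟩, ?_⟩
        · change g ∈ Subgroup.centralizer {h0}
          rw [Subgroup.mem_centralizer_singleton_iff]
          exact a4_scalar_comm g h0 c hc
        · change g ∈ Subgroup.centralizer {y}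
          rw [Subgroup.mem_centralizer_singleton_iff]
          exact a4_scalar_comm g y c hc
      have : Finite E := Finite.of_injective
        (Subgroup.inclusion (hEC.trans hCR)) (Subgroup.inclusion_injective _)
      have hZeq : Z = E := Subgroup.eq_of_le_of_card_ge hZE (by rw [hZ4, e4])
      have : h0 ∈ Z := by rw [hZeq]; exact hh0E
      have hgs : ∃ c : F, (h0 : Matrix (Fin 4) (Fin 4) F) = c • 1 := by
        apply hR.comm
        intro k hk
        have := (Subgroup.mem_centralizer_iff.mp this.2) k hk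
        rw [a4_comm_iff] at this
        exact this.symm
      obtain ⟨c, hc⟩ := hgs
      exact hh0ns c hc
    have hE8 : Nat.card E = 8 := by
      have hle8 : Nat.card E ≤ 8 := Nat.le_of_dvd (by norm_num) hEdvd
      obtain ⟨q, hq⟩ := h4dvd
      obtain ⟨q', hq'⟩ := hE4
      have : q' = 1 ∨ q' = 2 := by
        have hpos : 0 < Nat.card E := by
          rcases Nat.eq_zero_or_pos (Nat.card E) with h0' | h0'
          · rw [h0'] at hEdvd; omega
          · exact h0'
        omega
      rcases this with rfl | rfl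
      · omega
      · omega
    rw [hK32, hE8] at hmodK
    exact absurd hmodK (by decide)

end Cfsg.Agent.Lib.Helper14.P4
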