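import Mathlib
import Cfsg.Agent.Lib.Helper14.P4Defs
import Cfsg.Agent.Lib.Helper27.P4Scal
import Cfsg.Agent.Lib.Helper27.P4A4

/-! S6000 hive, leaf P4-A2: a `PauliLike` group is a `GL`-conjugate of the standard one. -/

set_option autoImplicit false

namespace Cfsg.Agent.Lib.Helper14.P4

open Matrix

variable {F : Type*} [Field F]

theorem a2_trace_zero_of_anti (h2 : (2 : F) ≠ 0) (X T : Matrix (Fin 4) (Fin 4) F)
    (hT : T * T = 1) (h : X * T = -(T * X)) : Matrix.trace X = 0 := by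
  have h1 : Matrix.trace (X * T * T) = Matrix.trace X := by
    rw [Matrix.mul_assoc, hT, Matrix.mul_one]
  have h3 : Matrix.trace (X * T * T) = - Matrix.trace X := by
    rw [h, Matrix.neg_mul, Matrix.trace_neg, Matrix.trace_mul_cycle, hT, Matrix.one_mul]
  have h4 : (2 : F) * Matrix.trace X = 0 := by
    have := h1.symm.trans h3
    linear_combination this
  exact (mul_eq_zero.mp h4).resolve_left h2

/-- the four words whose images of a joint eigenvector form the frame. -/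
def a2W (B B2 : Matrix (Fin 4) (Fin 4) F) : Fin 4 → Matrix (Fin 4) (Fin 4) F :=
  ![1, B2, B, B * B2]

/-- eigenvalues of `Z1`. -/
def a2z1 : Fin 4 → F := ![1, 1, -1, -1]
/-- eigenvalues of `Z2`. -/
def a2z2 : Fin 4 → F := ![1, -1, 1, -1]
/-- the permutation of `X1`. -/
def a2s1 : Fin 4 → Fin 4 := ![2, 3, 0, 1]
/-- the permutation of `X2`. -/
def a2s2 : Fin 4 → Fin 4 := ![1, 0, 3, 2]

theorem a2_mul_mZ1 (P : Matrix (Fin 4) (Fin 4) F) (r c : Fin 4) :
    (P * (mZ1 : Matrix (Fin 4) (Fin 4) F)) r c = a2z1 c * P r c := by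
  fin_cases c <;> simp [Matrix.mul_apply, Fin.sum_univ_four, mZ1, a2z1]

theorem a2_mul_mZ2 (P : Matrix (Fin 4) (Fin 4) F) (r c : Fin 4) :
    (P * (mZ2 : Matrix (Fin 4) (Fin 4) F)) r c = a2z2 c * P r c := by
  fin_cases c <;> simp [Matrix.mul_apply, Fin.sum_univ_four, mZ2, a2z2]

theorem a2_mul_mX1 (P : Matrix (Fin 4) (Fin 4) F) (r c : Fin 4) :
    (P * (mX1 : Matrix (Fin 4) (Fin 4) F)) r c = P r (a2s1 c) := by
  fin_cases c <;> simp [Matrix.mul_apply, Fin.sum_univ_four, mX1, a2s1]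

theorem a2_mul_mX2 (P : Matrix (Fin 4) (Fin 4) F) (r c : Fin 4) :
    (P * (mX2 : Matrix (Fin 4) (Fin 4) F)) r c = P r (a2s2 c) := by
  fin_cases c <;> simp [Matrix.mul_apply, Fin.sum_univ_four, mX2, a2s2]

theorem a2_mu_injective (h2 : (2 : F) ≠ 0) (i : F) (hi : i * i = -1) :
    Function.Injective (fun c : Fin 4 => (a2z1 c : F) + i * a2z2 c) := by
  have hi0 : i ≠ 0 := ne_zero_of_sq i hi
  have hp : (1 : F) + i ≠ 0 := by
    intro h
    have : (1 + i) * (1 - i) = 2 := by ring_nf; rw [pow_two, hi]; ring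
    rw [h, zero_mul] at this
    exact h2 this.symm
  have hm : (1 : F) - i ≠ 0 := by
    intro h
    have : (1 + i) * (1 - i) = 2 := by ring_nf; rw [pow_two, hi]; ring
    rw [h, mul_zero] at this
    exact h2 this.symm
  intro c d hcd
  fin_cases c <;> fin_cases d <;> first
    | rfl
    | (exfalso
       simp [a2z1, a2z2] at hcd
       first
         | (apply hi0; apply mul_left_cancel₀ h2; linear_combination hcd)
         | (apply hi0; apply mul_left_cancel₀ h2; linear_combination -hcd)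
         | (apply h2; linear_combination hcd)
         | (apply h2; linear_combination -hcd)
         | (apply hp; apply mul_left_cancel₀ h2; linear_combination hcd)
         | (apply hp; apply mul_left_cancel₀ h2; linear_combination -hcd)
         | (apply hm; apply mul_left_cancel₀ h2; linear_combination hcd)
         | (apply hm; apply mul_left_cancel₀ h2; linear_combination -hcd))

/-- the frame: two commuting anticommuting pairs of involutions are simultaneously conjugate to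
the standard Pauli matrices. -/
theorem a2_frame_matrix (h2 : (2 : F) ≠ 0) (i : F) (hi : i * i = -1)
    (A B A2 B2 : Matrix (Fin 4) (Fin 4) F)
    (hA : A * A = 1) (hB : B * B = 1) (hAB : A * B = -(B * A))
    (hA2 : A2 * A2 = 1) (hB2 : B2 * B2 = 1) (hAB2 : A2 * B2 = -(B2 * A2))
    (c1 : A * A2 = A2 * A) (c2 : A * B2 = B2 * A) (c3 : B * A2 = A2 * B) (c4 : B * B2 = B2 * B) :
    ∃ P : Matrix (Fin 4) (Fin 4) F, IsUnit P ∧ A * P = P * mZ1 ∧ B * P = P * mX1 ∧
      A2 * P = P * mZ2 ∧ B2 * P = P * mX2 := by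
  obtain ⟨E, hE⟩ : ∃ E : Matrix (Fin 4) (Fin 4) F, E = (1 + A) * (1 + A2) := ⟨_, rfl⟩
  have hAE : A * E = E := by
    have h1 : A * (1 + A) = 1 + A := by rw [Matrix.mul_add, Matrix.mul_one, hA, add_comm]
    rw [hE, ← Matrix.mul_assoc, h1]
  have hA2E : A2 * E = E := by
    have h1 : A2 * (1 + A) = (1 + A) * A2 := by
      rw [Matrix.mul_add, Matrix.add_mul, Matrix.mul_one, Matrix.one_mul, c1]
    rw [hE, ← Matrix.mul_assoc, h1, Matrix.mul_assoc, Matrix.mul_add A2, Matrix.mul_one, hA2,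
      add_comm A2 1]
  have htrA : Matrix.trace A = 0 := a2_trace_zero_of_anti h2 A B hB hAB
  have htrA2 : Matrix.trace A2 = 0 := a2_trace_zero_of_anti h2 A2 B2 hB2 hAB2
  have htrAA2 : Matrix.trace (A * A2) = 0 := by
    apply a2_trace_zero_of_anti h2 (A * A2) B hB
    rw [Matrix.mul_assoc, ← c3, ← Matrix.mul_assoc, hAB, Matrix.neg_mul, Matrix.mul_assoc]
  have htrE : Matrix.trace E = 4 := by
    have : E = 1 + A + A2 + A * A2 := by
      rw [hE, Matrix.add_mul, Matrix.mul_add, Matrix.mul_add, Matrix.one_mul, Matrix.one_mul,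
        Matrix.mul_one]
      abel
    rw [this, Matrix.trace_add, Matrix.trace_add, Matrix.trace_add, htrA, htrA2, htrAA2,
      Matrix.trace_one]
    simp
  have h4 : (4 : F) ≠ 0 := by
    have : (4 : F) = 2 * 2 := by norm_num
    rw [this]; exact mul_ne_zero h2 h2
  have hEne : ∃ u r0 : Fin 4, E r0 u ≠ 0 := by
    by_contra hcon
    push Not at hcon
    have : E = 0 := by
      ext r c; exact hcon c r
    rw [this, Matrix.trace_zero] at htrE
    exact h4 htrE.symm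
  obtain ⟨u, r0, hr0⟩ := hEne
  -- relations of the words with A, A2, B, B2
  have IA : ∀ c, A * (a2W B B2 c * E) = (a2z1 c : F) • (a2W B B2 c * E) := by
    intro c
    fin_cases c
    · simp [a2W, a2z1, hAE]
    · simp only [a2W, a2z1]
      simp only [Fin.mk_one, Fin.isValue, Matrix.cons_val_one, Matrix.cons_val_zero, one_smul]
      rw [← Matrix.mul_assoc, c2, Matrix.mul_assoc, hAE]
    · simp only [a2W, a2z1]
      simp only [Fin.reduceFinMk, Fin.isValue, Matrix.cons_val_two, Matrix.cons_val_zero,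
        Matrix.tail_cons, Matrix.head_cons, neg_smul, one_smul, Matrix.cons_val]
      rw [← Matrix.mul_assoc, hAB, Matrix.neg_mul, Matrix.mul_assoc, hAE]
    · simp only [a2W, a2z1]
      simp only [Fin.reduceFinMk, Fin.isValue, neg_smul, one_smul, Matrix.cons_val]
      rw [← Matrix.mul_assoc, ← Matrix.mul_assoc, hAB, Matrix.neg_mul, Matrix.neg_mul,
        Matrix.mul_assoc B A, c2, ← Matrix.mul_assoc, Matrix.mul_assoc (B * B2), hAE]
  have IA2 : ∀ c, A2 * (a2W B B2 c * E) = (a2z2 c : F) • (a2W B B2 c * E) := by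
    intro c
    fin_cases c
    · simp [a2W, a2z2, hA2E]
    · simp only [a2W, a2z2]
      simp only [Fin.mk_one, Fin.isValue, neg_smul, one_smul, Matrix.cons_val]
      rw [← Matrix.mul_assoc, hAB2, Matrix.neg_mul, Matrix.mul_assoc, hA2E]
    · simp only [a2W, a2z2]
      simp only [Fin.reduceFinMk, Fin.isValue, one_smul, Matrix.cons_val]
      rw [← Matrix.mul_assoc, ← c3, Matrix.mul_assoc, hA2E]
    · simp only [a2W, a2z2]
      simp only [Fin.reduceFinMk, Fin.isValue, neg_smul, one_smul, Matrix.cons_val]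
      rw [← Matrix.mul_assoc, ← Matrix.mul_assoc, ← c3, Matrix.mul_assoc B, hAB2, Matrix.mul_neg,
        Matrix.neg_mul, ← Matrix.mul_assoc, Matrix.mul_assoc (B * B2), hA2E]
  have IB : ∀ c, B * a2W B B2 c = a2W B B2 (a2s1 c) := by
    intro c
    fin_cases c
    · simp [a2W, a2s1]
    · simp [a2W, a2s1]
    · simp [a2W, a2s1, hB]
    · simp [a2W, a2s1, ← Matrix.mul_assoc, hB]
  have IB2 : ∀ c, B2 * a2W B B2 c = a2W B B2 (a2s2 c) := by
    intro c
    fin_cases c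
    · simp [a2W, a2s2]
    · simp [a2W, a2s2, hB2]
    · simp [a2W, a2s2, c4]
    · simp only [a2W, a2s2]
      simp only [Fin.reduceFinMk, Fin.isValue, Matrix.cons_val]
      rw [← Matrix.mul_assoc, ← c4, Matrix.mul_assoc, hB2, Matrix.mul_one]
  have hWW : ∀ c, a2W B B2 c * a2W B B2 c = 1 := by
    intro c
    fin_cases c
    · simp [a2W]
    · simp [a2W, hB2]
    · simp [a2W, hB]
    · simp only [a2W]
      simp only [Fin.reduceFinMk, Fin.isValue, Matrix.cons_val]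
      rw [Matrix.mul_assoc, ← Matrix.mul_assoc B2, ← c4, Matrix.mul_assoc B B2, hB2, Matrix.mul_one, hB]
  -- the matrix of columns
  obtain ⟨P, hP⟩ : ∃ P : Matrix (Fin 4) (Fin 4) F,
      P = Matrix.of fun r c => (a2W B B2 c * E) r u := ⟨_, rfl⟩
  have hPapp : ∀ r c, P r c = (a2W B B2 c * E) r u := fun r c => by rw [hP]; rfl
  have hXP : ∀ (X : Matrix (Fin 4) (Fin 4) F) (r c : Fin 4),
      (X * P) r c = (X * (a2W B B2 c * E)) r u := by
    intro X r c
    rw [Matrix.mul_apply, Matrix.mul_apply]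
    simp only [hPapp]
  refine ⟨P, ?_, ?_, ?_, ?_, ?_⟩
  · -- invertibility via eigenvectors of A + i • A2
    rw [← Matrix.linearIndependent_cols_iff_isUnit]
    apply Module.End.eigenvectors_linearIndependent' (Matrix.toLin' (A + i • A2))
      (fun c : Fin 4 => (a2z1 c : F) + i * a2z2 c) (a2_mu_injective h2 i hi)
    intro c
    rw [Module.End.hasEigenvector_iff, Module.End.mem_eigenspace_iff]
    constructor
    · rw [Matrix.toLin'_apply]
      ext r
      have e1 : ((A + i • A2) *ᵥ P.col c) r = ((A + i • A2) * P) r c := by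
        rw [Matrix.mul_apply]; rfl
      rw [e1, hXP, Matrix.add_mul, Matrix.smul_mul, IA, IA2]
      simp only [Matrix.add_apply, Matrix.smul_apply, Pi.smul_apply, smul_eq_mul, Matrix.col_apply,
        hPapp]
      ring
    · intro h0
      -- then column u of E vanishes
      have hz : ∀ r, (a2W B B2 c * E) r u = 0 := fun r => by
        have := congrFun h0 r
        rw [Matrix.col_apply, hPapp] at this
        exact this
      have : E r0 u = 0 := by
        have e2 : E = a2W B B2 c * (a2W B B2 c * E) := by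
          rw [← Matrix.mul_assoc, hWW, Matrix.one_mul]
        rw [e2, Matrix.mul_apply]
        simp only [hz, mul_zero, Finset.sum_const_zero]
      exact hr0 this
  · ext r c
    rw [hXP, IA, a2_mul_mZ1, Matrix.smul_apply, smul_eq_mul, hPapp]
  · ext r c
    rw [hXP, ← Matrix.mul_assoc, IB, a2_mul_mX1, hPapp]
  · ext r c
    rw [hXP, IA2, a2_mul_mZ2, Matrix.smul_apply, smul_eq_mul, hPapp]
  · ext r c
    rw [hXP, ← Matrix.mul_assoc, IB2, a2_mul_mX2, hPapp]

theorem a2_mZ1_mul (P : Matrix (Fin 4) (Fin 4) F) (r c : Fin 4) :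
    ((mZ1 : Matrix (Fin 4) (Fin 4) F) * P) r c = a2z1 r * P r c := by
  fin_cases r <;> simp [Matrix.mul_apply, Fin.sum_univ_four, mZ1, a2z1]

theorem a2_mZ2_mul (P : Matrix (Fin 4) (Fin 4) F) (r c : Fin 4) :
    ((mZ2 : Matrix (Fin 4) (Fin 4) F) * P) r c = a2z2 r * P r c := by
  fin_cases r <;> simp [Matrix.mul_apply, Fin.sum_univ_four, mZ2, a2z2]

theorem a2_mX1_mul (P : Matrix (Fin 4) (Fin 4) F) (r c : Fin 4) :
    ((mX1 : Matrix (Fin 4) (Fin 4) F) * P) r c = P (a2s1 r) c := by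
  fin_cases r <;> simp [Matrix.mul_apply, Fin.sum_univ_four, mX1, a2s1]

theorem a2_mX2_mul (P : Matrix (Fin 4) (Fin 4) F) (r c : Fin 4) :
    ((mX2 : Matrix (Fin 4) (Fin 4) F) * P) r c = P (a2s2 r) c := by
  fin_cases r <;> simp [Matrix.mul_apply, Fin.sum_univ_four, mX2, a2s2]

/-- the commutant of the four standard Pauli matrices is the scalars. -/
theorem a2_commutant_std (h2 : (2 : F) ≠ 0) (S : Matrix (Fin 4) (Fin 4) F)
    (hZ1 : S * mZ1 = mZ1 * S) (hZ2 : S * mZ2 = mZ2 * S)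
    (hX1 : S * mX1 = mX1 * S) (hX2 : S * mX2 = mX2 * S) :
    ∃ c : F, S = c • 1 := by
  have E1 : ∀ r c, a2z1 c * S r c = a2z1 r * S r c := fun r c => by
    rw [← a2_mul_mZ1, ← a2_mZ1_mul, hZ1]
  have E2 : ∀ r c, a2z2 c * S r c = a2z2 r * S r c := fun r c => by
    rw [← a2_mul_mZ2, ← a2_mZ2_mul, hZ2]
  have E3 : ∀ r c, S r (a2s1 c) = S (a2s1 r) c := fun r c => by
    rw [← a2_mul_mX1 S, ← a2_mX1_mul S, hX1]
  have E4 : ∀ r c, S r (a2s2 c) = S (a2s2 r) c := fun r c => by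
    rw [← a2_mul_mX2 S, ← a2_mX2_mul S, hX2]
  have d1 : S 1 1 = S 0 0 := by
    have := E4 1 0; simpa [a2s2] using this
  have d2 : S 2 2 = S 0 0 := by
    have := E3 2 0; simpa [a2s1] using this
  have d3 : S 3 3 = S 1 1 := by
    have := E3 3 1; simpa [a2s1] using this
  refine ⟨S 0 0, ?_⟩
  ext r c
  have e1 := E1 r c
  have e2 := E2 r c
  fin_cases r <;> fin_cases c <;>
    simp only [Matrix.smul_apply, Matrix.one_apply_eq, Matrix.one_apply_ne, smul_eq_mul, mul_one,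
      mul_zero, ne_eq, not_false_eq_true, Fin.reduceFinMk, Fin.isValue, Fin.zero_eta, Fin.mk_one,
      Fin.reduceEq] <;>
    first
      | rfl
      | exact d1
      | exact d2
      | exact d3.trans d1
      | (simp [a2z1, a2z2] at e1 e2
         first
          | (apply mul_left_cancel₀ h2; linear_combination e1)
          | (apply mul_left_cancel₀ h2; linear_combination -e1)
          | (apply mul_left_cancel₀ h2; linear_combination e2)
          | (apply mul_left_cancel₀ h2; linear_combination -e2))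

/-- normalize the square of an element of `R` by a scalar of `R`. -/
theorem a2_norm (i : F) (hi : i * i = -1) (R : Subgroup (GL (Fin 4) F)) (hR : PauliLike R)
    (g : GL (Fin 4) F) (hg : g ∈ R) :
    ∃ g' ∈ R, (g' : Matrix (Fin 4) (Fin 4) F) * (g' : Matrix (Fin 4) (Fin 4) F) = 1 ∧
      ∃ c : F, (g' : Matrix (Fin 4) (Fin 4) F) = c • (g : Matrix (Fin 4) (Fin 4) F) := by
  rcases hR.sq g hg with h | h
  · exact ⟨g, hg, h, 1, by rw [one_smul]⟩
  · obtain ⟨gi, hgiR, hgi⟩ := hR.unit i hi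
    refine ⟨gi * g, R.mul_mem hgiR hg, ?_, i, ?_⟩
    · rw [Units.val_mul, hgi, Matrix.smul_mul, Matrix.one_mul, Matrix.smul_mul, Matrix.mul_smul,
        smul_smul, h, hi]
      simp
    · rw [Units.val_mul, hgi, Matrix.smul_mul, Matrix.one_mul]

/-- a non-scalar element of `R` has an anticommuting partner in `R`. -/
theorem a2_exists_anti (R : Subgroup (GL (Fin 4) F)) (hR : PauliLike R)
    (g : GL (Fin 4) F) (hg : g ∈ R) (hns : ∀ c : F, (g : Matrix (Fin 4) (Fin 4) F) ≠ c • 1) :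
    ∃ h ∈ R, (h : Matrix (Fin 4) (Fin 4) F) * (g : Matrix (Fin 4) (Fin 4) F) =
      -((g : Matrix (Fin 4) (Fin 4) F) * (h : Matrix (Fin 4) (Fin 4) F)) := by
  have hex : ∃ h ∈ R, ¬ ((g : Matrix (Fin 4) (Fin 4) F) * (h : Matrix (Fin 4) (Fin 4) F) =
      (h : Matrix (Fin 4) (Fin 4) F) * (g : Matrix (Fin 4) (Fin 4) F)) := by
    by_contra hcon
    push Not at hcon
    obtain ⟨c, hc⟩ := hR.comm (g : Matrix (Fin 4) (Fin 4) F) (fun h hh => hcon h hh)
    exact hns c hc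
  obtain ⟨h, hh, hne⟩ := hex
  exact ⟨h, hh, (hR.anti h hh g hg).resolve_left (fun e => hne e.symm)⟩

/-- multiply `h` by `1` or `t` to make it commute with `x`. -/
theorem a2_fix (R : Subgroup (GL (Fin 4) F)) (hR : PauliLike R) (h x t : GL (Fin 4) F)
    (hh : h ∈ R) (hx : x ∈ R)
    (htx : (t : Matrix (Fin 4) (Fin 4) F) * (x : Matrix (Fin 4) (Fin 4) F) =
      -((x : Matrix (Fin 4) (Fin 4) F) * (t : Matrix (Fin 4) (Fin 4) F))) :
    ∃ e : GL (Fin 4) F, (e = 1 ∨ e = t) ∧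
      Commute ((h * e : GL (Fin 4) F) : Matrix (Fin 4) (Fin 4) F) (x : Matrix (Fin 4) (Fin 4) F) := by
  rcases hR.anti h hh x hx with c | c
  · exact ⟨1, Or.inl rfl, by rw [mul_one]; exact c⟩
  · refine ⟨t, Or.inr rfl, ?_⟩
    change ((h * t : GL (Fin 4) F) : Matrix (Fin 4) (Fin 4) F) * (x : Matrix (Fin 4) (Fin 4) F) =
      (x : Matrix (Fin 4) (Fin 4) F) * ((h * t : GL (Fin 4) F) : Matrix (Fin 4) (Fin 4) F)
    rw [Units.val_mul, Matrix.mul_assoc, htx, Matrix.mul_neg, ← Matrix.mul_assoc, c, Matrix.neg_mul,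
      neg_neg, Matrix.mul_assoc]

theorem a2_e_comm (e t : GL (Fin 4) F) (Y : Matrix (Fin 4) (Fin 4) F) (he : e = 1 ∨ e = t)
    (hty : Commute (t : Matrix (Fin 4) (Fin 4) F) Y) :
    Commute (e : Matrix (Fin 4) (Fin 4) F) Y := by
  rcases he with rfl | rfl
  · rw [Units.val_one]; exact Commute.one_left _
  · exact hty

theorem a2_e_mem (e t : GL (Fin 4) F) (H : Subgroup (GL (Fin 4) F)) (he : e = 1 ∨ e = t)
    (ht : t ∈ H) : e ∈ H := by
  rcases he with rfl | rfl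
  · exact H.one_mem
  · exact ht

/-- the centralizer in a subgroup `H ≤ R` of an element anticommuting with some `t ∈ H` has
index at most 2 in `H`. -/
theorem a2_card_centralizer (R : Subgroup (GL (Fin 4) F)) (hR : PauliLike R)
    (H : Subgroup (GL (Fin 4) F)) (hHR : H ≤ R)
    (h0 t : GL (Fin 4) F) (hh0 : h0 ∈ R) (ht : t ∈ H)
    (hanti : (t : Matrix (Fin 4) (Fin 4) F) * (h0 : Matrix (Fin 4) (Fin 4) F) =
      -((h0 : Matrix (Fin 4) (Fin 4) F) * (t : Matrix (Fin 4) (Fin 4) F))) :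
    Nat.card H ≤ 2 * Nat.card (H ⊓ Subgroup.centralizer {h0} : Subgroup (GL (Fin 4) F)) := by
  have hfin : Finite R := Nat.finite_of_card_ne_zero (by rw [hR.card]; norm_num)
  obtain ⟨K, hK⟩ : ∃ K : Subgroup (GL (Fin 4) F), K = H ⊓ Subgroup.centralizer {h0} := ⟨_, rfl⟩
  rw [← hK]
  have hKH : K ≤ H := by rw [hK]; exact inf_le_left
  have hKfin : (K : Set (GL (Fin 4) F)).Finite :=
    Set.Finite.subset (Set.toFinite (R : Set (GL (Fin 4) F))) (by
      intro x hx; exact hHR (hKH hx))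
  have hsub : (H : Set (GL (Fin 4) F)) ⊆
      (K : Set (GL (Fin 4) F)) ∪ (fun g => t * g) '' (K : Set (GL (Fin 4) F)) := by
    intro g hg
    have hg' : g ∈ H := hg
    rcases hR.anti g (hHR hg') h0 hh0 with h | h
    · left
      change g ∈ K
      rw [hK]
      refine ⟨hg', ?_⟩
      change g ∈ Subgroup.centralizer {h0}
      rw [Subgroup.mem_centralizer_singleton_iff, a4_comm_iff]
      exact h
    · right
      refine ⟨t⁻¹ * g, ?_, by group⟩
      change t⁻¹ * g ∈ K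
      rw [hK]
      refine ⟨H.mul_mem (H.inv_mem ht) hg', ?_⟩
      change t⁻¹ * g ∈ Subgroup.centralizer {h0}
      rw [Subgroup.mem_centralizer_singleton_iff, a4_comm_iff]
      simp only [Units.val_mul]
      have e1 : ((t⁻¹ : GL (Fin 4) F) : Matrix (Fin 4) (Fin 4) F) * (h0 : Matrix (Fin 4) (Fin 4) F)
          = -((h0 : Matrix (Fin 4) (Fin 4) F) * ((t⁻¹ : GL (Fin 4) F) : Matrix (Fin 4) (Fin 4) F)) := by
        have : ((t⁻¹ : GL (Fin 4) F) : Matrix (Fin 4) (Fin 4) F) *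
            ((t : Matrix (Fin 4) (Fin 4) F) * (h0 : Matrix (Fin 4) (Fin 4) F)) *
            ((t⁻¹ : GL (Fin 4) F) : Matrix (Fin 4) (Fin 4) F) =
            ((t⁻¹ : GL (Fin 4) F) : Matrix (Fin 4) (Fin 4) F) *
            (-((h0 : Matrix (Fin 4) (Fin 4) F) * (t : Matrix (Fin 4) (Fin 4) F))) *
            ((t⁻¹ : GL (Fin 4) F) : Matrix (Fin 4) (Fin 4) F) := by rw [hanti]
        rw [← Matrix.mul_assoc, Units.inv_mul, Matrix.one_mul, Matrix.mul_neg, Matrix.neg_mul,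
          Matrix.mul_assoc, Matrix.mul_assoc, Units.mul_inv, Matrix.mul_one] at this
        rw [this, neg_neg]
      rw [Matrix.mul_assoc, h, Matrix.mul_neg, ← Matrix.mul_assoc, e1, Matrix.neg_mul, neg_neg,
        Matrix.mul_assoc]
  have hHfin : (H : Set (GL (Fin 4) F)).Finite :=
    Set.Finite.subset (Set.toFinite (R : Set (GL (Fin 4) F))) (by intro x hx; exact hHR hx)
  have h1 : (H : Set (GL (Fin 4) F)).ncard ≤
      ((K : Set (GL (Fin 4) F)) ∪ (fun g => t * g) '' (K : Set (GL (Fin 4) F))).ncard :=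
    Set.ncard_le_ncard hsub (hKfin.union (hKfin.image _))
  have h2 := Set.ncard_union_le (K : Set (GL (Fin 4) F)) ((fun g => t * g) '' (K : Set (GL (Fin 4) F)))
  have h3 : ((fun g => t * g) '' (K : Set (GL (Fin 4) F))).ncard ≤ (K : Set (GL (Fin 4) F)).ncard :=
    Set.ncard_image_le hKfin
  have h4 : (H : Set (GL (Fin 4) F)).ncard = Nat.card H := by
    rw [← Nat.card_coe_set_eq]; rfl
  have h5 : (K : Set (GL (Fin 4) F)).ncard = Nat.card K := by
    rw [← Nat.card_coe_set_eq]; rfl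
  omega

/-- two commuting anticommuting pairs in `R` (squares not yet normalized). -/
theorem a2_exists_pairs' (R : Subgroup (GL (Fin 4) F)) (hR : PauliLike R) :
    ∃ a b a2 b2 : GL (Fin 4) F, a ∈ R ∧ b ∈ R ∧ a2 ∈ R ∧ b2 ∈ R ∧
      (a : Matrix (Fin 4) (Fin 4) F) * (b : Matrix (Fin 4) (Fin 4) F) =
        -((b : Matrix (Fin 4) (Fin 4) F) * (a : Matrix (Fin 4) (Fin 4) F)) ∧
      (a2 : Matrix (Fin 4) (Fin 4) F) * (b2 : Matrix (Fin 4) (Fin 4) F) =
        -((b2 : Matrix (Fin 4) (Fin 4) F) * (a2 : Matrix (Fin 4) (Fin 4) F)) ∧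
      Commute (a : Matrix (Fin 4) (Fin 4) F) (a2 : Matrix (Fin 4) (Fin 4) F) ∧
      Commute (a : Matrix (Fin 4) (Fin 4) F) (b2 : Matrix (Fin 4) (Fin 4) F) ∧
      Commute (b : Matrix (Fin 4) (Fin 4) F) (a2 : Matrix (Fin 4) (Fin 4) F) ∧
      Commute (b : Matrix (Fin 4) (Fin 4) F) (b2 : Matrix (Fin 4) (Fin 4) F) := by
  have hfin : Finite R := Nat.finite_of_card_ne_zero (by rw [hR.card]; norm_num)
  obtain ⟨a, ha, hans⟩ := a4_exists_not_scalar R hR
  obtain ⟨b, hb, hba⟩ := a2_exists_anti R hR a ha hans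
  have hab : (a : Matrix (Fin 4) (Fin 4) F) * (b : Matrix (Fin 4) (Fin 4) F) =
      -((b : Matrix (Fin 4) (Fin 4) F) * (a : Matrix (Fin 4) (Fin 4) F)) := by
    rw [hba, neg_neg]
  -- the centralizer of a and b in R has order at least 16
  obtain ⟨K1, hK1⟩ : ∃ K : Subgroup (GL (Fin 4) F), K = R ⊓ Subgroup.centralizer {a} := ⟨_, rfl⟩
  obtain ⟨K2, hK2⟩ : ∃ K : Subgroup (GL (Fin 4) F), K = K1 ⊓ Subgroup.centralizer {b} := ⟨_, rfl⟩
  have hK1R : K1 ≤ R := by rw [hK1]; exact inf_le_left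
  have hK2K1 : K2 ≤ K1 := by rw [hK2]; exact inf_le_left
  have hc1 : 64 ≤ 2 * Nat.card K1 := by
    rw [hK1]; exact a4_card_centralizer R hR a b ha hb hba
  have haK1 : a ∈ K1 := by
    rw [hK1]
    refine ⟨ha, ?_⟩
    change a ∈ Subgroup.centralizer {a}
    rw [Subgroup.mem_centralizer_singleton_iff]
  have hc2 : Nat.card K1 ≤ 2 * Nat.card K2 := by
    rw [hK2]; exact a2_card_centralizer R hR K1 hK1R b a hb haK1 hab
  have hex : ∃ a2 ∈ K2, ∀ c : F, (a2 : Matrix (Fin 4) (Fin 4) F) ≠ c • 1 := by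
    by_contra hcon
    push Not at hcon
    have := a4_card_le_four_of_scalar R hR K2 (hK2K1.trans hK1R) hcon
    omega
  obtain ⟨a2, ha2K, ha2ns⟩ := hex
  have ha2R : a2 ∈ R := hK1R (hK2K1 ha2K)
  have ha2a : Commute (a : Matrix (Fin 4) (Fin 4) F) (a2 : Matrix (Fin 4) (Fin 4) F) := by
    have h1 : a2 ∈ K1 := hK2K1 ha2K
    rw [hK1] at h1
    have := Subgroup.mem_centralizer_singleton_iff.mp h1.2
    rw [a4_comm_iff] at this
    exact this.symm
  have ha2b : Commute (b : Matrix (Fin 4) (Fin 4) F) (a2 : Matrix (Fin 4) (Fin 4) F) := by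
    have h1 : a2 ∈ K2 := ha2K
    rw [hK2] at h1
    have := Subgroup.mem_centralizer_singleton_iff.mp h1.2
    rw [a4_comm_iff] at this
    exact this.symm
  obtain ⟨h, hh, hha2⟩ := a2_exists_anti R hR a2 ha2R ha2ns
  obtain ⟨e1, he1, f1⟩ := a2_fix R hR h a b hh ha hba
  have he1R : e1 ∈ R := a2_e_mem e1 b R he1 hb
  obtain ⟨e2, he2, f2⟩ := a2_fix R hR (h * e1) b a (R.mul_mem hh he1R) hb hab
  have he2R : e2 ∈ R := a2_e_mem e2 a R he2 ha
  have he1a2 : Commute (e1 : Matrix (Fin 4) (Fin 4) F) (a2 : Matrix (Fin 4) (Fin 4) F) :=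
    a2_e_comm e1 b _ he1 ha2b
  have he2a2 : Commute (e2 : Matrix (Fin 4) (Fin 4) F) (a2 : Matrix (Fin 4) (Fin 4) F) :=
    a2_e_comm e2 a _ he2 ha2a
  have he2a : Commute (e2 : Matrix (Fin 4) (Fin 4) F) (a : Matrix (Fin 4) (Fin 4) F) :=
    a2_e_comm e2 a _ he2 (Commute.refl _)
  refine ⟨a, b, a2, h * e1 * e2, ha, hb, ha2R, R.mul_mem (R.mul_mem hh he1R) he2R, hab, ?_, ha2a, ?_,
    ha2b, ?_⟩
  · -- a2 * b2 = - b2 * a2
    rw [Units.val_mul, Units.val_mul]
    have e3 : (h : Matrix (Fin 4) (Fin 4) F) * (e1 : Matrix (Fin 4) (Fin 4) F) *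
        (e2 : Matrix (Fin 4) (Fin 4) F) * (a2 : Matrix (Fin 4) (Fin 4) F) =
        -((a2 : Matrix (Fin 4) (Fin 4) F) * ((h : Matrix (Fin 4) (Fin 4) F) *
          (e1 : Matrix (Fin 4) (Fin 4) F) * (e2 : Matrix (Fin 4) (Fin 4) F))) := by
      rw [Matrix.mul_assoc _ _ (a2 : Matrix (Fin 4) (Fin 4) F), he2a2.eq, ← Matrix.mul_assoc,
        Matrix.mul_assoc _ _ (a2 : Matrix (Fin 4) (Fin 4) F), he1a2.eq, ← Matrix.mul_assoc, hha2,
        Matrix.neg_mul, Matrix.neg_mul, Matrix.mul_assoc, Matrix.mul_assoc, Matrix.mul_assoc]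
    rw [e3, neg_neg]
  · -- a commutes with b2
    have : Commute ((h * e1 * e2 : GL (Fin 4) F) : Matrix (Fin 4) (Fin 4) F)
        (a : Matrix (Fin 4) (Fin 4) F) := by
      rw [Units.val_mul]
      exact Commute.mul_left f1 he2a
    exact this.symm
  · exact f2.symm

theorem a2_smul_anti (c d : F) (X Y X' Y' : Matrix (Fin 4) (Fin 4) F)
    (hX : X' = c • X) (hY : Y' = d • Y) (h : X * Y = -(Y * X)) : X' * Y' = -(Y' * X') := by
  rw [hX, hY, Matrix.smul_mul, Matrix.mul_smul, Matrix.smul_mul, Matrix.mul_smul, h, smul_neg,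
    smul_neg, smul_comm]

theorem a2_smul_comm (c d : F) (X Y X' Y' : Matrix (Fin 4) (Fin 4) F)
    (hX : X' = c • X) (hY : Y' = d • Y) (h : Commute X Y) : X' * Y' = Y' * X' := by
  rw [hX, hY, Matrix.smul_mul, Matrix.mul_smul, Matrix.smul_mul, Matrix.mul_smul, h.eq, smul_comm]

/-- two commuting anticommuting pairs of involutions in `R`. -/
theorem a2_exists_pairs (i : F) (hi : i * i = -1) (R : Subgroup (GL (Fin 4) F))
    (hR : PauliLike R) :
    ∃ a b a2 b2 : GL (Fin 4) F, a ∈ R ∧ b ∈ R ∧ a2 ∈ R ∧ b2 ∈ R ∧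
      (a : Matrix (Fin 4) (Fin 4) F) * (a : Matrix (Fin 4) (Fin 4) F) = 1 ∧
      (b : Matrix (Fin 4) (Fin 4) F) * (b : Matrix (Fin 4) (Fin 4) F) = 1 ∧
      (a : Matrix (Fin 4) (Fin 4) F) * (b : Matrix (Fin 4) (Fin 4) F) =
        -((b : Matrix (Fin 4) (Fin 4) F) * (a : Matrix (Fin 4) (Fin 4) F)) ∧
      (a2 : Matrix (Fin 4) (Fin 4) F) * (a2 : Matrix (Fin 4) (Fin 4) F) = 1 ∧
      (b2 : Matrix (Fin 4) (Fin 4) F) * (b2 : Matrix (Fin 4) (Fin 4) F) = 1 ∧
      (a2 : Matrix (Fin 4) (Fin 4) F) * (b2 : Matrix (Fin 4) (Fin 4) F) =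
        -((b2 : Matrix (Fin 4) (Fin 4) F) * (a2 : Matrix (Fin 4) (Fin 4) F)) ∧
      (a : Matrix (Fin 4) (Fin 4) F) * (a2 : Matrix (Fin 4) (Fin 4) F) =
        (a2 : Matrix (Fin 4) (Fin 4) F) * (a : Matrix (Fin 4) (Fin 4) F) ∧
      (a : Matrix (Fin 4) (Fin 4) F) * (b2 : Matrix (Fin 4) (Fin 4) F) =
        (b2 : Matrix (Fin 4) (Fin 4) F) * (a : Matrix (Fin 4) (Fin 4) F) ∧
      (b : Matrix (Fin 4) (Fin 4) F) * (a2 : Matrix (Fin 4) (Fin 4) F) =
        (a2 : Matrix (Fin 4) (Fin 4) F) * (b : Matrix (Fin 4) (Fin 4) F) ∧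
      (b : Matrix (Fin 4) (Fin 4) F) * (b2 : Matrix (Fin 4) (Fin 4) F) =
        (b2 : Matrix (Fin 4) (Fin 4) F) * (b : Matrix (Fin 4) (Fin 4) F) := by
  obtain ⟨a', b', a2', b2', ha', hb', ha2', hb2', hab, ha2b2, k1, k2, k3, k4⟩ :=
    a2_exists_pairs' R hR
  obtain ⟨a, ha, hA, ca, hca⟩ := a2_norm i hi R hR a' ha'
  obtain ⟨b, hb, hB, cb, hcb⟩ := a2_norm i hi R hR b' hb'
  obtain ⟨a2, ha2, hA2, ca2, hca2⟩ := a2_norm i hi R hR a2' ha2'
  obtain ⟨b2, hb2, hB2, cb2, hcb2⟩ := a2_norm i hi R hR b2' hb2'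
  exact ⟨a, b, a2, b2, ha, hb, ha2, hb2, hA, hB, a2_smul_anti ca cb _ _ _ _ hca hcb hab, hA2, hB2,
    a2_smul_anti ca2 cb2 _ _ _ _ hca2 hcb2 ha2b2,
    a2_smul_comm ca ca2 _ _ _ _ hca hca2 k1, a2_smul_comm ca cb2 _ _ _ _ hca hcb2 k2,
    a2_smul_comm cb ca2 _ _ _ _ hcb hca2 k3, a2_smul_comm cb cb2 _ _ _ _ hcb hcb2 k4⟩

/-- scalar elements of `R` lie in any subgroup containing the element `i • 1`. -/
theorem a2_scalar_mem (i : F) (hi : i * i = -1) (R : Subgroup (GL (Fin 4) F)) (hR : PauliLike R)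
    (H : Subgroup (GL (Fin 4) F)) (gi : GL (Fin 4) F)
    (hgi : (gi : Matrix (Fin 4) (Fin 4) F) = i • 1) (hgiH : gi ∈ H)
    (g : GL (Fin 4) F) (hg : g ∈ R) (c : F) (hc : (g : Matrix (Fin 4) (Fin 4) F) = c • 1) :
    g ∈ H := by
  have hgi2 : ((gi * gi : GL (Fin 4) F) : Matrix (Fin 4) (Fin 4) F) = (-1 : F) • 1 := by
    rw [Units.val_mul, hgi, Matrix.smul_mul, Matrix.mul_smul, smul_smul, Matrix.one_mul, hi]
  have hgi3 : ((gi * gi * gi : GL (Fin 4) F) : Matrix (Fin 4) (Fin 4) F) = (-i : F) • 1 := by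
    rw [Units.val_mul, hgi2, hgi, Matrix.smul_mul, Matrix.mul_smul, smul_smul, Matrix.one_mul]
    congr 1; ring
  rcases a4_scalar_pow_four R hR g hg c hc with h | h
  · have : (c - 1) * (c + 1) = 0 := by ring_nf; rw [pow_two, h]; ring
    rcases mul_eq_zero.mp this with h' | h'
    · have hc1 : c = 1 := sub_eq_zero.mp h'
      have : g = 1 := by apply Units.ext; rw [hc, hc1, one_smul, Units.val_one]
      rw [this]; exact H.one_mem
    · have hc1 : c = -1 := eq_neg_of_add_eq_zero_left h'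
      have : g = gi * gi := by apply Units.ext; rw [hc, hgi2, hc1]
      rw [this]; exact H.mul_mem hgiH hgiH
  · have : (c - i) * (c + i) = 0 := by ring_nf; rw [pow_two, pow_two, h, hi]; ring
    rcases mul_eq_zero.mp this with h' | h'
    · have hc1 : c = i := sub_eq_zero.mp h'
      have : g = gi := by apply Units.ext; rw [hc, hgi, hc1]
      rw [this]; exact hgiH
    · have hc1 : c = -i := eq_neg_of_add_eq_zero_left h'
      have : g = gi * gi * gi := by apply Units.ext; rw [hc, hgi3, hc1]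
      rw [this]; exact H.mul_mem (H.mul_mem hgiH hgiH) hgiH

theorem a2_conj_comm (PM PMi X X0 G : Matrix (Fin 4) (Fin 4) F) (h1 : PMi * PM = 1)
    (h2 : PM * PMi = 1) (r : X * PM = PM * X0) (hc : Commute G X) :
    (PMi * G * PM) * X0 = X0 * (PMi * G * PM) := by
  have hX0 : X0 = PMi * X * PM := by
    rw [Matrix.mul_assoc, r, ← Matrix.mul_assoc, h1, Matrix.one_mul]
  have k : ∀ Y : Matrix (Fin 4) (Fin 4) F, PM * (PMi * Y) = Y := fun Y => by
    rw [← Matrix.mul_assoc, h2, Matrix.one_mul]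
  rw [hX0]
  simp only [Matrix.mul_assoc, k]
  rw [← Matrix.mul_assoc G, hc.eq, Matrix.mul_assoc]

/-- P4-A2 (frame).  A `PauliLike` group is a `GL`-conjugate of the standard one. -/
theorem exists_frame [Fintype F] (h2 : (2 : F) ≠ 0) (i : F) (hi : i * i = -1)
    (R : Subgroup (GL (Fin 4) F)) (hR : PauliLike R) :
    ∃ P : GL (Fin 4) F, R = (R0 i hi).map (MulAut.conj P).toMonoidHom := by
  obtain ⟨a, b, a2, b2, ha, hb, ha2, hb2, hA, hB, hAB, hA2, hB2, hAB2, c1, c2, c3, c4⟩ :=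
    a2_exists_pairs i hi R hR
  obtain ⟨PM, hPu, r1, r2, r3, r4⟩ :=
    a2_frame_matrix h2 i hi _ _ _ _ hA hB hAB hA2 hB2 hAB2 c1 c2 c3 c4
  obtain ⟨P, hP⟩ : ∃ P : GL (Fin 4) F, (P : Matrix (Fin 4) (Fin 4) F) = PM := ⟨hPu.unit, rfl⟩
  obtain ⟨gi, hgiR, hgi⟩ := hR.unit i hi
  refine ⟨P, ?_⟩
  obtain ⟨H, hH⟩ : ∃ H : Subgroup (GL (Fin 4) F),
      H = (R0 i hi).map (MulAut.conj P).toMonoidHom := ⟨_, rfl⟩
  rw [← hH]
  have hPi1 : ((P⁻¹ : GL (Fin 4) F) : Matrix (Fin 4) (Fin 4) F) * PM = 1 := by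
    rw [← hP]; exact Units.inv_mul P
  have hPi2 : PM * ((P⁻¹ : GL (Fin 4) F) : Matrix (Fin 4) (Fin 4) F) = 1 := by
    rw [← hP]; exact Units.mul_inv P
  have conj_of : ∀ (x y : GL (Fin 4) F),
      (y : Matrix (Fin 4) (Fin 4) F) * PM = PM * (x : Matrix (Fin 4) (Fin 4) F) →
      P * x * P⁻¹ = y := by
    intro x y h
    apply Units.ext
    simp only [Units.val_mul]
    rw [hP, ← h, Matrix.mul_assoc, hPi2, Matrix.mul_one]
  have kZ1 : P * gZ1 * P⁻¹ = a := conj_of gZ1 a r1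
  have kX1 : P * gX1 * P⁻¹ = b := conj_of gX1 b r2
  have kZ2 : P * gZ2 * P⁻¹ = a2 := conj_of gZ2 a2 r3
  have kX2 : P * gX2 * P⁻¹ = b2 := conj_of gX2 b2 r4
  have kI : P * gI i hi * P⁻¹ = gi := conj_of (gI i hi) gi (by
    rw [hgi, coe_gI, Matrix.smul_mul, Matrix.mul_smul, Matrix.one_mul, Matrix.mul_one])
  have memH : ∀ x ∈ ({gI i hi, gX1, gZ1, gX2, gZ2} : Set (GL (Fin 4) F)), P * x * P⁻¹ ∈ H := by
    intro x hx
    rw [hH]
    exact Subgroup.mem_map.mpr ⟨x, Subgroup.subset_closure hx, by simp [MulAut.conj_apply]⟩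
  have haH : a ∈ H := kZ1 ▸ memH gZ1 (by simp)
  have hbH : b ∈ H := kX1 ▸ memH gX1 (by simp)
  have ha2H : a2 ∈ H := kZ2 ▸ memH gZ2 (by simp)
  have hb2H : b2 ∈ H := kX2 ▸ memH gX2 (by simp)
  have hgiH : gi ∈ H := kI ▸ memH (gI i hi) (by simp)
  apply le_antisymm
  · -- R ≤ H
    intro g hg
    have hBA : (b : Matrix (Fin 4) (Fin 4) F) * (a : Matrix (Fin 4) (Fin 4) F) =
        -((a : Matrix (Fin 4) (Fin 4) F) * (b : Matrix (Fin 4) (Fin 4) F)) := by
      rw [hAB, neg_neg]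
    have hBA2 : (b2 : Matrix (Fin 4) (Fin 4) F) * (a2 : Matrix (Fin 4) (Fin 4) F) =
        -((a2 : Matrix (Fin 4) (Fin 4) F) * (b2 : Matrix (Fin 4) (Fin 4) F)) := by
      rw [hAB2, neg_neg]
    obtain ⟨e1, he1, f1⟩ := a2_fix R hR g a b hg ha hBA
    have he1R : e1 ∈ R := a2_e_mem e1 b R he1 hb
    have hg1 : g * e1 ∈ R := R.mul_mem hg he1R
    obtain ⟨e2, he2, f2⟩ := a2_fix R hR (g * e1) b a hg1 hb hAB
    have he2R : e2 ∈ R := a2_e_mem e2 a R he2 ha
    have hg2 : g * e1 * e2 ∈ R := R.mul_mem hg1 he2R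
    obtain ⟨e3, he3, f3⟩ := a2_fix R hR (g * e1 * e2) a2 b2 hg2 ha2 hBA2
    have he3R : e3 ∈ R := a2_e_mem e3 b2 R he3 hb2
    have hg3 : g * e1 * e2 * e3 ∈ R := R.mul_mem hg2 he3R
    obtain ⟨e4, he4, f4⟩ := a2_fix R hR (g * e1 * e2 * e3) b2 a2 hg3 hb2 hAB2
    have he4R : e4 ∈ R := a2_e_mem e4 a2 R he4 ha2
    have hg4 : g * e1 * e2 * e3 * e4 ∈ R := R.mul_mem hg3 he4R
    -- commutation bookkeeping
    have g2A : Commute ((g * e1 * e2 : GL (Fin 4) F) : Matrix (Fin 4) (Fin 4) F)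
        (a : Matrix (Fin 4) (Fin 4) F) := by
      rw [Units.val_mul]
      exact Commute.mul_left f1 (a2_e_comm e2 a _ he2 (Commute.refl _))
    have g3A : Commute ((g * e1 * e2 * e3 : GL (Fin 4) F) : Matrix (Fin 4) (Fin 4) F)
        (a : Matrix (Fin 4) (Fin 4) F) := by
      rw [Units.val_mul]
      exact Commute.mul_left g2A (a2_e_comm e3 b2 _ he3 c2.symm)
    have g3B : Commute ((g * e1 * e2 * e3 : GL (Fin 4) F) : Matrix (Fin 4) (Fin 4) F)
        (b : Matrix (Fin 4) (Fin 4) F) := by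
      rw [Units.val_mul]
      exact Commute.mul_left f2 (a2_e_comm e3 b2 _ he3 c4.symm)
    have g4A : Commute ((g * e1 * e2 * e3 * e4 : GL (Fin 4) F) : Matrix (Fin 4) (Fin 4) F)
        (a : Matrix (Fin 4) (Fin 4) F) := by
      rw [Units.val_mul]
      exact Commute.mul_left g3A (a2_e_comm e4 a2 _ he4 c1.symm)
    have g4B : Commute ((g * e1 * e2 * e3 * e4 : GL (Fin 4) F) : Matrix (Fin 4) (Fin 4) F)
        (b : Matrix (Fin 4) (Fin 4) F) := by
      rw [Units.val_mul]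
      exact Commute.mul_left g3B (a2_e_comm e4 a2 _ he4 c3.symm)
    have g4A2 : Commute ((g * e1 * e2 * e3 * e4 : GL (Fin 4) F) : Matrix (Fin 4) (Fin 4) F)
        (a2 : Matrix (Fin 4) (Fin 4) F) := by
      rw [Units.val_mul]
      exact Commute.mul_left f3 (a2_e_comm e4 a2 _ he4 (Commute.refl _))
    -- the conjugate commutes with the standard Pauli matrices, hence is scalar
    obtain ⟨G4, hG4⟩ : ∃ G4 : Matrix (Fin 4) (Fin 4) F,
        G4 = ((g * e1 * e2 * e3 * e4 : GL (Fin 4) F) : Matrix (Fin 4) (Fin 4) F) := ⟨_, rfl⟩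
    rw [← hG4] at g4A g4B g4A2 f4
    obtain ⟨c, hc⟩ := a2_commutant_std h2
      (((P⁻¹ : GL (Fin 4) F) : Matrix (Fin 4) (Fin 4) F) * G4 * PM)
      (a2_conj_comm PM _ _ _ G4 hPi1 hPi2 r1 g4A) (a2_conj_comm PM _ _ _ G4 hPi1 hPi2 r3 g4A2)
      (a2_conj_comm PM _ _ _ G4 hPi1 hPi2 r2 g4B) (a2_conj_comm PM _ _ _ G4 hPi1 hPi2 r4 f4)
    have hG4c : G4 = c • 1 := by
      have : G4 = PM * (((P⁻¹ : GL (Fin 4) F) : Matrix (Fin 4) (Fin 4) F) * G4 * PM) *
          ((P⁻¹ : GL (Fin 4) F) : Matrix (Fin 4) (Fin 4) F) := by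
        rw [← Matrix.mul_assoc, ← Matrix.mul_assoc, hPi2, Matrix.one_mul, Matrix.mul_assoc, hPi2,
          Matrix.mul_one]
      rw [this, hc, Matrix.mul_smul, Matrix.smul_mul, Matrix.mul_one, hPi2]
    have hg4H : g * e1 * e2 * e3 * e4 ∈ H :=
      a2_scalar_mem i hi R hR H gi hgi hgiH _ hg4 c (hG4 ▸ hG4c)
    have : g = (g * e1 * e2 * e3 * e4) * e4⁻¹ * e3⁻¹ * e2⁻¹ * e1⁻¹ := by group
    rw [this]
    exact H.mul_mem (H.mul_mem (H.mul_mem (H.mul_mem hg4H
      (H.inv_mem (a2_e_mem e4 a2 H he4 ha2H))) (H.inv_mem (a2_e_mem e3 b2 H he3 hb2H)))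
      (H.inv_mem (a2_e_mem e2 a H he2 haH))) (H.inv_mem (a2_e_mem e1 b H he1 hbH))
  · -- H ≤ R
    rw [hH, Subgroup.map_le_iff_le_comap, R0, Subgroup.closure_le]
    intro x hx
    change (MulAut.conj P) x ∈ R
    rw [MulAut.conj_apply]
    rcases hx with rfl | rfl | rfl | rfl | rfl
    · rw [kI]; exact hgiR
    · rw [kX1]; exact hb
    · rw [kZ1]; exact ha
    · rw [kX2]; exact hb2
    · rw [kZ2]; exact ha2

end Cfsg.Agent.Lib.Helper14.P4
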