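import Mathlib
import Cfsg.Prelude.Def_LieClassical
import Cfsg.Agent.Lib.Helper14.P4Defs
import Cfsg.Agent.Lib.Helper14.Us3Basic
import Cfsg.Agent.Lib.Helper80.P4O3

/-! # S6001 hive, leaf P4U-O3 (exists_bad_three_unitary) -/

set_option autoImplicit false
set_option linter.unusedSectionVars false

namespace Cfsg.Agent.Lib.Helper14.P4

open Matrix

variable {F : Type*} [Field F] [Fintype F] {p : ℕ} [Fact p.Prime] [CharP F p]

/-- a diagonal matrix with entries of norm 1 is unitary. -/
theorem uo3_diag_mem_GU (hF : Fintype.card F = p ^ 2) (x : GL (Fin 4) F) (d : Fin 4 → F)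
    (hx : (x : Matrix (Fin 4) (Fin 4) F) = Matrix.diagonal d) (hd : ∀ j, d j ^ (p + 1) = 1) :
    x ∈ Cfsg.GU 4 F p := by
  rw [Cfsg.Agent.Lib.Helper14.Us3.mem_GU_iff hF, hx, Matrix.diagonal_transpose]
  have hp0 : p ≠ 0 := (Fact.out : p.Prime).ne_zero
  have hfrm : Cfsg.Agent.Lib.Helper14.Us3.frm p (Matrix.diagonal d) =
      Matrix.diagonal (fun j => d j ^ p) := by
    ext a b
    rw [Cfsg.Agent.Lib.Helper14.Us3.frm_apply]
    by_cases hab : a = b
    · subst hab; simp
    · simp [Matrix.diagonal_apply_ne _ hab, hp0]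
  rw [hfrm, Matrix.diagonal_mul_diagonal, ← Matrix.diagonal_one]
  congr 1
  funext j
  rw [← pow_succ']
  exact hd j

/-- P4U-O3. -/
theorem exists_bad_three_unitary (hF : Fintype.card F = p ^ 2) (h2 : (2 : F) ≠ 0) (h3 : (3 : F) ≠ 0)
    (h5 : (5 : F) ≠ 0) (h7 : (7 : F) ≠ 0) (w : F) (hw : w * w + w + 1 = 0) (hwn : w ^ (p + 1) = 1)
    (N : Subgroup (GL (Fin 4) F))
    (hN : ∀ y ∈ N,
      Matrix.trace (y : Matrix (Fin 4) (Fin 4) F) *
          Matrix.trace ((y⁻¹ : GL (Fin 4) F) : Matrix (Fin 4) (Fin 4) F) = 0 ∨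
        Matrix.trace (y : Matrix (Fin 4) (Fin 4) F) *
          Matrix.trace ((y⁻¹ : GL (Fin 4) F) : Matrix (Fin 4) (Fin 4) F) = 1 ∨
        Matrix.trace (y : Matrix (Fin 4) (Fin 4) F) *
          Matrix.trace ((y⁻¹ : GL (Fin 4) F) : Matrix (Fin 4) (Fin 4) F) = 2 ∨
        Matrix.trace (y : Matrix (Fin 4) (Fin 4) F) *
          Matrix.trace ((y⁻¹ : GL (Fin 4) F) : Matrix (Fin 4) (Fin 4) F) = 4 ∨
        Matrix.trace (y : Matrix (Fin 4) (Fin 4) F) *
          Matrix.trace ((y⁻¹ : GL (Fin 4) F) : Matrix (Fin 4) (Fin 4) F) = 8 ∨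
        ∃ c : F, (y : Matrix (Fin 4) (Fin 4) F) = c • 1) :
    ∃ x : GL (Fin 4) F, x ∈ Cfsg.GU 4 F p ∧ Matrix.GeneralLinearGroup.det x = 1 ∧ x ^ 3 = 1 ∧
      (∀ z : F, (x : Matrix (Fin 4) (Fin 4) F) ≠ z • 1) ∧
      ∀ g : GL (Fin 4) F, g⁻¹ * x * g ∉ N := by
  have hω3 : w * w * w = 1 := by linear_combination (w - 1) * hw
  have hAB : (Matrix.diagonal ![1, w * w, w * w, w * w] : Matrix (Fin 4) (Fin 4) F) *
      Matrix.diagonal ![1, w, w, w] = 1 := by
    rw [Matrix.diagonal_mul_diagonal, ← Matrix.diagonal_one]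
    congr 1
    funext i
    fin_cases i <;> simp [hω3]
  have hBA : (Matrix.diagonal ![1, w, w, w] : Matrix (Fin 4) (Fin 4) F) *
      Matrix.diagonal ![1, w * w, w * w, w * w] = 1 := by
    rw [Matrix.diagonal_mul_diagonal, ← Matrix.diagonal_one]
    congr 1
    funext i
    fin_cases i <;> simp [← mul_assoc, hω3]
  set x : GL (Fin 4) F := ⟨Matrix.diagonal ![1, w * w, w * w, w * w], Matrix.diagonal ![1, w, w, w],
    hAB, hBA⟩ with hx
  have hxc : (x : Matrix (Fin 4) (Fin 4) F) = Matrix.diagonal ![1, w * w, w * w, w * w] := rfl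
  have hxi : ((x⁻¹ : GL (Fin 4) F) : Matrix (Fin 4) (Fin 4) F) = Matrix.diagonal ![1, w, w, w] := rfl
  have hns : ∀ z : F, (x : Matrix (Fin 4) (Fin 4) F) ≠ z • 1 := by
    intro z hz
    have e0 := congrFun (congrFun hz 0) 0
    have e1 := congrFun (congrFun hz 1) 1
    rw [hxc] at e0 e1
    simp at e0 e1
    have h1 : w * w = 1 := by rw [e1, ← e0]
    have h2' : w = 1 := by
      have := hω3
      rw [h1, one_mul] at this
      exact this
    rw [h2'] at hw
    apply h3
    linear_combination hw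
  refine ⟨x, ?_, ?_, ?_, hns, ?_⟩
  · apply uo3_diag_mem_GU hF x _ hxc
    intro j
    fin_cases j
    · simp
    · simp only [Fin.mk_one, Fin.isValue, Matrix.cons_val_one, Matrix.cons_val_zero]
      rw [mul_pow, hwn, one_mul]
    · simp only [Fin.reduceFinMk, Fin.isValue, Matrix.cons_val]
      rw [mul_pow, hwn, one_mul]
    · simp only [Fin.reduceFinMk, Fin.isValue, Matrix.cons_val]
      rw [mul_pow, hwn, one_mul]
  · apply Units.ext
    rw [Matrix.GeneralLinearGroup.val_det_apply, hxc, Matrix.det_diagonal, Fin.prod_univ_four]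
    simp
    linear_combination (w * w * w + 1) * hω3
  · apply Units.ext
    rw [Units.val_pow_eq_pow_val, hxc, Matrix.diagonal_pow, Units.val_one, ← Matrix.diagonal_one]
    congr 1
    funext i
    fin_cases i
    · simp
    · simp; linear_combination (w * w * w + 1) * hω3
    · simp; linear_combination (w * w * w + 1) * hω3
    · simp; linear_combination (w * w * w + 1) * hω3
  · apply o3_bad_of_trace N hN x 7
    · rw [hxc, hxi, Matrix.trace_diagonal, Matrix.trace_diagonal, Fin.sum_univ_four,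
        Fin.sum_univ_four]
      simp
      linear_combination (9 : F) * hω3 + 3 * hw
    · exact h7
    · intro h
      apply h2
      have : (2 : F) * 3 = 0 := by linear_combination h
      rcases mul_eq_zero.mp this with h | h
      · exact h
      · exact absurd h h3
    · intro h
      apply h5
      linear_combination h
    · intro h
      apply h3
      linear_combination h
    · intro h
      have : (1 : F) = 0 := by linear_combination -h
      exact one_ne_zero this
    · exact hns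

end Cfsg.Agent.Lib.Helper14.P4
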