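import Mathlib
import Cfsg.Prelude.Def_LieClassical
import Cfsg.Agent.Lib.Helper14.P4Defs
import Cfsg.Agent.Lib.Helper14.Us3Basic
import Cfsg.Agent.Lib.Helper44.HermSpace

/-! # S6001 hive, leaf P4U-O3T (exists_bad_transvection_unitary) -/

set_option autoImplicit false
set_option linter.unusedSectionVars false
set_option linter.unusedVariables false

namespace Cfsg.Agent.Lib.Helper14.P4

open Matrix

variable {F : Type*} [Field F] [Fintype F] {p : ℕ} [Fact p.Prime] [CharP F p]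

/-- the unitary transvection `1 + z² • v (v^3)ᵀ`, `v = (1, z, 0, 0)`, `z⁴ = -1`. -/
def uo3t_mat (z : F) : Matrix (Fin 4) (Fin 4) F :=
  !![1 + z ^ 2, -z, 0, 0; z ^ 3, 1 - z ^ 2, 0, 0; 0, 0, 1, 0; 0, 0, 0, 1]
/-- its inverse. -/
def uo3t_inv (z : F) : Matrix (Fin 4) (Fin 4) F :=
  !![1 - z ^ 2, z, 0, 0; -z ^ 3, 1 + z ^ 2, 0, 0; 0, 0, 1, 0; 0, 0, 0, 1]

theorem uo3t_mul_inv (z : F) : uo3t_mat z * uo3t_inv z = 1 := by
  ext r s; fin_cases r <;> fin_cases s <;>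
    simp [uo3t_mat, uo3t_inv, Matrix.mul_apply, Fin.sum_univ_four] <;> ring

theorem uo3t_inv_mul (z : F) : uo3t_inv z * uo3t_mat z = 1 := by
  ext r s; fin_cases r <;> fin_cases s <;>
    simp [uo3t_mat, uo3t_inv, Matrix.mul_apply, Fin.sum_univ_four] <;> ring

theorem uo3t_eq (z : F) :
    uo3t_mat z = 1 + Matrix.vecMulVec ![1, z, 0, 0] ![z ^ 2, -z, 0, 0] := by
  ext r s; fin_cases r <;> fin_cases s <;>
    simp [uo3t_mat, Matrix.vecMulVec] <;> ring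

theorem uo3t_det (z : F) : (uo3t_mat z).det = 1 := by
  simp [uo3t_mat, Matrix.det_succ_row_zero, Fin.sum_univ_succ, Fin.succAbove]
  ring

theorem uo3t_sq (z : F) : uo3t_mat z * uo3t_mat z =
    !![1 + 2 * z ^ 2, -(2 * z), 0, 0; 2 * z ^ 3, 1 - 2 * z ^ 2, 0, 0; 0, 0, 1, 0; 0, 0, 0, 1] := by
  ext r s; fin_cases r <;> fin_cases s <;>
    simp [uo3t_mat, Matrix.mul_apply, Fin.sum_univ_four] <;> ring

theorem uo3t_cube (z : F) (h3 : (3 : F) = 0) : uo3t_mat z * uo3t_mat z * uo3t_mat z = 1 := by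
  rw [uo3t_sq]
  ext r s; fin_cases r <;> fin_cases s <;>
    simp [uo3t_mat, Matrix.mul_apply, Fin.sum_univ_four] <;>
    first
      | linear_combination (z ^ 2) * h3
      | linear_combination (-z ^ 2) * h3
      | linear_combination (z) * h3
      | linear_combination (-z) * h3
      | linear_combination (z ^ 3) * h3

theorem uo3t_mem_GU (hF : Fintype.card F = 3 ^ 2) (h3 : (3 : F) = 0) (x : GL (Fin 4) F) (z : F)
    (hz : z ^ 4 = -1) (hx : (x : Matrix (Fin 4) (Fin 4) F) = uo3t_mat z) : x ∈ Cfsg.GU 4 F 3 := by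
  rw [Cfsg.Agent.Lib.Helper14.Us3.mem_GU_iff hF, hx]
  have hfrm : Cfsg.Agent.Lib.Helper14.Us3.frm 3 (uo3t_mat z) =
      !![1 - z ^ 2, -z ^ 3, 0, 0; z, 1 + z ^ 2, 0, 0; 0, 0, 1, 0; 0, 0, 0, 1] := by
    ext r s
    rw [Cfsg.Agent.Lib.Helper14.Us3.frm_apply]
    fin_cases r <;> fin_cases s <;> simp [uo3t_mat]
    · linear_combination (z ^ 2) * hz + (z ^ 2 + z ^ 4) * h3
    · ring
    · linear_combination z * (z ^ 4 - 1) * hz
    · linear_combination (-z ^ 2) * hz + (z ^ 4 - z ^ 2) * h3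
  rw [hfrm]
  ext r s; fin_cases r <;> fin_cases s <;>
    simp [uo3t_mat, Matrix.mul_apply, Fin.sum_univ_four] <;> ring

/-- conjugates of a transvection are transvections. -/
theorem uo3t_conj (N : Subgroup (GL (Fin 4) F))
    (hN : ∀ (v φ : Fin 4 → F) (y : GL (Fin 4) F), v ≠ 0 → φ ≠ 0 → φ ⬝ᵥ v = 0 →
      (y : Matrix (Fin 4) (Fin 4) F) = 1 + Matrix.vecMulVec v φ → y ∉ N)
    (v φ : Fin 4 → F) (hv : v ≠ 0) (hφ : φ ≠ 0) (hvφ : φ ⬝ᵥ v = 0) (x : GL (Fin 4) F)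
    (hx : (x : Matrix (Fin 4) (Fin 4) F) = 1 + Matrix.vecMulVec v φ) :
    ∀ g : GL (Fin 4) F, g⁻¹ * x * g ∉ N := by
  intro g
  have hg1 : (g : Matrix (Fin 4) (Fin 4) F) * ((g⁻¹ : GL (Fin 4) F) : Matrix (Fin 4) (Fin 4) F) = 1 := by
    rw [← Matrix.GeneralLinearGroup.coe_mul, mul_inv_cancel]; rfl
  have hg2 : ((g⁻¹ : GL (Fin 4) F) : Matrix (Fin 4) (Fin 4) F) * (g : Matrix (Fin 4) (Fin 4) F) = 1 := by
    rw [← Matrix.GeneralLinearGroup.coe_mul, inv_mul_cancel]; rfl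
  apply hN (((g⁻¹ : GL (Fin 4) F) : Matrix (Fin 4) (Fin 4) F) *ᵥ v)
    (φ ᵥ* (g : Matrix (Fin 4) (Fin 4) F))
  · intro h
    have h1 := congrArg (fun w => (g : Matrix (Fin 4) (Fin 4) F) *ᵥ w) h
    simp only [Matrix.mulVec_mulVec, hg1, Matrix.one_mulVec, Matrix.mulVec_zero] at h1
    exact hv h1
  · intro h
    have h1 := congrArg (fun w => w ᵥ* ((g⁻¹ : GL (Fin 4) F) : Matrix (Fin 4) (Fin 4) F)) h
    simp only [Matrix.vecMul_vecMul, hg1, Matrix.vecMul_one, Matrix.zero_vecMul] at h1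
    exact hφ h1
  · rw [Matrix.dotProduct_mulVec, Matrix.vecMul_vecMul, hg1, Matrix.vecMul_one]
    exact hvφ
  · rw [Matrix.GeneralLinearGroup.coe_mul, Matrix.GeneralLinearGroup.coe_mul, hx,
      Matrix.mul_add, Matrix.add_mul, Matrix.mul_one, hg2,
      Matrix.mul_vecMulVec, Matrix.vecMulVec_mul]

/-- P4U-O3T. -/
theorem exists_bad_transvection_unitary (hF : Fintype.card F = p ^ 2) (h2 : (2 : F) ≠ 0)
    (h3 : (3 : F) = 0) (N : Subgroup (GL (Fin 4) F))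
    (hN : ∀ (v φ : Fin 4 → F) (y : GL (Fin 4) F), v ≠ 0 → φ ≠ 0 → φ ⬝ᵥ v = 0 →
      (y : Matrix (Fin 4) (Fin 4) F) = 1 + Matrix.vecMulVec v φ → y ∉ N) :
    ∃ x : GL (Fin 4) F, x ∈ Cfsg.GU 4 F p ∧ Matrix.GeneralLinearGroup.det x = 1 ∧ x ^ 3 = 1 ∧
      (∀ z : F, (x : Matrix (Fin 4) (Fin 4) F) ≠ z • 1) ∧
      ∀ g : GL (Fin 4) F, g⁻¹ * x * g ∉ N := by
  have hp3 : p = 3 := by
    have h1 : ((3 : ℕ) : F) = 0 := by exact_mod_cast h3
    have h2' : p ∣ 3 := (CharP.cast_eq_zero_iff F p 3).mp h1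
    exact (Nat.prime_dvd_prime_iff_eq (Fact.out : p.Prime) Nat.prime_three).mp h2'
  subst hp3
  have hm1 : (-1 : F) ^ 3 = -1 := by ring
  obtain ⟨z, hz'⟩ := Cfsg.Agent.Lib.Helper44.exists_norm_eq hF (-1 : F)
    (neg_ne_zero.mpr one_ne_zero) hm1
  have hz : z ^ 4 = -1 := by simpa using hz'
  have hz0 : z ≠ 0 := by
    rintro rfl
    simp at hz
  set x : GL (Fin 4) F := ⟨uo3t_mat z, uo3t_inv z, uo3t_mul_inv z, uo3t_inv_mul z⟩ with hx
  have hxc : (x : Matrix (Fin 4) (Fin 4) F) = uo3t_mat z := rfl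
  refine ⟨x, uo3t_mem_GU hF h3 x z hz hxc, ?_, ?_, ?_, ?_⟩
  · apply Units.ext
    rw [Matrix.GeneralLinearGroup.val_det_apply, hxc, uo3t_det]
    rfl
  · apply Units.ext
    rw [Units.val_pow_eq_pow_val, hxc, Units.val_one]
    have e : uo3t_mat z ^ 3 = uo3t_mat z * uo3t_mat z * uo3t_mat z := by
      simp only [pow_succ, pow_zero, one_mul]
    rw [e, uo3t_cube z h3]
  · intro c hc
    have e0 := congrFun (congrFun hc 0) 1
    rw [hxc] at e0
    simp [uo3t_mat] at e0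
    exact hz0 e0
  · apply uo3t_conj N hN ![1, z, 0, 0] ![z ^ 2, -z, 0, 0] _ _ _ x (by rw [hxc, uo3t_eq])
    · intro h
      have := congrFun h 0
      simp at this
    · intro h
      have := congrFun h 1
      simp at this
      exact hz0 this
    · simp [dotProduct, Fin.sum_univ_four]
      ring

end Cfsg.Agent.Lib.Helper14.P4
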