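import Mathlib
import Cfsg.Prelude.Def_LieClassical
import Cfsg.Agent.Lib.Helper14.P4Defs
import Cfsg.Agent.Lib.Helper14.Us3Basic
import Cfsg.Agent.Lib.Helper44.HermSpace
import Cfsg.Agent.Lib.Helper80.P4O3

/-! # S6001 hive, leaf P4U-O5 (exists_bad_five_unitary) -/

set_option autoImplicit false
set_option linter.unusedSectionVars false

namespace Cfsg.Agent.Lib.Helper14.P4

open Matrix

variable {F : Type*} [Field F] [Fintype F] {p : ℕ} [Fact p.Prime] [CharP F p]

/-- `C ⊕ C`, `C = [[a, b],[-c, a]]`. -/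
def uo5_mat (a b c : F) : Matrix (Fin 4) (Fin 4) F := !![a,b,0,0; -c,a,0,0; 0,0,a,b; 0,0,-c,a]
/-- its inverse when `a² + b c = 1`. -/
def uo5_inv (a b c : F) : Matrix (Fin 4) (Fin 4) F := !![a,-b,0,0; c,a,0,0; 0,0,a,-b; 0,0,c,a]

theorem uo5_mul_inv (a b c : F) (h : a * a + b * c = 1) : uo5_mat a b c * uo5_inv a b c = 1 := by
  ext r s; fin_cases r <;> fin_cases s <;>
    simp [uo5_mat, uo5_inv, Matrix.mul_apply, Fin.sum_univ_four] <;>
    first
      | linear_combination h
      | ring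

theorem uo5_inv_mul (a b c : F) (h : a * a + b * c = 1) : uo5_inv a b c * uo5_mat a b c = 1 := by
  ext r s; fin_cases r <;> fin_cases s <;>
    simp [uo5_mat, uo5_inv, Matrix.mul_apply, Fin.sum_univ_four] <;>
    first
      | linear_combination h
      | ring

theorem uo5_mul_self (a b c u : F) (h : a * a + b * c = 1) (ha : 2 * a = u) :
    uo5_mat a b c * uo5_mat a b c = u • uo5_mat a b c - 1 := by
  subst ha
  ext r s; fin_cases r <;> fin_cases s <;>
    simp [uo5_mat, Matrix.mul_apply, Fin.sum_univ_four] <;>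
    first
      | linear_combination h
      | linear_combination -h
      | ring

theorem uo5_det (a b c : F) (h : a * a + b * c = 1) : (uo5_mat a b c).det = 1 := by
  simp [uo5_mat, Matrix.det_succ_row_zero, Fin.sum_univ_succ, Fin.succAbove]
  linear_combination (a * a + b * c + 1) * h

/-- `X² = u X - 1` and `u² + u - 1 = 0` force `X⁵ = 1`. -/
theorem uo5_pow_five (X : Matrix (Fin 4) (Fin 4) F) (u : F) (hu : u * u + u - 1 = 0)
    (e2 : X * X = u • X - 1) : X ^ 5 = 1 := by
  have e3 : X * X * X = (u ^ 2 - 1) • X - u • (1 : Matrix (Fin 4) (Fin 4) F) := by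
    rw [e2, sub_mul, smul_mul_assoc, e2, one_mul]; module
  have e4 : X * X * X * X = (u ^ 3 - 2 * u) • X - (u ^ 2 - 1) • (1 : Matrix (Fin 4) (Fin 4) F) := by
    rw [e3, sub_mul, smul_mul_assoc, e2, smul_mul_assoc, one_mul]; module
  have e5 : X * X * X * X * X =
      (u ^ 4 - 3 * u ^ 2 + 1) • X - (u ^ 3 - 2 * u) • (1 : Matrix (Fin 4) (Fin 4) F) := by
    rw [e4, sub_mul, smul_mul_assoc, e2, smul_mul_assoc, one_mul]; module
  have hα : u ^ 4 - 3 * u ^ 2 + 1 = 0 := by linear_combination (u ^ 2 - u - 1) * hu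
  have hβ : u ^ 3 - 2 * u = -1 := by linear_combination (u - 1) * hu
  have e : X ^ 5 = X * X * X * X * X := by
    simp only [pow_succ, pow_zero, one_mul]
  rw [e, e5, hα, hβ, zero_smul, neg_smul, one_smul, zero_sub, neg_neg]

theorem uo5_mem_GU (hF : Fintype.card F = p ^ 2) (x : GL (Fin 4) F) (a b : F)
    (hx : (x : Matrix (Fin 4) (Fin 4) F) = uo5_mat a b (b ^ p)) (ha : a ^ p = a)
    (h : a * a + b * b ^ p = 1) : x ∈ Cfsg.GU 4 F p := by
  rw [Cfsg.Agent.Lib.Helper14.Us3.mem_GU_iff hF, hx]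
  have hp0 : p ≠ 0 := (Fact.out : p.Prime).ne_zero
  have hbpp : (b ^ p) ^ p = b := Cfsg.Agent.Lib.Helper44.frobK_frobK hF b
  have hneg : (-(b ^ p)) ^ p = -b := by
    have := map_neg (frobenius F p) (b ^ p)
    rw [frobenius_def, frobenius_def, hbpp] at this
    exact this
  have hfrm : Cfsg.Agent.Lib.Helper14.Us3.frm p (uo5_mat a b (b ^ p)) =
      !![a,b ^ p,0,0; -b,a,0,0; 0,0,a,b ^ p; 0,0,-b,a] := by
    ext r s
    rw [Cfsg.Agent.Lib.Helper14.Us3.frm_apply]
    fin_cases r <;> fin_cases s <;> simp [uo5_mat, ha, hneg, hp0]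
  rw [hfrm]
  ext r s; fin_cases r <;> fin_cases s <;>
    simp [uo5_mat, Matrix.mul_apply, Fin.sum_univ_four] <;>
    first
      | linear_combination h
      | ring

/-- P4U-O5. -/
theorem exists_bad_five_unitary (hF : Fintype.card F = p ^ 2) (h2 : (2 : F) ≠ 0) (h5 : (5 : F) ≠ 0)
    (u : F) (hu : u * u + u - 1 = 0) (hup : u ^ p = u) (N : Subgroup (GL (Fin 4) F))
    (hN : ∀ y ∈ N,
      Matrix.trace (y : Matrix (Fin 4) (Fin 4) F) *
          Matrix.trace ((y⁻¹ : GL (Fin 4) F) : Matrix (Fin 4) (Fin 4) F) = 0 ∨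
        Matrix.trace (y : Matrix (Fin 4) (Fin 4) F) *
          Matrix.trace ((y⁻¹ : GL (Fin 4) F) : Matrix (Fin 4) (Fin 4) F) = 1 ∨
        Matrix.trace (y : Matrix (Fin 4) (Fin 4) F) *
          Matrix.trace ((y⁻¹ : GL (Fin 4) F) : Matrix (Fin 4) (Fin 4) F) = 2 ∨
        Matrix.trace (y : Matrix (Fin 4) (Fin 4) F) *
          Matrix.trace ((y⁻¹ : GL (Fin 4) F) : Matrix (Fin 4) (Fin 4) F) = 4 ∨
        Matrix.trace (y : Matrix (Fin 4) (Fin 4) F) *
          Matrix.trace ((y⁻¹ : GL (Fin 4) F) : Matrix (Fin 4) (Fin 4) F) = 8 ∨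
        ∃ c : F, (y : Matrix (Fin 4) (Fin 4) F) = c • 1) :
    ∃ x : GL (Fin 4) F, x ∈ Cfsg.GU 4 F p ∧ Matrix.GeneralLinearGroup.det x = 1 ∧ x ^ 5 = 1 ∧
      (∀ z : F, (x : Matrix (Fin 4) (Fin 4) F) ≠ z • 1) ∧
      ∀ g : GL (Fin 4) F, g⁻¹ * x * g ∉ N := by
  have hp0 : p ≠ 0 := (Fact.out : p.Prime).ne_zero
  have h2p : (2 : F) ^ p = 2 := by
    have := map_ofNat (frobenius F p) 2
    rwa [frobenius_def] at this
  obtain ⟨a, ha⟩ : ∃ a : F, a = u * 2⁻¹ := ⟨_, rfl⟩
  have h2a : 2 * a = u := by rw [ha]; field_simp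
  have hap : a ^ p = a := by rw [ha, mul_pow, inv_pow, hup, h2p]
  have htp : (1 - a * a) ^ p = 1 - a * a := by
    rw [sub_pow_char, one_pow, mul_pow, hap]
  obtain ⟨b, hb⟩ : ∃ b : F, b * b ^ p = 1 - a * a := by
    by_cases ht : 1 - a * a = 0
    · exact ⟨0, by rw [ht, zero_mul]⟩
    · obtain ⟨c, hc⟩ := Cfsg.Agent.Lib.Helper44.exists_norm_eq hF (1 - a * a) ht htp
      exact ⟨c, by rw [← hc, pow_succ']⟩
  have hab : a * a + b * b ^ p = 1 := by rw [hb]; ring
  set x : GL (Fin 4) F := ⟨uo5_mat a b (b ^ p), uo5_inv a b (b ^ p), uo5_mul_inv a b _ hab,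
    uo5_inv_mul a b _ hab⟩ with hx
  have hxc : (x : Matrix (Fin 4) (Fin 4) F) = uo5_mat a b (b ^ p) := rfl
  have hxi : ((x⁻¹ : GL (Fin 4) F) : Matrix (Fin 4) (Fin 4) F) = uo5_inv a b (b ^ p) := rfl
  have hns : ∀ z : F, (x : Matrix (Fin 4) (Fin 4) F) ≠ z • 1 := by
    intro z hz
    have e0 := congrFun (congrFun hz 0) 1
    rw [hxc] at e0
    simp [uo5_mat] at e0
    -- e0 : b = 0
    rw [e0, zero_mul, add_zero] at hab
    -- a * a = 1, u = 2 a, so u * u = 4
    have huu : u * u = 4 := by rw [← h2a]; linear_combination 4 * hab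
    apply h5
    have h3 : u = -3 := by linear_combination hu - huu
    rw [h3] at huu
    linear_combination huu
  have hu0 : u ≠ 0 := by
    rintro rfl
    simp at hu
  have h4 : (4 : F) ≠ 0 := by
    have : (4 : F) = 2 * 2 := by norm_num
    rw [this]
    exact mul_ne_zero h2 h2
  refine ⟨x, uo5_mem_GU hF x a b hxc hap hab, ?_, ?_, hns, ?_⟩
  · apply Units.ext
    rw [Matrix.GeneralLinearGroup.val_det_apply, hxc, uo5_det a b _ hab]
    rfl
  · apply Units.ext
    rw [Units.val_pow_eq_pow_val, hxc, Units.val_one]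
    exact uo5_pow_five _ u hu (uo5_mul_self a b _ u hab h2a)
  · apply o3_bad_of_trace N hN x (4 * (u * u))
    · rw [hxc, hxi, ← h2a]
      simp [Matrix.trace, Fin.sum_univ_four, uo5_mat, uo5_inv]
      ring
    · exact mul_ne_zero h4 (mul_ne_zero hu0 hu0)
    · intro h
      apply h5
      have h4u : 4 * u = 3 := by linear_combination 4 * hu - h
      have : (4 * u) * (4 * u) = 4 * (4 * (u * u)) := by ring
      rw [h4u, h] at this
      linear_combination this
    · intro h
      have h1 : 2 * (2 * (u * u) - 1) = 0 := by linear_combination h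
      have h2u : 2 * (u * u) = 1 := by
        rcases mul_eq_zero.mp h1 with h' | h'
        · exact absurd h' h2
        · linear_combination h'
      have h3 : 2 * u = 1 := by linear_combination 2 * hu - h2u
      have : (2 * u) * (2 * u) = 4 * (u * u) := by ring
      rw [h3, h] at this
      have : (1 : F) = 0 := by linear_combination -this
      exact one_ne_zero this
    · intro h
      have h1 : 4 * (u * u - 1) = 0 := by linear_combination h
      have h2u : u * u = 1 := by
        rcases mul_eq_zero.mp h1 with h' | h'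
        · exact absurd h' h4
        · linear_combination h'
      apply hu0
      linear_combination hu - h2u
    · intro h
      have h1 : 4 * (u * u - 2) = 0 := by linear_combination h
      have h2u : u * u = 2 := by
        rcases mul_eq_zero.mp h1 with h' | h'
        · exact absurd h' h4
        · linear_combination h'
      have h3 : u = -1 := by linear_combination hu - h2u
      rw [h3] at h2u
      have : (1 : F) = 0 := by linear_combination (-1 : F) * h2u
      exact one_ne_zero this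
    · exact hns

end Cfsg.Agent.Lib.Helper14.P4
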