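import Cfsg.Agent.Lib.Helper63.PmDefs

/-!
# Pm hive (S4427, helper63), sub-leaf PM-EXA of PM-EX: the idempotent cut out by a comaximal factorisation

`ε = (b h)(t)`: `ε² - ε = -(b c)(t) (g h)(t) = 0`, and `h = X h'` gives `ε = t (b h')(t)`.  (Mathlib only.)
-/

set_option autoImplicit false

namespace Cfsg.Agent.Lib.Helper63.Pm

open Classical Cfsg

variable {G : Type*} [Group G] [Fintype G]

/-- PM-EXA. -/
theorem pm_exa {S B : Type*} [CommRing S] [Ring B] [Algebra S B] (t : B) (g h b c : Polynomial S)
    (hbc : b * h + c * g = 1) (hX : Polynomial.X ∣ h)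
    (hgh : Polynomial.aeval t (g * h) = 0) :
    Polynomial.aeval t (b * h) * Polynomial.aeval t (b * h) = Polynomial.aeval t (b * h) ∧
      ∃ m : Polynomial S, Polynomial.aeval t (b * h) = t * Polynomial.aeval t m := by
  constructor
  · have hidem : b * h * (b * h) - b * h = -(b * c) * (g * h) := by
      linear_combination (b * h) * hbc
    have h1 : Polynomial.aeval t (b * h * (b * h) - b * h) = 0 := by
      rw [hidem, map_mul, hgh, mul_zero]
    rw [map_sub, map_mul (Polynomial.aeval t) (b * h) (b * h), sub_eq_zero] at h1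
    exact h1
  · obtain ⟨h', rfl⟩ := hX
    refine ⟨b * h', ?_⟩
    have h2 : b * (Polynomial.X * h') = Polynomial.X * (b * h') := by ring
    rw [h2, map_mul (Polynomial.aeval t) Polynomial.X, Polynomial.aeval_X]

end Cfsg.Agent.Lib.Helper63.Pm
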