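import Mathlib
import Cfsg.Agent.Lib.Conway.PrimSimple

set_option autoImplicit false

/-!
A simplicity criterion for a primitive group with a simple point stabiliser whose degree is twice an
odd number: a regular normal subgroup would have a characteristic subgroup of index 2.
-/

namespace Cfsg.Agent.Lib.Helper27.PrimMax

open MulAction Subgroup

/-- the sign of the left multiplication -/
noncomputable def cayleySign (N : Type*) [Group N] [Finite N] : N →* ℤˣ := by
  classical
  haveI : Fintype N := Fintype.ofFinite N
  exact Equiv.Perm.sign.comp (MulAction.toPermHom N N)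

theorem cayleySign_apply {N : Type*} [Group N] [Fintype N] [DecidableEq N] (x : N) :
    cayleySign N x = Equiv.Perm.sign (MulAction.toPerm x : Equiv.Perm N) := by
  unfold cayleySign
  simp only [MonoidHom.coe_comp, Function.comp_apply, MulAction.toPermHom_apply]
  congr!

/-- an involution of a group of order `2 m` with `m` odd has sign `-1` -/
theorem cayleySign_involution {N : Type*} [Group N] [Finite N] (m : ℕ) (hm : Odd m)
    (hcard : Nat.card N = 2 * m) (t : N) (ht : orderOf t = 2) : cayleySign N t = -1 := by
  classical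
  have : Fintype N := Fintype.ofFinite N
  rw [cayleySign_apply]
  set σ : Equiv.Perm N := MulAction.toPerm t with hσ
  have hord : orderOf σ = 2 := by
    rw [← ht]
    exact orderOf_injective (MulAction.toPermHom N N) MulAction.toPerm_injective t
  have hprime : (orderOf σ).Prime := by rw [hord]; exact Nat.prime_two
  obtain ⟨n, hn⟩ := Equiv.Perm.cycleType_prime_order hprime
  rw [hord] at hn
  have hsupp : σ.support = Finset.univ := by
    ext x
    simp only [Equiv.Perm.mem_support, Finset.mem_univ, iff_true]
    intro h
    have h1 : t * x = x := h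
    have h2 : t = 1 := by simpa using h1
    rw [h2, orderOf_one] at ht
    omega
  have hsum := Equiv.Perm.sum_cycleType σ
  rw [hn, hsupp, Finset.card_univ, ← Nat.card_eq_fintype_card, hcard] at hsum
  simp only [Multiset.sum_replicate, smul_eq_mul] at hsum
  have hn1 : n + 1 = m := by omega
  rw [Equiv.Perm.sign_of_cycleType, hn]
  simp only [Multiset.sum_replicate, smul_eq_mul, Multiset.card_replicate, hn1]
  have : m * 2 + m = 2 * m + m := by ring
  rw [this, pow_add, pow_mul]
  simp [hm.neg_one_pow]

variable {G : Type*} [Group G]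

/-- the sign of the left multiplication in a normal subgroup is invariant under conjugation -/
theorem cayleySign_conj (N : Subgroup G) [hN : N.Normal] [Finite N] (g : G) (x : N) :
    cayleySign N ⟨g * x * g⁻¹, hN.conj_mem x x.2 g⟩ = cayleySign N x := by
  classical
  haveI : Fintype N := Fintype.ofFinite N
  rw [cayleySign_apply, cayleySign_apply]
  -- conjugation by `g` as a permutation of `N`
  let c : Equiv.Perm N :=
    { toFun := fun y => ⟨g * y * g⁻¹, hN.conj_mem y y.2 g⟩
      invFun := fun y => ⟨g⁻¹ * y * g, by simpa using hN.conj_mem y y.2 g⁻¹⟩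
      left_inv := fun y => by apply Subtype.ext; simp [mul_assoc]
      right_inv := fun y => by apply Subtype.ext; simp [mul_assoc] }
  have h : (MulAction.toPerm (⟨g * x * g⁻¹, hN.conj_mem x x.2 g⟩ : N) : Equiv.Perm N) =
      c * MulAction.toPerm x * c⁻¹ := by
    ext y
    simp only [MulAction.toPerm_apply, Equiv.Perm.coe_mul, Function.comp_apply]
    show g * x * g⁻¹ * (y : G) = g * (x * (g⁻¹ * y * g)) * g⁻¹
    group
  rw [h, Equiv.Perm.sign_mul, Equiv.Perm.sign_mul, Equiv.Perm.sign_inv, mul_right_comm,
    Int.units_mul_self, one_mul]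

variable {Ω : Type*} [MulAction G Ω]

open Cfsg.Agent.Lib.Conway.PrimSimple in
/-- no regular normal subgroup when the degree is twice an odd number greater than `1` -/
theorem no_regular_two_odd [Finite G] (x0 : Ω)
    (hfaith : ∀ g : G, (∀ x : Ω, g • x = x) → g = 1)
    (htrans : ∀ x : Ω, ∃ g : G, g • x0 = x)
    (hmax : ∀ M : Subgroup G, stabilizer G x0 ≤ M → M = stabilizer G x0 ∨ M = ⊤)
    (m : ℕ) (hm : Odd m) (hm1 : 1 < m) (hidx : (stabilizer G x0).index = 2 * m)
    (N : Subgroup G) [hN : N.Normal] (hcard : Nat.card N = 2 * m) : False := by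
  classical
  -- an involution of `N`
  haveI : Fact (Nat.Prime 2) := ⟨Nat.prime_two⟩
  obtain ⟨t, ht⟩ := exists_prime_orderOf_dvd_card' (G := N) 2 (by rw [hcard]; exact Dvd.intro _ rfl)
  have hsign := cayleySign_involution m hm hcard t ht
  -- the kernel of the sign
  set M : Subgroup G := (cayleySign N).ker.map N.subtype with hM
  have hMn : M.Normal := by
    refine ⟨fun y hy g => ?_⟩
    obtain ⟨x, hx, rfl⟩ := Subgroup.mem_map.mp hy
    refine Subgroup.mem_map.mpr ⟨⟨g * x * g⁻¹, hN.conj_mem x x.2 g⟩, ?_, rfl⟩
    rw [MonoidHom.mem_ker, cayleySign_conj, ← MonoidHom.mem_ker]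
    exact hx
  -- its order
  have hrange : Nat.card (cayleySign N).range = 2 := by
    have h1 : (cayleySign N).range = ⊤ := by
      rw [eq_top_iff]
      intro u _
      rcases Int.units_eq_one_or u with rfl | rfl
      · exact (cayleySign N).range.one_mem
      · exact ⟨t, hsign⟩
    rw [h1, Subgroup.card_top]
    simp
  have hM0card : Nat.card (cayleySign N).ker = m := by
    have h1 := Subgroup.card_mul_index (cayleySign N).ker
    rw [Subgroup.index_ker, hrange, hcard] at h1
    omega
  have hMcard : Nat.card M = m := by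
    rw [← hM0card]
    exact Nat.card_congr ((cayleySign N).ker.equivMapOfInjective N.subtype
      N.subtype_injective).symm.toEquiv
  have hMne : M ≠ ⊥ := by
    intro e
    rw [e, Subgroup.card_bot] at hMcard
    omega
  have h5 := card_dvd_normal x0 hfaith htrans hmax M hMne
  rw [hidx, hMcard] at h5
  have := Nat.le_of_dvd (by omega) h5
  omega

open Cfsg.Agent.Lib.Conway.PrimSimple in
/-- the simplicity criterion: a primitive group with a simple point stabiliser and no regular normal
subgroup is simple -/
theorem simple_of_no_regular [Finite G] (x0 : Ω)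
    (hfaith : ∀ g : G, (∀ x : Ω, g • x = x) → g = 1)
    (htrans : ∀ x : Ω, ∃ g : G, g • x0 = x)
    (hH : IsSimpleGroup (stabilizer G x0))
    (hmax : ∀ M : Subgroup G, stabilizer G x0 ≤ M → M = stabilizer G x0 ∨ M = ⊤)
    (hreg : ∀ N : Subgroup G, N.Normal → Nat.card N = (stabilizer G x0).index → False) :
    IsSimpleGroup G := by
  have hnt : Nontrivial G := by
    obtain ⟨h, hne⟩ := @exists_ne _ hH.toNontrivial (1 : stabilizer G x0)
    exact ⟨⟨(h : G), 1, fun e => hne (Subtype.ext e)⟩⟩
  refine ⟨fun K hK => ?_⟩
  by_cases hK0 : K = ⊥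
  · exact Or.inl hK0
  right
  have hsup := sup_eq_top x0 hfaith htrans hmax K hK0
  have hnorm : (K.subgroupOf (stabilizer G x0)).Normal := inferInstance
  rcases hH.eq_bot_or_eq_top_of_normal _ hnorm with h | h
  · exfalso
    apply hreg K hK
    have : IsPretransitive G Ω := ⟨fun x y => by
      obtain ⟨g, rfl⟩ := htrans x
      obtain ⟨g', rfl⟩ := htrans y
      exact ⟨g' * g⁻¹, by rw [mul_smul, inv_smul_smul]⟩⟩
    have : IsPretransitive K Ω := ⟨fun x y => by
      obtain ⟨k, hk, rfl⟩ := normal_trans x0 hfaith htrans hmax K hK0 x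
      obtain ⟨k', hk', rfl⟩ := normal_trans x0 hfaith htrans hmax K hK0 y
      exact ⟨⟨k' * k⁻¹, K.mul_mem hk' (K.inv_mem hk)⟩, by
        show (k' * k⁻¹) • k • x0 = k' • x0
        rw [mul_smul, inv_smul_smul]⟩⟩
    have h1 : (stabilizer K x0) = ⊥ := by
      rw [eq_bot_iff]
      intro k hk
      rw [mem_bot]
      have hk' : (k : G) ∈ stabilizer G x0 := by
        rw [mem_stabilizer_iff] at hk ⊢
        exact hk
      have : (⟨(k : G), hk'⟩ : stabilizer G x0) ∈ K.subgroupOf (stabilizer G x0) := by
        rw [mem_subgroupOf]; exact k.2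
      rw [h, mem_bot] at this
      exact Subtype.ext (congrArg (fun z : stabilizer G x0 => (z : G)) this)
    have h2 := index_stabilizer_of_transitive K x0
    rw [h1, index_bot] at h2
    rw [h2, ← index_stabilizer_of_transitive G x0]
  · have hle : stabilizer G x0 ≤ K := by
      intro g hg
      have : (⟨g, hg⟩ : stabilizer G x0) ∈ K.subgroupOf (stabilizer G x0) := by rw [h]; trivial
      exact mem_subgroupOf.1 this
    rw [← hsup]
    exact (sup_eq_left.2 hle).symm

end Cfsg.Agent.Lib.Helper27.PrimMax
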