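import Mathlib
import Cfsg.Agent.Lib.Helper90.PsuDefs

set_option autoImplicit false

/-! # Psu hive (S2412), leaf PSU-B: `lemmaB`, core version (the two PSU-TS facts `lemmaA` and
`rule_mem_Tset` for the given `H` are hypotheses). -/

namespace Cfsg.Agent.Lib.Helper90.Psu

open Matrix Cfsg.Agent.Lib.Helper99 Cfsg.Agent.Lib.Helper13

variable {F : Type*} [Field F] [Fintype F] {q n : ℕ}

local notation "hh" => Cfsg.hermForm n F q

theorem b_vec_split {m : ℕ} (C : WittCfg q n m F) (a b : Fin m → F) :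
    C.vec a b = C.vec a 0 + C.vec 0 b := by
  simp [WittCfg.vec]

theorem b_vec_sub {m : ℕ} (C : WittCfg q n m F) (b b' : Fin m → F) :
    C.vec 0 b - C.vec 0 b' = C.vec 0 (b - b') := by
  simp [WittCfg.vec, sub_smul, Finset.sum_sub_distrib]

theorem b_vec_single_right {m : ℕ} (C : WittCfg q n m F) (i : Fin m) (c : F) :
    C.vec 0 (Pi.single i c) = c • C.f i := by
  classical
  simp [WittCfg.vec, Pi.single_apply, ite_smul]

theorem b_hh_vec_f (hF : Fintype.card F = q ^ 2) {m : ℕ} (C : WittCfg q n m F)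
    (a b : Fin m → F) (j : Fin m) : hh (C.vec a b) (C.f j) = a j := by
  classical
  have h1 : ∀ x : Fin n → F, hh x (C.f j) = hermB hF n (C.f j) x :=
    fun x => (hermB_apply hF (C.f j) x).symm
  rw [h1, WittCfg.vec, map_add, map_sum, map_sum]
  simp only [map_smul, hermB_apply, C.hef, C.hff, smul_eq_mul, mul_zero, Finset.sum_const_zero,
    add_zero]
  simp

theorem b_hh_f_f (hF : Fintype.card F = q ^ 2) {m : ℕ} (C : WittCfg q n m F)
    (b b' : Fin m → F) : hh (C.vec 0 b) (C.vec 0 b') = 0 := by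
  classical
  apply hermForm_eq_zero_comm hF
  have key : ∀ j, hh (C.f j) (C.vec 0 b) = 0 := fun j =>
    hermForm_eq_zero_comm hF (by rw [b_hh_vec_f hF]; rfl)
  generalize C.vec 0 b = x at key ⊢
  have h1 : ∀ y : Fin n → F, hh y x = hermB hF n x y := fun y => (hermB_apply hF x y).symm
  rw [h1, WittCfg.vec, map_add, map_sum, map_sum]
  simp only [map_smul, hermB_apply, key, smul_eq_mul, mul_zero, Finset.sum_const_zero, add_zero,
    Pi.zero_apply, zero_mul]

/-- PSU-B, core version. -/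
theorem lemmaB_core (hF : Fintype.card F = q ^ 2) {m : ℕ} (C : WittCfg q n m F)
    {H : Subgroup (GL (Fin n) F)}
    (hA : ∀ {u w v : Fin n → F}, u ∈ Tset q H → w ∈ Tset q H → hh u w ≠ 0 →
      v ∈ Submodule.span F ({u, w} : Set (Fin n → F)) → hh v v = 0 → v ∈ Tset q H)
    (hR : ∀ {u w : Fin n → F}, u ∈ Tset q H → w ∈ Tset q H → ∀ {c : F}, c + c ^ q = 0 →
      u + (c * hh u w) • w ∈ Tset q H)
    (hE : ∀ a : Fin m → F, C.vec a 0 ∈ Tset q H) (hE' : ∀ b : Fin m → F, C.vec 0 b ∈ Tset q H)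
    (a b : Fin m → F) (hiso : hh (C.vec a b) (C.vec a b) = 0) : C.vec a b ∈ Tset q H := by
  classical
  have hsplit := b_vec_split C a b
  by_cases hab : hh (C.vec a 0) (C.vec 0 b) = 0
  swap
  · refine hA (hE a) (hE' b) hab ?_ hiso
    rw [hsplit]
    exact Submodule.add_mem _ (Submodule.subset_span (by simp)) (Submodule.subset_span (by simp))
  by_cases ha : a = 0
  · subst ha
    exact hE' b
  obtain ⟨i₀, hi₀⟩ : ∃ i, a i ≠ 0 := by
    by_contra hcon
    exact ha (funext fun i => by_contra fun hi => hcon ⟨i, hi⟩)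
  obtain ⟨κ, hκ0, hκ⟩ := exists_trace_zero hF
  -- g' = c • f i₀
  set c : F := (κ / a i₀) ^ q with hc
  have hcq : c ^ q = κ / a i₀ := by rw [hc, pow_q_pow_q hF]
  have hg'T : C.vec 0 (Pi.single i₀ c) ∈ Tset q H := hE' _
  have heag' : hh (C.vec a 0) (C.vec 0 (Pi.single i₀ c)) = κ := by
    rw [b_vec_single_right, hermForm_smul_right, b_hh_vec_f hF, hcq]
    field_simp
  have hg'ea : hh (C.vec 0 (Pi.single i₀ c)) (C.vec a 0) = κ ^ q := by
    rw [← hermForm_conj hF, heag']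
  have heaea : hh (C.vec a 0) (C.vec a 0) = 0 := (hE a).1
  have hg'g' : hh (C.vec 0 (Pi.single i₀ c)) (C.vec 0 (Pi.single i₀ c)) = 0 := b_hh_f_f hF C _ _
  -- u = ea + g'
  have huiso : hh (C.vec a 0 + C.vec 0 (Pi.single i₀ c)) (C.vec a 0 + C.vec 0 (Pi.single i₀ c))
      = 0 := by
    rw [hermForm_add_left, hermForm_add_right hF, hermForm_add_right hF, heaea, heag', hg'ea,
      hg'g', zero_add, add_zero]
    exact hκ
  have huT : C.vec a 0 + C.vec 0 (Pi.single i₀ c) ∈ Tset q H := by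
    refine hA (hE a) hg'T (by rw [heag']; exact hκ0) ?_ huiso
    exact Submodule.add_mem _ (Submodule.subset_span (by simp)) (Submodule.subset_span (by simp))
  -- w = fb - g'
  have hwT : C.vec 0 (b - Pi.single i₀ c) ∈ Tset q H := hE' _
  have huw : hh (C.vec a 0 + C.vec 0 (Pi.single i₀ c)) (C.vec 0 (b - Pi.single i₀ c)) = -κ := by
    rw [hermForm_add_left, b_hh_f_f hF, add_zero, ← b_vec_sub, hermForm_sub_right hF, hab, heag',
      zero_sub]
  have hc' : (-κ⁻¹) + (-κ⁻¹) ^ q = 0 := by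
    have h1 := trace_zero_inv hF hκ
    rw [frob_neg hF]
    rw [← neg_add, h1, neg_zero]
  have hfin := hR huT hwT hc'
  rw [huw] at hfin
  have h1 : (-κ⁻¹) * (-κ) = 1 := by
    rw [neg_mul_neg, inv_mul_cancel₀ hκ0]
  rw [h1, one_smul, ← b_vec_sub] at hfin
  rw [hsplit]
  have h2 : C.vec a 0 + C.vec 0 (Pi.single i₀ c) + (C.vec 0 b - C.vec 0 (Pi.single i₀ c))
      = C.vec a 0 + C.vec 0 b := by abel
  rwa [h2] at hfin
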