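import Mathlib
import Cfsg.Agent.Lib.Helper90.PsuDefs
import Cfsg.Agent.Lib.Helper42.PsuTS
import Cfsg.Agent.Lib.Helper27.PsuBcore

set_option autoImplicit false

/-! # Psu hive (S2412), leaf PSU-B: `lemmaB` (wrapper of `lemmaB_core`). -/

namespace Cfsg.Agent.Lib.Helper90.Psu

open Matrix Cfsg.Agent.Lib.Helper99 Cfsg.Agent.Lib.Helper13

variable {F : Type*} [Field F] [Fintype F] {q n : ℕ}

local notation "hh" => Cfsg.hermForm n F q

/-- PSU-B. -/
theorem lemmaB (hF : Fintype.card F = q ^ 2) {m : ℕ} (C : WittCfg q n m F)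
    {H : Subgroup (GL (Fin n) F)}
    (hE : ∀ a : Fin m → F, C.vec a 0 ∈ Tset q H) (hE' : ∀ b : Fin m → F, C.vec 0 b ∈ Tset q H)
    (a b : Fin m → F) (hiso : hh (C.vec a b) (C.vec a b) = 0) : C.vec a b ∈ Tset q H :=
  lemmaB_core hF C (fun hu hw huw hv hvv => lemmaA hF hu hw huw hv hvv)
    (fun hu hw _ hc => rule_mem_Tset hF hu hw hc) hE hE' a b hiso

end Cfsg.Agent.Lib.Helper90.Psu
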