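import Cfsg.Agent.Lib.Golay.Weights

set_option autoImplicit false

namespace Cfsg.Agent.Lib.Helper27

open Cfsg Cfsg.Agent.Lib.Golay

/-- the punctured length-23 Golay code -/
def punct : Set (ZMod 23 → ZMod 2) :=
  {u : ZMod 23 → ZMod 2 | ∃ w ∈ Cfsg.golayCode, ∀ x : ZMod 23, u x = w (some x)}

/-- the punctured word of the `m`-th code word -/
def pw (m : ℕ) : ZMod 23 → ZMod 2 := fun x => ofMask (encode m) (some x)

theorem pw_xor (a b : ℕ) : pw (a ^^^ b) = pw a + pw b := by
  funext x
  simp only [pw, encode_xor, ofMask_xor, Pi.add_apply]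

theorem pw_zero : pw 0 = 0 := by
  funext x
  simp [pw, encode_zero, ofMask_zero]

theorem idx_some_val (x : ZMod 23) : ((idx (some x) : Fin 24) : ℕ) = x.val := rfl

theorem sum_zmod23 (f : ℕ → ℕ) : ∑ x : ZMod 23, f x.val = ∑ i : Fin 23, f i.val := rfl

theorem hammingNorm_pw (m : ℕ) : hammingNorm (pw m) = popcountAux 23 (encode m) := by
  rw [popcountAux_eq_sum, ← sum_zmod23 (fun i => ((encode m).testBit i).toNat)]
  unfold hammingNorm
  rw [Finset.card_filter]
  apply Finset.sum_congr rfl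
  intro x _
  have hx : ((idx (some x) : Fin 24) : ℕ) = x.val := rfl
  by_cases hb : (encode m).testBit x.val = true
  · simp [pw, ofMask, hx, hb]
  · simp [pw, ofMask, hx, hb]

theorem mem_punct_iff (u : ZMod 23 → ZMod 2) : u ∈ punct ↔ ∃ m, m < 4096 ∧ u = pw m := by
  constructor
  · rintro ⟨w, hw, h⟩
    obtain ⟨m, hm, rfl⟩ := (mem_golayCode_iff w).mp hw
    exact ⟨m, hm, funext h⟩
  · rintro ⟨m, hm, rfl⟩
    exact ⟨ofMask (encode m), ofMask_encode_mem m, fun x => rfl⟩

theorem pw_weight_pos : ∀ m, m < 4096 → m ≠ 0 → 7 ≤ popcountAux 23 (encode m) :=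
  forall_lt_4096 _ (by decide +kernel)

theorem pw_injOn {a b : ℕ} (ha : a < 4096) (hb : b < 4096) (h : pw a = pw b) : a = b := by
  by_contra hne
  have hx : a ^^^ b ≠ 0 := by
    intro h0
    exact hne (Nat.xor_eq_zero_iff.mp h0)
  have hlt : a ^^^ b < 4096 := Nat.xor_lt_two_pow (n := 12) ha hb
  have h7 := pw_weight_pos _ hlt hx
  rw [← hammingNorm_pw, pw_xor, h] at h7
  have : pw b + pw b = 0 := by
    funext x
    exact CharTwo.add_self_eq_zero _
  rw [this] at h7
  simp at h7

theorem punct_eq_image : punct = pw '' (↑(Finset.range 4096) : Set ℕ) := by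
  ext u
  rw [mem_punct_iff]
  simp only [Set.mem_image, Finset.coe_range, Set.mem_Iio]
  constructor
  · rintro ⟨m, hm, rfl⟩; exact ⟨m, hm, rfl⟩
  · rintro ⟨m, hm, rfl⟩; exact ⟨m, hm, rfl⟩

theorem ncard_punct : punct.ncard = 4096 := by
  rw [punct_eq_image, Set.InjOn.ncard_image, Set.ncard_coe_finset, Finset.card_range]
  intro a ha b hb h
  simp only [Finset.coe_range, Set.mem_Iio] at ha hb
  exact pw_injOn ha hb h

theorem ncard_punct_weight (k : ℕ) :
    {u : ZMod 23 → ZMod 2 | u ∈ punct ∧ hammingNorm u = k}.ncard =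
      countBin (fun m => popcountAux 23 (encode m) == k) 12 0 := by
  have hset : {u : ZMod 23 → ZMod 2 | u ∈ punct ∧ hammingNorm u = k} =
      pw '' (↑((Finset.range 4096).filter
        (fun m => (popcountAux 23 (encode m) == k) = true)) : Set ℕ) := by
    ext u
    simp only [Set.mem_ofPred_eq, Set.mem_image, Finset.coe_filter, Finset.mem_range, beq_iff_eq]
    constructor
    · rintro ⟨hu, hk⟩
      obtain ⟨m, hm, rfl⟩ := (mem_punct_iff u).mp hu
      exact ⟨m, ⟨hm, by rw [← hammingNorm_pw]; exact hk⟩, rfl⟩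
    · rintro ⟨m, ⟨hm, hk⟩, rfl⟩
      exact ⟨(mem_punct_iff _).mpr ⟨m, hm, rfl⟩, by rw [hammingNorm_pw]; exact hk⟩
  rw [hset, Set.InjOn.ncard_image, Set.ncard_coe_finset, countBin_4096]
  intro a ha b hb h
  simp only [Finset.coe_filter, Finset.mem_range, Set.mem_ofPred_eq] at ha hb
  exact pw_injOn ha.1 hb.1 h

theorem punct_min_weight {u : ZMod 23 → ZMod 2} (hu : u ∈ punct) (h0 : u ≠ 0) :
    7 ≤ hammingNorm u := by
  obtain ⟨m, hm, rfl⟩ := (mem_punct_iff u).mp hu
  rw [hammingNorm_pw]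
  apply pw_weight_pos m hm
  rintro rfl
  exact h0 pw_zero

theorem punct_sub_mem {u v : ZMod 23 → ZMod 2} (hu : u ∈ punct) (hv : v ∈ punct) :
    u - v ∈ punct := by
  obtain ⟨w, hw, h⟩ := hu
  obtain ⟨w', hw', h'⟩ := hv
  exact ⟨w - w', golayCode.sub_mem hw hw', fun x => by simp [h x, h' x]⟩

theorem pcount_7 : countBin (fun m => popcountAux 23 (encode m) == 7) 12 0 = 253 := by decide +kernel
theorem pcount_8 : countBin (fun m => popcountAux 23 (encode m) == 8) 12 0 = 506 := by decide +kernel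
theorem pcount_11 : countBin (fun m => popcountAux 23 (encode m) == 11) 12 0 = 1288 := by decide +kernel
theorem pcount_12 : countBin (fun m => popcountAux 23 (encode m) == 12) 12 0 = 1288 := by decide +kernel
theorem pcount_15 : countBin (fun m => popcountAux 23 (encode m) == 15) 12 0 = 506 := by decide +kernel
theorem pcount_16 : countBin (fun m => popcountAux 23 (encode m) == 16) 12 0 = 253 := by decide +kernel

end Cfsg.Agent.Lib.Helper27
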