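import Mathlib
import Cfsg.Agent.Lib.Helper81.Q4Defs
import Cfsg.Agent.Lib.Helper27.P4A4

/-! S6002 hive, leaf Q4-A4: an element of prime order `r ≥ 7` normalizing a `MinusLike` group is
scalar. (Adaptation of `Lib/Helper27/P4A4.lean`.) -/

set_option autoImplicit false

namespace Cfsg.Agent.Lib.Helper81.Q4

open Matrix

variable {F : Type*} [Field F]

theorem a4_comm_iff (g h : GL I4 F) :
    g * h = h * g ↔ (g : Matrix I4 I4 F) * (h : Matrix I4 I4 F) =
      (h : Matrix I4 I4 F) * (g : Matrix I4 I4 F) := by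
  rw [← Units.val_mul, ← Units.val_mul, Units.ext_iff]

theorem a4_scalar_comm (g y : GL I4 F) (c : F)
    (hc : (g : Matrix I4 I4 F) = c • 1) : g * y = y * g := by
  rw [a4_comm_iff, hc, Matrix.smul_mul, Matrix.mul_smul, Matrix.one_mul, Matrix.mul_one]

/-- the centralizer in `R` of a non-central element has index at most 2. -/
theorem a4_card_centralizer (R : Subgroup (GL I4 F)) (hR : MinusLike R)
    (h0 t : GL I4 F) (hh0 : h0 ∈ R) (ht : t ∈ R)
    (hanti : (t : Matrix I4 I4 F) * (h0 : Matrix I4 I4 F) =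
      -((h0 : Matrix I4 I4 F) * (t : Matrix I4 I4 F))) :
    32 ≤ 2 * Nat.card (R ⊓ Subgroup.centralizer {h0} : Subgroup (GL I4 F)) := by
  have hfin : Finite R := Nat.finite_of_card_ne_zero (by rw [hR.card]; norm_num)
  obtain ⟨K, hK⟩ : ∃ K : Subgroup (GL I4 F), K = R ⊓ Subgroup.centralizer {h0} := ⟨_, rfl⟩
  rw [← hK]
  have hKR : K ≤ R := by rw [hK]; exact inf_le_left
  have hKfin : (K : Set (GL I4 F)).Finite :=
    Set.Finite.subset (Set.toFinite (R : Set (GL I4 F))) (by
      intro x hx; exact hKR hx)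
  have hsub : (R : Set (GL I4 F)) ⊆
      (K : Set (GL I4 F)) ∪ (fun g => t * g) '' (K : Set (GL I4 F)) := by
    intro g hg
    have hg' : g ∈ R := hg
    rcases hR.anti g hg' h0 hh0 with h | h
    · left
      change g ∈ K
      rw [hK]
      refine ⟨hg', ?_⟩
      change g ∈ Subgroup.centralizer {h0}
      rw [Subgroup.mem_centralizer_singleton_iff, a4_comm_iff]
      exact h
    · right
      refine ⟨t⁻¹ * g, ?_, by group⟩
      change t⁻¹ * g ∈ K
      rw [hK]
      refine ⟨R.mul_mem (R.inv_mem ht) hg', ?_⟩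
      change t⁻¹ * g ∈ Subgroup.centralizer {h0}
      rw [Subgroup.mem_centralizer_singleton_iff, a4_comm_iff]
      simp only [Units.val_mul]
      have e1 : ((t⁻¹ : GL I4 F) : Matrix I4 I4 F) * (h0 : Matrix I4 I4 F)
          = -((h0 : Matrix I4 I4 F) * ((t⁻¹ : GL I4 F) : Matrix I4 I4 F)) := by
        have : ((t⁻¹ : GL I4 F) : Matrix I4 I4 F) *
            ((t : Matrix I4 I4 F) * (h0 : Matrix I4 I4 F)) *
            ((t⁻¹ : GL I4 F) : Matrix I4 I4 F) =
            ((t⁻¹ : GL I4 F) : Matrix I4 I4 F) *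
            (-((h0 : Matrix I4 I4 F) * (t : Matrix I4 I4 F))) *
            ((t⁻¹ : GL I4 F) : Matrix I4 I4 F) := by rw [hanti]
        rw [← Matrix.mul_assoc, Units.inv_mul, Matrix.one_mul, Matrix.mul_neg, Matrix.neg_mul,
          Matrix.mul_assoc, Matrix.mul_assoc, Units.mul_inv, Matrix.mul_one] at this
        rw [this, neg_neg]
      rw [Matrix.mul_assoc, h, Matrix.mul_neg, ← Matrix.mul_assoc, e1, Matrix.neg_mul, neg_neg,
        Matrix.mul_assoc]
  have h1 : (R : Set (GL I4 F)).ncard ≤
      ((K : Set (GL I4 F)) ∪ (fun g => t * g) '' (K : Set (GL I4 F))).ncard :=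
    Set.ncard_le_ncard hsub (hKfin.union (hKfin.image _))
  have h2 := Set.ncard_union_le (K : Set (GL I4 F)) ((fun g => t * g) '' (K : Set (GL I4 F)))
  have h3 : ((fun g => t * g) '' (K : Set (GL I4 F))).ncard ≤ (K : Set (GL I4 F)).ncard :=
    Set.ncard_image_le hKfin
  have h4 : (R : Set (GL I4 F)).ncard = 32 := by
    rw [← Nat.card_coe_set_eq]; exact hR.card
  have h5 : (K : Set (GL I4 F)).ncard = Nat.card K := by
    rw [← Nat.card_coe_set_eq]; rfl
  omega

/-- if `y` commutes with all of `R` then `y` is scalar. -/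
theorem a4_scalar_of_centralizer (R : Subgroup (GL I4 F)) (hR : MinusLike R)
    (y : GL I4 F) (h : R ≤ Subgroup.centralizer {y}) : IsScalar y := by
  apply hR.comm
  intro g hg
  have := Subgroup.mem_centralizer_singleton_iff.mp (h hg)
  rw [a4_comm_iff] at this
  exact this.symm

/-- a subgroup of `R` consisting of scalars has at most 2 elements. -/
theorem a4_card_le_two_of_scalar (R : Subgroup (GL I4 F)) (hR : MinusLike R)
    (D : Subgroup (GL I4 F)) (hDR : D ≤ R) (m : GL I4 F) (hm : (m : Matrix I4 I4 F) = -1)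
    (hcon : ∀ g ∈ D, ∃ c : F, (g : Matrix I4 I4 F) = c • 1) : Nat.card D ≤ 2 := by
  have hsub : (D : Set (GL I4 F)) ⊆ {1, m} := by
    intro g hg
    obtain ⟨c, hc⟩ := hcon g hg
    rcases hR.scal g (hDR hg) c hc with rfl | rfl
    · left
      apply Units.ext
      rw [hc, one_smul, Units.val_one]
    · right
      change g = m
      apply Units.ext
      rw [hc, hm, neg_smul, one_smul]
  have h1 : (D : Set (GL I4 F)).ncard ≤ ({1, m} : Set (GL I4 F)).ncard :=
    Set.ncard_le_ncard hsub (Set.toFinite _)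
  have h2 : ({1, m} : Set (GL I4 F)).ncard ≤ 2 := by
    have := Set.ncard_insert_le (1 : GL I4 F) ({m} : Set (GL I4 F))
    rw [Set.ncard_singleton] at this
    exact this
  have h3 : (D : Set (GL I4 F)).ncard = Nat.card D := by
    rw [← Nat.card_coe_set_eq]; rfl
  omega

/-- Q4-A4.  An element of `N(R)` of prime order `r ≥ 7` is scalar. -/
theorem scalar_of_pow_prime [Fintype F] (h2 : (2 : F) ≠ 0) (R : Subgroup (GL I4 F))
    (hR : MinusLike R)
    (r : ℕ) (hr : r.Prime) (hr7 : 7 ≤ r) (y : GL I4 F)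
    (hy : y ∈ Subgroup.normalizer (R : Set (GL I4 F))) (hyr : y ^ r = 1) : IsScalar y := by
  have hfin : Finite R := Nat.finite_of_card_ne_zero (by rw [hR.card]; norm_num)
  have : Fact r.Prime := ⟨hr⟩
  obtain ⟨m, hmR, hm⟩ := hR.negone
  have hm1 : m ≠ 1 := by
    intro e
    rw [e, Units.val_one] at hm
    have := congrFun (congrFun hm (Sum.inl 0)) (Sum.inl 0)
    simp at this
    apply h2
    linear_combination this
  obtain ⟨C, hC⟩ : ∃ C : Subgroup (GL I4 F), C = R ⊓ Subgroup.centralizer {y} := ⟨_, rfl⟩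
  have hCR : C ≤ R := by rw [hC]; exact inf_le_left
  have hCfin : Finite C := Finite.of_injective (Subgroup.inclusion hCR)
    (Subgroup.inclusion_injective _)
  have hmod : Nat.card R ≡ Nat.card C [MOD r] := by
    rw [hC]; exact Cfsg.Agent.Lib.Helper14.P4.a4_card_fixed y R hy r hyr
  rw [hR.card] at hmod
  have hdvd : Nat.card C ∣ 32 := by
    have := Subgroup.card_dvd_of_le hCR
    rwa [hR.card] at this
  have hscalC : ∀ g ∈ R, (∃ c : F, (g : Matrix I4 I4 F) = c • 1) → g ∈ C := by
    rintro g hg ⟨c, hc⟩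
    rw [hC]
    refine ⟨hg, ?_⟩
    change g ∈ Subgroup.centralizer {y}
    rw [Subgroup.mem_centralizer_singleton_iff]
    exact a4_scalar_comm g y c hc
  have hmC : m ∈ C := hscalC m hmR ⟨-1, by rw [hm, neg_smul, one_smul]⟩
  -- |C| ≥ 2
  have hC2 : 2 ≤ Nat.card C := by
    have hCset : (C : Set (GL I4 F)).Finite :=
      Set.Finite.subset (Set.toFinite (R : Set (GL I4 F))) (fun x hx => hCR hx)
    have hsub : ({1, m} : Set (GL I4 F)) ⊆ (C : Set (GL I4 F)) := by
      intro g hg
      rcases hg with rfl | rfl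
      · exact C.one_mem
      · exact hmC
    have h1 := Set.ncard_le_ncard hsub hCset
    rw [Set.ncard_pair (Ne.symm hm1)] at h1
    have h3 : (C : Set (GL I4 F)).ncard = Nat.card C := by
      rw [← Nat.card_coe_set_eq]; rfl
    omega
  obtain ⟨k, hk5, hk⟩ := (Nat.dvd_prime_pow Nat.prime_two).mp (show Nat.card C ∣ 2 ^ 5 from hdvd)
  have hle : Nat.card C ≤ 32 := Nat.le_of_dvd (by norm_num) hdvd
  have hrd : r ∣ 32 - Nat.card C := (Nat.modEq_iff_dvd' hle).mp hmod.symm
  have hk1 : 1 ≤ k := by
    by_contra hlt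
    push Not at hlt
    interval_cases k
    rw [hk] at hC2; omega
  have hcases : Nat.card C = 32 ∨ (r = 7 ∧ Nat.card C = 4) := by
    interval_cases k
    · exfalso
      rw [hk] at hrd
      have hr30 : r ≤ 30 := Nat.le_of_dvd (by norm_num) hrd
      interval_cases r <;> first | omega | (exfalso; revert hr; norm_num)
    · right
      rw [hk] at hrd
      have hr28 : r ≤ 28 := Nat.le_of_dvd (by norm_num) hrd
      refine ⟨?_, by rw [hk]; norm_num⟩
      interval_cases r <;> first | rfl | omega | (exfalso; revert hr; norm_num)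
    · exfalso
      rw [hk] at hrd
      have hr24 : r ≤ 24 := Nat.le_of_dvd (by norm_num) hrd
      interval_cases r <;> first | omega | (exfalso; revert hr; norm_num)
    · exfalso
      rw [hk] at hrd
      have hr16 : r ≤ 16 := Nat.le_of_dvd (by norm_num) hrd
      interval_cases r <;> first | omega | (exfalso; revert hr; norm_num)
    · left; rw [hk]; norm_num
  rcases hcases with h32 | ⟨hr7', h4⟩
  · have hCeq : C = R := Subgroup.eq_of_le_of_card_ge hCR (by rw [hR.card, h32])
    apply a4_scalar_of_centralizer R hR y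
    rw [← hCeq, hC]
    exact inf_le_right
  · exfalso
    subst hr7'
    have hex : ∃ h0 ∈ C, ∀ c : F, (h0 : Matrix I4 I4 F) ≠ c • 1 := by
      by_contra hcon
      push Not at hcon
      have := a4_card_le_two_of_scalar R hR C hCR m hm hcon
      omega
    obtain ⟨h0, hh0C, hh0ns⟩ := hex
    have hh0R : h0 ∈ R := hCR hh0C
    have hh0y : h0 * y = y * h0 := by
      rw [hC] at hh0C
      exact Subgroup.mem_centralizer_singleton_iff.mp hh0C.2
    have hext : ∃ t ∈ R, ¬ ((t : Matrix I4 I4 F) * (h0 : Matrix I4 I4 F) =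
        (h0 : Matrix I4 I4 F) * (t : Matrix I4 I4 F)) := by
      by_contra hcon
      push Not at hcon
      obtain ⟨c, hc⟩ := hR.comm (h0 : Matrix I4 I4 F) (fun t ht => (hcon t ht).symm)
      exact hh0ns c hc
    obtain ⟨t, ht, htne⟩ := hext
    have hanti := (hR.anti t ht h0 hh0R).resolve_left htne
    obtain ⟨K, hK⟩ : ∃ K : Subgroup (GL I4 F), K = R ⊓ Subgroup.centralizer {h0} := ⟨_, rfl⟩
    have hKR : K ≤ R := by rw [hK]; exact inf_le_left
    have hKfin : Finite K := Finite.of_injective
        (Subgroup.inclusion hKR) (Subgroup.inclusion_injective _)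
    have hK32 : 32 ≤ 2 * Nat.card K := by
      rw [hK]; exact a4_card_centralizer R hR h0 t hh0R ht hanti
    have hKdvd : Nat.card K ∣ 32 := by
      have := Subgroup.card_dvd_of_le hKR
      rwa [hR.card] at this
    have hKne : Nat.card K ≠ 32 := by
      intro e
      have hKeq : K = R := Subgroup.eq_of_le_of_card_ge hKR (by rw [hR.card, e])
      have : t ∈ K := by rw [hKeq]; exact ht
      rw [hK] at this
      have := Subgroup.mem_centralizer_singleton_iff.mp this.2
      rw [a4_comm_iff] at this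
      exact htne this
    have hK16 : Nat.card K = 16 := by
      obtain ⟨j, hj5, hj⟩ := (Nat.dvd_prime_pow Nat.prime_two).mp (show Nat.card K ∣ 2 ^ 5 from hKdvd)
      interval_cases j <;> omega
    have hyK : y ∈ Subgroup.normalizer (K : Set (GL I4 F)) := by
      rw [Subgroup.mem_normalizer_iff]
      intro g
      have h1 := Subgroup.mem_normalizer_iff.mp hy g
      have h2 := Cfsg.Agent.Lib.Helper14.P4.a4_conj_mem_centralizer y h0 g hh0y
      rw [hK]
      constructor
      · rintro ⟨ha, hb⟩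
        exact ⟨h1.mp ha, h2.mp hb⟩
      · rintro ⟨ha, hb⟩
        exact ⟨h1.mpr ha, h2.mpr hb⟩
    have hmodK : Nat.card K ≡ Nat.card (K ⊓ Subgroup.centralizer {y} : Subgroup (GL I4 F))
        [MOD 7] := Cfsg.Agent.Lib.Helper14.P4.a4_card_fixed y K hyK 7 hyr
    obtain ⟨E, hE⟩ : ∃ E : Subgroup (GL I4 F), E = K ⊓ Subgroup.centralizer {y} := ⟨_, rfl⟩
    rw [← hE] at hmodK
    have hEC : E ≤ C := by
      intro g hg
      rw [hE, hK] at hg
      rw [hC]
      exact ⟨hg.1.1, hg.2⟩
    have hEfin : Finite E := Finite.of_injective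
        (Subgroup.inclusion (hEC.trans hCR)) (Subgroup.inclusion_injective _)
    have hEdvd : Nat.card E ∣ 4 := by
      have := Subgroup.card_dvd_of_le hEC
      rwa [h4] at this
    have hmE : m ∈ E := by
      rw [hE, hK]
      have hms : (m : Matrix I4 I4 F) = (-1 : F) • 1 := by rw [hm, neg_smul, one_smul]
      refine ⟨⟨hmR, ?_⟩, ?_⟩
      · change m ∈ Subgroup.centralizer {h0}
        rw [Subgroup.mem_centralizer_singleton_iff]
        exact a4_scalar_comm m h0 (-1) hms
      · change m ∈ Subgroup.centralizer {y}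
        rw [Subgroup.mem_centralizer_singleton_iff]
        exact a4_scalar_comm m y (-1) hms
    have hh0E : h0 ∈ E := by
      rw [hE, hK]
      rw [hC] at hh0C
      refine ⟨⟨hh0R, ?_⟩, hh0C.2⟩
      change h0 ∈ Subgroup.centralizer {h0}
      rw [Subgroup.mem_centralizer_singleton_iff]
    have hh01 : h0 ≠ 1 := by
      intro e
      exact hh0ns 1 (by rw [e, Units.val_one, one_smul])
    have hh0m : h0 ≠ m := by
      intro e
      exact hh0ns (-1) (by rw [e, hm, neg_smul, one_smul])
    have hE3 : 3 ≤ Nat.card E := by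
      have hEset : (E : Set (GL I4 F)).Finite :=
        Set.Finite.subset (Set.toFinite (R : Set (GL I4 F))) (fun x hx => hCR (hEC hx))
      have hsub : ({1, m, h0} : Set (GL I4 F)) ⊆ (E : Set (GL I4 F)) := by
        intro g hg
        rcases hg with rfl | rfl | rfl
        · exact E.one_mem
        · exact hmE
        · exact hh0E
      have h1 := Set.ncard_le_ncard hsub hEset
      have h2' : ({1, m, h0} : Set (GL I4 F)).ncard = 3 :=
        Set.ncard_eq_three.mpr ⟨1, m, h0, Ne.symm hm1, Ne.symm hh01, Ne.symm hh0m, rfl⟩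
      rw [h2'] at h1
      have h3 : (E : Set (GL I4 F)).ncard = Nat.card E := by
        rw [← Nat.card_coe_set_eq]; rfl
      omega
    have hE4 : Nat.card E = 4 := by
      have hle4 : Nat.card E ≤ 4 := Nat.le_of_dvd (by norm_num) hEdvd
      interval_cases h : Nat.card E <;> omega
    rw [hK16, hE4] at hmodK
    exact absurd hmodK (by decide)

end Cfsg.Agent.Lib.Helper81.Q4
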