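import Cfsg.Agent.Lib.Helper27.SetSys
import Cfsg.Agent.Lib.Helper27.GolayDuads

set_option autoImplicit false

namespace Cfsg.Agent.Lib.Helper27

open Cfsg Cfsg.Agent.Lib.Helper26
open scoped Pointwise

theorem smul_mem_hexadsOn {g : Equiv.Perm GolayPt} (hg : g ∈ M24) {d h : Finset GolayPt}
    (hh : h ∈ hexadsOn d) : g • h ∈ hexadsOn (g • d) := by
  obtain ⟨h6, o, ho, rfl⟩ := hh
  refine ⟨by rw [Finset.card_smul_finset]; exact h6, g • o, (smul_mem_octads_iff hg o).mpr ho, ?_⟩
  rw [Finset.smul_finset_inter]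

theorem smul_mem_quartets {g : Equiv.Perm GolayPt} (hg : g ∈ M24) {d : Finset GolayPt}
    {Q : Finset (Finset GolayPt)} (hQ : Q ∈ quartets d) : g • Q ∈ quartets (g • d) := by
  obtain ⟨h4, h3, hu⟩ := hQ
  refine ⟨by rw [Finset.card_smul_finset]; exact h4, ?_, ?_⟩
  · intro t ht
    obtain ⟨t', ht', rfl⟩ := Finset.mem_smul_finset.mp ht
    exact ⟨by rw [Finset.card_smul_finset]; exact (h3 t' ht').1,
      Finset.smul_finset_subset_smul_finset (h3 t' ht').2⟩
  · intro t ht u hu' htu
    obtain ⟨t', ht', rfl⟩ := Finset.mem_smul_finset.mp ht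
    obtain ⟨u', hu'', rfl⟩ := Finset.mem_smul_finset.mp hu'
    rw [← Finset.smul_finset_union]
    exact smul_mem_hexadsOn hg (hu t' ht' u' hu'' (fun h => htu (by rw [h])))

theorem smul_mem_quartets_iff {g : Equiv.Perm GolayPt} (hg : g ∈ M24) (d : Finset GolayPt)
    (Q : Finset (Finset GolayPt)) : g • Q ∈ quartets (g • d) ↔ Q ∈ quartets d := by
  refine ⟨fun h => ?_, smul_mem_quartets hg⟩
  have := smul_mem_quartets (M24.inv_mem hg) h
  rwa [inv_smul_smul, inv_smul_smul] at this

theorem smul_mem_hexadsOn_iff {g : Equiv.Perm GolayPt} (hg : g ∈ M24) (d h : Finset GolayPt) :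
    g • h ∈ hexadsOn (g • d) ↔ h ∈ hexadsOn d := by
  refine ⟨fun hh => ?_, smul_mem_hexadsOn hg⟩
  have := smul_mem_hexadsOn (M24.inv_mem hg) hh
  rwa [inv_smul_smul, inv_smul_smul] at this

/-- `chainLt` from `Pairwise`. -/
theorem chainLt_of_pairwise : ∀ l : List ℕ, l.Pairwise (· < ·) → chainLt l = true
  | [], _ => rfl
  | [_], _ => rfl
  | a :: b :: r, h => by
    rw [List.pairwise_cons] at h
    simp only [chainLt, Bool.and_eq_true, decide_eq_true_eq]
    exact ⟨h.1 b (List.mem_cons_self), chainLt_of_pairwise (b :: r) h.2⟩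

/-- every set of sets has a canonical code. -/
theorem exists_canon (Q : Finset (Finset GolayPt)) :
    ∃ l : List ℕ, isCanon l = true ∧ decQ l = Q ∧ l.length = Q.card := by
  have hinj : Function.Injective enc := fun a b h => by rw [← dec_enc a, ← dec_enc b, h]
  refine ⟨(Q.image enc).sort (· ≤ ·), ?_, ?_, ?_⟩
  · simp only [isCanon, Bool.and_eq_true, List.all_eq_true, decide_eq_true_eq]
    refine ⟨?_, chainLt_of_pairwise _ (Finset.sortedLT_sort _).pairwise⟩
    intro m hm
    rw [Finset.mem_sort] at hm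
    obtain ⟨t, -, rfl⟩ := Finset.mem_image.mp hm
    exact enc_lt t
  · ext t
    rw [mem_decQ]
    constructor
    · rintro ⟨m, hm, rfl⟩
      rw [Finset.mem_sort] at hm
      obtain ⟨t, ht, rfl⟩ := Finset.mem_image.mp hm
      rwa [dec_enc]
    · intro ht
      exact ⟨enc t, (Finset.mem_sort _).mpr (Finset.mem_image_of_mem _ ht), dec_enc t⟩
  · rw [Finset.length_sort, Finset.card_image_of_injective _ hinj]

/-- membership of a decoded mask in a decoded canonical configuration. -/
theorem dec_mem_decQ_iff {l : List ℕ} (hl : isCanon l = true) {m : ℕ} (hm : m < 2 ^ 24) :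
    dec m ∈ decQ l ↔ m ∈ l := by
  rw [mem_decQ]
  constructor
  · rintro ⟨m', hm', h⟩
    rwa [← dec_injOn (isCanon_lt hl m' hm') hm h]
  · intro h
    exact ⟨m, h, rfl⟩

theorem ncard_smul_transport' {β : Type*} [MulAction (Equiv.Perm GolayPt) β]
    (g : Equiv.Perm GolayPt) (P Q : β → Prop)
    (h : ∀ o, Q (g • o) ↔ P o) : {o | Q o}.ncard = {o | P o}.ncard := by
  have h1 : {o | Q o} = (fun o => g • o) '' {o | P o} := by
    ext o
    simp only [Set.mem_ofPred_eq, Set.mem_image]
    constructor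
    · intro hq
      refine ⟨g⁻¹ • o, ?_, smul_inv_smul g o⟩
      rw [← h, smul_inv_smul]; exact hq
    · rintro ⟨o', hp, rfl⟩
      exact (h o').mpr hp
  rw [h1, Set.InjOn.ncard_image]
  exact (MulAction.injective g).injOn

end Cfsg.Agent.Lib.Helper27
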