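import Cfsg.Agent.Lib.Helper27.Co3Cert

set_option autoImplicit false

/-!
Data and certificates for the orbits of the joint stabiliser of `u0 = (5, 1^23)` and
`y0 = (-4, 0, 4, 0^21)` on the 11178 minimal vectors `y` with `u0 . y = -16`.
-/

namespace Cfsg.Agent.Lib.Helper27.R5

open Cfsg Cfsg.Agent.Lib.Conway Cfsg.Agent.Lib.Helper93.Leech Cfsg.Agent.Lib.Helper93.Golay
open Cfsg.Agent.Lib.Golay.LeechBasis Cfsg.Agent.Lib.Helper27.LL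
open Cfsg.Agent.Lib.Helper26 (PermData)

set_option maxRecDepth 1000000 in
def Q1Tab : List (List ℤ) :=
  [[5, 1, -3, 1, 1, 1, 1, 1, 1, 1, 1, 1, 1, 1, 1, 1, 1, -3, 1, 1, 1, 1, 1, 1],
   [3, 1, -1, 1, 1, 1, 1, 1, -1, 1, 1, 1, 1, 1, -1, 1, 1, -1, -1, -1, 1, -1, 1, 1],
   [1, 1, 1, 1, 1, 1, 1, 1, 1, 1, 1, 1, 1, 1, 1, 1, 1, -3, 1, 1, 1, 1, 1, 1],
   [3, 1, -1, 1, 1, 1, 1, 1, 1, 1, 1, 1, 1, -1, -1, -1, -1, -1, 1, 1, -1, 1, 1, 1],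
   [3, 1, -1, 1, 1, 1, 1, 1, 1, -1, 1, -1, 1, 1, 1, 1, -1, -1, 1, -1, 1, 1, 1, -1],
   [3, 1, -1, 1, -1, 1, 1, 1, 1, -1, -1, 1, 1, 1, -1, 1, 1, -1, 1, 1, 1, 1, -1, 1],
   [3, 1, -1, -1, 1, 1, 1, 1, 1, -1, 1, 1, -1, 1, 1, -1, 1, -1, -1, 1, 1, 1, 1, 1],
   [3, 1, -1, 1, 1, -1, 1, 1, 1, 1, 1, -1, 1, -1, 1, 1, 1, -1, -1, 1, 1, 1, -1, 1],
   [3, 1, -1, 1, -1, -1, 1, 1, -1, 1, 1, 1, -1, 1, 1, 1, -1, -1, 1, 1, 1, 1, 1, 1],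
   [3, 1, -1, -1, 1, 1, 1, -1, 1, 1, 1, 1, 1, 1, 1, 1, -1, -1, 1, 1, 1, -1, -1, 1],
   [3, 1, -1, 1, 1, -1, -1, 1, 1, -1, 1, 1, 1, 1, 1, 1, 1, -1, 1, 1, -1, -1, 1, 1],
   [3, -1, -1, 1, 1, 1, 1, -1, -1, -1, 1, 1, 1, -1, 1, 1, 1, -1, 1, 1, 1, 1, 1, 1],
   [2, 2, 2, 2, 2, 0, 0, 2, 0, 0, 2, 0, 2, 0, 0, 0, 0, 0, 0, 0, 0, 0, 0, 0],
   [1, 1, 3, 1, -1, 1, 1, 1, -1, -1, 1, 1, 1, -1, -1, 1, -1, 1, 1, -1, 1, 1, 1, 1],
   [3, 1, 1, -1, 1, -1, 1, 1, 1, -1, 1, 1, 1, 1, -1, 1, 1, 1, -1, 1, 1, -1, -1, 1],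
   [1, 1, 3, 1, 1, -1, 1, 1, -1, -1, 1, 1, -1, -1, 1, 1, 1, 1, -1, 1, 1, -1, 1, 1],
   [3, 1, 1, 1, 1, -1, 1, -1, -1, -1, 1, 1, 1, 1, 1, 1, -1, 1, 1, -1, 1, -1, 1, 1],
   [3, 1, 1, 1, 1, 1, 1, -1, 1, -1, 1, -1, 1, -1, -1, 1, -1, 1, 1, 1, 1, 1, -1, 1],
   [2, 2, 2, 0, 0, 0, 2, 2, 0, 0, 0, 0, 0, 0, 0, 0, 0, 0, 0, 2, 0, 2, 0, 2],
   [2, 2, 2, 0, 0, 0, 2, 0, 0, 0, 2, 0, 0, 0, 0, 0, -2, 2, -2, 0, 0, 0, 0, 0],
   [1, 1, 3, 1, -1, -1, 1, 1, 1, -1, 1, -1, 1, 1, 1, 1, -1, 1, 1, 1, 1, -1, -1, 1],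
   [2, 0, 2, 0, 0, 0, 0, 0, 0, -2, 0, 2, 0, 0, 0, 0, -2, 2, 0, 2, 0, 0, 0, 2],
   [2, 0, 2, 0, 2, 2, 2, 0, 0, 0, 2, 2, 0, 0, 0, 0, 0, 0, 0, 0, 0, 0, 0, 2],
   [5, 1, 1, 1, 1, 1, 1, 1, 1, 1, 1, 1, 1, 1, 1, 1, 1, 1, 1, 1, 1, 1, 1, 1]]

set_option maxRecDepth 1000000 in
def Q1InvTab : List (List ℤ) :=
  [[5, 1, -3, 1, 1, 1, 1, 1, 1, 1, 1, 1, 1, 1, 1, 1, 1, 1, 1, 1, 1, 1, 1, -3],
   [3, 1, -1, 1, 1, 1, 1, 1, 1, 1, 1, -1, 1, 1, -1, 1, 1, 1, 1, 1, -1, -1, -1, -1],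
   [1, 1, 1, 1, 1, 1, 1, 1, 1, 1, 1, 1, 1, 1, 1, 1, 1, 1, 1, 1, 1, 1, 1, -3],
   [3, 1, -1, 1, 1, 1, -1, 1, 1, -1, 1, 1, 1, -1, -1, 1, 1, 1, -1, 1, 1, 1, 1, -1],
   [3, 1, -1, 1, 1, -1, 1, 1, -1, 1, 1, 1, 1, -1, 1, 1, 1, 1, 1, -1, -1, 1, 1, -1],
   [3, 1, -1, 1, 1, 1, 1, -1, -1, 1, -1, 1, 1, 1, -1, 1, -1, 1, 1, 1, 1, 1, 1, -1],
   [3, 1, -1, 1, 1, 1, 1, 1, 1, 1, -1, 1, -1, -1, 1, 1, 1, -1, 1, 1, 1, -1, 1, -1],
   [3, 1, -1, 1, 1, 1, 1, 1, 1, -1, 1, -1, 1, 1, 1, 1, -1, -1, 1, -1, 1, 1, 1, -1],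
   [3, -1, -1, 1, 1, 1, 1, 1, -1, 1, 1, -1, -1, 1, 1, 1, 1, 1, -1, 1, 1, 1, 1, -1],
   [3, 1, -1, 1, -1, -1, -1, 1, 1, 1, -1, -1, 1, 1, 1, 1, 1, 1, 1, 1, 1, 1, 1, -1],
   [3, 1, -1, 1, 1, -1, 1, 1, 1, 1, 1, 1, 1, 1, 1, -1, -1, 1, -1, 1, 1, -1, 1, -1],
   [3, 1, -1, 1, -1, 1, 1, -1, 1, 1, 1, 1, 1, 1, 1, 1, 1, -1, -1, 1, -1, 1, 1, -1],
   [2, 2, 2, 2, 2, 0, 0, 2, 0, 0, 2, 0, 2, 0, 0, 0, 0, 0, 0, 0, 0, 0, 0, 0],
   [1, 1, 3, 1, 1, 1, 1, -1, -1, 1, 1, -1, 1, -1, -1, 1, 1, 1, -1, 1, -1, 1, 1, 1],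
   [3, 1, 1, 1, 1, -1, 1, 1, 1, 1, -1, -1, 1, 1, -1, 1, -1, -1, 1, 1, 1, -1, 1, 1],
   [1, 1, 3, 1, 1, 1, 1, 1, 1, 1, 1, -1, -1, 1, 1, 1, -1, -1, -1, 1, -1, -1, 1, 1],
   [3, 1, 1, 1, -1, -1, 1, 1, -1, 1, 1, -1, 1, 1, 1, 1, 1, 1, -1, 1, -1, -1, 1, 1],
   [2, 2, 0, 2, 0, 0, 0, 0, 0, 0, 0, 0, 2, 0, 0, 2, 0, 0, 0, 0, 0, 2, 2, 2],
   [2, 0, 2, 2, 2, 2, 0, 0, 0, 0, 0, 0, 0, 0, 0, 2, 0, 0, 0, 0, 2, 0, 2, 0],
   [2, 0, 2, 2, 0, 0, 0, 2, 0, 0, 0, -2, 0, -2, 0, 2, 0, 0, 0, 0, 0, 0, 0, 2],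
   [1, 1, 3, 1, 1, -1, 1, 1, -1, 1, -1, -1, 1, 1, 1, 1, -1, 1, -1, -1, 1, 1, 1, 1],
   [2, 0, 2, 2, 0, 0, 0, 0, 0, 0, -2, 0, 0, 0, 0, 0, 0, 0, -2, 2, 0, 0, 2, 2],
   [2, 2, 2, 2, 0, 0, 0, 0, 2, 0, 0, 0, 0, 0, 0, 2, 2, 0, 0, 2, 0, 0, 0, 0],
   [5, 1, 1, 1, 1, 1, 1, 1, 1, 1, 1, 1, 1, 1, 1, 1, 1, 1, 1, 1, 1, 1, 1, 1]]

set_option maxRecDepth 1000000 in
def Q2Tab : List (List ℤ) :=
  [[6, 0, -2, 2, 2, 0, 0, 0, 2, 2, 0, 0, 0, 0, 0, 0, 0, 0, 0, 0, 0, 2, 0, 2],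
   [4, 0, 0, 0, 0, 0, 0, 0, 0, 4, 0, 0, 0, 0, 0, 0, 0, 0, 0, 0, 0, 0, 0, 0],
   [2, 0, 2, 2, 2, 0, 0, 0, 2, 2, 0, 0, 0, 0, 0, 0, 0, 0, 0, 0, 0, 2, 0, 2],
   [4, 0, 0, 0, 4, 0, 0, 0, 0, 0, 0, 0, 0, 0, 0, 0, 0, 0, 0, 0, 0, 0, 0, 0],
   [3, -1, -1, 1, 1, 1, 1, -1, 1, 1, 1, 1, 1, 1, -1, -1, 1, 1, -1, 1, 1, 1, -1, 1],
   [3, -1, -1, 1, 1, 1, 1, 1, 1, 1, -1, -1, 1, -1, -1, 1, 1, 1, 1, -1, 1, 1, 1, 1],
   [3, -1, -1, 1, 1, -1, 1, -1, 1, 1, 1, -1, 1, 1, 1, 1, -1, 1, 1, 1, -1, 1, 1, 1],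
   [3, 1, -1, 1, 1, -1, 1, -1, 1, 1, -1, 1, 1, 1, 1, -1, 1, -1, 1, -1, 1, 1, 1, 1],
   [3, 1, -1, 1, 1, 1, 1, 1, 1, 1, 1, 1, 1, -1, -1, -1, -1, -1, 1, 1, -1, 1, 1, 1],
   [3, 1, -1, 1, 1, 1, 1, -1, 1, 1, 1, 1, -1, -1, 1, 1, -1, 1, -1, -1, 1, 1, 1, 1],
   [3, -1, -1, 1, 1, 1, -1, 1, 1, 1, -1, 1, 1, 1, 1, 1, -1, -1, -1, 1, 1, 1, 1, 1],
   [3, -1, -1, 1, 1, -1, -1, 1, 1, 1, 1, 1, -1, -1, 1, -1, 1, 1, 1, 1, 1, 1, 1, 1],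
   [2, 0, 2, 0, 2, 0, 0, 0, 0, 2, 0, 2, 2, 2, 0, 0, 0, 0, 0, 0, 2, 0, 0, 0],
   [1, -1, 3, 1, 1, 1, 1, 1, -1, 1, 1, 1, 1, -1, -1, -1, 1, 1, 1, 1, 1, -1, 1, -1],
   [2, 0, 0, 0, 0, 0, 2, 0, 0, 2, 0, 0, 2, 0, 2, 2, 0, 0, 0, 0, 2, 0, 2, 0],
   [0, 0, 2, 0, 0, 0, 0, 0, 0, 2, 0, 2, 2, 0, 2, 0, 0, 0, 2, 2, 0, 0, 2, 0],
   [2, 0, 0, 0, 0, 2, 0, 0, 0, 2, 2, 2, 0, 0, 0, 0, 0, 0, 0, 2, 2, 0, 2, 0],
   [2, 0, 0, 0, 2, 0, 2, 0, 0, 0, 0, 2, 0, 0, 0, 0, 2, 2, 0, 0, 2, 0, 2, 0],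
   [2, 0, 2, 0, 2, 0, 2, 0, 0, 0, 0, 0, 2, 0, 0, 0, 0, 0, 2, 0, 0, 2, 2, 0],
   [1, 1, 1, -1, 1, 1, 3, -1, -1, 1, 1, 1, 1, 1, 1, -1, -1, 1, 1, 1, 1, -1, 1, -1],
   [0, 0, 2, 0, 0, 2, 2, 0, 2, 0, 0, 2, 2, 0, 0, 0, 0, 0, 0, 0, 2, 0, 2, 0],
   [1, -1, 1, -1, 1, 1, 1, 1, -1, -1, 1, 1, 1, -1, 1, 1, -1, 1, 1, 1, 1, -1, 3, 1],
   [2, 0, 2, 0, 2, 0, 0, 0, 0, 2, 2, 0, 0, 0, 2, 0, 0, 2, 0, 0, 0, 0, 2, 0],
   [5, 1, 1, 1, 1, 1, 1, 1, 1, 1, 1, 1, 1, 1, 1, 1, 1, 1, 1, 1, 1, 1, 1, 1]]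

set_option maxRecDepth 1000000 in
def Q2InvTab : List (List ℤ) :=
  [[6, 2, -2, 2, 0, 0, 0, 0, 0, 0, 0, 0, 0, 2, 0, 0, 0, 0, 2, 0, 2, 2, 0, 0],
   [3, 1, -1, 1, -1, -1, -1, 1, 1, 1, -1, -1, 1, 1, 1, 1, 1, 1, 1, 1, 1, 1, 1, -1],
   [2, 2, 2, 2, 0, 0, 0, 0, 0, 0, 0, 0, 0, 2, 0, 0, 0, 0, 2, 0, 2, 2, 0, 0],
   [4, 0, 0, 0, 0, 0, 0, 0, 0, 0, 0, 0, 0, 4, 0, 0, 0, 0, 0, 0, 0, 0, 0, 0],
   [4, 0, 0, 4, 0, 0, 0, 0, 0, 0, 0, 0, 0, 0, 0, 0, 0, 0, 0, 0, 0, 0, 0, 0],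
   [3, 1, -1, 1, 1, 1, -1, -1, 1, 1, 1, -1, -1, 1, -1, 1, 1, -1, 1, 1, 1, 1, 1, 1],
   [3, 1, -1, 1, 1, 1, 1, 1, 1, 1, -1, -1, -1, 1, 1, -1, -1, 1, 1, 1, 1, 1, -1, 1],
   [3, 1, -1, 1, -1, 1, -1, -1, 1, -1, 1, 1, 1, 1, 1, -1, -1, 1, 1, 1, 1, 1, 1, 1],
   [4, 0, 0, 0, 0, 0, 0, 0, 0, 0, 0, 0, 0, 0, 0, 0, 0, 0, 0, 0, 4, 0, 0, 0],
   [4, 4, 0, 0, 0, 0, 0, 0, 0, 0, 0, 0, 0, 0, 0, 0, 0, 0, 0, 0, 0, 0, 0, 0],
   [3, 1, -1, 1, 1, -1, 1, -1, 1, 1, -1, 1, 1, 1, 1, -1, 1, -1, 1, -1, 1, 1, 1, 1],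
   [3, 1, -1, 1, 1, -1, -1, 1, 1, 1, 1, 1, 1, 1, -1, 1, -1, 1, 1, -1, 1, 1, -1, 1],
   [2, 0, 2, 2, 0, 0, 0, 0, 2, 0, 0, 0, 2, 2, 2, 0, 0, 0, 0, 0, 0, 0, 2, 0],
   [1, -1, 3, 1, 1, -1, -1, 1, 1, 1, 1, -1, 1, 1, -1, 1, 1, 1, -1, 1, 1, -1, 1, 1],
   [2, 2, 0, 0, 0, 0, 0, 0, 2, 2, 0, 0, 0, 0, 2, 0, 0, 0, 0, 2, 0, 0, 2, 2],
   [0, 0, 2, 0, 0, 0, 0, 0, 2, 2, 0, 0, 2, 0, 2, 0, 0, 2, 0, 0, 2, 0, 0, 2],
   [3, 1, 1, 1, 1, -1, -1, 1, 1, 1, -1, 1, 1, -1, 1, 1, 1, 1, -1, -1, 1, -1, 1, 1],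
   [3, 1, 1, 1, 1, 1, -1, -1, 1, 1, 1, 1, 1, 1, -1, 1, -1, 1, -1, 1, -1, -1, 1, 1],
   [2, 0, 2, 0, 0, 2, 0, 0, 2, 0, 0, 0, 0, 2, 0, 0, 0, 0, 0, 2, 2, 0, 0, 2],
   [2, 0, 2, 0, 0, 0, 0, 0, 2, 0, 0, 0, 0, 0, 2, 0, 0, 2, -2, 2, 0, -2, 0, 0],
   [1, 1, 3, 1, 1, 1, -1, -1, 1, 1, 1, 1, 1, -1, 1, -1, 1, -1, -1, 1, 1, -1, 1, 1],
   [2, 0, 2, -2, 2, 0, 0, 0, 2, 2, 0, 0, 0, 0, 0, 0, 0, 0, 0, 0, 0, -2, 0, 2],
   [2, 2, 2, 0, 0, 0, 0, 2, 2, 2, 0, 0, 0, 2, 0, 0, 0, 2, 0, 0, 0, 0, 0, 0],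
   [5, 1, 1, 1, 1, 1, 1, 1, 1, 1, 1, 1, 1, 1, 1, 1, 1, 1, 1, 1, 1, 1, 1, 1]]

set_option maxRecDepth 1000000 in
def perms22p : List PermData := [⟨[0, 10, 2, 15, 4, 5, 21, 18, 16, 6, 13, 14, 8, 1, 19, 22, 12, 17, 23, 11, 20, 9, 3, 7], [0, 13, 2, 22, 4, 5, 9, 23, 12, 21, 1, 19, 16, 10, 11, 3, 8, 17, 7, 14, 20, 6, 15, 18]⟩,
  ⟨[0, 5, 2, 15, 22, 14, 10, 3, 21, 19, 4, 17, 20, 12, 8, 18, 23, 11, 6, 16, 1, 13, 7, 9], [0, 20, 2, 7, 10, 1, 18, 22, 14, 23, 6, 17, 13, 21, 5, 3, 19, 11, 15, 9, 12, 8, 4, 16]⟩,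
  ⟨[0, 13, 2, 22, 4, 5, 9, 23, 12, 21, 1, 19, 16, 10, 11, 3, 8, 17, 7, 14, 20, 6, 15, 18], [0, 10, 2, 15, 4, 5, 21, 18, 16, 6, 13, 14, 8, 1, 19, 22, 12, 17, 23, 11, 20, 9, 3, 7]⟩,
  ⟨[0, 20, 2, 7, 10, 1, 18, 22, 14, 23, 6, 17, 13, 21, 5, 3, 19, 11, 15, 9, 12, 8, 4, 16], [0, 5, 2, 15, 22, 14, 10, 3, 21, 19, 4, 17, 20, 12, 8, 18, 23, 11, 6, 16, 1, 13, 7, 9]⟩,
  ⟨[0, 8, 2, 3, 21, 20, 22, 4, 5, 12, 23, 14, 9, 16, 10, 18, 6, 17, 15, 7, 1, 19, 13, 11], [0, 20, 2, 3, 7, 8, 16, 19, 1, 12, 14, 23, 9, 22, 11, 18, 13, 17, 15, 21, 5, 4, 6, 10]⟩,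
  ⟨[0, 20, 2, 10, 13, 3, 15, 6, 14, 1, 7, 23, 22, 4, 17, 5, 12, 8, 21, 18, 16, 19, 9, 11], [0, 9, 2, 5, 13, 15, 7, 10, 17, 22, 3, 23, 16, 4, 8, 6, 20, 14, 19, 21, 1, 18, 12, 11]⟩,
  ⟨[0, 19, 2, 18, 11, 1, 21, 20, 3, 14, 15, 17, 6, 7, 5, 23, 22, 9, 13, 10, 12, 16, 8, 4], [0, 5, 2, 8, 23, 14, 12, 13, 22, 17, 19, 4, 20, 18, 9, 10, 21, 11, 3, 1, 7, 6, 16, 15]⟩,
  ⟨[0, 4, 2, 1, 9, 3, 13, 18, 20, 23, 5, 16, 19, 17, 12, 6, 14, 7, 21, 8, 11, 15, 22, 10], [0, 3, 2, 5, 1, 10, 15, 17, 19, 4, 23, 20, 14, 6, 16, 21, 11, 13, 7, 12, 8, 18, 22, 9]⟩,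
  ⟨[0, 4, 2, 18, 20, 15, 16, 23, 21, 3, 17, 14, 7, 9, 10, 6, 12, 8, 5, 22, 19, 1, 11, 13], [0, 21, 2, 9, 1, 18, 15, 12, 17, 13, 14, 22, 16, 23, 11, 5, 6, 10, 3, 20, 4, 8, 19, 7]⟩,
  ⟨[0, 20, 2, 22, 7, 11, 12, 10, 15, 1, 6, 17, 13, 9, 21, 4, 3, 23, 16, 5, 8, 18, 19, 14], [0, 9, 2, 16, 15, 19, 10, 4, 20, 13, 7, 5, 6, 12, 23, 8, 18, 11, 21, 22, 1, 14, 3, 17]⟩,
  ⟨[0, 11, 2, 12, 13, 17, 1, 20, 19, 18, 9, 8, 4, 15, 14, 21, 3, 6, 22, 5, 10, 16, 23, 7], [0, 6, 2, 16, 12, 19, 17, 23, 11, 10, 20, 1, 3, 4, 14, 13, 21, 5, 9, 8, 7, 15, 18, 22]⟩,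
  ⟨[0, 18, 2, 8, 7, 4, 9, 3, 21, 20, 6, 16, 5, 1, 10, 19, 14, 13, 23, 17, 11, 12, 22, 15], [0, 13, 2, 7, 5, 12, 10, 4, 3, 6, 14, 20, 21, 17, 16, 23, 11, 19, 1, 15, 9, 8, 22, 18]⟩,
  ⟨[0, 23, 2, 6, 17, 5, 7, 8, 18, 1, 15, 19, 22, 12, 4, 9, 13, 11, 3, 14, 20, 16, 21, 10], [0, 9, 2, 18, 14, 5, 3, 6, 7, 15, 23, 17, 13, 16, 19, 10, 21, 4, 8, 11, 20, 22, 12, 1]⟩,
  ⟨[0, 13, 2, 1, 6, 17, 21, 15, 11, 3, 5, 20, 12, 23, 8, 10, 14, 7, 4, 19, 16, 22, 18, 9], [0, 3, 2, 9, 18, 10, 4, 17, 14, 23, 15, 8, 12, 1, 16, 7, 20, 5, 22, 19, 11, 6, 21, 13]⟩,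
  ⟨[0, 11, 2, 14, 19, 12, 20, 10, 18, 21, 1, 22, 13, 9, 6, 4, 16, 7, 5, 3, 15, 8, 23, 17], [0, 10, 2, 19, 15, 18, 14, 17, 21, 13, 7, 1, 5, 12, 3, 20, 16, 23, 8, 4, 6, 9, 11, 22]⟩,
  ⟨[0, 17, 2, 4, 3, 16, 15, 6, 9, 21, 19, 1, 13, 20, 12, 14, 10, 5, 7, 22, 18, 23, 11, 8], [0, 11, 2, 4, 3, 17, 7, 18, 23, 8, 16, 22, 14, 12, 15, 6, 5, 1, 20, 10, 13, 9, 19, 21]⟩,
  ⟨[0, 1, 2, 17, 7, 4, 14, 9, 22, 3, 13, 5, 8, 6, 15, 20, 19, 11, 10, 12, 18, 16, 23, 21], [0, 1, 2, 9, 5, 11, 13, 4, 12, 7, 18, 17, 19, 10, 6, 14, 21, 3, 20, 16, 15, 23, 8, 22]⟩,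
  ⟨[0, 8, 2, 3, 16, 12, 10, 1, 7, 17, 15, 11, 19, 9, 14, 6, 18, 13, 4, 5, 23, 21, 20, 22], [0, 7, 2, 3, 18, 19, 15, 8, 1, 13, 6, 11, 5, 17, 14, 10, 4, 9, 16, 12, 22, 21, 23, 20]⟩,
  ⟨[0, 8, 2, 22, 18, 13, 21, 9, 19, 10, 20, 1, 16, 6, 14, 11, 7, 12, 15, 4, 17, 23, 5, 3], [0, 11, 2, 23, 19, 22, 13, 16, 1, 7, 9, 15, 17, 5, 14, 18, 12, 20, 4, 8, 10, 6, 3, 21]⟩,
  ⟨[0, 15, 2, 6, 18, 12, 23, 20, 16, 17, 11, 8, 19, 14, 5, 4, 7, 13, 3, 9, 21, 10, 22, 1], [0, 23, 2, 18, 15, 14, 3, 16, 11, 19, 21, 10, 5, 17, 13, 1, 8, 9, 4, 12, 7, 20, 22, 6]⟩,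
  ⟨[0, 9, 2, 17, 21, 22, 8, 6, 23, 13, 5, 1, 20, 18, 4, 16, 11, 14, 15, 19, 3, 12, 7, 10], [0, 11, 2, 20, 14, 10, 7, 22, 6, 1, 23, 16, 21, 9, 17, 18, 15, 3, 13, 19, 12, 4, 5, 8]⟩,
  ⟨[0, 8, 2, 13, 19, 6, 15, 5, 1, 10, 20, 18, 23, 22, 16, 17, 7, 21, 12, 9, 3, 14, 4, 11], [0, 8, 2, 20, 22, 7, 5, 16, 1, 19, 9, 23, 18, 3, 21, 6, 14, 15, 11, 4, 10, 17, 13, 12]⟩,
  ⟨[0, 8, 2, 21, 9, 18, 15, 23, 5, 20, 3, 12, 4, 13, 14, 10, 1, 19, 16, 22, 11, 6, 7, 17], [0, 16, 2, 10, 12, 8, 21, 22, 1, 4, 15, 20, 11, 13, 14, 6, 18, 23, 5, 17, 9, 3, 19, 7]⟩,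
  ⟨[0, 9, 2, 22, 19, 4, 3, 15, 20, 1, 13, 6, 21, 23, 14, 8, 16, 10, 5, 18, 7, 12, 11, 17], [0, 9, 2, 6, 5, 18, 11, 20, 15, 1, 17, 22, 21, 10, 14, 7, 16, 23, 19, 4, 8, 12, 3, 13]⟩,
  ⟨[0, 12, 2, 22, 6, 20, 15, 4, 5, 16, 18, 11, 21, 8, 1, 7, 9, 17, 3, 23, 13, 14, 10, 19], [0, 14, 2, 18, 7, 8, 4, 15, 13, 16, 22, 11, 1, 20, 21, 6, 9, 17, 10, 23, 5, 12, 3, 19]⟩,
  ⟨[0, 6, 2, 19, 22, 23, 12, 14, 4, 8, 5, 9, 16, 20, 21, 3, 13, 1, 15, 17, 18, 11, 10, 7], [0, 17, 2, 15, 8, 10, 1, 23, 9, 11, 22, 21, 6, 16, 7, 18, 12, 19, 20, 3, 13, 14, 4, 5]⟩,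
  ⟨[0, 21, 2, 3, 20, 16, 15, 1, 8, 10, 13, 14, 18, 5, 7, 23, 9, 22, 19, 4, 12, 11, 6, 17], [0, 7, 2, 3, 19, 13, 22, 14, 8, 16, 9, 21, 20, 10, 11, 6, 5, 23, 12, 18, 4, 1, 17, 15]⟩,
  ⟨[0, 22, 2, 4, 3, 1, 17, 15, 21, 9, 5, 14, 20, 19, 16, 12, 18, 13, 11, 6, 7, 8, 10, 23], [0, 5, 2, 4, 3, 10, 19, 20, 21, 9, 22, 18, 15, 17, 11, 7, 14, 6, 16, 13, 12, 8, 1, 23]⟩,
  ⟨[0, 22, 2, 21, 4, 14, 15, 6, 3, 9, 12, 19, 18, 1, 20, 7, 16, 11, 10, 17, 5, 8, 13, 23], [0, 13, 2, 8, 4, 20, 7, 15, 21, 9, 18, 17, 10, 22, 5, 6, 16, 19, 12, 11, 14, 3, 1, 23]⟩,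
  ⟨[0, 23, 2, 9, 18, 17, 8, 13, 1, 4, 14, 21, 6, 22, 11, 15, 10, 16, 7, 20, 12, 5, 3, 19], [0, 8, 2, 22, 9, 21, 12, 18, 6, 3, 16, 14, 20, 7, 10, 15, 17, 5, 4, 23, 19, 11, 13, 1]⟩,
  ⟨[0, 17, 2, 6, 14, 22, 13, 7, 20, 4, 12, 3, 11, 18, 15, 5, 21, 23, 10, 9, 16, 1, 19, 8], [0, 21, 2, 11, 9, 15, 3, 7, 23, 19, 18, 12, 10, 6, 4, 14, 20, 1, 13, 22, 8, 16, 5, 17]⟩,
  ⟨[0, 4, 2, 3, 5, 8, 14, 22, 13, 16, 15, 11, 20, 1, 21, 6, 19, 23, 12, 17, 7, 10, 18, 9], [0, 13, 2, 3, 1, 4, 15, 20, 5, 23, 21, 11, 18, 8, 6, 10, 9, 19, 22, 16, 12, 14, 7, 17]⟩,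
  ⟨[0, 16, 2, 18, 14, 20, 21, 3, 1, 15, 11, 23, 4, 19, 9, 10, 6, 8, 13, 17, 12, 7, 5, 22], [0, 8, 2, 7, 12, 22, 16, 21, 17, 14, 15, 10, 20, 18, 4, 9, 1, 19, 3, 13, 5, 6, 23, 11]⟩,
  ⟨[0, 7, 2, 13, 8, 11, 10, 1, 14, 22, 17, 20, 9, 18, 23, 21, 5, 15, 19, 4, 16, 12, 6, 3], [0, 7, 2, 23, 19, 16, 22, 1, 4, 12, 6, 5, 21, 3, 8, 17, 20, 10, 13, 18, 11, 15, 9, 14]⟩,
  ⟨[0, 18, 2, 8, 21, 10, 12, 19, 6, 11, 17, 23, 14, 20, 4, 5, 3, 15, 9, 7, 22, 16, 1, 13], [0, 22, 2, 16, 14, 15, 8, 19, 3, 18, 5, 9, 6, 23, 12, 17, 21, 10, 1, 7, 13, 4, 20, 11]⟩,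
  ⟨[0, 6, 2, 17, 13, 10, 15, 19, 5, 22, 4, 8, 3, 14, 1, 21, 9, 16, 7, 20, 12, 11, 23, 18], [0, 14, 2, 12, 10, 8, 1, 18, 11, 16, 5, 21, 20, 4, 13, 6, 17, 3, 23, 7, 19, 15, 9, 22]⟩,
  ⟨[0, 13, 2, 21, 22, 8, 7, 15, 20, 14, 19, 4, 9, 17, 6, 1, 18, 16, 12, 3, 10, 23, 5, 11], [0, 15, 2, 19, 11, 22, 14, 6, 5, 12, 20, 23, 18, 1, 9, 7, 17, 13, 16, 10, 8, 3, 4, 21]⟩,
  ⟨[0, 15, 2, 20, 10, 7, 11, 1, 16, 19, 9, 18, 23, 3, 12, 13, 14, 8, 5, 17, 22, 4, 6, 21], [0, 7, 2, 13, 21, 18, 22, 5, 17, 10, 4, 6, 14, 15, 16, 1, 8, 19, 11, 9, 3, 23, 20, 12]⟩,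
  ⟨[0, 18, 2, 17, 6, 13, 12, 10, 21, 9, 1, 15, 16, 7, 22, 19, 8, 11, 23, 14, 4, 20, 3, 5], [0, 10, 2, 22, 20, 23, 4, 13, 16, 9, 7, 17, 6, 5, 19, 11, 12, 3, 1, 15, 21, 8, 14, 18]⟩]

set_option maxRecDepth 1000000 in
def SLm8P : List ℕ := [3101626742761172663098304298498073412329227531559152550016, 3150858162022907150670696321114428084929974295319147348096, 3126242825074935126198791852127368634650194317366926344575]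

set_option maxRecDepth 1000000 in
def SCm8 : List (List ℤ) := [3101819054465561220039827446373716462177465879548603039624, 3150858536167326394494134525598189723542527968004498555259, 3126338981657891416924126757146201941665972477161218473860].map unpack

set_option maxRecDepth 1000000 in
def stepsm8 : List (ℕ × ℕ × ℕ) := [(1, 0, 0), (2, 1, 0)]

set_option maxRecDepth 1000000 in
def Wm8 : List (ℕ × List ℕ) := [(0, []), (0, [17, 1]), (0, [1, 6]), (0, [6, 2]), (0, [33, 5]), (0, [22, 4]), (0, [11, 5]), (0, [35, 5]), (0, [3, 0]), (0, [0, 9]), (0, [19, 6]), (0, [33, 3]), (0, [11, 17]), (0, [13, 1]), (0, [5, 0]), (0, [15]), (0, [1, 0]), (0, [27]), (0, [1]), (0, [22, 0]), (0, [20, 3]), (0, [24]), (0, [8, 0]), (0, [37]), (0, [20, 6]), (0, [24, 5]), (0, [11, 14]), (0, [23, 8]), (0, [7, 0]), (0, [20]), (0, [35]), (0, [7, 3]), (0,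 [20, 0]), (0, [20, 2]), (0, [17, 7]), (0, [24, 17]), (0, [37, 5]), (0, [27, 1]), (0, [11, 9]), (0, [2, 8]), (0, [10]), (0, [34, 0]), (0, [1, 1]), (0, [14]), (0, [7, 1]), (0, [21, 5]), (0, [32, 0]), (0, [21, 0]), (0, [23, 1]), (0, [3, 5]), (0, [18, 1]), (0, [37, 2]), (0, [28, 1]), (0, [16, 5]), (0, [21]), (0, [26, 7]), (2, [14, 0]), (2, [21, 3]), (2, [27, 3]), (2, [5, 4]), (2, [20, 28]), (2, []), (2, [19, 13]), (2, [30, 0]), (2, [34, 1]), (2, [6, 2]), (2, [32, 0]), (2, [25, 0]), (2, [3, 5]), (2, [11]), (2, [23, 3]), (2, [31, 2]), (2, [29, 5]), (2, [20]), (2, [7]), (2, [34, 0]), (2, [7, 5]), (2, [24, 13]), (2, [19, 0]), (2, [19, 1]), (2, [15, 1]), (2, [37, 16]), (2, [16]), (2, [8, 14]), (2, [3, 4]), (2, [31, 4]), (2, [24, 2]), (2, [19, 8]), (2, [25, 2]), (2, [3, 0]), (2, [10]), (2, [16, 0]), (2, [14]), (2, [22, 2]), (2, [5]),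 (2, [2, 5]), (2, [17, 21]), (2, [16, 5]), (2, [1, 0]), (2, [17, 4]), (2, [1, 10]), (2, [7, 1]), (2, [4, 3]), (2, [20, 0]), (2, [36, 2]), (2, [8, 5]), (2, [34]), (2, [26, 8]), (2, [10, 5]), (2, [32, 5]), (2, [26]), (2, [13, 5]), (2, [0, 4]), (2, [34, 4]), (2, [33, 1]), (2, [33, 5]), (2, [23, 0]), (2, [13, 4]), (2, [2, 8]), (2, [22, 1]), (2, [30]), (2, [23, 5]), (2, [7, 0]), (2, [10, 13]), (2, [33, 0]), (2, [38, 1]), (2, [0]), (2, [32]), (2, [35, 0]), (2, [3, 7]), (2, [12, 3]), (2, [5, 11]), (2, [1, 1]), (2, [8, 4]), (2, [36, 1]), (2, [25]), (2, [5, 1]), (2, [24]), (2, [9, 1]), (2, [4]), (2, [21]), (2, [8, 0]), (2, [12, 8]), (2, [36, 7]), (2, [19, 2]), (2, [10, 8]), (2, [12, 1]), (2, [2, 1]), (2, [38]), (2, [13, 0]), (2, [17, 1]), (2, [30, 3]), (2, [33, 8]), (2, [9, 9]), (2, [36, 8]), (2, [27]), (2, [27, 0]), (2, [7, 4]),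 (2, [27, 10]), (2, [17, 2]), (2, [32, 1]), (2, [33, 2]), (2, [0, 10]), (2, [18, 1]), (2, [5, 8]), (2, [18]), (2, [10, 0]), (2, [34, 5]), (2, [7, 3]), (2, [24, 9]), (2, [31]), (2, [19, 9]), (2, [9]), (2, [28]), (2, [16, 1]), (2, [3]), (0, [17]), (0, [25, 3]), (0, [23, 0]), (0, [8, 3]), (0, [8, 7]), (0, [37, 1]), (0, [12]), (0, [6, 6]), (0, [11]), (0, [24, 0]), (0, [38, 3]), (0, [8]), (0, [31, 0]), (0, [7]), (0, [6, 0]), (0, [29, 3]), (0, [29, 9]), (0, [6, 1]), (0, [33, 0]), (0, [7, 7]), (0, [7, 8]), (0, [5]), (0, [12, 0]), (0, [16, 0]), (0, [19]), (0, [32, 1]), (0, [29, 1]), (0, [13, 11]), (0, [33, 1]), (0, [4, 2]), (0, [12, 2]), (0, [31, 4]), (0, [37, 7]), (0, [9, 0]), (0, [22]), (0, [6, 12]), (0, [6]), (0, [18, 9]), (0, [2, 6]), (0, [21, 1]), (0, [7, 2]), (0, [30]), (0, [23]), (0, [27, 0]), (0, [19, 1]), (0, [38]), (0,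 [30, 2]), (0, [30, 0]), (0, [28, 0]), (0, [30, 12]), (0, [31, 3]), (0, [16, 10]), (0, [18, 2]), (0, [9, 7]), (0, [34, 10]), (0, [12, 6]), (0, [27, 6]), (0, [30, 1]), (0, [0, 4]), (0, [8, 14]), (0, [38, 0]), (0, [8, 15]), (0, [34, 6]), (0, [9, 2]), (0, [8, 2]), (0, [24, 2]), (0, [13, 2]), (0, [15, 0]), (0, [31]), (0, [10, 0]), (0, [19, 0]), (0, [17, 5]), (0, [30, 7]), (0, [20, 5]), (0, [29]), (0, [10, 4]), (0, [10, 1]), (0, [14, 2]), (0, [25, 1]), (0, [0, 1]), (0, [28, 3]), (0, [16, 9]), (0, [28, 7]), (0, [27, 5]), (0, [12, 1]), (0, [13, 0]), (0, [26, 6]), (0, [38, 1]), (0, [17, 0]), (0, [13, 7]), (0, [9]), (0, [17, 2]), (0, [37, 3]), (0, [32, 3]), (0, [3, 23]), (0, [3]), (0, [4, 1]), (0, [30, 5]), (0, [12, 4]), (0, [4]), (0, [17, 3]), (0, [5, 3]), (0, [26]), (0, [2]), (0, [31, 15]), (0, [0, 10]), (0, [26, 0]), (0, [20,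 1]), (0, [2, 11]), (0, [25]), (0, [36, 4]), (0, [6, 5]), (0, [26, 1]), (0, [22, 2]), (0, [34]), (0, [0]), (0, [15, 2]), (0, [29, 2]), (0, [33]), (0, [33, 10]), (2, [12]), (2, [5, 2]), (2, [1]), (2, [38, 8]), (2, [4, 2]), (2, [26, 23]), (2, [37, 0]), (2, [5, 14]), (2, [33]), (2, [6, 1]), (2, [8]), (2, [25, 3]), (2, [26, 1]), (2, [36, 0]), (2, [17, 10]), (2, [25, 1]), (2, [6, 0]), (2, [0, 7]), (2, [4, 0]), (2, [11, 0]), (2, [24, 3]), (2, [19]), (2, [18, 0]), (2, [21, 1]), (2, [21, 0]), (2, [4, 1]), (2, [35, 3]), (2, [38, 0]), (2, [6, 5]), (2, [13]), (2, [37, 12]), (2, [20, 4]), (2, [3, 2]), (2, [24, 0]), (2, [27, 2]), (2, [26, 0]), (2, [27, 1]), (2, [37, 1]), (2, [11, 11]), (2, [21, 5]), (2, [2]), (2, [4, 14]), (2, [23]), (2, [11, 3]), (2, [35, 2]), (2, [15, 3]), (2, [32, 2]), (2, [15, 0]), (2, [28, 13]), (2, [20, 1]), (2,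 [26, 5]), (2, [1, 8]), (2, [16, 2]), (2, [1, 4]), (2, [14, 2]), (2, [21, 7])]

set_option maxRecDepth 1000000 in
def SLp16P : List ℕ := [3101626739849587370658700490546405187008814460681184247934, 3150858910311745464093000825995398475304742506951256212094, 3126435138240847706966228047015214867486442879782528057213, 3126434387017543362306076261071120648691060966296691769213, 3150668096646557734088265881384096211177129261587641827454, 3199898767619453907560457586835310516310396512638704189054, 3150858910311745638317593499268145124648167050971185184892]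

set_option maxRecDepth 1000000 in
def SCp16 : List (List ℤ) := [3101819053009768573820025542397572864488991256062384373384, 3150858910311745551205286778038364220071904348678503104893, 3126435138240847707307844854589815563611023363314439651208, 3126434762629195534977768961617768463676584456553064529540, 3150763503479151686202919305732713088008098006372161061499, 3199802611036497703607126226374307889555418608034040218479, 3150858910311745638317583114674426841344651552311180558210].map unpack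

set_option maxRecDepth 1000000 in
def stepsp16 : List (ℕ × ℕ × ℕ) := [(1, 0, 0), (2, 0, 1), (3, 1, 0), (4, 3, 0), (5, 4, 1), (6, 5, 0)]

set_option maxRecDepth 1000000 in
def Wp16 : List (ℕ × List ℕ) := [(0, []), (0, [22, 0]), (0, [5, 15]), (0, [36, 12]), (0, [8, 0]), (0, [16, 13]), (0, [26, 14]), (0, [12, 26, 0]), (0, [5, 23]), (0, [24, 0]), (0, [32, 7, 0]), (0, [2, 20]), (0, [3, 0]), (0, [34, 2]), (0, [1, 34]), (0, [5, 7]), (0, [29, 1]), (0, [30, 18]), (0, [20, 28]), (0, [29, 24]), (0, [1, 13]), (0, [25, 18]), (0, [4, 12]), (0, [16]), (0, [14, 13]), (0, [21, 26]), (0, [6, 2]), (0, [9, 23]), (0, [11, 9]), (0, [10, 7]), (0, [38, 13]), (0, [8, 1]), (0, [19, 2]), (0, [2, 1]), (0, [5, 2]), (0, [2, 31]), (0, [4, 19]), (0, [13, 4]), (0, [38, 16]), (0, [34, 4]), (0, [7, 1]), (0, [5, 4]), (0, [28, 10]), (0, [17, 38]), (0, [22,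 31]), (0, [18, 31]), (0, [20, 15]), (0, [23, 1]), (0, [37, 20]), (0, [36, 9]), (0, [23, 28]), (0, [28]), (0, [32, 4]), (0, [34, 25]), (0, [3, 5]), (0, [26, 2]), (0, [18, 9]), (0, [38, 2]), (0, [33, 9]), (0, [11, 2]), (0, [4, 7]), (0, [26, 7]), (0, [32, 21]), (0, [15]), (0, [35]), (0, [12, 1]), (0, [7, 0]), (0, [20, 1]), (0, [18]), (0, [34, 7]), (0, [22, 10]), (0, [17, 0]), (0, [20, 14]), (0, [10]), (0, [4, 4]), (0, [27]), (0, [20, 13]), (0, [13, 1]), (0, [30, 22]), (0, [34, 5]), (0, [36]), (0, [17, 2]), (0, [32, 7]), (0, [4, 27]), (0, [21, 32]), (0, [32, 25]), (0, [15, 16]), (0, [24, 9]), (0, [31, 14]), (0, [14, 19]), (0, [24, 5]), (0, [9, 14]), (0, [36, 19]), (0, [33, 24]), (0, [33]), (0, [4, 6, 0]), (0, [21, 3]), (0, [27, 10]), (0, [8, 10]), (0, [1, 10]), (0, [27, 15]), (0, [15, 12]), (0, [14]), (0, [19, 14]), (0, [24,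 30]), (2, [27]), (2, [10, 12]), (2, [7, 12]), (2, [25, 25]), (2, [28, 37]), (2, [4, 11]), (2, [27, 2]), (2, [19, 5]), (2, [10, 30]), (2, [30, 21]), (2, [21, 8]), (2, [2, 10]), (2, [6, 21]), (2, [13, 18]), (2, [21, 7]), (2, [37, 1]), (2, [6]), (2, [36, 1]), (2, [18, 9]), (2, [33, 9]), (2, [33, 13]), (2, [24, 7]), (2, [9, 10]), (2, [20, 12]), (2, [18, 11]), (2, [19, 6]), (2, [31, 5]), (2, [33, 37]), (2, [4, 7]), (2, [34, 9]), (2, [38, 1]), (2, [20, 1]), (2, [19, 15, 0]), (2, [11, 4]), (2, [33, 10]), (2, [7, 4]), (2, [17, 6]), (2, [4, 4]), (2, [5, 2]), (2, [16, 12]), (2, [13, 3]), (2, [4, 8]), (2, [15, 32]), (2, [3, 18]), (2, [38, 22]), (2, [25, 1]), (2, [28, 2]), (2, [3, 8]), (2, [1, 23]), (2, [16, 4]), (2, [17, 1]), (2, [27, 29]), (2, [26, 26]), (2, [1, 27, 1]), (2, [25, 11]), (2, [29, 2]), (2, [9, 5]), (2, [3, 15, 1]),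 (2, [25, 11, 0]), (2, [5, 30]), (2, [27, 22]), (2, [34, 5]), (2, [0, 11]), (2, [23, 9]), (2, [33, 15]), (2, [25, 19]), (2, [19, 4]), (2, [37, 19]), (2, [22, 6]), (2, [11, 0]), (2, [18, 6]), (2, [12, 0]), (2, [5, 20, 0]), (2, [29, 14]), (2, [24, 19, 0]), (2, [12, 17]), (2, [15, 5, 0]), (2, [11, 28, 0]), (2, [4, 14]), (2, [31, 10]), (2, [18, 3]), (2, [8, 0]), (2, [34, 4]), (2, [36, 10]), (2, [31, 33]), (2, [9, 7]), (2, [19, 3]), (2, [20, 4]), (2, [18, 1]), (2, [28, 19]), (2, [38, 11]), (2, [27, 37]), (2, [32, 2]), (2, [30, 30]), (2, [4, 27, 0]), (2, [20, 0]), (2, [8, 10]), (2, [1, 8]), (2, [10, 0]), (2, [23, 23]), (2, [15, 0]), (2, [18, 38, 0]), (2, [12, 14]), (2, [12, 19]), (2, [21, 12]), (2, [31, 8]), (2, [22, 36]), (2, [6, 26]), (2, [34, 18]), (2, [14, 5]), (2, [32, 13]), (2, [5, 8, 0]), (2, [15, 3]), (2, [1, 19]), (2,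 [5, 19]), (2, [30, 22]), (2, [20, 2]), (2, [38, 3]), (2, [14, 29]), (2, [28]), (2, [2, 28]), (2, [20, 13]), (2, [4]), (2, [2, 6]), (2, [30, 13]), (2, [21, 2]), (2, [26, 25, 0]), (2, [21]), (2, [32, 19]), (2, [3, 8, 0]), (2, [7, 16]), (2, [29, 0]), (2, [29, 3]), (2, [25, 12]), (2, [24, 3]), (2, [21, 0]), (2, [36, 8]), (2, [30, 29, 0]), (2, [38, 28]), (2, [13, 0]), (2, [37, 30, 0]), (2, [25, 6]), (2, [10, 4]), (2, [32, 37]), (2, [17, 19]), (2, [37, 14]), (2, [12, 2]), (2, [31, 21]), (2, [5, 9]), (2, [33, 1]), (2, [29]), (2, [5, 13]), (2, [14, 13, 0]), (2, [30, 5]), (2, [0, 12, 0]), (2, [16, 0]), (2, [10, 28, 0]), (2, [34, 20, 0]), (2, [15, 6]), (2, [28, 16, 0]), (2, [26, 13]), (2, [4, 15]), (2, [11, 3]), (2, [30, 7]), (2, [23, 3]), (2, [22, 0]), (2, [37, 2, 1]), (2, [12]), (2, [10, 3]), (2, [5, 5]), (2, [38, 7]), (2, [13,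 26]), (2, [27, 6]), (2, [24, 18]), (2, [20, 21]), (2, [15, 17, 1]), (2, [22, 33]), (2, [11, 36]), (2, [16, 28]), (2, [25, 3]), (2, [11, 24]), (2, [37, 2]), (2, [38, 24]), (2, [6, 6]), (2, [15, 9]), (2, [14, 16]), (2, [19, 25]), (2, [12, 21]), (2, [3, 2]), (2, [16, 17, 1]), (2, [7, 2]), (2, [1, 2]), (2, [0, 7]), (2, [24, 27]), (2, [10, 21]), (2, [26, 11]), (2, [15, 13]), (2, [15, 8]), (2, [4, 1]), (2, [24, 19]), (2, [4, 22]), (2, [16, 6]), (2, [7, 36]), (2, [36, 18]), (2, [6, 5]), (2, [11, 2]), (2, [23, 0]), (2, [38, 0]), (2, [18, 8]), (2, [12, 6, 0]), (2, [1]), (2, [14, 17]), (2, [23]), (2, [26, 6]), (2, [12, 6]), (2, [10, 6]), (2, [31, 7]), (2, [8, 12]), (2, [10, 5]), (2, [33, 5]), (2, [25]), (2, [27, 1]), (2, [34, 13, 0]), (2, [11, 1]), (2, [21, 5]), (2, [19, 14]), (2, [32, 18]), (2, [19, 9]), (2, [14, 12]), (2, [6, 11]),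 (2, [35, 21]), (2, [38, 31, 0]), (2, [15, 1]), (2, [22, 5]), (2, [26, 17]), (2, [19, 7]), (2, [17, 9]), (2, [35, 5]), (2, [7, 14]), (2, [13, 7]), (2, [6, 29]), (2, [32, 14]), (2, [13, 15]), (2, [37, 12]), (2, [10, 29]), (2, [37, 8]), (2, [6, 9]), (2, [26]), (2, [30, 14]), (2, [2, 8]), (2, [9, 13]), (2, [33]), (2, [36, 3]), (2, [2, 12]), (2, [11, 38, 0]), (2, [30, 8]), (2, [22, 28]), (2, [8]), (2, [17, 10]), (2, [13]), (2, [21, 27]), (2, [37]), (2, [0, 26, 0]), (2, [38, 4]), (2, [27, 25]), (2, [6, 10]), (2, [5, 10]), (2, [17, 19, 0]), (2, [36, 0]), (2, [19, 8]), (2, [11, 11]), (2, [8, 5]), (2, [8, 25]), (2, [20, 15]), (2, [23, 26, 0]), (2, [28, 13]), (2, [7, 13]), (2, [12, 10]), (2, [14, 6]), (2, [22, 8]), (2, [7, 15]), (2, [19]), (2, [4, 0]), (2, [21, 1]), (2, [35, 0]), (2, [32, 30]), (2, [7, 18]), (2, [22, 12]), (2, [16,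 5]), (2, [29, 24]), (2, [34, 2]), (2, [9, 26]), (2, [15, 25]), (2, [11, 14]), (2, [26, 9]), (2, [3, 11]), (2, [25, 0]), (2, [21, 17]), (2, [8, 8]), (2, [35, 3]), (2, [13, 2]), (2, [4, 2]), (2, [15, 12, 0]), (2, [6, 12]), (2, [16, 3]), (2, [33, 7]), (2, [16, 32]), (2, [21, 19]), (2, [7, 8]), (2, [22, 21]), (2, [20, 18]), (2, [20, 36]), (2, [20, 29]), (2, [33, 3]), (2, [14, 7, 0]), (2, [6, 22]), (2, [7, 9]), (2, [23, 25, 0]), (2, [3, 10, 0]), (2, [38, 9, 0]), (2, [21, 24]), (2, [28, 4]), (2, [12, 33]), (2, [18, 26]), (2, [32, 10]), (2, [25, 27]), (2, [14, 12, 0]), (2, [22]), (2, [19, 11]), (2, [28, 8]), (2, [2]), (2, [9, 8]), (2, [37, 0]), (2, [14, 27]), (2, [11, 7]), (2, []), (0, [23, 20]), (0, [27, 1]), (0, [25, 21]), (0, [27, 30]), (0, [22, 29]), (0, [15, 0]), (0, [0, 14]), (0, [34, 12]), (0, [9, 21]), (0, [16, 15]), (0,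 [10, 2]), (0, [19]), (0, [12, 32]), (0, [14, 5]), (0, [37]), (0, [36, 4, 0]), (0, [35, 0]), (0, [37, 0]), (0, [22, 5]), (0, [18, 20]), (0, [30, 28]), (0, [36, 3]), (0, [14, 2]), (0, [31, 20]), (0, [1, 20]), (0, [14, 26]), (0, [34, 28]), (0, [20, 32]), (0, [14, 22]), (0, [38]), (0, [35, 5]), (0, [28, 24]), (0, [14, 21]), (0, [10, 9]), (0, [7, 7]), (0, [34, 0]), (0, [19, 7]), (0, [17, 15]), (0, [16, 3]), (0, [35, 1]), (0, [3, 26]), (0, [12, 3]), (0, [4, 14]), (0, [8, 29]), (0, [4, 2]), (0, [23, 0]), (0, [33, 1]), (0, [37, 2]), (0, [6, 5]), (0, [20, 18]), (0, [8, 4]), (0, [18, 0]), (0, [6, 12]), (0, [16, 9]), (0, [38, 23]), (0, [0, 30]), (0, [28, 19]), (0, [5, 3]), (0, [0, 7]), (0, [8, 5]), (0, [32, 10]), (0, [24, 21]), (0, [14, 4]), (0, [6, 3]), (0, [16, 1]), (0, [22, 4]), (0, [7]), (0, [26, 5]), (0, [38, 18]), (0, [26, 22]),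 (0, [22, 9]), (0, [10, 35]), (0, [28, 4]), (0, [13]), (0, [7, 19]), (0, [17, 14]), (0, [31, 27]), (0, [11, 19]), (0, [31, 0]), (0, [9, 0]), (0, [33, 2]), (0, [23, 3]), (0, [30, 13]), (0, [24, 10, 0]), (0, [10, 27, 0]), (0, [11, 1]), (0, [19, 0]), (0, [6, 22]), (0, [23, 15]), (0, [7, 9]), (0, [8, 3]), (0, [13, 22]), (0, [37, 18]), (0, [4, 3]), (0, [18, 36]), (0, [12]), (0, [5, 9]), (0, [22, 17, 0]), (0, [9]), (0, [38, 14]), (0, [18, 14]), (0, [1, 1]), (0, [24, 15]), (0, [2, 5]), (0, [14, 1]), (0, [25]), (0, [35, 16]), (0, [31]), (0, [25, 9]), (0, [18, 2]), (0, [31, 24]), (0, [20, 21]), (0, [10, 14, 0]), (0, [30, 12]), (0, [25, 23]), (0, [37, 14]), (0, [7, 2]), (0, [38, 3]), (0, [27, 9]), (0, [18, 26]), (0, [7, 16]), (0, [14, 0]), (0, [29, 7]), (0, [23, 26]), (0, [25, 10]), (0, [27, 11, 0]), (0, [26, 4]), (0, [11, 3]), (0,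 [26, 24]), (0, [34, 3]), (0, [37, 10]), (0, [23, 7]), (0, [17, 25]), (0, [15, 13]), (0, [0, 26]), (0, [20, 12]), (0, [7, 35]), (0, [12, 13]), (0, [28, 0]), (0, [29, 2]), (0, [10, 1]), (0, [19, 4, 0]), (0, [34, 1]), (0, [9, 29, 1]), (0, [7, 3]), (0, [6, 1]), (0, [0]), (0, [17, 7]), (0, [6, 0]), (0, [23, 9]), (0, [16, 2]), (0, [10, 0]), (0, [19, 1]), (0, [12, 12]), (0, [11, 5]), (0, [36, 28]), (0, [4, 18]), (0, [11, 0]), (0, [28, 9]), (0, [36, 1]), (0, [21, 10]), (0, [36, 14]), (0, [18, 7]), (0, [20, 7]), (0, [25, 1]), (0, [12, 0]), (0, [15, 13, 1]), (0, [5, 1]), (0, [26, 12]), (0, [10, 4, 0]), (0, [29, 0]), (0, [33, 29]), (0, [13, 15]), (0, [18, 4]), (0, [29, 9]), (0, [27, 23]), (0, [30, 15]), (0, [27, 7]), (0, [2]), (0, [10, 10]), (0, [14, 3]), (0, [18, 3]), (0, [17, 3]), (0, [20, 24]), (0, [20, 4]), (0, [24, 10]), (0,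 [31, 34]), (0, [28, 7]), (0, [6, 4]), (0, [22, 14]), (0, [24, 14]), (0, [9, 7]), (0, [20, 0]), (0, [10, 3]), (0, [31, 1, 0]), (0, [3, 21]), (0, [3, 16]), (0, [30]), (0, [1, 0]), (0, [19, 15]), (0, [29, 10]), (0, [12, 5]), (0, [24]), (0, [34, 32]), (0, [36, 10, 0]), (0, [31, 16]), (0, [15, 10]), (0, [19, 29]), (0, [18, 1]), (0, [4]), (0, [19, 35]), (0, [28, 2]), (0, [15, 20]), (0, [5, 12]), (0, [36, 7]), (0, [9, 25]), (0, [35, 18]), (0, [11, 4]), (0, [30, 24]), (0, [32, 0]), (0, [37, 4]), (0, [16, 0]), (0, [1, 2]), (0, [32, 26, 0]), (0, [3, 14]), (0, [28, 3]), (0, [14, 30]), (0, [8, 18]), (0, [33, 20, 0]), (0, [0, 20]), (0, [31, 19]), (0, [19, 21]), (0, [9, 12]), (0, [27, 12]), (0, [10, 5]), (0, [34, 30]), (0, [3, 37]), (0, [13, 13]), (0, [5, 0]), (0, [25, 2]), (0, [33, 12]), (0, [9, 2]), (0, [1, 4]), (0, [7, 4]), (0, [23]),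 (0, [13, 3]), (0, [4, 5]), (0, [22]), (0, [19, 5]), (0, [25, 5]), (0, [32, 9]), (0, [15, 35]), (0, [17, 1]), (0, [26]), (0, [7, 24]), (0, [25, 35]), (0, [25, 15]), (0, [36, 23]), (0, [36, 22]), (0, [16, 25]), (0, [15, 3]), (0, [30, 2]), (0, [34, 16]), (0, [25, 7]), (0, [30, 0]), (0, [19, 4]), (0, [7, 12]), (0, [5, 14]), (0, [3, 9]), (0, [4, 13]), (0, [16, 24]), (0, [23, 31]), (0, [32, 13]), (0, [13, 20]), (0, [10, 4]), (0, [20]), (0, [36, 2]), (0, [7, 18]), (0, [26, 0]), (0, [4, 0]), (6, [24]), (6, [14, 0]), (6, [12]), (6, [3]), (6, [14]), (6, [26]), (6, [1]), (6, [32]), (6, [4]), (6, [2]), (0, [29, 13]), (6, [7]), (6, [31, 1]), (6, []), (0, [33, 3]), (0, [16, 4]), (6, [16]), (0, [27, 0]), (0, [21, 0]), (6, [21]), (0, [3]), (0, [31, 2]), (0, [1]), (6, [5]), (0, [14, 10]), (0, [37, 24]), (0, [21]), (0, [12, 10]), (0, [23,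 2]), (6, [5, 0]), (0, [7, 22]), (0, [22, 3]), (0, [0, 17, 0]), (0, [3, 7]), (0, [20, 2]), (0, [0, 4]), (0, [28, 31]), (6, [0]), (0, [36, 10]), (0, [24, 16]), (0, [7, 10]), (0, [23, 10]), (0, [5, 18]), (0, [3, 18]), (0, [20, 22]), (0, [35, 12]), (6, [28]), (0, [9, 23, 0]), (0, [38, 19]), (0, [9, 4]), (0, [13, 23]), (0, [25, 0]), (0, [29]), (0, [12, 14]), (0, [31, 4]), (0, [21, 9]), (0, [33, 38]), (0, [11, 10]), (0, [1, 19]), (6, [9]), (0, [16, 10]), (0, [28, 20]), (0, [12, 15, 0]), (0, [26, 1]), (0, [8, 12]), (0, [26, 3]), (0, [27, 20]), (0, [7, 14]), (0, [8, 2]), (0, [26, 9]), (0, [17, 5]), (0, [15, 2]), (0, [38, 0]), (0, [22, 2]), (0, [10, 21]), (0, [22, 12]), (6, [38]), (2, [16, 23]), (2, [10, 24]), (2, [7, 0]), (2, [37, 10, 0]), (2, [30, 0]), (2, [33, 36]), (2, [3]), (2, [24, 2]), (2, [26, 14]), (2, [27, 0]), (2, [5,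 0]), (2, [4, 6]), (2, [35, 10]), (2, [32, 4, 0]), (2, [4, 11, 0]), (2, [23, 1]), (2, [12, 5]), (2, [35, 36]), (2, [38, 13]), (2, [30, 4]), (2, [32]), (2, [16]), (2, [31, 25]), (2, [35, 24]), (2, [18, 7]), (2, [21, 29]), (2, [32, 6]), (2, [5, 17]), (2, [30]), (2, [4, 5]), (2, [30, 2]), (2, [22, 11]), (2, [0, 6, 0]), (2, [30, 4, 0]), (2, [2, 1]), (2, [0, 6]), (2, [28, 3]), (2, [27, 17]), (2, [20, 5]), (2, [8, 16, 0]), (2, [34, 7]), (2, [24, 5]), (2, [18, 29, 0]), (2, [35, 15]), (2, [16, 13]), (2, [20, 8, 0]), (2, [27, 24]), (2, [29, 18]), (2, [6, 32]), (2, [30, 3]), (2, [17, 15, 1]), (2, [27, 6, 0]), (2, [25, 10]), (2, [22, 7]), (2, [13, 5, 0]), (2, [37, 4]), (2, [0]), (2, [33, 26]), (2, [18, 22, 0]), (2, [7, 28]), (2, [29, 13]), (2, [20, 11]), (2, [5, 1]), (2, [20, 6]), (2, [17, 13]), (2, [23, 11, 0]), (2, [16, 2]), (2,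 [38, 15]), (2, [23, 5]), (2, [19, 27]), (2, [16, 1]), (2, [14, 2]), (2, [30, 6, 1]), (2, [33, 8]), (2, [0, 8]), (2, [9, 1]), (2, [35, 13]), (2, [32, 28]), (2, [29, 9]), (2, [9, 25]), (2, [30, 19]), (2, [29, 30]), (2, [34, 1]), (2, [7, 3]), (2, [21, 26]), (2, [28, 12, 1]), (2, [36, 5]), (2, [2, 11]), (2, [8, 7]), (2, [19, 12]), (2, [34, 38, 0]), (2, [0, 10]), (2, [31, 0]), (2, [33, 2]), (2, [24, 22]), (2, [15, 7]), (2, [32, 22]), (2, [16, 15]), (2, [36, 4]), (2, [32, 12, 0]), (2, [11, 10, 0]), (2, [12, 9]), (2, [33, 4]), (2, [3, 19]), (2, [36, 12]), (2, [19, 0]), (2, [6, 0]), (2, [17, 13, 0]), (2, [32, 12]), (2, [9, 6, 0]), (2, [12, 1]), (2, [29, 7]), (2, [1, 5]), (2, [28, 17]), (2, [4, 21]), (2, [31, 12]), (2, [7, 21]), (2, [34, 3]), (2, [32, 1]), (2, [16, 36]), (2, [9, 2]), (2, [2, 7]), (2, [31, 24]), (2, [5]), (2, [28,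 16]), (2, [30, 1]), (2, [25, 8]), (2, [2, 3]), (2, [16, 18]), (2, [1, 10]), (2, [10, 1]), (2, [27, 3]), (2, [6, 2]), (2, [10, 2]), (2, [29, 25]), (2, [29, 8]), (2, [8, 3]), (2, [7, 5]), (2, [17]), (2, [23, 11]), (2, [21, 16]), (2, [38, 5]), (2, [30, 6]), (2, [22, 29]), (2, [28, 36]), (2, [4, 18]), (2, [11, 5]), (2, [5, 8]), (2, [5, 15]), (2, [2, 11, 0]), (2, [28, 0]), (2, [35, 2]), (2, [35, 1]), (2, [1, 6]), (2, [2, 12, 0]), (2, [7, 6]), (2, [12, 8]), (2, [13, 1]), (2, [10, 7]), (2, [21, 3]), (2, [5, 3]), (2, [24, 13]), (2, [32, 3]), (2, [8, 1]), (2, [36, 2]), (2, [0, 18]), (2, [24, 12]), (2, [28, 5]), (2, [24]), (2, [35, 19]), (2, [8, 4]), (2, [28, 18]), (2, [18, 15]), (2, [15, 2]), (2, [10]), (2, [20, 5, 0]), (2, [34, 12]), (2, [18, 17]), (2, [11, 13]), (2, [18]), (2, [11, 23]), (2, [14, 11]), (2, [32, 11]), (2, [13,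 5]), (2, [22, 1]), (2, [22, 2]), (2, [28, 7]), (2, [19, 10]), (2, [1, 30]), (2, [10, 37]), (2, [10, 8]), (2, [20, 8]), (2, [20, 14]), (2, [4, 19]), (2, [2, 15]), (2, [9, 19]), (2, [7, 22]), (2, [31, 9]), (2, [31, 1]), (2, [9]), (2, [24, 8]), (2, [33, 8, 1]), (2, [26, 2]), (2, [19, 1]), (2, [14, 1]), (2, [31, 3]), (2, [18, 4, 0]), (2, [10, 23]), (2, [15, 4]), (2, [26, 0]), (2, [11]), (2, [13, 17]), (2, [32, 16]), (2, [30, 28]), (2, [20, 10]), (2, [32, 15]), (2, [7, 7]), (2, [37, 26]), (2, [26, 3]), (2, [38, 4, 0]), (2, [29, 5]), (2, [31, 16]), (2, [34, 11]), (2, [8, 2]), (2, [21, 21]), (2, [10, 9]), (2, [38, 16, 0]), (2, [3, 7]), (2, [17, 11]), (2, [32, 17]), (2, [8, 13]), (2, [33, 6]), (2, [5, 16]), (2, [4, 26]), (2, [34, 0]), (2, [26, 1]), (2, [36]), (2, [7]), (2, [2, 25, 0]), (2, [10, 18]), (2, [9, 0]), (2, [12, 18]),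 (2, [21, 32]), (2, [21, 4]), (2, [15]), (2, [27, 9]), (2, [32, 0]), (2, [17, 17]), (2, [37, 11]), (2, [31, 2]), (2, [38, 8]), (2, [14, 7]), (2, [16, 9]), (2, [22, 4]), (2, [14]), (2, [38, 32]), (2, [12, 4, 0]), (2, [5, 6, 0]), (2, [36, 21]), (2, [29, 5, 0]), (2, [27, 5]), (2, [23, 21]), (2, [19, 33]), (2, [34, 12, 0]), (2, [11, 19]), (2, [7, 25]), (2, [33, 0]), (2, [31, 4]), (2, [7, 19]), (2, [16, 14]), (2, [19, 2]), (2, [19, 13]), (2, [21, 6]), (2, [9, 12]), (2, [15, 21]), (2, [18, 19]), (2, [16, 7]), (2, [6, 1]), (2, [7, 25, 0]), (2, [26, 18]), (0, [30, 3]), (0, [12, 15]), (0, [12, 20]), (0, [34]), (0, [32]), (0, [10, 14]), (0, [9, 9]), (0, [31, 9]), (0, [36, 29]), (0, [31, 3]), (0, [30, 1]), (0, [38, 37]), (0, [9, 1]), (0, [5]), (0, [0, 21]), (0, [27, 5]), (0, [37, 22]), (0, [33, 27]), (0, [11, 21]), (0, [24, 2]), (0,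 [20, 10]), (6, [33])]

set_option maxRecDepth 1000000 in
def SLp0P : List ℕ := [3077202967767226682050749588417220831937218909229914489215, 3150667348369092626492640130785434713819324307912827895936, 3150858910311700862599945349480821104491296722524802285694]

set_option maxRecDepth 1000000 in
def SCp0 : List (List ℤ) := [3077395280933139264181994557375141604976983896654207614351, 3150763129340419132405106430433693038005722057444063085176, 3150858910311723250458759039781075534665181737935941173373].map unpack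

set_option maxRecDepth 1000000 in
def stepsp0 : List (ℕ × ℕ × ℕ) := [(1, 0, 0), (2, 1, 0)]

set_option maxRecDepth 1000000 in
def Wp0 : List (ℕ × List ℕ) := [(0, []), (0, [38, 2]), (0, [36, 37]), (0, [13, 8]), (0, [4, 26, 1]), (0, [38, 37, 4]), (0, [5, 5]), (0, [3, 31]), (0, [18, 37]), (0, [15, 14, 1]), (0, [27, 28]), (0, [5, 4]), (0, [22, 30, 0]), (0, [29, 17, 0]), (0, [32, 4]), (0, [22, 0]), (0, [9, 22]), (0, [35, 32]), (0, [20, 30]), (0, [27, 22, 0]), (0, [22, 10]), (0, [30, 23]), (0, [32, 36]), (0, [4, 38, 0]), (0, [19, 32, 3]), (0, [8, 35, 2]), (0, [7, 13]), (0, [23, 8]), (0, [37, 21, 2]), (0, [18, 16]), (0, [30, 14]), (0, [7, 27, 1]), (0, [34, 21]), (0, [30, 22]), (0, [6, 25, 2]), (0, [0, 17, 3]), (0, [25, 38]), (0, [35, 17]), (0, [28, 28]), (0, [22, 35, 2]), (0, [14, 31, 0]), (0, [14, 3, 0]), (0, [26, 23, 0]), (0,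 [34, 24, 4]), (0, [33, 9]), (0, [29, 19]), (0, [23, 6, 2]), (0, [26, 11]), (0, [19, 15, 0]), (0, [2, 10]), (0, [33, 11, 3]), (0, [21, 21, 2]), (0, [21, 31, 2]), (0, [24, 24]), (0, [5, 21]), (0, [36, 2, 1]), (0, [4, 7]), (0, [15, 5, 2]), (0, [8, 0]), (0, [15, 16]), (0, [38, 17, 3]), (0, [1, 31, 1]), (0, [25, 21, 0]), (0, [20, 15]), (0, [26, 36, 0]), (0, [31, 26]), (0, [4, 30, 2]), (0, [10, 31, 0]), (0, [9, 14]), (0, [38, 35]), (0, [29, 9, 1]), (0, [16, 32]), (0, [3, 13]), (0, [31, 17, 1]), (0, [28, 22, 0]), (0, [3, 38, 1]), (0, [31, 14]), (0, [23, 34]), (0, [8, 10]), (0, [34, 36]), (0, [14, 29, 8]), (0, [36, 14, 1]), (0, [28, 8, 0]), (0, [8, 25]), (0, [2, 21, 3]), (0, [34, 5]), (0, [7, 16, 0]), (0, [12, 17, 0]), (0, [17, 6, 0]), (0, [6, 11]), (0, [18, 5, 2]), (0, [29, 37, 0]), (0, [33, 30, 6]), (0, [15, 30, 3]), (0, [7,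 26, 3]), (0, [12, 33, 0]), (0, [20, 25, 1]), (0, [6, 27, 0]), (0, [9, 23]), (0, [3, 35, 3]), (0, [4, 12]), (0, [24, 33, 2]), (0, [7, 31]), (0, [36, 16]), (0, [27]), (0, [12, 19]), (0, [18, 7, 2]), (0, [8, 29, 2]), (0, [34, 4]), (0, [19, 0, 1]), (0, [10, 14, 4]), (0, [27, 34, 4]), (0, [0, 35]), (0, [32, 5]), (0, [33, 6, 1]), (0, [28]), (0, [0, 7, 0]), (0, [6, 4, 2]), (0, [9, 26]), (0, [32, 21]), (1, [11]), (1, [23, 37]), (1, [7]), (1, [17, 11]), (2, [23, 11, 2]), (1, [10]), (1, [38]), (1, [30, 4]), (1, [28, 0]), (1, [15, 9]), (1, [35]), (1, [20, 5]), (1, [36, 3]), (2, [35, 11, 0]), (2, [30, 9, 1]), (1, [15, 11]), (1, [9, 0]), (1, [32, 3]), (1, [30, 5]), (1, [36, 5]), (1, [18, 2]), (1, [16]), (1, [6, 20]), (1, [26, 4]), (1, [2, 13]), (2, [26, 4]), (1, [0]), (1, [24, 0]), (1, [6, 9]), (1, [31, 24]), (1, [26]), (2, [26]), (2,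 [31, 24]), (1, [5, 18]), (1, [27, 0]), (1, [18, 12]), (1, [26, 2]), (1, [27, 9]), (1, [28, 9]), (2, [32, 38]), (1, [20, 24]), (1, [0, 4]), (2, [0, 4]), (2, [0]), (1, [22, 1]), (1, [12, 31]), (2, [18, 18, 0]), (2, [28, 9]), (2, [10, 10]), (1, [33, 5]), (1, [19, 0]), (2, [18, 2]), (2, [20, 32, 0]), (2, [10, 2, 3]), (1, [19, 10]), (2, [9, 19]), (2, [1, 9]), (2, [5, 18]), (2, [12, 36]), (2, [19, 0]), (2, [2, 13]), (2, [36, 14]), (2, [28, 10, 0]), (2, [8, 22, 0]), (2, [9, 2]), (2, [33, 6]), (2, [31, 2]), (2, [36, 6, 0]), (2, [6, 29]), (2, [25, 14]), (1, [2, 15]), (1, [28, 3]), (1, [21, 2]), (1, [9, 5]), (1, [26, 9]), (1, [38, 1]), (1, [28, 6]), (1, [33, 3]), (1, [25, 9, 0]), (1, [31, 19]), (1, [16, 0]), (1, [30, 0]), (1, [9]), (1, [28, 16]), (1, [22, 2]), (2, [28, 3]), (2, [22, 2]), (2, [22, 24]), (1, [6, 16]), (1, [0, 1]),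 (1, [31]), (2, [21, 31, 1]), (1, [8, 6]), (1, [14]), (2, [5, 1]), (2, [33, 20]), (1, [11, 1]), (1, [20, 13]), (1, [32, 1]), (2, [32, 1]), (2, [21, 4]), (2, [8, 20, 0]), (1, [11, 13]), (1, [34, 3]), (1, [3]), (1, [12, 0]), (1, [10, 16]), (2, [36, 18, 0]), (2, [29, 12]), (2, [18, 7]), (2, [30, 11, 1]), (2, [26, 25]), (2, [4, 13]), (2, [16, 26]), (2, [25, 8, 1]), (2, [12, 19, 0]), (2, [36, 2]), (2, [3, 6]), (2, [18, 10]), (2, [7]), (2, [32, 37, 0]), (2, [23, 27]), (1, [30]), (1, [9, 21]), (1, [1, 27]), (1, [26, 20]), (1, [29, 0]), (1, [22, 17]), (1, [20, 1]), (2, [11]), (2, [28, 16, 0]), (2, [38, 5, 1]), (1, [35, 0]), (1, [7, 6]), (2, [8, 13]), (1, [11, 12]), (1, [1, 4]), (1, [37, 2]), (2, [13, 4, 0]), (2, [35, 26]), (1, [14, 0]), (1, [14, 7]), (1, [14, 10]), (1, [25, 4]), (2, [18, 21]), (1, [10, 7]), (2, [7, 5, 0]), (2, [10,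 35]), (1, [36, 1]), (2, [31, 21]), (2, [7, 6, 0]), (2, [8, 14]), (1, [23]), (1, [38, 14]), (2, [1, 31]), (2, [19, 7]), (2, [28, 6]), (2, [31, 4]), (2, [38, 10]), (2, [34, 8, 0]), (2, [14, 0]), (2, [25, 37]), (2, [37, 18, 0]), (2, [36, 5]), (2, [34, 28, 0]), (2, [14, 10]), (1, [31, 0]), (1, [35, 7]), (1, [18, 5]), (1, [35, 35]), (1, [34, 2]), (2, [7, 27]), (1, [22, 7]), (1, [5, 3]), (2, [34, 28]), (2, [4, 21]), (1, [2, 1]), (1, [38, 4]), (1, [5, 8]), (2, [11, 35, 0]), (2, [11, 5, 1]), (2, [32, 27]), (1, [15, 2]), (1, [25, 8]), (2, [9, 0]), (2, [35, 7, 0]), (2, [25, 8]), (2, [38, 4]), (2, [27, 6]), (2, [38]), (1, [37, 1]), (1, [8, 2]), (1, [23, 11]), (1, [20]), (1, [21, 15]), (1, [21, 1]), (1, [15, 7]), (2, [19, 17]), (2, [31, 0]), (2, [22, 15]), (2, [32, 16]), (2, [1, 20]), (2, [22, 36, 0]), (1, [13]), (2, [34, 12]), (2,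 [5, 38]), (2, [8, 2]), (2, [18, 14]), (2, [9, 21]), (2, [2, 7]), (1, [12, 9]), (1, [19, 8]), (1, [26, 16]), (1, [13, 6]), (1, [13, 4]), (2, [34, 18]), (2, [26, 3]), (2, [23, 6]), (2, [31, 4, 2]), (2, [29, 5]), (2, [14, 26]), (1, [1, 0]), (1, [15, 3]), (2, [16, 10]), (2, [23, 20]), (2, [11, 3, 0]), (1, [9, 4]), (2, [6, 33]), (2, [5, 16]), (2, [21, 36]), (1, [7, 9]), (1, [6, 30]), (2, [28, 0]), (2, [27, 14, 0]), (2, [26, 33, 0]), (2, [36, 7]), (2, [3]), (2, [6, 32]), (1, [6]), (1, [10, 0]), (2, [15, 35]), (2, [5, 3]), (2, [32, 18]), (2, [2, 15]), (2, [25, 5]), (2, [18, 33]), (2, [27, 26]), (2, [14, 4, 1]), (2, [30]), (2, [15, 2]), (2, [4, 26]), (2, [9, 9, 1]), (2, [1, 35]), (2, [32, 12, 0]), (2, [13, 20]), (2, [24, 33]), (2, [6, 11, 0]), (2, [12, 10, 0]), (2, [5, 15, 0]), (2, [31, 17]), (2, [4, 16]), (2, [31, 19]), (2, [6]),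 (2, [32, 3, 0]), (2, [27, 38]), (2, [27, 5, 1]), (2, [33, 15]), (2, [15, 16, 0]), (2, [23, 11, 0]), (2, [6, 4]), (2, [6, 21, 0]), (2, [11, 1]), (2, [8, 7, 0]), (2, [38, 1]), (2, [34, 31, 1]), (2, [34, 27, 1]), (2, [27, 3]), (2, [21, 9, 0]), (2, [30, 0]), (2, [11, 4]), (2, [32, 4, 0]), (2, [23, 11]), (2, [6, 3]), (2, [35, 9, 2]), (2, [31]), (2, [4, 30, 1]), (2, [15, 14]), (2, [18, 13, 0]), (2, [8, 15]), (2, [29, 25]), (2, [22, 29]), (2, [22, 12, 0]), (2, [24, 22, 0]), (2, [34, 3]), (2, [27, 11]), (2, [19, 31]), (2, [12, 12]), (2, [35, 0]), (2, [12, 5]), (2, [17, 22]), (2, [28, 26]), (2, [27, 0]), (2, [7, 6]), (2, [37, 21]), (2, [19, 1]), (2, [33, 9, 0]), (2, [2, 29]), (2, [13, 34, 0]), (2, [3, 31, 0]), (2, [10, 0]), (2, [21, 21]), (2, [4, 30]), (2, [16, 0]), (2, [29, 9]), (2, [6, 25]), (2, [23, 17]), (2, [27, 7]), (2, [22,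 7]), (2, [23, 28, 0]), (2, [9, 4]), (2, [8, 7]), (2, [9]), (2, [34, 1]), (2, [30, 24, 0]), (2, [36, 10]), (2, [26, 20]), (2, [33, 12, 1]), (2, [15, 7]), (2, [13, 11, 0]), (2, [34, 27]), (0, [22, 24]), (0, [19, 33, 1]), (0, [10, 21, 4]), (0, [3, 0]), (0, [1, 6]), (0, [24, 18]), (0, [38, 9]), (0, [13, 16]), (0, [15, 1, 1]), (0, [18, 34, 3]), (0, [0, 13, 0]), (0, [7, 33, 1]), (0, [33, 27, 1]), (0, [26, 14]), (0, [17, 22, 0]), (0, [24, 33]), (0, [1, 4, 0]), (0, [25, 6]), (0, [33, 24, 3]), (0, [37, 11, 1]), (0, [17]), (0, [35, 27, 1]), (0, [28, 12, 1]), (0, [19, 17]), (0, [11, 33, 1]), (0, [33, 25, 5]), (0, [37, 10, 0]), (0, [21, 8]), (0, [30, 8, 2]), (0, [29, 8]), (0, [26, 6, 4]), (0, [6, 9, 2]), (0, [7, 3, 0]), (0, [20, 21, 0]), (0, [29, 5, 6]), (0, [4, 32, 3]), (0, [13, 37]), (0, [9, 33]), (0, [3, 10]), (0, [27, 17, 0]),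 (0, [34, 6, 0]), (0, [28, 17, 0]), (0, [20, 38]), (0, [14, 21]), (0, [4, 0, 1]), (0, [6, 3]), (0, [16, 15]), (0, [7, 17]), (0, [4, 5, 0]), (0, [22, 29]), (0, [9, 18]), (0, [26, 8, 7]), (0, [3, 19, 3]), (0, [31, 0]), (0, [7, 32]), (0, [8, 29]), (0, [35, 13]), (0, [32, 28]), (0, [21, 32, 2]), (0, [35, 1]), (0, [19, 32]), (0, [27, 5, 1]), (0, [33, 13]), (0, [18, 30, 4]), (0, [11, 17]), (0, [10, 35]), (0, [28, 18, 5]), (0, [21, 20, 1]), (0, [15, 34, 0]), (0, [25, 13, 2]), (0, [14, 36]), (0, [23, 11, 0]), (0, [17, 28]), (0, [37, 6, 0]), (0, [32, 8, 0]), (0, [14, 27, 2]), (0, [4, 20, 0]), (0, [35, 18, 0]), (0, [18, 8, 1]), (0, [31, 25]), (0, [31, 25, 0]), (0, [35, 23, 0]), (0, [14, 13]), (0, [14, 1]), (0, [18, 15, 0]), (0, [13, 28, 0]), (0, [3, 34]), (0, [37, 28]), (0, [16]), (0, [1, 30]), (0, [7, 21, 5]), (0, [17, 16]), (0,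 [5, 2]), (0, [22, 12, 2]), (0, [5, 35]), (0, [18, 20, 0]), (0, [24, 21, 2]), (0, [33, 18, 2]), (0, [13, 20, 0]), (0, [29, 34, 1]), (0, [10, 36, 0]), (0, [7, 7, 0]), (0, [29, 5]), (0, [22, 16, 1]), (0, [17, 14, 1]), (0, [7, 36, 3]), (0, [21, 23]), (0, [10, 27, 0]), (0, [38, 15]), (0, [11, 15]), (0, [15, 1]), (0, [0, 5, 0]), (0, [22, 18]), (0, [37, 22, 0]), (0, [28, 1, 0]), (0, [8, 15]), (0, [16, 8, 0]), (0, [4, 17, 2]), (0, [33, 13, 0]), (0, [2, 13]), (0, [28, 30, 4]), (0, [5, 21, 4]), (0, [8, 12, 0]), (0, [25, 9]), (0, [32, 5, 0]), (0, [15, 24, 3]), (0, [10, 25, 2]), (0, [36, 8, 1]), (0, [32, 0, 1]), (0, [15, 16, 0]), (0, [0, 28, 0]), (0, [33, 20, 2]), (0, [22, 16, 0]), (0, [15, 8]), (0, [21, 12]), (0, [9, 19]), (0, [19, 0]), (0, [8, 30, 1]), (0, [37, 13, 1]), (0, [9, 12, 1]), (0, [7, 15]), (0, [9, 26, 0]), (0, [3, 33,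 0]), (0, [15, 29, 0]), (0, [10, 25]), (0, [6, 29, 2]), (0, [14, 28, 0]), (0, [13, 4]), (0, [3, 19]), (0, [13, 34, 1]), (0, [38, 2, 1]), (0, [29, 34, 0]), (0, [11, 1]), (0, [2, 11, 1]), (0, [17, 17]), (0, [31, 5, 3]), (0, [37, 18]), (0, [6, 10]), (0, [1, 22, 4]), (0, [11, 18, 0]), (0, [28, 9]), (0, [16, 4, 2]), (0, [14, 4, 3]), (0, [21, 9, 0]), (0, [28, 36]), (0, [22, 14]), (0, [9, 6, 3]), (0, [14, 24, 0]), (0, [35, 10]), (0, [11, 4, 2]), (0, [38, 4, 2]), (0, [24, 27]), (0, [29, 22, 0]), (0, [14, 4, 0]), (0, [34, 0]), (0, [15, 14, 0]), (0, [23, 6]), (0, [8, 6, 0]), (0, [1, 1]), (0, [27, 20, 1]), (0, [15, 15, 3]), (0, [23, 4, 0]), (0, [37, 38, 1]), (0, [12, 36]), (0, [36, 28, 2]), (0, [38, 28, 8]), (0, [36, 7, 4]), (0, [5, 34, 0]), (0, [2, 28]), (0, [38, 37, 0]), (0, [18, 29, 1]), (0, [32, 19, 2]), (0, [2, 8, 0]), (0, [14,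 25, 1]), (0, [35, 22, 0]), (0, [29, 17, 2]), (0, [36, 3]), (0, [23, 8, 0]), (0, [33, 12]), (0, [25, 16, 3]), (0, [35, 1, 0]), (0, [36, 32, 2]), (0, [27, 5, 0]), (0, [9, 21]), (0, [29, 34, 7]), (0, [27, 8, 4]), (0, [30, 22, 1]), (0, [37, 15]), (0, [18, 2]), (0, [38, 34, 0]), (0, [13, 35, 9]), (0, [30, 16, 2]), (0, [31, 21]), (0, [17, 29, 0]), (0, [29, 28, 0]), (0, [30, 11, 0]), (0, [21, 25, 1]), (0, [19, 26]), (0, [7, 8, 0]), (0, [6, 34]), (0, [20, 35, 2]), (0, [5, 18, 2]), (0, [17, 35]), (0, [17, 8, 1]), (0, [0, 18]), (0, [15, 20, 0]), (0, [5, 2, 3]), (0, [34, 28]), (0, [14, 38]), (0, [27, 1]), (0, [4, 37, 1]), (0, [14, 36, 3]), (0, [1, 38, 0]), (0, [37, 0]), (0, [24, 36]), (0, [4, 26, 0]), (0, [14, 26]), (0, [2, 15, 1]), (0, [17, 1, 1]), (0, [31, 12, 1]), (0, [18, 6, 1]), (0, [20, 37]), (0, [3, 4, 0]), (0, [10, 21, 1]),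 (0, [17, 18, 2]), (0, [22, 9, 0]), (0, [22, 4, 8]), (0, [22, 25, 3]), (0, [3, 22]), (0, [1, 5, 0]), (0, [32, 1, 5]), (0, [0, 17]), (0, [16, 5, 2]), (0, [34, 7, 2]), (0, [5, 33, 4]), (0, [8, 38]), (0, [28, 0, 1]), (0, [36, 18, 0]), (0, [27, 23]), (0, [12, 8]), (0, [10, 19, 0]), (0, [24, 3]), (0, [13, 6, 1]), (0, [5, 20, 1]), (0, [0, 35, 1]), (0, [7, 6, 0]), (0, [13, 11]), (0, [0, 38, 1]), (0, [1, 15, 3]), (0, [3, 13, 0]), (0, [30, 5, 2]), (0, [12, 34, 0]), (0, [23, 37]), (0, [6, 14]), (0, [11, 11, 0]), (0, [18, 3]), (0, [33, 35, 1]), (0, [6, 9]), (0, [29, 0]), (0, [19, 28, 2]), (0, [33, 5, 1]), (0, [7, 21, 1]), (0, [13, 13, 1]), (0, [2, 35, 1]), (0, [14, 6, 0]), (0, [1, 23, 4]), (0, [14, 30, 3]), (0, [36, 0, 1]), (0, [2, 38]), (0, [13, 1]), (0, [5, 1]), (0, [20, 26]), (0, [26, 12]), (0, [15]), (0, [4, 3]), (0, [21, 3, 0]),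 (0, [1, 22, 1]), (0, [37, 36, 1]), (0, [21, 28]), (0, [34, 10, 1]), (0, [29, 1]), (0, [16, 33]), (0, [6, 4]), (0, [1, 5]), (0, [3, 5]), (0, [37, 1, 1]), (0, [24, 16, 0]), (0, [7, 17, 4]), (0, [29, 23]), (0, [3, 7, 0]), (0, [36, 25]), (0, [25, 15, 2]), (0, [24, 23, 1]), (0, [14, 0]), (0, [8, 26]), (0, [0, 27, 1]), (0, [25, 20]), (0, [26, 37, 1]), (0, [34, 3, 0]), (0, [16, 15, 3]), (0, [0, 35, 0]), (0, [22, 23, 0]), (0, [1, 8, 0]), (0, [20, 28, 2]), (0, [11, 21, 0]), (0, [34, 31, 2]), (0, [7, 5, 0]), (0, [19, 23, 2]), (0, [17, 5, 1]), (0, [33, 20, 4]), (0, [37, 29, 0]), (0, [13, 19, 2]), (0, [20, 3]), (0, [38, 38, 1]), (0, [5, 12]), (0, [18, 8]), (0, [12, 35]), (0, [11]), (0, [12, 29]), (0, [37, 13, 0]), (0, [18, 27, 1]), (0, [13, 27]), (0, [32, 26]), (0, [17, 15]), (0, [34, 25, 1]), (0, [4, 18, 0]), (0, [14, 5, 1]), (0,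 [2, 34]), (0, [16, 6]), (0, [10, 20, 10]), (0, [2, 20, 0]), (0, [12, 0]), (0, [25, 3, 6]), (0, [30, 18, 0]), (0, [22, 14, 0]), (0, [19, 12, 0]), (0, [15, 21, 0]), (0, [29, 11]), (0, [6, 31]), (0, [1, 37]), (0, [12, 11]), (0, [15, 10]), (0, [10, 34, 0]), (0, [16, 34, 2]), (0, [22, 17, 6]), (0, [36, 2]), (0, [23, 14, 4]), (0, [15, 27]), (0, [27, 9, 0]), (0, [18, 27]), (0, [26, 35, 3]), (0, [22, 30, 1]), (0, [16, 24, 0]), (0, [19, 3, 2]), (0, [26, 25]), (0, [13, 30, 0]), (0, [16, 28, 4]), (0, [17, 12, 0]), (0, [17, 11]), (0, [19, 11]), (0, [15, 24, 0]), (0, [34, 8, 0]), (0, [22, 21]), (0, [19, 16]), (0, [38]), (0, [31, 32]), (0, [23, 35, 0]), (0, [5, 29]), (0, [21, 4]), (0, [32, 18]), (0, [16, 19, 0]), (0, [35]), (0, [22, 23, 2]), (0, [8, 10, 3]), (0, [21, 11]), (0, [22, 27]), (0, [32, 37, 1]), (0, [15, 5, 1]), (0, [26, 22,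 0]), (0, [28, 11, 4]), (0, [9, 2]), (0, [16, 15, 1]), (0, [36, 30, 0]), (0, [31, 9, 0]), (0, [22, 9]), (0, [38, 16, 0]), (0, [24, 8]), (0, [31, 6, 0]), (0, [13, 13, 2]), (0, [33, 31, 3]), (0, [8, 13]), (0, [2, 9, 0]), (0, [25, 31, 1]), (0, [19, 38]), (0, [30, 21, 2]), (0, [28, 13, 0]), (0, [21, 32]), (0, [20, 10, 0]), (0, [23, 7, 3]), (0, [11, 17, 1]), (0, [10, 11, 1]), (0, [16, 16, 6]), (0, [5, 23]), (0, [22, 15]), (0, [7, 11, 0]), (0, [24, 9, 1]), (0, [27, 27, 3]), (0, [0, 14, 7]), (0, [9, 12]), (0, [19, 4, 4]), (0, [32, 13]), (0, [19, 34]), (0, [23, 9, 0]), (0, [38, 20, 0]), (0, [14, 15, 1]), (0, [32, 3]), (0, [15, 3, 4]), (0, [30, 5]), (0, [7, 19, 0]), (0, [30, 24]), (0, [29, 7, 2]), (0, [15, 28, 6]), (0, [14, 7]), (0, [34, 5, 0]), (0, [20, 28]), (0, [33, 6]), (0, [5, 21, 1]), (0, [37, 16]), (0, [36, 14]), (0, [34,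 30, 3]), (0, [38, 5]), (0, [6, 38, 1]), (0, [16, 7]), (0, [3, 19, 0]), (0, [28, 27, 3]), (0, [7, 17, 1]), (0, [14, 27, 5]), (0, [4, 10, 0]), (0, [14, 20, 4]), (0, [8, 9]), (0, [30, 31, 3]), (0, [8, 14]), (0, [22, 14, 5]), (0, [27, 18, 2]), (0, [19, 6, 1]), (0, [20, 8, 4]), (0, [2, 13, 0]), (0, [0, 20, 1]), (0, [12, 9, 0]), (0, [25, 17]), (0, [14, 8]), (0, [36, 9]), (0, [18, 6, 3]), (0, [12, 25, 0]), (0, [38, 8, 2]), (0, [33, 4, 1]), (0, [7, 19, 1]), (0, [29, 10, 2]), (0, [33, 7]), (0, [4, 26]), (0, [8, 21, 1]), (0, [19, 24, 3]), (0, [18, 8, 3]), (0, [29, 22]), (0, [11, 8, 0]), (0, [32, 24, 3]), (0, [11, 14, 1]), (0, [22, 13, 0]), (0, [25, 5]), (0, [28, 32, 1]), (0, [20, 38, 0]), (0, [29, 32]), (0, [3, 19, 4]), (0, [2, 9, 1]), (0, [17, 38]), (0, [21, 33, 2]), (0, [6, 4, 1]), (0, [7, 17, 0]), (0, [11, 6, 0]), (0, [21, 9,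 1]), (0, [16, 21, 0]), (0, [15, 5]), (0, [13, 29, 2]), (0, [19, 22]), (0, [7]), (0, [24, 35, 2]), (0, [31, 18]), (0, [11, 29, 0]), (0, [28, 4, 2]), (0, [9, 30, 2]), (0, [33, 3]), (0, [9, 25, 4]), (0, [5, 10, 0]), (0, [10, 16]), (0, [5, 5, 0]), (0, [15, 4, 1]), (0, [26, 10, 4]), (0, [14, 22]), (0, [9, 24]), (0, [38, 6, 0]), (0, [19, 5, 2]), (0, [6, 17]), (0, [3, 9, 0]), (0, [8, 1]), (0, [8, 5]), (0, [31, 2]), (0, [18, 10]), (0, [36, 38]), (0, [12, 7, 6]), (0, [2, 33, 0]), (0, [32, 7]), (0, [15, 30, 0]), (0, [25, 18]), (0, [36, 3, 6]), (0, [14, 6]), (0, [36, 20]), (0, [18, 10, 4]), (0, [30, 17]), (0, [0, 9]), (0, [17, 21, 2]), (0, [1, 13]), (0, [25, 33]), (0, [30, 6, 3]), (0, [24, 8, 0]), (0, [11, 37, 0]), (0, [30, 34]), (0, [31, 31, 0]), (0, [32, 13, 1]), (0, [0, 15, 2]), (0, [38, 20, 4]), (0, [21, 5]), (0, [0, 10]), (0,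 [25, 29]), (0, [11, 34, 0]), (0, [12, 4, 0]), (0, [30, 19]), (0, [8, 9, 0]), (0, [3, 27]), (0, [8, 20, 0]), (0, [16, 14, 1]), (0, [18, 27, 3]), (0, [23, 0]), (0, [26, 4]), (0, [36, 19]), (0, [35, 15, 1]), (0, [25, 33, 1]), (0, [34, 2]), (0, [17, 30]), (0, [33]), (0, [36, 36, 0]), (0, [31, 7, 0]), (0, [26, 31]), (0, [6, 6, 3]), (0, [33, 9, 1]), (0, [28, 0]), (0, [37, 20, 1]), (0, [5, 15]), (0, [18, 20, 2]), (0, [15, 30]), (0, [16, 29, 0]), (0, [6, 27, 5]), (0, [22, 5, 3]), (0, [12, 1]), (0, [12, 27, 9]), (0, [26, 11, 1]), (0, [37, 26]), (0, [14, 7, 0]), (0, [9, 36, 0]), (0, [4, 2]), (0, [19, 26, 0]), (0, [29, 10, 0]), (0, [4, 38, 2]), (0, [25, 31, 0]), (0, [30, 32, 1]), (0, [31, 15, 4]), (0, [2, 23, 0]), (0, [3, 25, 1]), (0, [35, 6]), (0, [14, 21, 0]), (0, [21, 22, 0]), (0, [34, 29]), (0, [37, 3, 0]), (0, [29, 8, 1]), (0,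 [8, 19, 1]), (0, [32, 16]), (0, [33, 10]), (0, [33, 19, 0]), (0, [13, 19, 0]), (0, [31, 16, 2]), (0, [2, 12, 4]), (0, [35, 22, 1]), (0, [1, 14]), (0, [1, 9]), (0, [10]), (0, [36, 21]), (0, [38, 21, 1]), (0, [7, 4, 3]), (0, [1, 32, 5]), (0, [32, 15, 1]), (0, [33, 17]), (0, [2, 6]), (0, [13, 14, 3]), (0, [34, 38]), (0, [1]), (0, [36, 6, 3]), (0, [11, 25]), (0, [18, 9]), (0, [38, 14, 2]), (0, [5, 27]), (0, [18, 30, 0]), (0, [29, 5, 0]), (0, [37, 35]), (0, [18, 14]), (0, [6, 22, 4]), (0, [21, 0]), (0, [10, 5, 0]), (0, [31, 24]), (0, [35, 11, 0]), (0, [25, 37, 1]), (0, [37, 30]), (0, [30, 11, 1]), (0, [32, 1]), (0, [0, 33]), (0, [19, 8]), (0, [27, 19, 0]), (0, [14, 35]), (0, [24, 0]), (0, [30, 36]), (0, [10, 15, 0]), (0, [33, 30]), (0, [10, 33]), (0, [1, 17, 1]), (0, [3, 6]), (0, [19, 35, 0]), (0, [22, 12, 1]), (0, [25, 3]),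 (0, [32, 11]), (0, [30, 1, 0]), (0, [32, 12, 0]), (0, [15, 23, 0]), (0, [0, 37, 1]), (0, [25, 13]), (0, [35, 33, 0]), (0, [16, 13]), (0, [4, 6, 0]), (0, [20, 13]), (0, [26, 19, 0]), (0, [17, 20, 1]), (0, [2, 36, 0]), (0, [4, 29, 0]), (0, [2, 14, 5]), (0, [24, 34, 1]), (0, [15, 3]), (0, [24, 13, 0]), (0, [7, 25, 2]), (0, [9, 35, 0]), (0, [23, 12]), (0, [14, 19]), (0, [9, 27, 0]), (0, [16, 1]), (0, [22, 6, 1]), (0, [16, 7, 0]), (0, [19, 36]), (0, [7, 26, 0]), (0, [13, 17]), (0, [4, 27, 0]), (0, [7, 10]), (0, [6, 33]), (0, [36, 34]), (0, [0, 14]), (0, [2, 14]), (0, [27, 9]), (0, [32, 37, 0]), (0, [1, 19, 2]), (0, [10, 26, 4]), (0, [29, 25]), (0, [14, 17, 0]), (0, [9, 30, 0]), (0, [37, 23]), (0, [20, 25]), (0, [7, 19]), (0, [23, 16]), (0, [5, 18]), (0, [20, 33, 0]), (0, [25, 30]), (0, [12, 18, 0]), (0, [24, 21]), (0, [9, 8,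 6]), (0, [31, 19, 0]), (0, [4, 25, 1]), (0, [22, 20]), (0, [32, 27, 1]), (0, [38, 28, 5]), (0, [37, 11]), (0, [25, 36, 6]), (0, [11, 29, 1]), (0, [27, 18, 1]), (0, [0, 4]), (0, [0, 31]), (0, [30, 31]), (0, [30, 4]), (0, [19, 10, 5]), (0, [29, 12]), (0, [10, 13, 1]), (0, [38, 23]), (0, [23, 9, 1]), (0, [26, 32]), (0, [8, 16, 0]), (0, [0, 18, 1]), (0, [26, 38, 3]), (0, [3, 27, 0]), (0, [14, 16, 2]), (0, [35, 5, 0]), (0, [2, 9]), (0, [6, 35, 0]), (0, [2, 18, 1]), (0, [30, 23, 1]), (0, [19, 33, 6]), (0, [14, 1, 0]), (0, [7, 28, 0]), (0, [15, 9]), (0, [28, 14]), (0, [15, 14]), (0, [27, 38]), (0, [29, 11, 0]), (0, [1, 6, 1]), (0, [22, 16]), (0, [31, 30, 1]), (0, [26, 15, 1]), (0, [38, 13]), (0, [5, 38, 0]), (0, [28, 29, 1]), (0, [19, 37, 0]), (0, [1, 8, 2]), (0, [27, 4, 2]), (0, [10, 38, 2]), (0, [35, 1, 1]), (0, [22, 31]), (0,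 [21, 20]), (0, [32, 21, 0]), (0, [12, 10, 0]), (0, [24, 21, 0]), (0, [2, 10, 0]), (0, [33, 5]), (0, [36, 30]), (0, [9, 17, 0]), (0, [29, 24]), (0, [13, 5]), (0, [24, 38]), (0, [34, 8]), (0, [17, 31, 0]), (0, [26, 24, 0]), (0, [18, 20]), (0, [22, 1]), (0, [19, 10]), (0, [34, 6, 2]), (0, [35, 0]), (0, [10, 15]), (0, [21, 6]), (0, [33, 7, 0]), (0, [22, 26]), (0, [13, 34, 0]), (0, [33, 35]), (0, [6, 9, 1]), (0, [18, 15]), (0, [2, 27, 2]), (0, [11, 27, 0]), (0, [15, 20]), (0, [8, 18]), (0, [31, 3, 0]), (0, [30, 8]), (0, [37, 21]), (0, [20, 8]), (0, [13, 3, 0]), (0, [10, 1]), (0, [11, 26, 0]), (0, [19, 1]), (0, [19, 18, 0]), (0, [32, 12, 5]), (0, [34, 30, 2]), (0, [16, 11, 0]), (0, [32, 17, 0]), (0, [17, 36, 5]), (0, [38, 8, 3]), (0, [0, 11, 0]), (0, [29, 32, 1]), (0, [4, 4]), (0, [23, 25, 6]), (0, [33, 20, 0]), (0, [7, 4, 0]),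 (0, [33, 30, 1]), (0, [34, 12, 0]), (0, [34, 11]), (0, [26, 18]), (0, [29, 15, 2]), (0, [4, 31]), (0, [9, 25]), (0, [5, 11]), (0, [12, 2]), (0, [38, 12]), (0, [24, 14, 1]), (0, [30, 15, 0]), (0, [36]), (0, [7, 6]), (0, [7, 12, 4]), (0, [30, 25]), (0, [35, 9, 0]), (0, [24, 17, 0]), (0, [7, 26]), (0, [8, 27, 0]), (0, [38, 11, 1]), (0, [17, 0]), (0, [27, 0]), (0, [34, 22]), (0, [27, 4]), (0, [20, 27]), (0, [9, 8]), (0, [28, 11]), (0, [1, 12]), (0, [17, 1, 0]), (0, [8, 21]), (0, [28, 21, 1]), (0, [32, 20]), (0, [36, 16, 4]), (0, [20, 9, 0]), (0, [16, 33, 0]), (0, [6, 10, 1]), (0, [9, 34]), (0, [21, 37, 2]), (0, [35, 15]), (0, [35, 26]), (0, [24, 13]), (0, [13, 18, 3]), (0, [2, 34, 0]), (0, [26, 38, 0]), (0, [12, 20, 1]), (0, [3, 14]), (0, [2, 16]), (0, [3, 9]), (0, [5, 8]), (0, [13, 22, 0]), (0, [36, 8, 2]), (0, [7, 7]), (0,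 [4, 10]), (0, [9, 18, 0]), (0, [22, 5]), (0, [5, 22, 0]), (0, [28, 35]), (0, [25, 28]), (0, [33, 8, 0]), (0, [32, 6]), (0, [12, 23]), (0, [37, 12]), (0, [22, 32]), (0, [25, 33, 0]), (0, [33, 30, 0]), (0, [18, 21, 0]), (0, [25, 15, 0]), (0, [34, 11, 0]), (0, [35, 21, 5]), (0, [24, 14]), (0, [7, 8]), (0, [26]), (0, [35, 22]), (0, [4, 8]), (0, [12, 12]), (0, [21, 2, 1]), (0, [27, 11]), (0, [22, 19, 0]), (0, [7, 24, 0]), (0, [29, 31]), (0, [30, 6, 6]), (0, [15, 4]), (0, [17, 26]), (0, [11, 13, 1]), (0, [26, 17]), (0, [3, 31, 0]), (0, [1, 0]), (0, [33, 15]), (0, [28, 7, 0]), (0, [35, 21]), (0, [0]), (0, [31, 36, 4]), (0, [7, 37]), (0, [0, 12]), (0, [31, 4]), (0, [24, 32, 1]), (0, [13, 20]), (0, [11, 10]), (0, [8, 3, 0]), (0, [9, 0]), (0, [1, 35]), (0, [20, 13, 3]), (0, [0, 30]), (0, [2, 29]), (0, [32, 35]), (0, [4, 27]), (0,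 [36, 6, 0]), (0, [16, 4, 1]), (0, [24, 9]), (0, [30, 7]), (0, [24, 35, 1]), (0, [31, 28]), (0, [33, 31, 0]), (0, [23, 25]), (0, [14, 24, 2]), (0, [38, 17]), (0, [34, 35, 1]), (0, [23, 24]), (0, [32, 1, 0]), (0, [38, 19]), (0, [11, 19]), (0, [24, 22]), (0, [19, 13]), (0, [8, 20]), (0, [1, 29]), (0, [33, 18, 7]), (0, [6, 14, 0]), (0, [6, 20]), (0, [10, 19]), (0, [28, 21, 5]), (0, [14, 1, 5]), (0, [32, 31, 0]), (0, [36, 5]), (0, [13, 8, 1]), (0, [27, 36]), (0, [4, 32]), (0, [35, 14, 1]), (0, [35, 17, 0]), (0, [28, 30]), (0, [18, 21]), (0, [23, 14, 1]), (0, [16, 25]), (0, [4, 15, 4]), (0, [17, 12, 2]), (0, [36, 1]), (0, [13, 19]), (0, [26, 13, 5]), (0, [6, 6]), (0, [13, 36, 0]), (0, [5, 32]), (0, [9, 35, 2]), (0, [17, 17, 0]), (0, [14, 27, 4]), (0, [32, 15]), (0, [26, 21, 10]), (0, [34, 3, 4]), (0, [12, 33, 2]), (0, [27, 11,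 1]), (0, [5, 0]), (0, [37, 2]), (0, [7, 38]), (0, [26, 27, 2]), (0, [33, 8, 1]), (0, [5, 1, 0]), (0, [17, 10, 1]), (0, [21, 27]), (0, [18, 19]), (0, [27, 1, 0]), (0, [23, 20, 0]), (0, [4, 22]), (0, [34, 14, 1]), (0, [35, 8]), (0, [30, 26, 1]), (0, [35, 37]), (0, [14, 16]), (0, [9, 36, 4]), (0, [17, 27, 0]), (0, [22, 20, 1]), (0, [11, 4, 3]), (0, [4, 24]), (0, [35, 13, 3]), (0, [9, 28]), (0, [25, 28, 0]), (0, [28, 19, 0]), (0, [14, 11]), (0, [20, 21, 4]), (0, [5, 28]), (0, [12, 13, 0]), (0, [20, 7]), (0, [28, 4]), (0, [12, 5]), (0, [20, 24]), (0, [4, 16]), (0, [24, 32, 5]), (0, [38, 27, 0]), (0, [12, 4]), (0, [9, 14, 1]), (0, [7, 0]), (0, [8, 1, 0]), (0, [4, 38, 5]), (0, [11, 29]), (0, [32, 34, 0]), (0, [15, 37, 0]), (0, [8, 14, 0]), (0, [24, 27, 1]), (0, [10, 14, 1]), (0, [6, 12]), (0, [38, 29]), (0, [21, 13, 1]), (0, [8,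 22]), (0, [24, 23, 0]), (0, [31, 23, 0]), (0, [36, 3, 0]), (0, [7, 8, 1]), (0, [22, 4]), (0, [29, 8, 4]), (0, [28, 1]), (0, [24, 27, 0]), (0, [11, 5, 3]), (0, [19, 37]), (0, [12, 35, 2]), (0, [18, 16, 3]), (0, [31, 12, 2]), (0, [8, 16]), (0, [37, 31, 1]), (0, [5, 3]), (0, [20, 17, 0]), (0, [34, 1, 0]), (0, [3, 38, 0]), (0, [33, 24]), (0, [27, 6, 4]), (0, [32, 14, 0]), (0, [26, 35, 0]), (0, [28, 20, 1]), (0, [7, 21]), (0, [37, 25, 1]), (0, [30, 36, 1]), (0, [28, 5, 0]), (0, [8, 34, 1]), (0, [21, 8, 1]), (0, [21, 35]), (0, [13]), (0, [2, 20]), (0, [21, 8, 0]), (0, [11, 24, 2]), (0, [19, 33]), (0, [16, 25, 0]), (0, [0, 20]), (0, [21, 1]), (0, [24, 17, 2]), (0, [34, 17, 6]), (0, [1, 17]), (0, [9, 1, 1]), (0, [2, 17, 2]), (0, [34, 7]), (0, [16, 37]), (0, [28, 28, 0]), (0, [35, 4, 0]), (0, [11, 16]), (0, [14, 18, 3]), (0, [5,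 7]), (0, [24, 30, 0]), (0, [13, 21, 2]), (0, [8, 11]), (0, [4, 12, 0]), (0, [16, 18, 0]), (0, [22, 11]), (0, [32, 37, 3]), (0, [1, 19]), (0, [25, 14]), (0, [23, 19]), (0, [25, 18, 0]), (0, [15, 17, 3]), (0, [17, 18]), (0, [34, 37, 0]), (0, [5, 12, 4]), (0, [16, 6, 0]), (0, [7, 34]), (0, [11, 36]), (0, [23, 10]), (0, [26, 7]), (0, [28, 31]), (0, [36, 17]), (0, [34, 13, 3]), (0, [11, 18, 3]), (0, [27, 6, 3]), (0, [21, 34, 0]), (0, [7, 22]), (0, [3, 7]), (0, [36, 35]), (0, [30, 15, 2]), (0, [38, 31, 0]), (0, [24, 6, 1]), (0, [9, 23, 4]), (0, [23, 22]), (0, [5, 26]), (0, [0, 21, 0]), (0, [21, 13, 0]), (0, [30, 33, 4]), (0, [8, 4]), (0, [34, 27, 1]), (0, [4, 25, 0]), (0, [8, 31]), (0, [22, 15, 10]), (0, [5, 6]), (0, [10, 36]), (0, [30, 18]), (0, [6]), (0, [12, 31]), (0, [0, 20, 0]), (0, [37, 27]), (0, [34, 17, 2]), (0, [28,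 18]), (0, [28, 13, 1]), (0, [35, 11]), (0, [22, 11, 0]), (0, [36, 16, 1]), (0, [6, 32, 3]), (0, [29, 36]), (0, [34, 6]), (0, [9, 25, 0]), (0, [7, 27, 3]), (0, [28, 33]), (0, [33, 11]), (0, [18, 32, 3]), (0, [3, 8]), (0, [4, 6]), (0, [34, 24, 0]), (0, [10, 11]), (0, [6, 15, 0]), (0, [17, 7, 2]), (0, [20, 30, 1]), (0, [2, 1]), (0, [4, 30, 1]), (0, [15, 18, 0]), (0, [2, 31]), (0, [18, 28, 0]), (0, [5, 37, 0]), (0, [21, 38, 0]), (0, [0, 6, 0]), (0, [18, 26, 1]), (0, [35, 34, 0]), (0, [4, 21, 0]), (0, [22, 18, 0]), (0, [28, 36, 1]), (0, [2, 6, 0]), (0, [18, 7]), (0, [5, 19]), (0, [23, 25, 1]), (0, [36, 15]), (0, [21, 7]), (0, [11, 16, 0]), (0, [8, 6]), (0, [16, 11]), (0, [8, 4, 0]), (0, [37, 33]), (0, [38, 14, 1]), (0, [8, 10, 0]), (0, [32, 8]), (0, [23, 24, 0]), (0, [15, 12]), (0, [27, 29, 0]), (0, [32, 34]), (0, [3, 11, 4]),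 (0, [25, 11, 0]), (0, [33, 2]), (0, [18, 12, 0]), (0, [9, 32]), (0, [34, 30, 0]), (0, [3, 5, 0]), (0, [34, 19]), (0, [18, 13, 2]), (0, [11, 18, 5]), (0, [13, 32]), (0, [21, 21]), (0, [18, 24, 0]), (0, [28, 31, 2]), (0, [2, 26]), (0, [24, 26]), (0, [31, 35, 0]), (0, [23, 22, 0]), (0, [33, 20]), (0, [28, 3]), (0, [25, 21, 2]), (0, [16, 16]), (0, [2, 3, 0]), (0, [30, 25, 0]), (0, [33, 24, 8]), (0, [21, 2]), (0, [17, 21]), (0, [7, 27]), (0, [14, 29, 0]), (0, [13, 22]), (0, [25, 9, 1]), (0, [4, 25]), (0, [6, 2]), (0, [17, 11, 7]), (0, [32, 22]), (0, [13, 26]), (0, [8, 33, 0]), (0, [23, 1]), (0, [37, 3]), (0, [26, 21, 1]), (0, [28, 20]), (0, [22, 11, 1]), (0, [10, 7]), (0, [8, 2]), (0, [32, 35, 2]), (0, [26, 30]), (0, [27, 35, 0]), (0, [0, 8, 2]), (0, [29, 31, 0]), (0, [4, 13, 4]), (0, [26, 5, 0]), (0, [30, 4, 0]), (0, [10, 6]),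 (0, [24, 4]), (0, [11, 9]), (0, [11, 18, 1]), (0, [12, 14, 2]), (0, [7, 10, 3]), (0, [6, 10, 0]), (0, [38, 25]), (0, [34, 7, 0]), (0, [22, 15, 5]), (0, [28, 13, 5]), (0, [38, 14]), (0, [35, 10, 1]), (0, [9, 11]), (0, [28, 15]), (0, [25, 22]), (0, [1, 35, 0]), (0, [1, 33, 2]), (0, [13, 0]), (0, [26, 17, 4]), (0, [7, 0, 1]), (0, [14, 33, 0]), (0, [30]), (0, [38, 20, 1]), (0, [23, 5]), (0, [27, 6]), (0, [20, 2, 1]), (0, [30, 35, 0]), (0, [2, 35]), (0, [19, 2]), (0, [18, 17, 4]), (0, [34, 1]), (0, [37, 6]), (0, [22, 19]), (0, [24, 30]), (0, [28, 6]), (0, [5, 28, 0]), (0, [0, 34, 1]), (0, [20, 1]), (0, [4, 30]), (0, [0, 28, 6]), (0, [2, 38, 5]), (0, [30, 24, 0]), (0, [32, 3, 2]), (0, [20, 10, 2]), (0, [19, 18]), (0, [36, 8]), (0, [15, 19]), (0, [25, 24]), (0, [9, 7, 0]), (0, [23, 9, 2]), (0, [5, 32, 3]), (0, [19, 20, 1]), (0,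 [20, 28, 3]), (0, [16, 10]), (0, [4, 19]), (0, [36, 20, 0]), (0, [10, 16, 3]), (0, [38, 28, 2]), (0, [33, 18]), (0, [2, 25, 1]), (0, [26, 9]), (0, [28, 30, 0]), (0, [32, 32]), (0, [4, 20, 3]), (0, [12, 34]), (0, [34, 21, 0]), (0, [33, 29]), (0, [23, 5, 0]), (0, [25, 10]), (0, [27, 26]), (0, [11, 2, 1]), (0, [10, 15, 4]), (0, [6, 32]), (0, [19, 13, 0]), (0, [17, 8]), (0, [3, 12]), (0, [33, 37, 1]), (0, [6, 14, 2]), (0, [26, 14, 2]), (0, [5, 15, 0]), (0, [31, 12]), (0, [16, 28, 0]), (0, [6, 19, 0]), (0, [37, 23, 4]), (0, [5, 25]), (0, [12, 24, 3]), (0, [36, 37, 0]), (0, [9, 12, 3]), (0, [1, 25, 0]), (0, [12, 22]), (0, [21, 18, 0]), (0, [22, 4, 0]), (0, [20, 6, 0]), (0, [7, 30, 0]), (0, [27, 3]), (0, [6, 18]), (0, [21, 36]), (0, [8, 38, 0]), (0, [9, 5]), (0, [11, 24]), (0, [11, 5]), (0, [18, 36, 2]), (0, [10, 34]), (0, [29,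 26, 1]), (0, [21, 17, 3]), (0, [31, 31, 4]), (0, [23, 23]), (0, [16, 31, 2]), (0, [14, 35, 0]), (0, [25, 23]), (0, [7, 20, 0]), (0, [24, 32]), (0, [7, 30, 1]), (0, [35, 37, 0]), (0, [8, 18, 0]), (0, [14, 16, 1]), (0, [17, 34]), (0, [15, 35]), (0, [14, 21, 5]), (0, [27, 33]), (0, [16, 32, 6]), (0, [2, 17]), (0, [23, 27, 4]), (0, [25, 5, 2]), (0, [22, 6]), (0, [7, 24]), (0, [38, 29, 1]), (0, [21, 1, 0]), (0, [10, 1, 0]), (0, [29, 2, 3]), (0, [2, 36, 2]), (0, [23, 25, 0]), (0, [3, 7, 9]), (0, [15, 17]), (0, [38, 1]), (0, [31, 26, 0]), (0, [16, 5, 1]), (0, [34, 28, 0]), (0, [20, 5, 0]), (0, [14, 25, 0]), (0, [0, 29, 1]), (0, [7, 9]), (0, [23, 32]), (0, [7, 14]), (0, [7, 18, 1]), (0, [17, 35, 3]), (0, [13, 10, 0]), (0, [20, 2]), (0, [2, 25, 0]), (0, [28, 10]), (0, [27, 7]), (0, [10, 31, 2]), (0, [11, 30, 0]), (0, [22, 32, 2]),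 (0, [24, 5]), (0, [14, 10]), (0, [38, 29, 0]), (0, [23, 0, 4]), (0, [20, 0, 1]), (0, [28, 27, 0]), (0, [15, 4, 0]), (0, [36, 16, 0]), (0, [18, 31]), (0, [1, 12, 1]), (0, [18, 4]), (0, [37, 1]), (0, [6, 37, 0]), (0, [24, 38, 2]), (0, [15, 7]), (0, [9, 17]), (0, [2, 5]), (0, [13, 24]), (0, [0, 30, 0]), (0, [21, 24, 4]), (0, [38, 33, 0]), (0, [25, 11, 1]), (0, [8, 11, 0]), (0, [15, 26, 0]), (0, [14]), (0, [34, 21, 1]), (0, [7, 34, 1]), (0, [6, 30, 3]), (0, [17, 12]), (0, [17, 11, 3]), (0, [20, 28, 1]), (0, [25, 4, 3]), (0, [0, 16, 0]), (0, [25, 15]), (0, [36, 1, 1]), (0, [5, 27, 1]), (0, [4]), (0, [31]), (0, [28, 16]), (0, [38, 10, 0]), (0, [8, 38, 1]), (0, [34, 0, 1]), (0, [24, 3, 0]), (0, [30, 0]), (0, [3, 19, 8]), (0, [8, 15, 1]), (0, [36, 10]), (0, [30, 14, 6]), (0, [24, 11]), (0, [9, 7]), (0, [16, 36]), (0, [12, 7, 0]),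 (0, [19, 1, 4]), (0, [20, 32, 4]), (0, [16, 0]), (0, [26, 34, 0]), (0, [18, 4, 1]), (0, [9]), (0, [20]), (0, [3, 35, 0]), (0, [13, 25, 0]), (0, [0, 13]), (0, [36, 23, 0]), (0, [10, 24, 0]), (0, [38, 5, 0]), (0, [11, 10, 0]), (0, [18, 1]), (0, [20, 7, 0]), (0, [22, 27, 2]), (0, [3, 37]), (0, [5, 21, 0]), (0, [8, 7]), (0, [18, 19, 0]), (0, [15, 25, 7]), (0, [2, 32]), (0, [21, 33]), (0, [27, 35, 1]), (0, [25, 16, 0]), (0, [7, 12]), (0, [30, 21]), (0, [28, 14, 1]), (0, [12, 28, 0]), (0, [8, 38, 5]), (0, [37, 2, 1]), (0, [15, 0, 1]), (0, [4, 21]), (0, [34, 13]), (0, [30, 23, 0]), (0, [3]), (0, [24, 5, 1]), (0, [12, 23, 0]), (0, [8, 21, 4]), (0, [17, 2]), (0, [33, 33]), (0, [36, 4, 3]), (0, [27, 21, 0]), (0, [15, 11, 1]), (0, [37, 4]), (0, [28, 1, 1]), (0, [36, 6, 2]), (0, [13, 22, 1]), (0, [6, 27, 1]), (0, [11, 23]), (0, [30,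 12]), (0, [27, 13]), (0, [18, 5, 1]), (0, [14, 19, 1]), (0, [22, 10, 0]), (0, [3, 13, 1]), (0, [23, 4]), (0, [23, 31]), (0, [23, 11]), (0, [18, 17]), (0, [31, 37, 0]), (0, [5, 13]), (0, [30, 37, 3]), (0, [21, 16, 0]), (0, [29, 2]), (0, [33, 16, 3]), (0, [0, 14, 5]), (0, [32, 2]), (0, [0, 1]), (0, [25, 7]), (0, [17, 30, 1]), (0, [4, 7, 0]), (0, [27, 27, 1]), (0, [34, 3]), (0, [5, 26, 3]), (0, [32, 6, 0]), (0, [17, 20, 0]), (0, [16, 5, 6]), (0, [6, 25]), (0, [25, 8]), (0, [11, 31]), (0, [38, 7, 2]), (0, [38, 16]), (0, [33, 36]), (0, [26, 6]), (0, [10, 0]), (0, [18, 30]), (0, [20, 34, 0]), (0, [11, 13, 0]), (0, [27, 6, 2]), (0, [1, 31]), (0, [4, 14, 1]), (0, [36, 7]), (0, [11, 23, 1]), (0, [9, 29, 5]), (0, [11, 9, 1]), (0, [32, 11, 0]), (0, [8, 8, 1]), (0, [12, 30, 1]), (0, [23]), (0, [9, 20, 3]), (0, [37, 2, 3]), (0, [29,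 14]), (0, [33, 23]), (0, [10, 25, 3]), (0, [2, 12, 0]), (0, [16, 8, 3]), (0, [21, 3]), (0, [23, 7, 0]), (0, [13, 10, 1]), (0, [2, 11]), (0, [14, 33]), (0, [26, 20]), (0, [9, 28, 0]), (0, [7, 28]), (0, [30, 22, 0]), (0, [15, 25]), (0, [19, 38, 0]), (0, [6, 34, 0]), (0, [21, 29]), (0, [30, 15, 1]), (0, [9, 22, 0]), (0, [35, 29, 1]), (0, [10, 9, 0]), (0, [27, 16]), (0, [18]), (0, [29, 30]), (0, [16, 29]), (0, [29, 9]), (0, [10, 26]), (0, [11, 15, 2]), (0, [0, 15]), (0, [38, 4]), (0, [10, 4, 0]), (0, [37, 4, 0]), (0, [8, 34]), (0, [0, 8, 0]), (0, [27, 20]), (0, [38, 31]), (0, [11, 12]), (0, [17, 19, 6]), (0, [32, 25]), (0, [28, 7]), (0, [27, 3, 0]), (0, [13, 7, 0]), (0, [1, 11, 1]), (0, [19, 16, 0]), (0, [19, 31]), (0, [26, 21, 0]), (0, [24, 28, 0]), (0, [16, 17, 3]), (0, [13, 23]), (0, [32, 31, 1]), (0, [3, 18, 2]), (0, [35,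 6, 1]), (0, [34, 27]), (0, [9, 21, 6]), (0, [37, 37]), (0, [19, 27]), (0, [6, 21, 1]), (0, [0, 31, 1]), (0, [29, 16, 1]), (0, [34, 12, 4]), (0, [30, 6, 0]), (0, [7, 3]), (0, [8, 17]), (0, [27, 13, 4]), (0, [5, 34]), (0, [19, 4]), (0, [17, 3, 2]), (0, [4, 15]), (0, [24, 26, 1]), (0, [26, 4, 1]), (0, [1, 4]), (0, [11, 34, 1]), (0, [22, 35]), (0, [33, 12, 0]), (0, [10, 8, 1]), (0, [26, 3]), (0, [1, 17, 3]), (0, [12, 8, 2]), (0, [31, 8]), (0, [19, 14]), (0, [19, 18, 1]), (0, [5, 22]), (0, [19, 9]), (0, [17, 16, 2]), (0, [17, 22]), (0, [23, 19, 0]), (0, [13, 6]), (0, [8, 19]), (0, [23, 3, 5]), (0, [6, 36, 1]), (0, [4, 1, 0]), (0, [21, 4, 3]), (0, [10, 21]), (0, [19, 7, 4]), (0, [21, 15]), (0, [4, 23]), (0, [30, 2]), (0, [25, 4]), (0, [25, 31]), (0, [27, 18]), (0, [28, 17]), (0, [17, 14, 2]), (0, [38, 3, 0]), (0, [24]), (0, [8,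 11, 1]), (0, [37, 5]), (0, [1, 23, 0]), (0, [5, 6, 1]), (0, [11, 4]), (0, [10, 8]), (0, [36, 31]), (0, [27, 17]), (0, [37, 32]), (0, [30, 11]), (0, [36, 4]), (0, [0, 5]), (0, [28, 3, 0]), (0, [19, 3]), (0, [24, 7, 0]), (0, [26, 16]), (0, [0, 19]), (0, [20, 20, 0]), (0, [15, 2]), (0, [32, 12]), (0, [27, 14, 0]), (0, [1, 10]), (0, [18, 5]), (0, [20, 19, 1]), (0, [24, 19, 0]), (0, [23, 17]), (0, [20, 37, 0]), (0, [11, 20]), (0, [27, 27, 0]), (0, [11, 18]), (0, [26, 10]), (0, [4, 19, 1]), (0, [18, 35]), (0, [20, 15, 1]), (0, [12, 14]), (0, [12, 9]), (0, [28, 9, 2]), (0, [12, 24]), (0, [19, 37, 1]), (1, [15, 32]), (1, [13, 1]), (1, [14, 8]), (1, [38, 5]), (1, [13, 8]), (1, [26, 5]), (1, [32, 14]), (1, [17, 10]), (1, [12, 8, 0]), (1, [6, 0]), (1, [22, 0]), (1, [21, 17]), (1, [2, 12]), (2, [33]), (1, [1, 5]), (1, [2, 8]), (2,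 [18, 8]), (2, [28, 12]), (1, [32, 0]), (1, [24, 2]), (1, [13, 7]), (1, [16, 23]), (2, [8, 29, 0]), (1, [6, 37]), (2, [10]), (2, [13, 10]), (1, [21]), (2, [4, 17]), (1, [26, 0]), (1, [38, 6]), (2, [34, 33, 1]), (2, [37, 11]), (1, [17, 3]), (1, [27, 5]), (1, [9, 6]), (1, [23, 2]), (1, [18, 0]), (2, [31, 15]), (2, [20, 30]), (2, [17, 7]), (2, [32, 0]), (2, [27, 5]), (2, [27, 23]), (2, [35]), (2, [29, 4, 0]), (2, [32, 7]), (2, [20, 14]), (2, [27, 25]), (2, [10, 4]), (2, [7, 10]), (2, [13, 7]), (2, [14, 27]), (1, [15, 22]), (1, [32, 6]), (1, [38, 3]), (1, [34, 22]), (2, [30, 10, 1]), (1, [10, 1]), (1, [24, 3]), (1, [33, 12]), (2, [29, 11]), (2, [2, 16]), (1, [34, 11]), (1, [24, 24]), (1, [20, 4]), (2, [27, 36]), (1, [30, 6]), (1, [17, 0]), (2, [18, 13]), (2, [15, 11]), (1, [13, 15]), (1, [31, 1]), (1, [13, 3]), (1, [38, 15]),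 (1, [26, 19]), (1, [13, 2]), (2, [24, 8]), (2, [9, 25]), (2, [7, 32, 0]), (1, [28, 5]), (1, [23, 8]), (2, [17, 0]), (2, [34, 11]), (2, [30, 8]), (2, [19, 35]), (2, [13, 21, 0]), (2, [5, 25, 0]), (2, [21, 7, 0]), (2, [14, 1]), (2, [23, 8]), (2, [15, 37]), (2, [6, 35]), (2, [23, 25]), (2, [30, 23]), (2, [30, 5]), (2, [25, 17]), (1, [35, 6]), (1, [12, 1]), (1, [7, 7]), (1, [2, 3]), (1, [32, 11]), (1, [14, 3]), (1, [29, 6]), (1, [34, 7]), (1, [12, 2]), (2, [29, 27, 0]), (2, [16, 7, 1]), (2, [14, 3, 0]), (1, [4, 1]), (1, [18, 6]), (1, [33, 14]), (2, [18, 25]), (2, [24, 3]), (2, [29, 6]), (2, [38, 20]), (2, [35, 28]), (2, [18, 29, 0]), (2, [7, 22, 1]), (2, [25, 13]), (2, [31, 29]), (1, [23, 0]), (1, []), (1, [26, 7]), (2, [1, 21, 0]), (2, [5, 9, 0]), (2, [7, 7, 0]), (1, [17, 20]), (1, [8, 0]), (1, [22, 18]), (2, [7, 35]), (2,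 [24, 33, 0]), (2, [36, 29]), (1, [18, 19]), (1, [6, 19]), (2, [10, 31, 0]), (2, [35, 6]), (2, [21, 8, 0]), (2, [36, 9]), (2, [22, 37]), (2, [33, 29, 2]), (1, [29, 4]), (1, [19]), (1, [15, 0]), (1, [17, 6]), (2, [38, 12, 1]), (2, [17, 6]), (2, [24, 2]), (1, [4, 0]), (2, [26, 11, 1]), (2, [2, 19]), (2, [24, 24]), (2, [22, 1]), (1, [29]), (2, [12, 21]), (2, [23, 24]), (1, [16, 1]), (1, [35, 5]), (2, [24, 12]), (2, [31, 13, 0]), (2, [21, 6]), (1, [30, 3]), (1, [12, 4]), (2, [14, 38, 0]), (1, [7, 0]), (2, [0, 18]), (2, [1, 14]), (2, [30, 30]), (2, [28, 23]), (2, [28, 5]), (1, [0, 9]), (2, [4, 31]), (2, [12, 4]), (2, [19, 26]), (2, [17, 3]), (2, [8, 33]), (2, [26, 2]), (2, [37, 17, 0]), (2, [23, 12]), (2, [26, 24]), (2, [11, 7, 0]), (2, [15, 9, 0]), (2, [2, 25]), (2, [10, 3, 0]), (2, [32, 14, 0]), (2, [9, 8]), (2, [23, 2]), (2,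 [29, 20]), (2, [1, 17]), (2, [31, 7]), (2, [12, 9, 0]), (2, [27, 12]), (2, [19, 33]), (2, [4, 0]), (2, [26, 27, 0]), (2, [32, 26]), (2, [4, 1]), (2, [14, 16]), (2, [15, 1]), (2, [30, 14]), (2, [35, 6, 0]), (2, [32, 9]), (2, [8, 1]), (2, [2, 18, 0]), (2, [3, 2]), (2, [25, 6, 0]), (2, [20, 8, 1]), (2, [28, 18, 1]), (2, [0, 34]), (2, [32, 11]), (2, [2, 23, 0]), (2, [0, 20]), (2, [29, 19]), (2, [3, 7]), (2, [37, 38, 2]), (2, [12, 16, 1]), (2, [31, 13]), (2, [1, 13]), (2, [7, 0]), (2, [23, 23, 0]), (2, [25, 9]), (2, [3, 13]), (2, [30, 34]), (2, [35, 16, 2]), (2, [26, 14, 0]), (2, [4, 10]), (2, [32, 6]), (2, [8, 11]), (2, [18, 19]), (2, [0, 29]), (2, [24, 13]), (2, [36, 17]), (2, [8, 12, 3]), (2, [34, 22]), (2, [31, 14]), (2, [18, 12]), (2, [29, 7, 1]), (2, [10, 1]), (2, [16, 6, 0]), (2, [20, 15]), (2, [11, 0]), (1, [0, 17]),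 (1, [7, 1]), (1, [4, 3]), (1, [4, 5]), (1, [37, 6]), (2, [11, 5, 0]), (1, [12, 16]), (1, [34, 20]), (2, [16, 35, 0]), (2, [13, 1]), (1, [24, 4]), (1, [7, 13]), (1, [23, 1]), (1, [37, 3]), (2, [37, 3]), (2, [30, 8, 0]), (2, [32, 8]), (1, [16, 3]), (1, [1, 1]), (1, [37, 0]), (1, [33, 2]), (2, [26, 9]), (2, [28, 12, 1]), (2, [16, 3]), (1, [6, 14]), (1, [10, 2]), (2, [34, 17]), (1, [25]), (2, [34, 19]), (2, [21, 1, 1]), (1, [15]), (1, [29, 1]), (2, [15, 6]), (2, [11, 6, 0]), (2, [29, 1]), (2, [38, 6, 0]), (2, [30, 34, 2]), (2, [17, 33]), (2, [33, 3]), (2, [36, 25]), (2, [8, 6, 0]), (2, [16, 5, 1]), (2, [6, 7]), (2, [17, 10]), (1, [29, 3]), (2, [38, 25]), (1, [9, 10]), (1, [13, 0]), (1, [1]), (2, [2, 38]), (2, [11, 25]), (1, [35, 2]), (1, [24, 7]), (1, [7, 4]), (1, [21, 5]), (1, [27]), (1, [1, 6]), (1, [17, 2]), (2, [10, 25]),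 (2, [28, 16]), (2, [37, 6]), (1, [17, 1]), (2, [29, 16, 0]), (2, [9, 8, 1]), (2, [3, 20]), (2, [3, 8, 0]), (2, [34, 13]), (2, [32, 17]), (1, [6, 8]), (1, [22, 3]), (1, [35, 3]), (1, [34, 5]), (1, [36, 0]), (1, [30, 20]), (1, [2, 9]), (1, [12]), (2, [2, 6]), (2, [16, 14, 0]), (2, [24, 18]), (2, [19, 13, 1]), (2, [29, 3, 0]), (2, [13, 0]), (1, [10, 3]), (1, [37, 26]), (1, [2]), (2, [30, 36]), (2, [8, 23]), (2, [26, 10, 0]), (1, [5]), (1, [2, 5]), (2, [3, 4, 0]), (2, [13, 8]), (2, [27, 8]), (1, [29, 2]), (1, [19, 23]), (2, [1, 37]), (1, [35, 4]), (2, [16, 7]), (2, [15, 34]), (2, [10, 18, 1]), (2, [7, 1]), (2, [25, 36]), (2, [26, 5]), (2, [28, 24]), (2, [26, 10, 1]), (2, [3, 11]), (2, [17, 14]), (2, [31, 6]), (1, [23, 15]), (2, [1, 8]), (2, [29, 18]), (2, [28, 8]), (1, [21, 0]), (2, [9, 20, 0]), (2, [2, 11, 0]), (2, [16, 6]),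 (1, [37, 20]), (2, [33, 25]), (2, [21, 2]), (2, [36, 12]), (2, [15]), (2, [33, 20, 1]), (2, [1, 23]), (1, [8]), (2, [32, 10]), (2, [16, 30]), (2, [37, 5, 1]), (2, [14]), (2, [7, 35, 0]), (2, [26, 12]), (2, [3, 32]), (2, [11, 20, 0]), (2, [29, 16]), (2, [17, 15]), (2, [9, 6]), (2, [30, 31]), (2, [16, 27, 0]), (2, [23, 18]), (2, [37, 0]), (2, [24, 36]), (2, [21, 0]), (2, [20, 3, 0]), (2, [18, 1]), (2, [36, 3]), (2, [20, 9]), (2, [12, 0]), (2, [6, 17]), (2, [37, 30]), (2, [20, 19]), (2, [35, 3]), (2, [20, 17]), (2, [18, 26, 0]), (2, [22, 16]), (2, [18, 0]), (2, [21, 14, 0]), (2, [30, 9]), (2, [34, 14]), (2, [11, 15, 0]), (2, [36, 16]), (2, [34, 9]), (2, [38, 23]), (2, [6, 8]), (2, [14, 6]), (2, [21, 22, 0]), (2, [20, 13]), (2, [12, 7, 0]), (2, [28, 33, 0]), (2, [38, 8, 0]), (2, [10, 3]), (2, [10, 24, 0]), (2, [17, 2]), (2,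 [23, 9, 1]), (1, [10, 6]), (1, [3, 0]), (2, [37, 12]), (1, [22, 5]), (1, [27, 4]), (2, [15, 17, 0]), (2, [24, 30]), (1, [38, 2]), (1, [5, 5]), (1, [32, 22]), (1, [24, 14]), (1, [22]), (1, [35, 1]), (1, [33, 1]), (2, [27, 27]), (2, [31, 10, 2]), (2, [5, 5]), (1, [19, 2]), (2, [14, 17]), (2, [13, 38]), (2, [30, 3, 2]), (2, [19, 25, 0]), (2, [12, 16]), (2, [21, 30]), (1, [10, 15]), (1, [1, 2]), (1, [25, 11]), (1, [17, 19]), (1, [19, 13]), (1, [8, 3]), (1, [5, 0]), (2, [14, 8]), (1, [6, 6]), (2, [2, 11]), (2, [33, 8, 0]), (2, [19, 14]), (2, [24, 23]), (2, [21, 28]), (2, [11, 38]), (1, [36]), (1, [16, 2]), (2, [10, 15]), (2, [10, 14]), (1, [34, 4]), (1, [17]), (1, [12, 17]), (2, [38, 2]), (2, [19, 28]), (2, [36, 30, 0]), (2, [14, 7]), (2, [13, 34]), (2, [7, 37]), (2, [6, 28]), (2, [8, 30]), (2, [22, 6]), (1, [32, 5]), (1, [18,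 4]), (1, [4, 6]), (2, [37, 8]), (2, [19, 20, 0]), (2, [6, 14]), (2, [4, 37]), (2, [32, 5]), (2, [6, 15]), (1, [27, 2]), (1, [34]), (1, [20, 7]), (2, [28, 15]), (2, [1, 16, 1]), (2, [3, 5]), (2, [24, 14]), (2, [3, 23]), (2, [24, 15]), (2, [27, 4]), (2, [10, 13]), (2, [8, 9]), (1, [28]), (2, [17, 4, 0]), (2, [34, 6]), (2, [23, 23]), (2, [16, 22, 0]), (2, [18, 24, 0]), (2, [23, 5]), (2, [21, 26]), (2, [23, 15, 0]), (2, [21, 23]), (2, [37, 2]), (2, [7, 25]), (2, [24, 15, 0]), (2, [0, 11]), (2, [15, 4, 0]), (2, [13, 23, 0]), (2, [20, 4]), (2, [37, 25]), (2, [6, 13, 0]), (2, [16, 4]), (2, [16]), (2, [31, 38, 0]), (2, [37, 19]), (2, [0, 16]), (2, [12, 11]), (2, [24, 5]), (2, [5, 25]), (2, [38, 7]), (2, [9, 5]), (2, [33, 4, 0]), (2, [1, 4]), (2, [31, 31, 4]), (2, [4, 38, 0]), (2, [9, 9]), (2, [32, 15]), (2, [31, 18]), (1, [21,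 3]), (1, [36, 4]), (1, [28, 1]), (1, [35, 13]), (1, [7, 2]), (1, [22, 4]), (2, [3, 31]), (2, [9, 10]), (2, [38, 34, 0]), (1, [26, 1]), (1, [17, 4]), (1, [20, 11]), (2, [0, 15]), (2, [14, 27, 2]), (2, [28, 27]), (2, [9, 33]), (2, [11, 34, 0]), (2, [15, 16]), (2, [16, 22]), (2, [4, 33]), (2, [28, 18]), (1, [27, 17]), (1, [12, 3]), (1, [23, 14]), (2, [24, 0]), (2, [22, 0]), (2, [38, 3]), (1, [20, 0]), (1, [25, 0]), (2, [11, 24, 0]), (2, [35, 13]), (2, [27, 17]), (2, [34, 20, 0]), (2, [5, 15]), (2, [4, 2]), (2, [26, 31, 0]), (2, [36, 17, 0]), (2, [21, 29]), (1, [11, 3]), (2, [34, 2]), (2, [3, 35, 0]), (2, [38, 18]), (1, [25, 2]), (1, [37]), (2, [29, 0]), (2, [24, 6]), (2, [6, 5]), (1, [18]), (1, [32]), (1, [19, 4]), (2, [16, 1, 1]), (2, [7, 31]), (2, [15, 18]), (2, [4, 16, 0]), (2, [25, 2]), (2, [14, 13]), (2, [27, 11, 0]),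 (2, [14, 14]), (2, [33, 10]), (2, [1, 6]), (2, [24, 9]), (2, [28, 12, 0]), (1, [15, 13]), (2, [35, 36, 0]), (2, [12, 3]), (2, [5, 2]), (2, [25, 12]), (2, [35, 14]), (2, [28, 4, 0]), (2, [30, 10]), (2, [35, 15]), (2, [34, 24]), (2, [20, 1]), (2, [6, 23]), (2, [6, 10, 1]), (2, [13, 22, 0]), (2, [27, 7, 0]), (2, [7, 21]), (2, [17, 4]), (2, [5, 14]), (2, [19, 4]), (2, [15, 13]), (2, [20, 26]), (2, [34, 7]), (2, [34, 28, 3]), (2, [20, 33]), (2, [31, 9]), (2, [30, 33]), (2, [36, 18]), (2, [37, 13, 0]), (2, [22, 4, 0]), (1, [4]), (1, [33, 11]), (2, [19, 6, 0]), (2, [33, 17, 0]), (2, [12, 6, 0]), (2, [4]), (1, [19, 9]), (2, []), (2, [33, 27, 0]), (1, [38, 0]), (1, [3, 18]), (2, [1, 28, 0]), (2, [23, 22, 2]), (2, [22, 30]), (2, [34, 23]), (2, [21, 5, 0]), (2, [36, 20]), (1, [3, 10]), (1, [28, 4]), (2, [2, 9, 0]), (2, [35, 27, 0]),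 (2, [37, 8, 0]), (1, [1, 10]), (2, [3, 0]), (2, [26, 18, 0]), (2, [33, 11]), (1, [2, 10]), (1, [34, 0]), (2, [7, 7]), (2, [33, 19]), (2, [0, 13]), (2, [33, 17]), (2, [1, 33, 0]), (2, [30, 6]), (1, [26, 27]), (1, [19, 3]), (2, [7, 22, 0]), (2, [24, 32]), (2, [32, 2]), (2, [22, 5]), (2, [32, 24]), (2, [22, 23]), (2, [12, 8]), (2, [33, 19, 0]), (2, [20, 17, 0]), (2, [23, 1]), (2, [21, 12]), (2, [20, 6]), (2, [2, 9]), (2, [24, 7, 0]), (2, [14, 25]), (2, [4, 3]), (2, [8, 12]), (2, [30, 27]), (2, [34, 5]), (2, [32, 25]), (2, [17, 29]), (2, [21, 1]), (2, [7, 15]), (2, [7, 14]), (2, [0, 35]), (2, [14, 20, 0]), (1, [25, 1]), (1, [5, 17]), (2, [8, 1, 1]), (2, [9, 1]), (2, [10, 18, 0]), (1, [24]), (2, [12, 14]), (2, [19, 5, 0]), (2, [33, 22]), (1, [13, 24]), (1, [8, 4]), (2, [31, 1]), (2, [13, 9, 1]), (2, [20, 2]), (1, [5, 6]), (2,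 [33, 23]), (2, [27, 1]), (2, [8, 18]), (1, [5, 19]), (2, [0, 21]), (2, [16, 13]), (2, [20, 12]), (2, [28, 33]), (2, [33, 13]), (2, [34, 26]), (2, [25, 38]), (2, [29, 8]), (2, [31, 11]), (2, [8, 21]), (2, [12, 17]), (2, [12, 19]), (2, [3, 16]), (2, [16, 19]), (2, [34, 33, 0]), (2, [35, 16]), (2, [26, 11]), (2, [26, 30, 0]), (1, [26, 8]), (1, [7, 3]), (2, [37, 23]), (2, [6, 21]), (2, [15, 8]), (2, [29, 4]), (2, [29]), (2, [19, 25]), (1, [32, 21]), (1, [14, 4]), (2, [17, 17]), (2, [0, 23]), (2, [2, 34, 0]), (2, [29, 2]), (2, [17, 19]), (2, [3, 38, 1]), (2, [0, 5]), (2, [16, 13, 0]), (2, [0, 10, 1]), (2, [25, 18]), (2, [19, 29, 0]), (2, [16, 14]), (2, [14, 20]), (2, [28, 29]), (2, [12, 24, 0]), (2, [25, 13, 0]), (2, [21, 7]), (2, [29, 33, 0]), (2, [34, 4]), (2, [27, 12, 0]), (2, [10, 19]), (2, [13, 25, 0]), (2, [34, 0]), (1,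 [33, 0]), (2, [17, 24, 0]), (2, [21, 8]), (2, [33, 24]), (2, [2, 32, 0]), (2, [12, 30, 1]), (2, [23, 13, 0]), (2, [13, 13]), (2, [5, 0]), (2, [34]), (2, [15, 0]), (2, [31, 30]), (1, [0, 27]), (2, [13, 4]), (2, [17, 8]), (2, [25, 0]), (2, [11, 15]), (2, [12, 6]), (2, [33, 7]), (2, [36, 1]), (2, [37, 15]), (2, [28, 32]), (2, [5, 29, 2]), (2, [13]), (2, [37, 14]), (2, [6, 37]), (2, [18, 38]), (2, [10, 31]), (2, [8, 4, 0]), (2, [25, 12, 0]), (2, [7, 22]), (2, [9, 11]), (2, [2, 5]), (2, [28, 7, 0]), (2, [2, 23]), (2, [20, 28]), (2, [33, 35]), (2, [24, 8, 0]), (2, [2, 10]), (2, [6, 27, 0]), (2, [9, 32]), (2, [11, 30]), (2, [10, 33, 1]), (2, [30, 1]), (2, [22, 32]), (2, [16, 28]), (2, [10, 22]), (2, [24, 29]), (2, [38, 31]), (2, [19, 15, 0]), (2, [12, 21, 2]), (2, [12, 15]), (2, [33, 5]), (2, [36, 31, 0]), (2, [30, 13]), (2, [16,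 17]), (2, [35, 3, 0]), (2, [16, 25, 0]), (2, [11, 17]), (2, [30, 7]), (2, [24, 20]), (2, [38, 17]), (2, [11, 18, 0]), (2, [1, 1]), (2, [20, 3]), (2, [2, 21]), (2, [25, 1]), (2, [23, 7]), (2, [14, 11]), (2, [18, 14, 0]), (2, [38, 13]), (2, [19, 32]), (2, [6, 6, 0]), (2, [18, 9, 0]), (2, [31, 12]), (2, [32]), (2, [20, 31, 0]), (2, [27, 2]), (2, [6, 26]), (2, [8, 4]), (2, [11, 13]), (2, [33, 9]), (2, [8]), (2, [32, 35]), (2, [32, 4]), (2, [10, 36]), (2, [7, 3]), (2, [11, 7]), (2, [4, 11, 0]), (2, [23, 22]), (2, [5, 22]), (2, [0, 14]), (2, [7, 13]), (2, [14, 32]), (2, [2, 30]), (2, [16, 33, 1]), (2, [14, 14, 0]), (2, [35, 8]), (2, [34, 24, 0]), (2, [17]), (2, [3, 18]), (2, [19]), (2, [18, 11]), (2, [26, 6]), (2, [26, 8]), (2, [27, 15]), (2, [25, 4]), (2, [12, 13, 0]), (2, [33, 8]), (2, [26, 12, 0]), (2, [22, 20]), (2, [5, 19,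 1]), (2, [10, 16]), (2, [8, 20]), (2, [20, 7]), (2, [10, 23, 0]), (2, [4, 36]), (2, [13, 25]), (2, [25]), (2, [10, 11]), (2, [31, 25]), (2, [8, 31]), (2, [5, 11, 0]), (2, [35, 7]), (2, [35, 10, 0]), (2, [1]), (2, [2, 1]), (2, [5, 32, 0]), (2, [12, 1]), (2, [25, 3]), (2, [5, 7]), (2, [9, 7]), (2, [12, 37]), (2, [26, 27]), (2, [38, 10, 0]), (2, [34, 21]), (2, [38, 38, 0]), (2, [35, 19]), (2, [27, 10]), (2, [23, 0]), (2, [17, 12]), (2, [15, 9]), (2, [0, 23, 0]), (2, [36, 0]), (2, [4, 11]), (2, [8, 10]), (2, [34, 33]), (2, [28, 14]), (2, [21, 5]), (2, [15, 3]), (2, [37, 35]), (2, [27]), (2, [1, 6, 1]), (2, [12, 20]), (2, [8, 19, 0]), (2, [18, 22, 0]), (2, [19, 3]), (2, [38, 27, 0]), (2, [20]), (2, [37, 17]), (2, [16, 1]), (2, [4, 35, 0]), (2, [8, 27]), (2, [22]), (2, [11, 34]), (2, [33, 1]), (2, [21, 16]), (2, [20, 27]), (2,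 [35, 9, 0]), (2, [17, 11, 0]), (2, [35, 29, 0]), (2, [30, 25]), (2, [13, 33, 5]), (2, [30, 20, 0]), (2, [35, 1]), (2, [19, 36, 0]), (2, [22, 6, 0]), (2, [7, 8]), (2, [22, 21, 1]), (2, [6, 12]), (2, [30, 19, 0]), (2, [32, 19]), (2, [31, 3, 0]), (2, [38, 26, 0]), (2, [2, 15, 0]), (2, [20, 22]), (2, [19, 27]), (2, [21, 38]), (2, [28, 4]), (2, [6, 19]), (2, [20, 19, 0]), (2, [9, 15, 0]), (2, [26, 7]), (2, [1, 16]), (2, [5, 6]), (2, [4, 27]), (2, [36]), (2, [15, 15, 0]), (2, [8, 0]), (2, [14, 36]), (2, [28, 35]), (2, [12, 2]), (2, [36, 4]), (2, [0, 12]), (2, [5, 8]), (2, [2, 33]), (2, [33, 0]), (2, [15, 4]), (2, [34, 9, 0]), (2, [27, 23, 0]), (2, [6, 6]), (2, [14, 4]), (2, [18, 6]), (2, [27, 34]), (2, [3, 21]), (2, [28, 17]), (2, [28]), (2, [8, 23, 0]), (2, [38, 0]), (2, [22, 4]), (2, [17, 24]), (2, [13, 30]), (2, [20, 10]),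 (2, [17, 21]), (2, [29, 3]), (2, [22, 19]), (2, [16, 11]), (2, [11, 5]), (2, [11, 23]), (2, [17, 6, 0]), (2, [4, 19]), (2, [2]), (2, [23, 4]), (2, [27, 32, 0]), (2, [13, 33, 0]), (2, [5]), (2, [35, 4]), (2, [28, 13]), (2, [13, 10, 0]), (2, [1, 27]), (2, [36, 32]), (2, [23, 6, 0]), (2, [6, 2]), (2, [11, 12]), (2, [8, 19]), (2, [9, 20, 1]), (2, [15, 17]), (2, [7, 5]), (2, [22, 11, 0]), (2, [19, 2]), (2, [19, 24]), (2, [34, 37]), (2, [15, 19]), (2, [8, 17]), (2, [33, 12, 0]), (2, [20, 22, 0]), (2, [13, 22]), (2, [7, 18]), (2, [21, 9]), (2, [19, 18]), (2, [29, 31, 0]), (2, [2, 3, 0]), (2, [21, 14]), (2, [21, 3]), (2, [29, 14]), (2, [37, 1]), (2, [10, 6]), (2, [2, 26]), (2, [7, 2]), (2, [3, 8]), (2, [3, 20, 2]), (2, [32, 26, 1]), (2, [6, 38]), (2, [15, 25]), (2, [2, 17]), (2, [18, 4]), (2, [19, 5]), (2, [36, 14, 0]), (2, [4,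 6]), (2, [13, 36]), (2, [26, 16]), (2, [31, 8]), (2, [4, 12]), (2, [31, 3]), (2, [26, 35]), (2, [12]), (2, [18, 28, 0]), (2, [35, 36]), (2, [11, 2]), (2, [18]), (2, [7, 9]), (2, [29, 15]), (2, [13, 24]), (2, [21, 15]), (2, [32, 21]), (2, [10, 8]), (2, [30, 11]), (2, [27, 13]), (2, [1, 10]), (2, [22, 17]), (2, [30, 30, 1]), (2, [24]), (2, [23]), (0, [4, 28, 0]), (0, [23, 33]), (0, [11, 32]), (0, [36, 6]), (0, [0, 11]), (0, [35, 31]), (0, [16, 30]), (0, [9, 16, 1]), (0, [22, 35, 0]), (0, [15, 24]), (0, [25, 17, 2]), (0, [22, 28, 5]), (0, [10, 2]), (0, [18, 18]), (0, [28, 9, 1]), (0, [19, 31, 0]), (0, [11, 14, 4]), (0, [28, 26, 0]), (0, [14, 34, 1]), (0, [3, 25]), (0, [31, 10]), (0, [26, 23]), (0, [23, 18]), (0, [17, 27]), (0, [14, 5]), (0, [37, 19, 0]), (0, [23, 1, 0]), (0, [26, 22]), (0, [30, 14, 2]), (0, [35, 16, 0]), (0,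 [32, 34, 4]), (0, [34, 19, 0]), (0, [33, 1]), (0, [30, 38]), (0, [26, 26]), (0, [14, 4]), (0, [15, 29]), (0, [27, 19]), (0, [32]), (0, [2, 33]), (0, [6, 0, 1]), (0, [13, 4, 3]), (0, [34, 29, 1]), (0, [35, 13, 0]), (0, [25, 6, 1]), (0, [8, 10, 5]), (0, [38, 38, 3]), (0, [28, 24, 2]), (0, [12, 3, 0]), (0, [9, 32, 6]), (0, [15, 28, 1]), (0, [8, 30]), (0, [26, 19]), (0, [25, 37, 3]), (0, [7, 10, 1]), (0, [14, 16, 0]), (0, [9, 9]), (0, [21, 22]), (0, [22, 13, 1]), (0, [30, 3]), (0, [22, 33]), (0, [31, 26, 5]), (0, [16, 28]), (0, [7, 17, 3]), (0, [37]), (0, [15, 13]), (0, [11, 12, 0]), (0, [2, 28, 1]), (0, [12, 6, 0]), (0, [38, 30, 3]), (0, [14, 0, 1]), (0, [28, 13, 3]), (0, [6, 0]), (0, [18, 38, 0]), (0, [35, 33, 2]), (0, [16, 38, 4]), (0, [22, 27, 1]), (0, [5, 26, 0]), (0, [30, 2, 3]), (0, [3, 12, 1]), (0, [4, 38]), (0, [21,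 14, 0]), (0, [5, 9, 1]), (0, [23, 15]), (0, [19, 25]), (0, [26, 4, 0]), (0, [30, 30]), (0, [38, 37]), (0, [35, 15, 2]), (0, [25, 13, 1]), (0, [28, 21]), (0, [10, 19, 5]), (0, [21, 14, 11]), (0, [36, 38, 0]), (0, [21, 30, 1]), (0, [29, 8, 0]), (0, [16, 3]), (0, [20, 29]), (0, [27, 8]), (0, [9, 33, 1]), (0, [8, 19, 2]), (0, [33, 20, 1]), (0, [4, 32, 1]), (0, [12, 25, 1]), (0, [34, 33, 0]), (0, [12, 15]), (0, [33, 6, 2]), (0, [4, 25, 2]), (0, [3, 4]), (0, [28, 29]), (0, [17, 1]), (0, [29, 21, 0]), (0, [4, 14]), (0, [23, 28, 3]), (0, [35, 14]), (0, [14, 3]), (0, [37, 17, 0]), (0, [11, 22, 0]), (0, [36, 26, 3]), (0, [15, 7, 3]), (0, [36, 28]), (0, [25, 8, 0]), (0, [20, 15, 2]), (0, [9, 34, 0]), (0, [27, 4, 0]), (0, [19, 22, 0]), (0, [4, 17]), (0, [32, 7, 3]), (0, [7, 34, 0]), (0, [37, 38]), (0, [20, 20]), (0, [27, 0, 6]), (0,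 [10, 9]), (0, [0, 7]), (0, [21, 24, 7]), (0, [6, 4, 0]), (0, [33, 5, 0]), (0, [37, 14, 1]), (0, [19, 8, 0]), (0, [15, 31, 1]), (0, [31, 8, 0]), (0, [22, 17, 0]), (0, [10, 14]), (0, [9, 25, 2]), (0, [21, 15, 0]), (0, [29, 20]), (0, [2, 17, 0]), (0, [12, 26]), (0, [6, 22]), (0, [37, 31, 0]), (0, [7, 12, 1]), (0, [19, 35]), (0, [15, 25, 0]), (0, [19, 21]), (0, [35, 18, 1]), (0, [32, 10]), (0, [35, 9]), (0, [33, 21, 0]), (0, [12, 8, 0]), (0, [37, 14, 0]), (0, [25, 32, 5]), (0, [21, 25]), (0, [10, 2, 1]), (0, [13, 6, 0]), (0, [33, 3, 4]), (0, [12, 7]), (0, [27, 5]), (0, [11, 15, 1]), (0, [26, 18, 0]), (0, [1, 1, 6]), (0, [31, 6]), (0, [28, 4, 0]), (0, [26, 5]), (0, [29, 37, 3]), (0, [4, 4, 1]), (0, [21, 19]), (0, [17, 33]), (0, [14, 38, 0]), (0, [29, 30, 0]), (0, [28, 12]), (0, [24, 6]), (0, [31, 8, 1]), (0, [30, 6]), (0, [6,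 26, 6]), (0, [35, 2, 1]), (0, [18, 13]), (0, [17, 12, 1]), (0, [22, 37]), (0, [22, 8]), (0, [28, 2]), (0, [19, 29]), (0, [5, 31]), (0, [20, 18]), (0, [21, 27, 0]), (0, [2, 3, 4]), (0, [26, 8, 2]), (0, [19, 15]), (0, [16, 9]), (0, [32, 31]), (0, [28, 22]), (0, [2, 8]), (0, [38, 3]), (0, [11, 24, 0]), (0, [31, 18, 5]), (0, [23, 0, 1]), (0, [6, 1]), (0, [24, 11, 1]), (0, [21]), (0, [23, 20, 2]), (0, [31, 13, 0]), (0, [11, 4, 1]), (0, [7, 27, 4]), (0, [28, 8, 8]), (0, [9, 29]), (0, [2, 12]), (0, [31, 20]), (0, [25, 30, 0]), (0, [10, 10, 0]), (0, [19, 1, 0]), (0, [34, 27, 0]), (0, [13, 16, 0]), (0, [13, 3]), (0, [8]), (0, [15, 7, 0]), (0, [28, 30, 1]), (0, [12, 16]), (0, [29, 14, 0]), (0, [23, 38, 0]), (0, [32, 22, 1]), (0, [13, 35, 4]), (0, [19, 34, 0]), (0, [11, 6]), (0, [14, 7, 2]), (0, [33, 23, 1]), (0, [11, 7]), (0, [38,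 7]), (0, [35, 7, 2]), (0, [23, 2]), (0, [30, 13]), (0, [7, 33]), (0, [31, 33, 1]), (0, [7, 25]), (0, [32, 33]), (0, [8, 33]), (0, [5, 25, 0]), (0, [14, 27]), (0, [31, 34, 0]), (0, [24, 18, 0]), (0, [10, 7, 2]), (0, [37, 37, 0]), (0, [2, 35, 0]), (0, [8, 3]), (0, [32, 18, 1]), (0, [32, 9]), (0, [32, 14]), (0, [37, 10, 1]), (0, [6, 27]), (0, [31, 15]), (0, [38, 4, 0]), (0, [13, 7]), (0, [11, 38]), (0, [8, 37]), (0, [3, 12, 0]), (0, [17, 28, 0]), (0, [2, 27, 3]), (0, [3, 11]), (0, [11, 8]), (0, [6, 13]), (0, [38, 38]), (0, [36, 8, 0]), (0, [33, 24, 0]), (0, [9, 17, 2]), (0, [26, 0]), (0, [36, 10, 1]), (0, [35, 3]), (0, [25]), (0, [15, 0]), (0, [7, 6, 6]), (0, [21, 20, 0]), (0, [32, 27, 3]), (0, [15, 35, 1]), (0, [2, 29, 0]), (0, [12, 23, 2]), (0, [33, 22, 0]), (0, [29, 6, 1]), (0, [11, 4, 0]), (0, [16, 20, 1]), (0, [9, 13,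 0]), (0, [20, 35]), (0, [26, 21]), (0, [30, 27]), (0, [35, 30]), (0, [38, 34, 3]), (0, [27, 13, 3]), (0, [21, 5, 2]), (0, [27, 2]), (0, [15, 11, 4]), (0, [10, 20]), (0, [19, 11, 0]), (0, [18, 36]), (0, [34]), (0, [17, 21, 0]), (0, [37, 29, 1]), (0, [10, 4]), (0, [30, 9]), (0, [10, 18]), (0, [19, 14, 0]), (0, [22, 15, 3]), (0, [12, 1, 1]), (0, [21, 24]), (0, [13, 2]), (0, [8, 34, 2]), (0, [10, 30]), (0, [7, 5, 3]), (0, [32, 29, 0]), (0, [3, 9, 2]), (0, [14, 30, 1]), (0, [9, 35, 1]), (0, [15, 21, 1]), (0, [17, 3]), (0, [31, 25, 6]), (0, [29, 6]), (0, [23, 29]), (0, [38, 15, 4]), (0, [14, 28]), (0, [29, 33, 3]), (0, [12, 6]), (0, [31, 13]), (0, [20, 32, 1]), (0, [9, 15]), (0, [26, 36]), (0, [25, 28, 3]), (0, [22, 36]), (0, [30, 35]), (0, [8, 8]), (0, [30, 8, 1]), (0, [16, 24, 5]), (0, [15, 33, 1]), (0, [32, 13, 0]), (0, [3,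 16]), (0, [31, 5, 8]), (0, [7, 24, 2]), (0, [9, 4, 3]), (0, [25, 21]), (0, [33, 33, 0]), (0, [15, 1, 0]), (0, [0, 32]), (0, [21, 28, 0]), (0, [5, 33]), (0, [19, 31, 1]), (0, [29, 31, 2]), (0, [8, 17, 0]), (0, [28, 8]), (0, [9, 31, 2]), (0, [3, 6, 1]), (0, [13, 34, 2]), (0, [13, 33]), (0, [0, 12, 10]), (0, [25, 2]), (0, [20, 28, 0]), (0, [23, 21]), (0, [21, 30, 0]), (0, [27, 11, 0]), (0, [38, 32]), (0, [6, 27, 3]), (0, [9, 10]), (0, [2, 3]), (0, [11, 13, 2]), (0, [12, 12, 4]), (0, [17, 4]), (0, [30, 10]), (0, [36, 29]), (0, [27, 20, 0]), (0, [27, 15, 0]), (0, [15, 16, 5]), (0, [1, 38]), (0, [31, 35, 4]), (0, [30, 29]), (0, [22, 37, 0]), (0, [21, 17]), (0, [9, 13]), (0, [32, 19, 0]), (0, [28, 3, 4]), (0, [38, 6]), (0, [26, 24]), (0, [16, 24]), (0, [13, 9]), (0, [9, 6]), (0, [13, 18, 1]), (0, [7, 36]), (0, [4, 1]), (0, [7,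 38, 2]), (0, [27, 30, 1]), (0, [14, 12]), (0, [33, 14]), (0, [23, 26, 0]), (0, [37, 17]), (0, [25, 6, 0]), (0, [24, 12]), (0, [19, 35, 3]), (0, [1, 6, 6]), (0, [12, 37]), (0, [36, 0]), (0, [17, 18, 1]), (0, [17, 9]), (0, [31, 36, 3]), (0, [31, 38]), (0, [9, 20]), (0, [19]), (0, [17, 14]), (0, [15, 31, 0]), (0, [18, 0]), (0, [1, 15, 0]), (0, [20, 19]), (0, [26, 12, 0]), (0, [24, 2]), (0, [6, 37]), (0, [10, 12]), (0, [20, 17]), (0, [26, 8]), (0, [29, 25, 1]), (0, [27, 17, 1]), (0, [30, 20]), (0, [15, 12, 2]), (0, [19, 17, 0]), (0, [11, 1, 5]), (0, [23, 11, 1]), (0, [2, 37]), (0, [16, 16, 0]), (0, [11, 6, 1]), (0, [27, 26, 1]), (0, [4, 0]), (0, [35, 24]), (0, [7, 12, 0]), (0, [10, 19, 3]), (0, [13, 21]), (0, [18, 9, 0]), (0, [30, 15]), (0, [28, 25, 0]), (0, [1, 31, 2]), (0, [6, 19]), (0, [28, 5]), (0, [20, 1, 1]), (0, [29]),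 (0, [6, 12, 1]), (0, [30, 33, 1]), (0, [36, 21, 1]), (0, [20, 6, 2]), (0, [19, 6]), (0, [35, 27]), (0, [34, 15, 4]), (0, [18, 6]), (0, [6, 21]), (0, [37, 31, 3]), (0, [34, 9, 0]), (0, [17, 6]), (0, [31, 1]), (0, [22, 28, 0]), (0, [23, 9]), (0, [36, 7, 0]), (0, [20, 34, 4]), (0, [20, 9, 1]), (0, [10, 5]), (0, [33, 17, 0]), (0, [23, 13]), (0, [23, 18, 1]), (0, [13, 15]), (0, [23, 14]), (0, [10, 27]), (0, [33, 3, 0]), (0, [25, 0]), (0, [0, 33, 2]), (0, [15, 23]), (0, [32, 21, 2]), (0, [18, 28]), (0, [14, 10, 0]), (0, [28, 32]), (0, [31, 16]), (0, [37, 22]), (0, [10, 24]), (0, [6, 28]), (0, [6, 31, 0]), (0, [36, 5, 0]), (0, [26, 3, 0]), (0, [33, 27]), (0, [37, 10, 4]), (0, [29, 27, 0]), (0, [20, 31]), (0, [9, 29, 1]), (0, [4, 29, 2]), (0, [22, 26, 1]), (0, [20, 4]), (0, [13, 18, 2]), (0, [25, 18, 4]), (0, [27, 12]), (0, [11,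 34]), (0, [26, 6, 0]), (0, [14, 23, 7]), (0, [14, 2]), (0, [37, 34]), (0, [22]), (0, [36, 26]), (0, [34, 5, 2]), (0, [35, 20, 0]), (0, [31, 27]), (0, [34, 1, 1]), (0, [11, 14, 0]), (0, [29, 5, 2]), (0, [27, 24, 2]), (0, [6, 35]), (0, [31, 7, 2]), (0, [16, 35, 2]), (0, [14, 37, 1]), (0, [14, 18]), (0, [29, 10]), (0, [4, 16, 0]), (0, [12, 18]), (0, [20, 36]), (0, [12, 1, 4]), (0, [6, 23]), (0, [18, 17, 0]), (0, [37, 33, 0]), (0, [12, 6, 2]), (0, [35, 5]), (0, [8, 5, 1]), (0, [33, 8]), (0, [33, 25, 3]), (0, [17, 13]), (0, [38, 8, 1]), (0, [11, 21]), (0, [1, 18]), (0, [7, 6, 1]), (0, [16, 2]), (0, [36, 8, 4]), (0, [18, 29]), (0, [11, 0]), (0, [11, 22]), (0, [24, 19]), (0, [5, 9, 0]), (0, [22, 30]), (0, [3, 2]), (0, [23, 37, 0]), (0, [24, 25]), (0, [23, 27, 1]), (0, [27, 21]), (0, [16, 26, 1]), (0, [32, 8, 5]), (0, [11, 8, 1]),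 (0, [27, 29]), (0, [25, 5, 0]), (0, [26, 37]), (0, [33, 0]), (0, [11, 1, 1]), (0, [25, 1]), (0, [21, 10]), (0, [20, 11, 1]), (0, [32, 30]), (0, [8, 28, 0]), (0, [35, 16, 4]), (0, [31, 10, 0]), (0, [11, 11]), (0, [27, 34]), (0, [9, 16]), (0, [4, 13, 0]), (0, [5, 11, 3]), (0, [32, 12, 1]), (0, [8, 36]), (0, [12, 3]), (0, [37, 26, 5]), (0, [9, 21, 0]), (0, [37, 17, 1]), (0, [18, 8, 0]), (0, [37, 26, 1]), (0, [20, 10]), (0, [29, 17]), (0, [15, 36]), (0, [12, 38, 0]), (0, [20, 22]), (0, [21, 10, 1]), (0, [13, 4, 2]), (0, [30, 31, 2]), (0, [12, 27]), (0, [9, 29, 0]), (0, [0, 6]), (0, [32, 33, 2]), (0, [12, 20]), (0, [13, 30]), (0, [15, 37, 5]), (0, [14, 20]), (0, [4, 34, 1]), (0, [30, 4, 3]), (0, [16, 5]), (0, [12, 2, 1]), (0, [9, 27]), (0, [31, 21, 0]), (0, [3, 18]), (0, [26, 1, 1]), (0, [38, 22]), (0, [7, 32, 1]), (0, [17,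 24]), (0, [17, 37]), (0, [18, 5, 0]), (0, [38, 10, 4]), (0, [7, 2]), (0, [21, 17, 1]), (0, [1, 15]), (0, [36, 11, 0]), (0, [12, 17]), (0, [10, 20, 2]), (0, [36, 1, 0]), (0, [21, 14]), (0, [2, 34, 2]), (0, [16, 13, 0]), (0, [23, 30]), (0, [36, 35, 5]), (0, [33, 4]), (0, [20, 36, 2]), (0, [28, 6, 1]), (0, [35, 37, 1]), (0, [5, 33, 0]), (0, [0, 6, 1]), (0, [37, 13]), (0, [9, 10, 2]), (0, [33, 10, 1]), (0, [34, 15, 2]), (0, [31, 3]), (0, [7, 21, 2]), (0, [24, 7]), (0, [38, 18, 4]), (0, [22, 33, 3]), (0, [11, 18, 4]), (0, [30, 29, 0]), (0, [15, 33, 0]), (0, [35, 18]), (0, [5, 9]), (0, [8, 15, 0]), (0, [9, 35]), (0, [21, 32, 3]), (0, [31, 15, 3]), (0, [33, 15, 0]), (0, [29, 18]), (0, [14, 27, 3]), (0, [12, 6, 1]), (0, [36, 24]), (0, [33, 25]), (0, [6, 16, 0]), (0, [30, 5, 0]), (0, [3, 23, 6]), (0, [14, 14]), (0, [14, 9]), (0,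 [6, 38]), (0, [33, 16]), (0, [7, 10, 0]), (0, [15, 28]), (0, [37, 21, 0]), (0, [15, 5, 0]), (0, [37, 23, 0]), (0, [25, 20, 0]), (0, [26, 1]), (0, [32, 37]), (0, [13, 13]), (0, [38, 38, 6]), (0, [20, 0]), (0, [25, 14, 0]), (0, [30, 1]), (0, [32, 33, 0]), (0, [1, 23, 2]), (0, [2, 5, 1]), (0, [28, 38, 0]), (0, [35, 4]), (0, [0, 38]), (0, [12, 27, 1]), (0, [6, 29, 1]), (0, [2, 5, 0]), (0, [26, 33, 1]), (0, [34, 32, 1]), (0, [15, 25, 1]), (0, [5, 14]), (0, [20, 3, 0]), (0, [17, 17, 3]), (0, [37, 24]), (0, [21, 4, 2]), (0, [8, 5, 0]), (0, [11, 3]), (0, [1, 8]), (0, [37, 18, 1]), (0, [37, 14]), (0, [25, 12, 1]), (0, [24, 21, 4]), (0, [16, 20]), (0, [9, 14, 2]), (0, [6, 12, 0]), (0, [13, 18]), (0, [19, 9, 1]), (0, [14, 15, 2]), (0, [29, 4, 3]), (0, [37, 10]), (0, [4, 35]), (0, [19, 23]), (0, [20, 38, 2]), (0, [38, 24, 0]), (0,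 [1, 9, 0]), (0, [28, 36, 0]), (0, [16, 4]), (0, [15, 6]), (0, [15, 22, 1]), (0, [2]), (0, [0, 26]), (0, [16, 18]), (0, [1, 34, 0]), (0, [34, 12, 6]), (0, [12]), (0, [17, 19]), (0, [38, 8]), (0, [17, 36, 0]), (0, [20, 12]), (0, [22, 16, 7]), (0, [5, 19, 1]), (0, [15, 11, 0]), (0, [25, 11]), (0, [30, 17, 2]), (0, [0, 1, 1]), (0, [0, 15, 5]), (0, [5, 12, 3]), (0, [32, 26, 0]), (0, [11, 28]), (0, [2, 30]), (0, [31, 30, 3]), (0, [23, 20, 4]), (0, [26, 10, 2]), (0, [7, 8, 2]), (0, [30, 2, 1]), (0, [34, 37]), (0, [6, 6, 0]), (0, [27, 6, 0]), (0, [14, 13, 0]), (0, [0, 8]), (0, [23, 7]), (0, [6, 26]), (0, [13, 38, 0]), (0, [1, 27, 1]), (0, [15, 38, 0]), (0, [14, 30]), (0, [34, 18, 1]), (0, [7, 4]), (0, [19, 30]), (0, [0, 34, 3]), (0, [36, 9, 1]), (0, [34, 18, 0]), (0, [6, 8]), (0, [7, 20]), (0, [0, 4, 0]), (0, [5]), (0, [11, 29,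 7]), (0, [32, 14, 3]), (0, [10, 3]), (0, [26, 34, 1]), (0, [35, 10, 0]), (0, [19, 12]), (0, [2, 28, 0]), (0, [12, 13]), (0, [9, 4, 1]), (0, [25, 27, 1]), (0, [5, 10]), (0, [34, 14]), (0, [14, 10, 3]), (0, [34, 9]), (0, [30, 16]), (0, [29, 7]), (0, [1, 20, 0]), (0, [5, 17]), (0, [35, 2]), (0, [9, 2, 1]), (0, [29, 38, 0]), (0, [11, 34, 6]), (0, [38, 28]), (0, [26, 16, 1]), (0, [25, 28, 4]), (0, [38, 26]), (0, [12, 10]), (0, [35, 15, 12]), (0, [18, 21, 1]), (0, [17, 32]), (0, [3, 37, 0]), (0, [13, 29]), (0, [34, 10]), (0, [15, 10, 0]), (0, [3, 36]), (0, [8, 12]), (0, [36, 23]), (0, [19, 32, 2]), (0, [25, 16]), (0, [19, 5]), (0, [36, 25, 0]), (0, [23, 8, 2]), (0, [9, 1]), (0, [16, 12]), (0, [20, 16]), (0, [29, 33]), (0, [8, 26, 0]), (0, [0, 21]), (0, [34, 24]), (0, [28, 6, 0]), (0, [16, 9, 1]), (0, [20, 11]), (0, [31, 5, 0]),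 (0, [21, 13]), (0, [31, 37, 2]), (0, [28, 25, 1]), (0, [37, 19]), (0, [37, 36, 0]), (0, [19, 20]), (0, [18, 23]), (0, [9, 37, 2]), (0, [26, 13]), (0, [36, 32]), (0, [1, 11]), (0, [8, 6, 3]), (0, [9, 20, 1]), (0, [0, 28]), (0, [6, 15]), (0, [22, 5, 0]), (0, [38, 1, 1]), (0, [36, 27, 4]), (0, [5, 5, 2]), (0, [4, 18, 2]), (0, [26, 27]), (0, [17, 38, 0]), (0, [35, 11, 5]), (0, [26, 15]), (0, [20, 14, 0]), (0, [27, 36, 0]), (0, [3, 33]), (0, [21, 38]), (0, [21, 9]), (0, [29, 38, 1]), (0, [25, 23, 0]), (0, [14, 21, 2]), (0, [38, 0]), (0, [23, 24, 3]), (2, [33, 5, 0]), (2, [33, 34]), (2, [14, 12]), (2, [15, 22]), (2, [2, 3]), (2, [3, 29]), (2, [13, 15]), (2, [26, 0]), (2, [23, 3]), (2, [17, 6, 3]), (2, [0, 32]), (2, [16, 5]), (2, [18, 24]), (2, [2, 8]), (2, [13, 21]), (2, [38, 6]), (2, [14, 18]), (2, [7, 33]), (2, [6, 29, 0]),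 (2, [32, 30]), (2, [7, 4]), (2, [16, 9]), (2, [31, 20]), (2, [8, 8]), (2, [12, 32, 0]), (2, [22, 8]), (2, [38, 8]), (2, [6, 1]), (2, [21]), (2, [6, 0]), (2, [27, 6, 0]), (2, [9, 20]), (2, [35, 18]), (2, [23, 21]), (2, [0, 8]), (2, [33, 15, 1]), (2, [18, 23]), (2, [21, 13]), (2, [4, 5]), (2, [25, 11]), (2, [1, 18]), (2, [19, 29]), (2, [10, 2]), (2, [6, 29, 1]), (2, [11, 28]), (2, [21, 12, 3]), (2, [11, 6]), (2, [17, 7, 0]), (2, [13, 3]), (2, [10, 24]), (2, [18, 22]), (2, [16, 18]), (2, [35, 2]), (2, [23, 9]), (2, [10, 23]), (2, [17, 16, 1]), (2, [26, 1]), (2, [23, 14]), (2, [7, 36]), (2, [34, 13, 0]), (2, [29, 13]), (2, [8, 3]), (2, [17, 20]), (2, [14, 5]), (2, [14, 23]), (2, [7, 12, 1]), (2, [35, 16, 0]), (2, [35, 9]), (2, [35, 11, 2]), (2, [19, 6]), (2, [28, 37]), (2, [16, 12]), (2, [34, 18, 0]), (2, [14, 24]), (2, [18,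 36]), (2, [12, 7]), (2, [36, 10, 0]), (2, [1, 2]), (2, [32, 13, 0]), (2, [31, 16]), (2, [35, 5]), (2, [27, 2, 3]), (2, [17, 1]), (2, [37, 10]), (2, [35, 23]), (2, [10, 9]), (2, [20, 0]), (2, [38, 26]), (2, [13, 9]), (2, [33, 14]), (2, [16, 2]), (2, [21, 10]), (2, [37]), (2, [26, 9, 0]), (2, [30, 16]), (2, [38, 28]), (2, [0, 6]), (2, [7, 12, 0]), (2, [15, 36]), (2, [3, 33]), (2, [15, 11, 0]), (2, [20, 11]), (2, [19, 12]), (2, [15, 38, 0]), (2, [17, 37])]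

set_option maxRecDepth 1000000 in
def SLp8P : List ℕ := [3077202967767226682050749628981421069257810552943919857535, 3126243576286776539377755170894185641193416019001252872575, 3150858910311745637634339155812003482038223596809135095934, 3150858162022862549180309685185756594945075351536210574974, 3126242827997983001670430016098222157529115843139133735293]

set_option maxRecDepth 1000000 in
def SCp8 : List (List ℤ) := [3077395280933139264181994577657241723618832974433205714065, 3126339357263812123513608416529918721021585058422243491971, 3150858910311745637975955942946667932364464789707265442173, 3150858536167304093748941207633543279891998995947135729533, 3126338983119415354659945839131627494161094822646576480134].map unpack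

set_option maxRecDepth 1000000 in
def stepsp8 : List (ℕ × ℕ × ℕ) := [(1, 0, 0), (2, 0, 1), (3, 1, 0), (4, 3, 1)]

set_option maxRecDepth 1000000 in
def Wp8 : List (ℕ × List ℕ) := [(0, []), (0, [9, 22]), (0, [24, 29]), (0, [22, 0]), (0, [10, 32]), (0, [31, 23]), (0, [5, 5]), (0, [4, 7]), (0, [34, 21]), (0, [28]), (0, [30, 14]), (0, [20, 12, 0]), (0, [3, 13]), (0, [5, 4]), (0, [14, 32]), (0, [4, 16, 2]), (0, [7, 13]), (0, [11, 35]), (0, [37, 8, 3]), (0, [26, 36, 0]), (0, [2, 10]), (0, [11, 2]), (0, [2, 25]), (0, [35, 32]), (0, [15, 14, 1]), (0, [10, 17]), (0, [29, 19]), (0, [6, 11]), (0, [15, 16]), (0, [12, 5, 1]), (0, [34, 4]), (0, [28, 27]), (0, [25, 21, 0]), (0, [23, 34]), (0, [32, 5]), (0, [36, 37]), (0, [8, 0]), (0, [12, 12, 1]), (0, [7, 18, 0]), (0, [27]), (0, [22, 10]), (0, [6, 23, 0]), (0, [13, 8]), (0, [27, 28]),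 (0, [30, 22]), (0, [19, 28, 0]), (0, [7, 1]), (0, [38, 35]), (0, [18, 37]), (0, [32, 21]), (0, [16, 3, 0]), (0, [8, 10]), (0, [29, 23, 1]), (0, [28, 28]), (0, [33, 9]), (0, [13, 34]), (2, [15, 35]), (2, [22, 26, 1]), (2, [36, 9]), (2, [20, 12]), (2, [9, 10]), (2, [20, 18, 3]), (2, [0, 36]), (2, [7, 23, 3]), (2, [19, 30, 2]), (2, [33, 1, 2]), (2, [17, 24, 0]), (2, [4, 4]), (2, [3, 4, 0]), (2, [23, 31, 1]), (2, [14, 30, 0]), (2, [13, 21, 5]), (2, [29, 21, 1]), (2, [4, 14]), (2, [10, 8, 3]), (2, [30, 21]), (2, [8, 10, 2]), (2, [38, 1]), (2, [23, 14, 0]), (2, [18, 36, 11]), (2, [14, 20]), (2, [25, 6, 1]), (2, [38, 8, 2]), (2, [24, 34]), (2, [18, 23, 5]), (2, [32, 2]), (2, [20, 36, 0]), (2, [2, 29, 0]), (2, [35, 19, 0]), (2, [24, 3]), (2, [17, 6]), (2, [5, 21, 1]), (2, [3, 10, 8]), (2, [1, 14]), (2, [25, 12]), (2, [29, 7, 5]),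 (2, [25, 18, 0]), (2, [29, 18, 2]), (2, [3, 34, 0]), (2, [8, 25, 1]), (2, [6]), (2, [12, 7, 1]), (2, [32, 33]), (2, [4, 12, 2]), (2, [0, 28, 5]), (2, [31, 21]), (2, [30, 16, 2]), (2, [12, 21, 1]), (2, [18, 20, 4]), (2, [6, 27]), (2, [26, 18, 4]), (2, [18, 23, 8]), (2, [8, 20, 0]), (2, [2, 33, 6]), (2, [0, 8, 2]), (2, [7, 19, 0]), (2, [25, 17, 0]), (2, [23, 33, 1]), (2, [34, 27, 0]), (2, [10, 32, 1]), (2, [27, 26]), (2, [29, 3, 0]), (2, [4, 8]), (2, [36, 27, 1]), (2, [32, 14, 3]), (2, [25, 19]), (2, [38, 17]), (2, [1, 18, 0]), (2, [5, 14, 3]), (2, [35, 5, 0]), (2, [4, 35, 3]), (2, [1, 20]), (2, [20, 2]), (2, [33, 34, 0]), (2, [26, 0, 5]), (2, [27, 22]), (2, [6, 11, 2]), (2, [21, 37]), (2, [27, 27, 2]), (2, [11, 2, 1]), (2, [36, 10, 8]), (2, [13, 5, 4]), (2, [20, 35, 2]), (2, [30, 14, 1]), (2, [32, 4, 8]), (2, [18, 5, 0]),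 (2, [32, 27, 1]), (2, [22, 10, 1]), (2, [11, 22, 0]), (2, [10, 14, 2]), (2, [18, 25]), (2, [8, 29, 1]), (2, [14, 9, 2]), (2, [1, 22, 0]), (2, [12, 17]), (2, [9, 35, 5]), (2, [3, 15, 1]), (2, [28, 6]), (2, [24, 7, 0]), (2, [14, 2, 1]), (2, [5, 14, 6]), (2, [5, 10, 3]), (2, [6, 23]), (2, [23, 24, 4]), (2, [22, 20, 0]), (2, [25, 16, 2]), (2, [6, 18, 0]), (2, [27, 6]), (2, [23, 38, 0]), (2, [38, 7]), (2, [18, 10]), (2, [15, 31]), (2, [2, 17, 1]), (2, [6, 25, 0]), (2, [15, 7, 0]), (2, [16, 31]), (2, [31, 37, 0]), (2, [30, 20, 11]), (2, [27, 33]), (2, [9, 5]), (2, [16, 38]), (2, [30, 5]), (2, [26, 24, 5]), (2, [13, 25]), (2, [30, 23, 1]), (2, [11, 8, 3]), (2, [7, 34, 4]), (2, [8, 15, 4]), (2, [24, 11]), (2, [38, 22]), (2, [26, 25, 0]), (2, [31, 26, 1]), (2, [21, 26, 4]), (2, [0, 27]), (2, [14, 8, 0]), (2, [12, 37]), (2, [34,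 4, 2]), (2, [12, 27]), (2, [7, 4, 7]), (2, [9, 31, 3]), (2, [25, 34]), (2, [19, 19, 3]), (2, [18, 7, 0]), (2, [10, 23, 3]), (2, [12, 19, 2]), (2, [19, 20]), (2, [19, 31]), (2, [1, 26, 0]), (2, [28, 26]), (2, [14, 24, 2]), (2, [26, 37, 3]), (2, [17, 35, 0]), (2, [4, 32]), (2, [4, 15]), (2, [26, 13]), (2, [10, 0]), (2, [28, 14, 3]), (2, [35, 20, 0]), (2, [20, 6, 6]), (2, [10, 30]), (2, [10, 8, 0]), (2, [35, 18, 1]), (2, [32, 19, 11]), (2, [33, 9, 2]), (2, [3, 32, 1]), (2, [27, 17, 6]), (2, [12, 6]), (2, [24, 0]), (2, [19, 28]), (2, [4, 34]), (2, [36, 7, 0]), (2, [24, 17, 0]), (2, [0, 4]), (2, [3, 10, 4]), (2, [6, 37, 6]), (2, [28, 38, 0]), (2, [28, 25]), (2, [31, 14, 2]), (2, [4, 28, 4]), (2, [6, 37, 3]), (2, [36, 33, 8]), (2, [9, 14, 2]), (2, [35, 5, 15]), (2, [22, 29, 0]), (2, [27, 26, 13]), (2, [0, 7]), (2, [2, 18]), (2,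 [9, 23, 1]), (2, [0, 17]), (2, [2, 29, 1]), (2, [28, 2]), (2, [6, 36]), (2, [4, 20, 1]), (2, [9, 5, 1]), (2, [23, 19, 5]), (2, [3, 34, 1]), (2, [2, 25, 2]), (2, [28, 14, 0]), (2, [24, 36, 4]), (2, [25, 23, 1]), (2, [16, 6]), (2, [34, 13, 1]), (2, [19, 4]), (2, [11, 34, 3]), (2, [33, 13]), (2, [7, 32, 7]), (2, [30, 3, 2]), (2, [36, 31, 1]), (2, [3, 31, 2]), (2, [20, 7, 3]), (2, [32, 27, 0]), (2, [8, 9, 4]), (2, [2, 15, 1]), (2, [17, 36, 2]), (2, [27, 1]), (2, [6, 21, 5]), (2, [29, 27, 0]), (2, [12, 18, 2]), (2, [36, 5, 0]), (2, [10, 9, 2]), (2, [33, 23]), (2, [12, 3]), (2, [37, 8]), (2, [13, 6, 0]), (2, [2, 34, 0]), (2, [5, 8, 3]), (2, [20, 13, 1]), (2, [36, 24, 7]), (2, [4, 16, 0]), (2, [35, 9, 1]), (2, [33]), (2, [21, 10, 2]), (2, [23, 6, 4]), (2, [28, 24, 0]), (2, [28, 35, 0]), (2, [36, 12, 0]), (2, [34, 33, 0]), (2,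 [0, 26, 0]), (2, [32, 36, 1]), (2, [15, 5, 0]), (2, [23, 37]), (2, [20, 11, 3]), (2, [22, 12, 7]), (2, [22, 17, 1]), (2, [36, 25]), (2, [22, 35, 0]), (2, [24, 13, 0]), (2, [21, 34, 4]), (2, [3, 12]), (2, [27, 2]), (2, [24, 10, 1]), (2, [13, 34, 1]), (2, [23, 30, 4]), (2, [6, 1, 1]), (2, [34, 27, 1]), (2, [31, 5, 1]), (2, [19, 27, 0]), (2, [11, 1]), (2, [27, 9, 10]), (2, [25]), (2, [38, 36]), (2, [26, 27]), (2, [21, 13, 0]), (2, [34, 9]), (2, [18, 36, 1]), (2, [3, 7, 4]), (2, [21, 5]), (2, [0, 12, 1]), (2, [6, 8]), (2, [8, 29, 4]), (2, [31, 10]), (2, [11, 29, 4]), (2, [1, 13, 10]), (2, [33, 18, 1]), (2, [35, 9, 2]), (2, [10, 4, 7]), (2, [13, 9, 0]), (2, [16, 26, 5]), (2, [32, 9, 0]), (2, [34, 18]), (2, [5, 33]), (2, [21, 16, 0]), (2, [8, 24]), (2, [23, 12]), (2, [34, 15, 0]), (2, [3, 15, 2]), (2, [20, 10, 2]), (2, [29, 25,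 5]), (2, [33, 33, 2]), (2, [16, 24, 5]), (2, [31, 34, 4]), (2, [13, 15, 0]), (2, [3, 6, 5]), (2, [24, 12, 2]), (2, [19, 33, 3]), (2, [4, 4, 1]), (2, [14, 31]), (2, [23, 38]), (2, [6, 15, 4]), (2, [32, 4, 1]), (2, [33, 5, 1]), (2, [21, 8]), (2, [34, 29]), (2, [3, 13, 2]), (2, [27, 8]), (2, [35, 7, 0]), (2, [8, 33, 3]), (2, [15, 38, 2]), (2, [27, 14, 3]), (2, [26, 18, 0]), (2, [16, 30]), (2, [2, 19]), (2, [22, 18]), (2, [32, 23, 0]), (2, [5, 13, 1]), (2, [6, 4, 0]), (2, [18, 5, 1]), (2, [36, 1, 1]), (2, [22, 24]), (2, [30, 10, 2]), (2, [31, 14, 6]), (2, [37, 5]), (2, [34, 31, 2]), (2, [6, 35, 4]), (2, [26, 23]), (2, [3, 35]), (2, [30, 26, 1]), (2, [2, 37, 2]), (2, [19, 21]), (2, [19, 37, 0]), (2, [38, 8, 1]), (2, [22, 2, 7]), (2, [12, 14, 4]), (2, [7, 15, 2]), (2, [29, 35]), (2, [16, 8, 0]), (2, [21, 35, 6]), (2, [30, 13]),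 (2, [35, 31]), (2, [37, 7]), (2, [16, 16, 1]), (2, [17, 23, 2]), (2, [30, 31, 0]), (2, [28, 12, 3]), (2, [2, 20, 0]), (2, [13, 18]), (2, [31, 5]), (2, [22, 4, 0]), (2, [3, 13, 1]), (2, [35, 18, 2]), (2, [35, 3]), (2, [21, 24, 3]), (2, [26, 25, 1]), (2, [13, 31, 2]), (2, [4, 0, 6]), (2, [30, 31, 3]), (2, [33, 28, 0]), (2, [8, 35, 0]), (2, [19, 21, 0]), (2, [38, 27]), (2, [29, 16, 3]), (2, [27, 38, 0]), (2, [9, 38, 1]), (2, [15, 28, 7]), (2, [11, 27]), (2, [19, 14]), (2, [13, 38]), (2, [20, 38]), (2, [8, 12, 4]), (2, [15, 24, 0]), (2, [9, 16, 1]), (2, [33, 38, 3]), (2, [22, 21]), (2, [13, 18, 2]), (2, [36, 8, 1]), (2, [20, 7, 0]), (2, [29, 6]), (2, [5, 5, 1]), (2, [0, 14, 2]), (2, [33, 22]), (2, [8, 28]), (2, [10, 7, 0]), (2, [25, 5]), (2, [12, 33]), (2, [37, 15, 1]), (2, [10, 31]), (2, [31, 25, 0]), (2, [10, 38]), (2, [32,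 18]), (2, [1, 2, 8]), (2, [38, 8, 3]), (2, [19, 17]), (2, [33, 7]), (2, [5, 9]), (2, [29, 26]), (2, [35, 22, 0]), (2, [30, 30, 3]), (2, [17, 31, 0]), (2, [33, 17]), (2, [2, 33, 3]), (2, [23, 32, 0]), (2, [25, 2]), (2, [16, 15, 0]), (2, [8, 4, 0]), (2, [1, 26]), (2, [19, 7]), (2, [5, 17, 9]), (2, [11, 8, 2]), (2, [15, 5, 1]), (2, [34, 8, 0]), (2, [20, 31]), (2, [12, 3, 5]), (2, [12, 21, 2]), (2, [35, 2, 1]), (2, [10, 18, 3]), (2, [7, 31, 1]), (2, [0, 28, 0]), (2, [8, 37, 3]), (2, [27, 25]), (2, [36, 5, 1]), (2, [29, 22]), (2, [15, 16, 1]), (2, [16, 20]), (2, [19, 15]), (2, [37, 34, 4]), (2, [13, 7, 5]), (2, [3, 33, 0]), (2, [13, 2, 3]), (2, [4, 13]), (2, [19, 33, 0]), (2, [2, 37, 0]), (2, [10, 25, 9]), (2, [29, 6, 2]), (2, [1, 0, 1]), (2, [11, 21, 2]), (2, [31, 4, 5]), (2, [26, 31, 4]), (2, [6, 20, 4]), (2, [30, 28, 0]),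 (2, [28, 8]), (2, [27, 0, 1]), (2, [38, 3, 5]), (2, [11, 22]), (2, [14, 20, 5]), (2, [27, 25, 0]), (2, [29, 24]), (2, [33, 25]), (2, [21, 17, 2]), (2, [33, 38, 0]), (2, [13, 32, 1]), (2, [15, 10]), (2, [30, 29]), (2, [5, 9, 0]), (2, [32, 17, 2]), (2, [22, 8, 0]), (2, [35, 6]), (2, [3, 32]), (2, [25, 6]), (2, [12, 36]), (2, [33, 37]), (2, [14, 38]), (2, [18, 27, 1]), (2, [36, 37, 1]), (2, [11, 17]), (2, [24, 38]), (2, [20, 6, 0]), (2, [25, 0]), (2, [16, 12, 0]), (2, [32, 29, 1]), (2, [29, 35, 1]), (2, [10, 16, 2]), (2, [0, 35, 2]), (2, [13, 32, 0]), (2, [5, 1, 5]), (2, [17, 16]), (2, [19, 1, 1]), (2, [16, 5, 0]), (2, [30, 13, 2]), (2, [9, 10, 3]), (2, [5, 16, 5]), (2, [9, 14, 6]), (2, [30, 16, 3]), (2, [20, 26, 2]), (2, [36, 7, 4]), (2, [14, 28, 6]), (2, [19, 11, 8]), (2, [12, 3, 0]), (2, [21, 25, 4]), (2, [37, 10, 1]),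 (2, [16, 3]), (2, [9, 29]), (2, [17, 4, 0]), (2, [26, 0, 1]), (2, [5, 18]), (2, [26, 11, 1]), (2, [35, 23, 5]), (2, [33, 11]), (2, [0, 13, 0]), (2, [20, 1]), (2, [17, 32]), (2, [17, 5, 3]), (2, [10, 10, 0]), (2, [11, 13, 0]), (2, [35, 7, 3]), (2, [37, 0]), (2, [8, 34, 0]), (2, [19, 6, 0]), (2, [10, 28, 3]), (2, [12, 35]), (2, [21, 7]), (2, [36, 13, 5]), (2, [9, 31, 0]), (2, [19, 13, 11]), (2, [21, 17]), (2, [20, 36]), (2, [23, 15, 0]), (2, [25, 22, 2]), (2, [30, 10]), (2, [15, 30]), (2, [12, 29, 2]), (2, [26, 8, 0]), (2, [17, 32, 0]), (2, [20, 1, 1]), (2, [7, 33, 0]), (2, [36, 22, 2]), (2, [26, 30]), (2, [4, 6, 3]), (2, [3, 5, 0]), (2, [29, 36]), (2, [7, 35]), (2, [36, 30]), (2, [12, 34, 0]), (2, [27, 35, 0]), (2, [33, 3, 2]), (2, [19, 30, 10]), (2, [0, 6, 1]), (2, [6, 16]), (2, [37, 15]), (2, [14, 3]), (2, [29, 7, 2]),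 (2, [19, 6, 7]), (2, [37, 30, 4]), (2, [37, 14]), (2, [5, 2]), (2, [14, 18, 2]), (2, [8, 18]), (2, [34, 2]), (2, [28, 9, 10]), (2, [12, 26]), (2, [13, 3, 0]), (2, [11, 28, 0]), (2, [27, 10, 0]), (2, [10, 15, 3]), (2, [33, 17, 1]), (2, [10, 20]), (2, [1, 37, 2]), (2, [38, 22, 0]), (2, [29, 19, 2]), (2, [1, 28]), (2, [0, 32, 1]), (2, [4, 7, 2]), (2, [32, 1, 5]), (2, [9, 21]), (2, [19, 12, 2]), (2, [3, 16]), (2, [9, 16, 9]), (2, [5, 29]), (2, [31, 32, 0]), (2, [11, 6, 1]), (2, [28, 0, 4]), (2, [31, 27, 5]), (2, [8, 8, 0]), (2, [22, 28]), (2, [23, 18]), (2, [5, 20]), (2, [13, 37]), (2, [35, 20]), (2, [1, 38, 0]), (2, [31, 29]), (2, [1, 32, 3]), (2, [5, 15, 3]), (2, [17, 4]), (2, [13, 4, 0]), (2, [19, 36]), (2, [24, 16]), (2, [4, 38]), (2, [29, 13, 5]), (2, [26, 2, 3]), (2, [2, 35, 4]), (2, [1, 22, 1]), (2, [28, 10, 0]), (2,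 [22, 37]), (2, [23, 2, 3]), (2, [21, 0]), (2, [8, 5, 4]), (2, [11, 6, 7]), (2, [38, 4]), (2, [33, 10, 1]), (2, [36, 33]), (2, [12, 22]), (2, [12, 19, 1]), (2, [29, 19, 1]), (2, [33, 15]), (2, [37, 13, 0]), (2, [2, 21]), (2, [31, 29, 3]), (2, [26]), (2, [6, 0, 5]), (2, [15, 23, 0]), (2, [26, 31, 8]), (2, [8]), (2, [19, 19, 1]), (2, [29, 27]), (2, [23, 8, 1]), (2, [14, 0]), (2, [8, 26]), (2, [32, 2, 1]), (2, [31, 6, 2]), (2, [31, 18, 4]), (2, [17, 4, 3]), (2, [11, 7]), (2, [26, 8]), (2, [6, 4, 1]), (2, [12, 15, 2]), (2, [36, 22, 1]), (2, [7, 29, 1]), (2, [23, 9, 0]), (2, [32, 9]), (2, [26, 6, 4]), (2, [31, 23, 2]), (2, [25, 12, 6]), (2, [8, 35, 7]), (2, [18, 23, 0]), (2, [21, 27]), (2, [16, 19, 0]), (2, [1, 15, 0]), (2, [20, 30, 2]), (2, [20, 11, 1]), (2, [35, 23, 1]), (2, [21, 29, 4]), (2, [33, 28]), (2, [31, 20, 1]), (2,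 [0, 5, 0]), (2, [6, 13]), (2, [2, 30]), (2, [37, 28, 4]), (2, [21, 19, 0]), (2, [24, 20, 0]), (2, [3, 19, 0]), (2, [8, 37]), (2, [5, 8, 0]), (2, [26, 4, 0]), (2, [28, 11, 1]), (2, [27, 37, 0]), (2, [14, 9, 1]), (2, [8, 2, 1]), (2, [4, 5, 1]), (2, [20, 26, 1]), (2, [25, 3]), (2, [19, 3, 4]), (2, [19, 8]), (2, [4, 24, 0]), (2, [15, 9]), (2, [14, 17, 1]), (2, [25, 37, 1]), (2, [34, 33]), (2, [24, 30, 0]), (2, [8, 27, 4]), (2, [37, 21, 1]), (2, [17, 7, 2]), (2, [1]), (2, [38, 35, 1]), (2, [14, 6]), (2, [25, 12, 2]), (2, [32, 30, 0]), (2, [10, 3]), (2, [6, 1, 2]), (2, [15, 20, 4]), (2, [20, 13]), (2, [21, 10, 1]), (2, [4, 30, 0]), (2, [25, 21]), (2, [3, 36, 0]), (2, [25, 37, 0]), (2, [9, 32, 0]), (2, [7, 16]), (2, [11, 4]), (2, [29, 17]), (2, [11, 12, 1]), (2, [22, 15, 0]), (2, [0, 23, 0]), (2, [37, 17]), (2, [2, 37]), (2, [19,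 21, 2]), (2, [13, 18, 0]), (2, [4, 35, 0]), (2, [2, 37, 5]), (2, [7, 15, 1]), (2, [22, 23, 6]), (2, [0, 31, 0]), (2, [7, 31, 2]), (2, [12, 24]), (2, [38, 23, 0]), (2, [13, 3, 5]), (2, [16, 2, 3]), (2, [13, 29]), (2, [35, 0]), (2, [32, 8, 0]), (2, [36, 31]), (2, [27, 29, 6]), (2, [6, 30]), (2, [16, 20, 0]), (2, [30, 23, 2]), (2, [29, 20, 2]), (2, [38, 25, 4]), (2, [21, 21, 0]), (2, [21, 38, 4]), (2, [2, 15, 0]), (2, [32, 29]), (2, [33, 1]), (2, [7, 4, 0]), (2, [16, 4, 5]), (2, [20, 4, 3]), (2, [7, 26]), (2, [22]), (2, [14, 5, 5]), (2, [29, 15, 2]), (2, [19, 12, 1]), (2, [31, 25, 3]), (2, [6, 33, 5]), (2, [6, 29]), (2, [11, 26, 0]), (2, [28, 25, 0]), (2, [15, 12, 0]), (2, [11, 23, 0]), (2, [7, 13, 2]), (2, [14, 12, 0]), (2, [30, 20, 1]), (2, [29, 7, 1]), (2, [32, 15, 3]), (2, [18, 30]), (2, [4, 24, 3]), (2, [7, 32]), (2,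 [0, 8, 1]), (2, [23, 32, 1]), (2, [37, 14, 2]), (2, [28, 20, 1]), (2, [31, 35, 3]), (2, [13, 12]), (2, [5, 31, 2]), (2, [38, 0]), (2, [4, 22]), (2, [32, 33, 2]), (2, [17, 24]), (2, [35, 27, 3]), (2, [5, 4, 1]), (2, [29, 33]), (2, [9, 9, 2]), (2, [18, 31]), (2, [2, 26]), (2, [18, 13, 4]), (2, [31, 23, 1]), (2, [37, 16, 0]), (2, [36, 10]), (2, [9, 28, 0]), (2, [6, 30, 1]), (2, [31, 28, 0]), (2, [34, 15, 3]), (2, [34, 20]), (2, [0, 6, 5]), (2, [3, 31, 1]), (2, [24, 10, 2]), (2, [4, 8, 1]), (2, [25, 14, 0]), (2, [21, 14]), (2, [1, 27]), (2, [5, 29, 1]), (2, [9, 29, 2]), (2, [25, 9, 0]), (2, [33, 5, 2]), (2, [29, 3]), (2, [6, 20, 0]), (2, [26, 16]), (2, [15, 25]), (2, [1, 15]), (2, [23, 6, 0]), (2, [17, 20, 0]), (2, [21, 15]), (2, [35, 15, 0]), (2, [34, 2, 1]), (2, [12, 29, 1]), (2, [5, 27, 1]), (2, [19, 5]), (2, [37, 19, 3]),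 (2, [28, 10, 6]), (2, [23, 3, 0]), (2, [4, 29]), (2, [7, 18]), (2, [20, 23, 8]), (2, [10, 10, 4]), (2, [16, 23, 1]), (2, [28, 21, 0]), (2, [22, 19]), (2, [24, 35]), (2, [10, 6]), (2, [35, 12, 0]), (2, [34, 30, 0]), (2, [9, 23, 6]), (2, [15, 38, 1]), (2, [9, 32, 3]), (2, [15, 16, 2]), (2, [20, 30, 1]), (2, [34, 10, 3]), (2, [37, 27]), (2, [24, 31]), (2, [9, 10, 2]), (2, [9, 20, 1]), (2, [21, 37, 1]), (2, [20, 20, 5]), (2, [9, 25, 0]), (2, [26, 18, 1]), (2, [23, 28, 0]), (2, [2]), (2, [25, 38, 1]), (2, [1, 9, 0]), (2, [6, 20, 1]), (2, [13, 38, 0]), (2, [33, 12, 0]), (2, [0, 1]), (2, [37, 2, 1]), (2, [21, 21, 4]), (2, [16, 0]), (2, [19, 30, 11]), (2, [1, 9, 1]), (2, [4, 30, 4]), (2, [37, 37]), (0, [21, 8]), (0, [7, 32]), (0, [26, 19, 1]), (0, [17, 28]), (0, [6, 3]), (0, [31, 10]), (0, [1, 6]), (0, [33, 1]), (0, [33, 27, 1]),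 (0, [10, 2]), (0, [0, 11]), (0, [9, 18]), (0, [32, 27]), (0, [31, 0]), (0, [38, 25, 0]), (0, [17]), (0, [34, 19, 0]), (0, [28, 23, 1]), (0, [25, 6]), (0, [21, 6, 2]), (0, [29, 34]), (0, [23, 33]), (0, [32, 8, 0]), (0, [19, 17]), (0, [5, 4, 1]), (0, [16, 15]), (0, [3, 0]), (0, [9, 13, 1]), (0, [2, 33]), (0, [2, 18]), (0, [8, 29]), (0, [10, 35]), (0, [35, 13]), (0, [32, 28]), (0, [32]), (0, [11, 3, 0]), (0, [3, 10]), (0, [8, 24]), (0, [2, 34, 3]), (0, [31, 25]), (0, [9, 9]), (0, [34, 24, 0]), (0, [13, 15, 0]), (0, [34, 4, 0]), (0, [29, 36]), (0, [20, 6]), (0, [21, 23]), (0, [28, 18]), (0, [3, 34]), (0, [31, 25, 0]), (0, [16, 8, 0]), (0, [29, 4]), (0, [22, 1, 0]), (0, [35, 32, 1]), (0, [26, 9, 1]), (0, [27, 30]), (0, [27, 15]), (0, [5, 7, 0]), (0, [30, 3]), (0, [2, 13]), (0, [19, 19, 0]), (0, [37, 28]), (0, [25, 9]), (0, [17,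 16]), (0, [12, 3, 0]), (0, [10, 11]), (0, [11, 15]), (0, [36, 33]), (0, [4, 21, 0]), (0, [14, 5, 0]), (0, [26, 6]), (0, [11, 34, 2]), (0, [10, 30, 0]), (0, [21, 9, 0]), (0, [18, 7]), (0, [16, 11]), (0, [28, 9]), (0, [25, 8]), (0, [30, 15]), (0, [19, 0]), (0, [17, 17]), (0, [3, 37, 0]), (0, [18, 14, 0]), (0, [18, 12]), (0, [37, 18]), (0, [15, 29, 0]), (0, [16, 23, 0]), (0, [13, 21]), (0, [35, 0]), (0, [1, 31]), (0, [2, 5]), (0, [35, 30, 0]), (0, [28, 4]), (0, [25, 18]), (0, [5, 16]), (0, [36, 7]), (0, [15, 9, 0]), (0, [21, 6]), (0, [22, 26]), (0, [5, 7, 2]), (0, [37, 5]), (0, [38, 5, 1]), (0, [7, 30, 0]), (0, [32, 33]), (0, [37, 34, 1]), (0, [7, 10]), (0, [1, 20, 2]), (0, [14, 12, 0]), (0, [16, 8, 1]), (0, [21, 11]), (0, [28, 24]), (0, [37, 24]), (0, [37, 29]), (0, [3, 27]), (0, [9, 2]), (0, [13, 19, 0]), (0, [5, 15, 0]),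 (0, [6, 7]), (0, [37, 3]), (0, [30, 20, 0]), (0, [32, 12]), (0, [5, 22]), (0, [29, 16]), (0, [30, 13]), (0, [1, 30, 0]), (0, [18, 21]), (0, [26, 6, 0]), (0, [31, 28]), (0, [20, 30, 0]), (0, [14, 35]), (0, [24, 0]), (0, [32, 25]), (0, [9]), (0, [24, 5]), (0, [7, 27]), (0, [2, 3]), (0, [7, 23]), (0, [23, 36]), (0, [24, 25, 0]), (0, [21, 18]), (0, [22, 5]), (0, [22, 13, 0]), (0, [6, 14]), (0, [30, 29, 2]), (0, [10, 34]), (0, [30, 6]), (0, [25, 20, 0]), (0, [3, 23]), (0, [4, 4, 1]), (0, [25, 13]), (0, [11, 6]), (0, [33, 8, 0]), (0, [31, 15]), (0, [28, 25, 2]), (0, [12, 18]), (0, [32, 0]), (0, [22, 3]), (0, [5, 15]), (4, [27, 8]), (0, [30, 7, 0]), (0, [25, 12]), (0, [36, 36]), (0, [37, 0]), (0, [6, 15, 1]), (0, [32, 5, 1]), (0, [23, 18, 3]), (0, [36, 31]), (0, [8, 3]), (0, [28, 14]), (0, [21, 18, 0]), (0, [11, 5, 0]), (0, [26,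 8]), (0, [11, 34]), (0, [13, 37, 0]), (0, [25, 17]), (0, [30, 28]), (0, [25, 5, 1]), (0, [31, 4, 0]), (4, [35]), (0, [21, 2, 1]), (0, [18, 19]), (0, [14, 23]), (0, [28, 4, 0]), (0, [27, 6]), (0, [32, 16, 0]), (0, [23, 18, 1]), (0, [24, 36]), (0, [37, 4, 0]), (0, [13, 26]), (0, [31, 26, 0]), (0, [14, 19]), (0, [19, 33]), (0, [32, 17]), (0, [22, 20]), (4, [19, 4]), (4, [24, 9]), (0, [22, 8, 0]), (0, [31, 29]), (0, [1, 21]), (0, [26, 38]), (0, [25, 22, 4]), (0, [32, 1]), (0, [27, 4]), (0, [16, 7]), (0, [28, 12]), (0, [16, 14]), (0, [26, 1]), (0, [15, 25]), (0, [0, 17]), (0, [3, 4, 0]), (0, [24, 3]), (0, [21, 26, 0]), (0, [33]), (0, [12, 18, 0]), (0, [4, 18, 0]), (0, [20, 3]), (0, [14, 26]), (0, [13, 12]), (0, [35, 20]), (4, [35, 13]), (0, [5, 1, 2]), (0, [13, 25]), (0, [6, 1]), (0, [30, 5, 0]), (0, [23, 17]), (0, [7, 6]),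 (0, [23, 16, 0]), (4, [16, 8]), (0, [11, 37]), (4, [38, 2]), (0, [17, 37, 0]), (0, [3, 20]), (0, [38, 4, 1]), (0, [4, 36]), (0, [31, 21]), (0, [18, 10]), (0, [34, 33]), (0, [23, 21]), (0, [27, 18]), (4, [16, 15]), (0, [19, 22]), (0, [9, 20, 0]), (0, [24, 30, 0]), (0, [9, 13]), (4, [22, 13]), (0, [12, 24]), (4, [34, 4]), (0, [23, 19]), (0, [16, 6]), (0, [15, 26]), (4, [13, 37]), (4, [21, 19]), (0, [21, 4]), (0, [35]), (0, [27, 3]), (0, [33, 29, 0]), (0, [20, 18]), (0, [33, 12]), (0, [16, 18]), (0, [4, 8]), (0, [38, 31, 2]), (0, [38, 36]), (0, [29, 20]), (0, [27, 14]), (0, [38, 22]), (0, [26, 3]), (0, [20, 17]), (0, [32, 3]), (0, [27, 7]), (4, [11, 3]), (0, [25, 15, 0]), (0, [26, 30]), (0, [33, 17, 0]), (0, [21, 0]), (0, [33, 0]), (0, [2, 25, 0]), (0, [14, 10]), (0, [32, 9]), (0, [26, 34, 0]), (0, [26, 18]), (0, [1, 37, 2]),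 (0, [7, 8, 4]), (0, [1, 14]), (0, [23, 4]), (0, [30, 1]), (0, [8, 2, 1]), (0, [13, 19]), (0, [31, 22, 0]), (0, [24, 8]), (0, [21, 32]), (4, [1, 23]), (4, [5, 9]), (0, [36, 14]), (0, [11, 27]), (0, [37, 5, 1]), (0, [17, 9]), (0, [35, 6]), (0, [18, 26]), (4, [10, 13]), (0, [32, 7]), (0, [32, 14]), (0, [21, 24]), (0, [36, 9]), (0, [14, 21, 1]), (4, [21, 25]), (0, [27, 5]), (4, [5, 5]), (0, [21, 7, 0]), (0, [20, 27]), (0, [32, 10]), (4, [23, 38]), (4, [24, 34]), (0, [9, 4]), (0, [17, 30, 1]), (0, [38, 21]), (0, [35, 29, 0]), (0, [38, 10]), (0, [29, 2]), (0, [6, 4, 1]), (0, [33, 29]), (0, [20, 14]), (4, [22, 1]), (0, [5, 4, 0]), (0, [20, 7]), (0, [30, 5]), (4, [23, 8]), (0, [31, 4]), (0, [14, 0]), (0, [25, 1]), (0, [34, 11]), (4, [16, 7]), (4, [12, 19]), (4, [6, 28]), (0, [4, 27]), (0, [25, 27]), (0, [8, 1]), (0, [34, 17]),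 (4, [24, 5]), (4, [6]), (4, [3, 19]), (4, [21, 17]), (4, [1, 14]), (4, [14, 0]), (4, [32, 15]), (0, [9, 17]), (0, [1, 1]), (0, [36, 12]), (0, [11, 23, 0]), (0, [27, 34]), (0, [11, 11]), (0, [26, 2]), (0, [12, 15]), (0, [36, 14, 3]), (0, [2, 8, 0]), (0, [38, 23, 1]), (0, [29, 4, 0]), (0, [2, 26]), (0, [25, 29]), (0, [3, 21]), (0, [28, 3]), (0, [31, 13]), (0, [38, 4]), (0, [12, 7]), (0, [9, 10]), (0, [27, 1]), (0, [4, 33, 0]), (0, [38, 8]), (0, [18, 17]), (0, [21, 17]), (0, [8, 4]), (0, [36, 33, 0]), (0, [14, 34]), (0, [15]), (0, [0, 1]), (0, [4, 13, 1]), (4, [14, 3]), (0, [23, 16]), (0, [12, 14]), (0, [29, 3, 0]), (0, [15, 5]), (0, [26, 4]), (0, [10, 6]), (0, [12, 8]), (0, [1, 5, 0]), (0, [33, 6]), (0, [5, 38, 1]), (0, [24, 4]), (0, [12, 27]), (0, [2, 5, 0]), (0, [8, 13, 0]), (4, [26, 27]), (4, [6, 8]), (0, [22, 2]), (0,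 [22, 20, 0]), (0, [20, 1]), (0, [33, 37]), (0, [9, 30, 1]), (0, [8, 2]), (0, [36, 29]), (4, [7, 0]), (0, [18, 14]), (0, [16, 35]), (0, [38, 6]), (0, [19, 11]), (4, [32, 8]), (0, [38, 1]), (0, [21, 3, 0]), (0, [34, 3]), (0, [5, 31]), (4, [21, 4]), (4, [2, 1]), (4, [12, 8]), (0, [26]), (0, [33, 6, 0]), (0, [31, 1]), (0, [4, 21]), (0, [22, 4]), (0, [16, 10]), (0, [34, 29]), (0, [35, 19]), (0, [0, 8]), (0, [2, 19]), (0, [23, 3, 0]), (0, [30]), (0, [31, 11, 1]), (4, []), (4, [28, 3]), (0, [18, 2]), (0, [8, 28]), (0, [5, 10]), (0, [38, 8, 0]), (0, [20, 9]), (4, [36, 18]), (4, [33, 13]), (0, [9, 0]), (0, [35, 36, 3]), (0, [2, 36, 0]), (4, [16, 3]), (0, [28, 5, 0]), (0, [17, 5, 1]), (0, [25, 7]), (0, [25, 14]), (4, [24, 16]), (4, [18, 2]), (4, [5, 0]), (4, [15, 13]), (4, [30]), (0, [4, 11]), (0, [25, 6, 0]), (0, [9, 21]), (0, [12,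 6]), (0, [27, 9]), (0, [17, 12]), (0, [11, 9]), (0, [0, 31]), (0, [5, 11]), (0, [28, 30]), (0, [9, 16, 0]), (4, [31, 13]), (0, [37, 11]), (0, [10]), (0, [25, 12, 0]), (0, [30, 16]), (4, [13, 17]), (0, [23, 0]), (0, [31, 2]), (4, [4, 26]), (0, [38, 13]), (0, [9, 29]), (0, [25, 4, 1]), (0, [9, 7, 1]), (4, [9, 2]), (0, [38, 23]), (0, [19, 9]), (0, [34, 9]), (4, [5, 4]), (4, [27, 6]), (0, [3, 37]), (0, [38, 12, 3]), (0, [31, 23, 0]), (4, [11, 10, 0]), (4, [7, 13]), (4, [27, 3]), (4, [17, 10]), (0, [14]), (0, [25, 0, 1]), (0, [1, 9]), (0, [25, 15]), (0, [14, 24]), (4, [6, 15]), (4, [8, 20]), (4, [30, 10]), (4, [2, 13]), (4, [18, 10]), (4, [29, 12]), (4, [9, 1, 0]), (0, [32, 35]), (0, [7]), (0, [30, 29]), (4, [15]), (4, [18, 0]), (4, [34, 16]), (4, [16, 30]), (4, [25, 21]), (0, [22, 1]), (0, [10, 10]), (0, [9, 19]), (0, [36,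 15]), (0, [19, 10]), (0, [5, 19]), (0, [22, 38, 1]), (0, [12, 6, 0]), (0, [6, 9, 1]), (0, [24]), (0, [25, 11, 0]), (0, [12, 5]), (0, [12, 4]), (0, [31, 3]), (0, [34, 0]), (0, [29, 6]), (0, [9, 7, 2]), (0, [30, 8]), (0, [24, 12]), (0, [32, 18]), (0, [30, 15, 4]), (0, [0, 19, 1]), (0, [30, 19]), (0, [35, 26]), (0, [16, 7, 2]), (0, [11]), (0, [5, 12, 0]), (0, [19, 23]), (0, [7, 28]), (0, [13, 28]), (0, [14, 9]), (0, [1, 20]), (0, [19, 27]), (0, [27, 27, 0]), (0, [25, 16]), (0, [30, 2]), (0, [33, 4, 0]), (0, [14, 11]), (0, [27, 27, 1]), (0, [14, 14]), (0, [10, 16, 3]), (0, [28, 15]), (0, [14, 7]), (4, [18, 14]), (0, [6, 20]), (0, [31, 7, 0]), (0, [26, 31]), (0, [34, 24]), (0, [10, 23]), (0, [38]), (4, [22]), (0, [12, 3]), (0, [8, 14, 3]), (0, [23, 38]), (0, [33, 27]), (4, [33, 1]), (0, [25, 36, 2]), (0, [16, 15, 0]), (0, [31,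 35]), (0, [16, 4, 1]), (0, [17, 11]), (0, [27, 4, 0]), (0, [23, 13]), (0, [19, 14]), (0, [19, 7]), (0, [34, 2]), (0, [22, 21, 1]), (4, [0, 10, 1]), (4, [23, 29]), (0, [9, 30]), (4, [32, 18]), (0, [20, 28]), (0, [14, 8]), (0, [27, 16]), (4, [36, 6]), (4, [27, 18, 0]), (0, [3, 5]), (0, [32, 34, 0]), (0, [12, 16]), (0, [14, 33]), (0, [34, 28]), (0, [9, 5, 0]), (4, [11, 35]), (0, [28, 1]), (0, [16, 21, 2]), (0, [0, 38]), (0, [31, 5]), (0, [31, 13, 0]), (0, [7, 9, 0]), (0, [18, 5]), (4, [20, 5]), (0, [5, 14]), (0, [0]), (0, [4, 10]), (0, [17, 0]), (4, [34, 1, 0]), (4, [38, 13]), (4, [19, 0]), (0, [6, 26, 1]), (0, [25, 3, 0]), (0, [3, 25, 0]), (0, [11, 21, 0]), (0, [17, 18]), (4, [23, 29, 0]), (0, [16, 21, 1]), (0, [12, 28, 0]), (0, [25, 19]), (4, [8, 4]), (4, [30, 32]), (4, [14, 4]), (4, [14, 33]), (0, [9, 16]), (0, [34, 17,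 0]), (0, [9, 5]), (0, [8, 20]), (0, [24, 13]), (0, [1, 33]), (0, [1, 16]), (0, [16, 2]), (0, [37, 22]), (0, [15, 2]), (0, [33, 28]), (0, [8, 26]), (0, [20, 29, 2]), (0, [14, 7, 0]), (0, [4, 0]), (4, [14, 8]), (4, [10, 0]), (0, [23, 25]), (4, [7, 30]), (0, [3, 12, 0]), (4, [31, 4]), (0, [12, 19, 1]), (0, [5, 20]), (4, [35, 3]), (0, [16, 37]), (0, [5, 3]), (0, [12, 13, 0]), (0, [14, 22]), (0, [31, 19]), (4, [31, 19]), (4, [31, 0]), (4, [18, 18]), (0, [10, 4, 0]), (0, [14, 2]), (0, [30, 2, 1]), (4, [32, 16, 0]), (4, [26, 11]), (0, [30, 6, 0]), (0, [4, 7, 0]), (4, [9, 23]), (0, [17, 38]), (0, [5, 18]), (0, [32, 15]), (0, [0, 16]), (0, [16, 8]), (0, [18]), (4, [23, 7]), (4, [13, 18]), (4, [5, 25]), (4, [19]), (4, [26, 21]), (4, [19, 12, 0]), (4, [19, 7]), (4, [11, 0]), (4, [7, 6]), (4, [30, 2]), (4, [0, 35]), (0, [12, 36]),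 (0, [35, 10]), (0, [7, 0]), (0, [35, 27]), (0, [2, 14]), (0, [6, 16]), (0, [20, 2]), (0, [16, 22]), (0, [7, 26]), (0, [20, 25]), (0, [6]), (0, [33, 7, 1]), (0, [25, 3]), (0, [5, 28]), (0, [4, 13, 3]), (0, [27, 12]), (4, [31]), (4, [9, 0]), (0, [14, 18]), (4, [11, 7, 0]), (0, [5, 26]), (0, [15, 22]), (0, [16, 13]), (4, [32, 1]), (4, [7, 19]), (0, [19, 8]), (4, [0, 36]), (0, [5, 33]), (0, [30, 0]), (0, [2, 7]), (4, [29, 19]), (4, [3]), (4, [13, 7, 0]), (4, [12, 25]), (4, [12, 5]), (4, [10, 3]), (0, [4, 22]), (0, [11, 22, 0]), (4, [35, 0]), (0, [10, 9]), (4, [16, 12, 0]), (0, [15, 15]), (0, [0, 6]), (4, [8, 22]), (4, [12, 9]), (4, [7, 11]), (0, [35, 23]), (4, [19, 8]), (4, [22, 4]), (4, [2, 34]), (4, [24, 3]), (0, [25, 5, 0]), (4, [16, 20]), (0, [17, 4]), (4, [31, 10]), (4, [30, 0]), (0, [4, 4]), (0, [4, 8, 0]), (0, [11, 0,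 1]), (0, [17, 23, 1]), (0, [26, 0]), (4, [23, 1]), (0, [34]), (0, [15, 9]), (4, [4, 27]), (0, [5, 0]), (4, [24, 13]), (4, [32, 16]), (4, [3, 0]), (4, [8, 1]), (4, [37, 4]), (4, [4, 7]), (4, [28, 18, 0]), (4, [7]), (4, [2, 7]), (4, [35, 6]), (4, [20, 2]), (4, [26]), (4, [33, 6]), (4, [11, 4]), (4, [38, 1]), (4, [27, 22]), (4, [28, 30]), (4, [8]), (4, [4, 20]), (4, [19, 15]), (4, [22, 20]), (4, [3, 13]), (0, [5, 2]), (0, [16]), (0, [33, 23, 0]), (0, [12, 31, 0]), (0, [29, 5]), (0, [28, 13, 1]), (0, [4, 6]), (0, [35, 11]), (0, [21, 14]), (0, [2, 1]), (0, [14, 13]), (0, [4, 4, 0]), (0, [11, 1]), (0, [3, 33, 0]), (0, [34, 34]), (0, [18, 9, 0]), (0, [11, 31]), (0, [13, 4]), (0, [2, 6, 0]), (0, [6, 0]), (0, [4, 16]), (0, [23, 6]), (0, [11, 13, 0]), (0, [33, 2]), (0, [29]), (0, [8, 6, 0]), (0, [34, 30, 0]), (0, [34, 19]), (0, [14,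 30]), (0, [33, 8]), (0, [1, 13, 0]), (0, [5, 9]), (0, [28, 29]), (0, [34, 20]), (0, [6, 4]), (0, [7, 21]), (0, [10, 15, 1]), (0, [9, 15]), (0, [13, 0]), (0, [0, 21]), (0, [10, 19]), (0, [29, 3]), (0, [19, 3]), (0, [31, 6]), (0, [11, 25]), (0, [25, 0]), (0, [27, 11]), (0, [21, 29]), (0, [23, 11]), (0, [12, 9]), (0, [29, 15]), (0, [6, 2]), (0, [5]), (0, [24, 6]), (0, [37, 2, 1]), (4, [11, 5]), (0, [25, 2]), (0, [38, 25]), (0, [9, 19, 0]), (0, [28, 0]), (0, [13, 7, 0]), (0, [4, 32, 0]), (0, [34, 27]), (0, [37, 26]), (0, [4, 29]), (0, [24, 15]), (4, [29, 9]), (4, [8, 14]), (0, [7, 5]), (0, [36, 22]), (0, [36, 10]), (0, [33, 5, 1]), (0, [28, 10]), (0, [30, 11]), (0, [36, 5]), (0, [34, 3, 0]), (4, [22, 0]), (0, [5, 24, 0]), (0, [13, 11]), (0, [12, 2]), (0, [37, 10]), (4, [16, 35]), (0, [21, 14, 1]), (0, [28, 17]), (0, [21, 35]),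 (4, [13, 20]), (0, [13, 8, 0]), (0, [5, 25]), (0, [34, 1]), (0, [22, 19]), (0, [15, 21]), (4, [11, 27]), (4, [29, 3]), (0, [1, 5]), (0, [37, 30]), (0, [36, 25]), (0, [20, 31]), (0, [38, 31]), (0, [35, 2]), (0, [12, 6, 1]), (0, [21, 6, 0]), (0, [27, 17]), (0, [10, 7]), (0, [10, 14]), (0, [8, 35]), (4, [34, 18]), (4, [28, 1]), (0, [10, 18]), (0, [4, 15]), (0, [13, 1]), (0, [21, 30]), (4, [7, 27]), (0, [22, 21]), (0, [12]), (0, [19, 4]), (0, [9, 6]), (4, [36, 32]), (4, [16]), (4, [7, 5]), (4, [10, 20, 0]), (4, [11, 2]), (4, [21, 14]), (4, [6, 20, 0]), (0, [13, 32]), (0, [7, 25]), (0, [21, 5]), (0, [8, 7]), (0, [11, 5]), (0, [38, 5]), (0, [26, 7]), (0, [25, 28, 0]), (0, [32, 36, 0]), (0, [37, 7, 0]), (0, [8, 19]), (4, [32, 5]), (0, [3, 19, 0]), (0, [25, 28]), (0, [3, 9, 0]), (0, [4, 18]), (4, [10]), (0, [11, 25, 0]), (0, [16,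 0]), (0, [13, 23]), (0, [5, 1]), (4, [1, 8]), (4, [0, 4]), (4, [22, 18]), (0, [37, 7]), (0, [8, 14]), (0, [21, 10]), (0, [30, 21]), (4, [37, 8]), (4, [37, 25]), (4, [32, 33]), (4, [32, 0]), (4, [5, 3]), (0, [33, 7]), (0, [35, 8]), (0, [26, 12]), (0, [8, 23]), (0, [2, 37]), (0, [9, 1]), (4, [6, 21]), (0, [36, 2]), (4, [18, 17]), (0, [1, 22]), (0, [5, 14, 4]), (4, [14]), (4, [7, 6, 0]), (4, [29, 5]), (4, [20, 14]), (4, [0, 17]), (0, [11, 21]), (4, [15, 29, 0]), (4, [36, 2]), (0, [33, 14]), (4, [28, 2]), (4, [7, 2]), (0, [17, 2]), (4, [25, 12]), (0, [14, 6]), (0, [22, 14]), (0, [0, 10]), (0, [2, 27]), (0, [34, 7]), (0, [11, 4]), (0, [30, 4, 0]), (0, [34, 0, 1]), (4, [38, 5]), (0, [17, 21]), (0, [29, 5, 0]), (0, [34, 15]), (0, [12, 8, 2]), (0, [7, 28, 0]), (0, [31]), (0, [34, 36, 0]), (0, [3, 21, 0]), (4, [14, 6]), (0, [29,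 7]), (4, [35, 7]), (0, [16, 24]), (0, [25]), (0, [35, 7]), (4, [12, 3]), (4, [15, 6]), (0, [34, 14]), (4, [26, 5]), (0, [36]), (0, [32, 36, 1]), (0, [0, 27]), (4, [11, 23]), (4, [38, 27]), (4, [23, 4]), (4, [28, 18]), (0, [2, 23]), (0, [16, 26]), (0, [37, 6]), (0, [9, 11]), (0, [2, 21, 1]), (4, [27, 7]), (4, [10, 15]), (4, [0, 31]), (4, [18, 6, 0]), (4, [20, 3]), (4, [32, 4]), (4, [4, 14]), (0, [25, 10]), (4, [36, 13]), (0, [15, 10]), (0, [38, 32]), (4, [37, 27]), (4, [31, 6, 0]), (4, [1, 31]), (4, [14, 11]), (4, [25, 2]), (4, [4, 6]), (0, [37, 15]), (0, [16, 6, 1]), (4, [10, 18, 0]), (0, [6, 16, 0]), (4, [7, 1]), (0, [19, 5, 2]), (0, [6, 17]), (4, [8, 7]), (0, [13, 26, 0]), (0, [19, 12]), (0, [22, 7]), (4, [2]), (4, [34, 26]), (4, [34, 9]), (4, [5, 1]), (4, [29, 23]), (4, [36, 10]), (4, [6, 2]), (4, [28, 14]), (4, [21,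 0]), (4, [13, 7]), (4, [34, 3]), (4, [22, 7]), (4, [27, 2]), (4, [8, 12]), (4, [24, 4]), (4, [3, 38]), (4, [36, 0]), (4, [15, 0]), (4, [31, 2]), (4, [14, 13]), (4, [18]), (0, [21, 7]), (0, [33, 36]), (0, [14, 20, 0]), (0, [19, 25]), (0, [34, 25]), (0, [18, 15]), (0, [24, 26, 1]), (0, [6, 18]), (0, [19, 31]), (0, [9, 35]), (0, [2, 34, 0]), (0, [27, 26]), (0, [34, 1, 2]), (0, [32, 20]), (0, [10, 28]), (0, [23, 1]), (0, [11, 28, 0]), (0, [6, 33, 1]), (0, [28, 11]), (0, [0, 13]), (4, [37, 5]), (4, [34, 12]), (0, [4]), (0, [37, 20]), (0, [13, 20]), (0, [27, 33]), (4, [36, 12]), (4, [23, 30]), (4, [18, 6]), (0, [37, 19]), (0, [7, 3]), (0, [17, 37, 2]), (4, [21, 9]), (0, [35, 15]), (4, [22, 21]), (4, [19, 5, 1]), (4, [13, 9, 0]), (4, [37, 0]), (0, [3]), (0, [27, 0]), (4, [24]), (0, [4, 28]), (0, [34, 34, 3]), (0, [18, 28]), (4,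 [17, 11]), (4, [7, 38]), (0, [4, 5]), (4, [22, 28]), (0, [16, 20]), (0, [31, 16]), (4, [23, 3, 0]), (4, [5, 12]), (4, [34, 1]), (4, [35, 4]), (4, [32, 12]), (4, [3, 6]), (4, [17, 4]), (4, [13, 1]), (4, [31, 23]), (4, [18, 12]), (0, [19, 1]), (0, [0, 5]), (4, [7, 12]), (0, [6, 22, 0]), (0, [30, 4]), (0, [35, 9]), (4, [7, 28]), (4, [20, 8]), (4, [3, 5]), (4, [16, 11]), (4, [14, 7]), (4, [38, 10]), (0, [15, 17]), (0, [25, 32]), (0, [10, 26]), (4, [6, 13]), (4, [25, 17]), (4, [27, 16]), (4, [38, 17]), (4, [31, 17]), (4, [10, 19]), (4, [34, 8]), (4, [11, 1]), (4, [38, 0]), (4, [19, 28]), (4, [28, 24]), (4, [14, 22]), (4, [23, 12]), (4, [4, 38]), (4, [12, 10]), (4, [14, 17]), (4, [7, 13, 1]), (0, [15, 7]), (0, [34, 21, 1]), (0, [0, 15]), (0, [2, 15]), (0, [20, 8, 0]), (0, [1]), (0, [13, 13]), (4, [7, 18]), (4, [30, 19]), (4,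 [24, 24]), (0, [15, 32, 3]), (4, [4, 13]), (0, [13, 6]), (0, [12, 1]), (4, [36, 18, 0]), (0, [28, 32]), (0, [37, 23]), (0, [31, 33, 0]), (4, [27, 1]), (4, [8, 10]), (4, [1]), (4, [13, 11]), (4, [0, 1]), (4, [9]), (4, [15, 14]), (4, [19, 27]), (4, [1, 1]), (4, [13, 29]), (4, [9, 4]), (4, [5, 15]), (4, [26, 7]), (4, [26, 35]), (4, [25, 0]), (4, [0, 9]), (4, [30, 13]), (0, [32, 1, 0]), (4, [20, 7]), (4, [37, 20]), (4, [27]), (4, [15, 13, 0]), (4, [34, 26, 0]), (4, [36]), (4, [13, 19]), (4, [16, 17]), (4, [11, 10]), (4, [16, 4]), (0, [4, 24]), (0, [7, 12]), (4, [28]), (4, [16, 0]), (4, [19, 2]), (4, [5, 28]), (4, [25]), (4, [4, 1]), (4, [38, 21, 1]), (4, [1, 10]), (2, [24, 14, 0]), (2, [4, 13, 4]), (2, [20, 17, 0]), (2, [21, 29]), (2, [18, 12, 1]), (2, [12, 17, 6]), (2, [16, 11, 1]), (2, [21, 28, 0]), (2, [24, 36, 0]), (2,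 [7, 11, 3]), (2, [1, 16, 0]), (2, [6, 21]), (2, [22, 19, 0]), (2, [2, 5, 3]), (2, [31, 37]), (2, [35, 16]), (2, [3, 37]), (2, [5, 27]), (2, [24, 5]), (2, [18, 32]), (2, [34, 32, 0]), (2, [17, 4, 4]), (2, [32, 37, 0]), (2, [20, 19]), (2, [7, 2, 1]), (2, [34, 24]), (2, [6, 19, 1]), (2, [1, 12]), (2, [34, 19]), (2, [31, 28]), (2, [1, 34, 1]), (2, [36, 12, 1]), (2, [9, 17, 1]), (2, [30, 32, 6]), (2, [26, 35, 1]), (2, [38, 13]), (2, [9, 25]), (2, [30, 18, 0]), (2, [15, 16]), (2, [16, 37, 5]), (2, [5, 0]), (2, [31, 17, 1]), (2, [28, 3]), (2, [9, 5, 2]), (2, [29, 36, 6]), (2, [27, 36]), (2, [34, 4]), (2, [11, 7, 0]), (2, [8, 38]), (2, [6, 20]), (2, [5, 14, 2]), (2, [30, 19, 1]), (2, [28, 18, 2]), (2, [11, 38]), (2, [9, 1]), (2, [25, 34, 17]), (2, [31, 34, 0]), (2, [5, 31, 0]), (2, [21, 28, 3]), (2, [33, 16]), (2, [14, 13, 2]),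 (2, [6, 14]), (2, [35, 1, 1]), (2, [37, 6]), (2, [30]), (2, [6, 15]), (2, [6, 26, 0]), (2, [29, 18]), (2, [32, 25, 6]), (2, [19, 24, 5]), (2, [29, 15, 0]), (2, [25, 23]), (2, [32, 8]), (2, [13, 1, 1]), (2, [10, 27]), (2, [23, 5]), (2, [25, 27, 2]), (2, [34, 16]), (2, [27, 6, 3]), (2, [9, 11]), (2, [12, 36, 4]), (2, [32, 21, 0]), (2, [12, 23, 10]), (2, [12, 10, 1]), (2, [4, 20]), (2, [30, 13, 4]), (2, [12, 19, 0]), (2, [4, 21, 0]), (2, [17, 33]), (2, [19, 24, 2]), (2, [11, 30, 2]), (2, [1, 32, 5]), (2, [9, 33, 1]), (2, [22, 11]), (2, [12, 0]), (2, [5, 25, 4]), (2, [20, 18, 0]), (2, [33, 4, 0]), (2, [8, 7, 0]), (2, [33, 1, 1]), (2, [4, 33, 0]), (2, [20, 10, 0]), (2, [21, 13, 6]), (2, [31, 18]), (2, [31]), (2, [7, 0]), (2, [36, 11]), (2, [20, 6, 1]), (2, [3, 33, 3]), (2, [13, 37, 6]), (2, [18, 5]), (2, [19, 20, 5]), (2, [2,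 36, 0]), (2, [37, 12, 6]), (2, [26, 3, 2]), (2, [29, 31, 2]), (2, [11, 18, 3]), (2, [19, 23, 1]), (2, [16, 1]), (2, [15, 25, 2]), (2, [27, 21, 1]), (2, [35, 25, 2]), (2, [26, 13, 0]), (2, [2, 33, 2]), (2, [37, 32]), (2, [24, 2]), (2, [1, 21, 0]), (2, [23, 31, 3]), (2, [19, 10, 1]), (2, [31, 9, 4]), (2, [6, 26]), (2, [15, 17, 5]), (2, [27, 27]), (2, [37, 4, 2]), (2, [37, 33, 2]), (2, [24, 4, 1]), (2, [0, 20, 0]), (2, [19, 22, 0]), (2, [27, 17]), (2, [26, 10, 0]), (2, [16, 20, 4]), (2, [20, 5]), (2, [36, 34, 1]), (2, [23, 1]), (2, [6, 15, 0]), (2, [12, 19]), (2, [38, 25]), (2, [2, 10]), (2, [38, 10]), (2, [23, 2]), (2, [23, 26, 2]), (2, [8, 33, 0]), (2, [1, 17, 0]), (2, [10, 37, 2]), (2, [15, 9, 0]), (2, [37, 4, 3]), (2, [5, 19, 2]), (2, [36, 15, 1]), (2, [3, 34, 3]), (2, [16, 13]), (2, [7, 31]), (2, [6, 8, 7]), (2, [0, 21,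 4]), (2, [14, 27, 0]), (2, [21, 6, 0]), (2, [22, 33, 0]), (2, [26, 23, 2]), (2, [21, 7, 8]), (2, [25, 33, 3]), (2, [21, 8, 1]), (2, [13, 27, 1]), (2, [6, 22, 0]), (2, [18, 4, 1]), (2, [2, 7, 2]), (2, [37, 29, 0]), (2, [28, 34, 0]), (2, [20, 27, 8]), (2, [16, 36]), (2, [1, 19]), (2, [33, 11, 4]), (2, [1, 13, 0]), (2, [16, 0, 5]), (2, [15, 23, 4]), (2, [19, 15, 0]), (2, [32, 10, 0]), (2, [24, 20, 4]), (2, [31, 19]), (2, [0, 16]), (2, [7, 20, 5]), (2, [9, 19, 1]), (2, [22, 30, 0]), (2, [23, 30, 2]), (2, [16, 30, 1]), (2, [18, 11]), (2, [18, 34]), (2, [22, 16]), (2, [0, 14, 4]), (2, [14, 21, 2]), (2, [1, 38, 4]), (2, [36, 13, 1]), (2, [32, 33, 1]), (2, [3, 33, 6]), (2, [20, 23, 4]), (2, [6, 7, 2]), (2, [37, 13, 2]), (2, [9, 7, 0]), (2, [26, 31, 0]), (2, [0]), (2, [18, 7, 3]), (2, [36, 14]), (2, [35, 26]), (2, [33, 32, 1]),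 (2, [0, 13]), (2, [17, 21, 0]), (2, [30, 6]), (2, [7, 18, 5]), (2, [16, 26, 2]), (2, [22, 25, 3]), (2, [27, 21, 2]), (2, [38, 18, 1]), (2, [11, 20, 0]), (2, [37, 16]), (2, [34, 35, 0]), (2, [21, 3, 0]), (2, [26, 32, 3]), (2, [0, 23]), (2, [5, 37, 1]), (2, [31, 26]), (2, [3, 0, 1]), (2, [15, 34]), (2, [17, 8]), (2, [3, 22, 0]), (2, [37, 24]), (2, [8, 14, 4]), (2, [30, 12, 0]), (2, [25, 31, 3]), (2, [4, 31]), (2, [13, 29, 2]), (2, [19, 38, 7]), (2, [13, 35]), (2, [9, 19, 0]), (2, [18, 2]), (2, [30, 8, 0]), (2, [30, 30]), (2, [16, 15, 2]), (2, [3]), (2, [10, 31, 0]), (2, [21, 12]), (2, [5, 31, 1]), (2, [2, 9]), (2, [18, 26, 1]), (2, [19, 0]), (2, [15, 11]), (2, [28, 13, 1]), (2, [18, 36, 0]), (2, [26, 35, 2]), (2, [17, 38, 4]), (2, [23, 17, 1]), (2, [18, 1]), (2, [0, 18, 1]), (2, [6, 15, 2]), (2, [38]), (2, [20, 3]), (2, [30,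 3]), (2, [21, 18, 0]), (2, [34, 29, 0]), (2, [28, 27, 0]), (2, [20, 12, 2]), (2, [14, 23, 0]), (2, [8, 26, 4]), (2, [11, 3]), (2, [25, 16]), (2, [17, 26]), (2, [28, 6, 6]), (2, [29, 12]), (2, [29, 18, 3]), (2, [24, 32]), (2, [19, 7, 3]), (2, [26, 5]), (2, [28, 27]), (2, [21, 18]), (2, [37, 36, 2]), (2, [16, 36, 2]), (2, [22, 0]), (2, [36, 15, 3]), (2, [1, 22, 5]), (2, [5, 17, 0]), (2, [7, 8, 0]), (2, [2, 33, 1]), (2, [33, 12]), (2, [24, 9]), (2, [13, 9, 1]), (2, [30, 6, 1]), (2, [25, 24]), (2, [19, 16, 2]), (2, [33, 31, 1]), (2, [22, 9, 0]), (2, [8, 33, 1]), (2, [34, 6]), (2, [32, 1]), (2, [10, 5, 3]), (2, [30, 8, 1]), (2, [7, 17, 1]), (2, [5, 19, 0]), (2, [16, 31, 0]), (2, [2, 25]), (2, [31, 8, 0]), (2, [31, 30]), (2, [17, 25, 0]), (2, [35, 21, 0]), (2, [7, 30]), (2, [13, 16, 1]), (2, [5, 17, 5]), (2, [7, 27, 6]), (2,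 [36, 20]), (2, [0, 12, 8]), (2, [19, 8, 3]), (2, [29, 34, 1]), (2, [21, 4, 6]), (2, [13, 5, 0]), (2, [10, 8, 1]), (2, [8, 12, 2]), (2, [25, 13, 0]), (2, [2, 5]), (2, [29, 18, 6]), (2, [20, 4, 1]), (2, [25, 26, 0]), (2, [12, 14]), (2, [1, 9]), (2, [5, 15]), (2, [35, 32]), (2, [38, 33, 2]), (2, [2, 23, 8]), (2, [18, 4, 5]), (2, [28, 6, 3]), (2, [34, 30, 1]), (2, [24, 6, 2]), (2, [13, 13, 8]), (2, [31, 25, 1]), (2, [19, 5, 0]), (2, [21, 4, 0]), (2, [16, 31, 2]), (2, [23, 24, 0]), (2, [11, 25, 11]), (2, [0, 20, 1]), (2, [33, 35]), (2, [12, 28, 4]), (2, [9, 31, 2]), (2, [38, 5, 2]), (2, [10, 12, 2]), (2, [21, 25]), (2, [7, 20]), (2, [11, 15, 3]), (2, [19, 38]), (2, [30, 19]), (2, [11, 20]), (2, [25, 21, 0]), (2, [35, 13, 2]), (2, [38, 15]), (2, [20, 30]), (2, [23, 15, 12]), (2, [12, 31, 1]), (2, [6, 18, 5]), (2, [13, 10]), (2,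 [9, 5, 3]), (2, [31, 4, 0]), (2, [32, 22]), (2, [15, 0]), (2, [0, 11, 1]), (2, [2, 7]), (2, [4, 17]), (2, [12, 8]), (2, [4, 7]), (2, [23, 12, 4]), (2, [5, 5]), (2, [28, 36]), (2, [29, 24, 4]), (2, [24, 3, 8]), (2, [27, 24]), (2, [1, 17, 1]), (2, [30, 28, 4]), (2, [23, 12, 0]), (2, [37, 28]), (2, [19, 2, 3]), (2, [11, 18, 5]), (2, [10, 7]), (2, [18, 18, 1]), (2, [31, 33, 3]), (2, [2, 11]), (2, [2, 34]), (2, [13, 27, 2]), (2, [2, 19, 1]), (2, [21, 18, 2]), (2, [15, 10, 2]), (2, [33, 19, 0]), (2, [3, 10, 1]), (2, [35, 13, 1]), (2, [23, 4, 1]), (2, [18, 3]), (2, [10, 13, 0]), (2, [27, 35]), (2, [25, 13, 1]), (2, [8, 13, 3]), (2, [28, 24]), (2, [18, 18, 2]), (2, [32, 24, 3]), (2, [23, 5, 0]), (2, [31, 3, 5]), (2, [0, 18, 0]), (2, [28, 27, 5]), (2, [2, 3, 8]), (2, [36, 17, 0]), (2, [20, 6]), (2, [37, 32, 0]), (2, [16, 15, 1]),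 (2, [9, 14, 0]), (2, [5, 16, 0]), (2, [27, 13, 2]), (2, [10, 22]), (2, [37, 23, 1]), (2, [16, 6, 6]), (2, [9, 32]), (2, [27, 14, 4]), (2, [14, 5, 1]), (2, [25, 27, 1]), (2, [27, 34, 0]), (2, [26, 21]), (2, [11, 9, 5]), (2, [13, 24, 0]), (2, [5, 14]), (2, [29, 4, 0]), (2, [12, 15]), (2, [33, 29, 2]), (2, [19, 12, 0]), (2, [28, 34, 3]), (2, [20, 12, 6]), (2, [30, 4, 1]), (2, [29, 18, 5]), (2, [11, 16, 2]), (2, [5, 19, 3]), (2, [16, 36, 0]), (2, [7, 18, 2]), (2, [30, 33]), (2, [8, 35]), (2, [17, 20, 1]), (2, [33, 29, 3]), (2, [32, 26]), (2, [36, 23, 2]), (2, [13, 18, 4]), (2, [18, 19, 0]), (2, [31, 24]), (2, [5, 19]), (2, [32, 20, 1]), (2, [28, 35, 1]), (2, [20, 21]), (2, [9, 35, 0]), (2, [25, 20]), (2, [3, 19]), (2, [10, 12, 1]), (2, [10, 4]), (2, [20, 33]), (2, [32, 25, 0]), (2, [0, 4, 7]), (2, [2, 6, 1]), (2, [7, 3]), (2,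 [29, 6, 1]), (2, [5, 10, 1]), (2, [9, 9]), (2, [18, 6, 2]), (2, [25, 4]), (2, [4, 36]), (2, [28, 7, 1]), (2, [21, 9, 0]), (2, [33, 32]), (2, [10, 23, 0]), (2, [36, 32, 0]), (2, [9, 2]), (2, [19, 32, 1]), (2, [29, 2, 3]), (2, [12, 13, 0]), (2, [15, 25, 5]), (2, [0, 11, 2]), (2, [14, 9, 0]), (2, [18, 29, 6]), (2, [23, 19, 1]), (2, [1, 12, 1]), (2, [25, 29, 12]), (2, [34, 23, 1]), (2, [33, 20, 3]), (2, [22, 38]), (2, [23, 5, 3]), (2, [23, 32]), (2, [10, 26, 0]), (2, [33, 26]), (2, [27, 3]), (2, [3, 20, 0]), (2, [23, 35, 5]), (2, [2, 18, 1]), (2, [6, 38, 5]), (2, [37, 8, 9]), (2, [23, 11]), (2, [24, 31, 10]), (2, [23, 34]), (2, [30, 0]), (2, [12, 10, 3]), (2, [25, 9]), (2, [23, 6, 2]), (2, [5, 0, 14]), (2, [2, 1]), (2, [32, 35, 0]), (2, [36, 26, 0]), (2, [8, 19, 0]), (2, [26, 38, 1]), (2, [15, 3]), (2, [10, 22, 2]), (2, [13,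 22, 1]), (2, [35, 31, 2]), (2, [27, 27, 0]), (2, [38, 38, 0]), (2, [9, 4, 1]), (2, [24, 5, 0]), (2, [2, 17, 5]), (2, [11, 15, 0]), (2, [19, 9, 10]), (2, [8, 9, 0]), (2, [2, 7, 0]), (2, [10, 28, 0]), (2, [9, 17, 3]), (2, [5, 21, 0]), (2, [30, 12, 3]), (2, [10, 21, 2]), (2, [19, 3]), (2, [30, 34]), (2, [24, 33, 2]), (2, [36, 16]), (2, [20]), (2, [33, 15, 2]), (2, [17, 2]), (2, [15, 21, 4]), (2, [37, 4]), (2, [35, 29, 1]), (2, [19, 2, 1]), (2, [8, 16]), (2, [8, 34]), (2, [8, 11]), (2, [28, 17]), (2, [17, 10, 0]), (2, [31, 15, 1]), (2, [32, 6]), (2, [34, 21, 9]), (2, [37, 0, 6]), (2, [21, 38]), (2, [33, 29, 1]), (2, [38, 12, 3]), (2, [4, 14, 1]), (2, [30, 2]), (2, [26, 22, 2]), (2, [1, 16]), (2, [3, 21]), (2, [11, 9, 1]), (2, [10, 1]), (2, [19, 18, 5]), (2, [36, 4]), (2, [36, 20, 1]), (2, [18, 17, 1]), (2, [17, 38, 0]), (2,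 [0, 8, 0]), (2, [0, 30]), (2, [1, 23, 0]), (2, [24, 10]), (2, [38, 11]), (2, [16, 26, 1]), (2, [34, 32]), (2, [28, 35]), (2, [19, 30, 0]), (2, [37, 20, 0]), (2, [4, 21, 2]), (2, [1, 34]), (2, [34, 10]), (2, [25, 15, 1]), (2, [35, 6, 5]), (2, [8, 0]), (2, [2, 12, 0]), (2, [22, 31]), (2, [19, 16, 1]), (2, [9, 25, 8]), (2, [38, 23, 1]), (2, [32, 28, 8]), (2, [7, 6]), (2, [12, 5]), (2, [17, 22]), (2, [16, 6, 0]), (2, [16, 10, 2]), (2, [17, 33, 1]), (2, [3, 37, 0]), (2, [23, 10]), (2, [10, 15, 6]), (2, [13, 30]), (2, [25, 14]), (2, [14, 29]), (2, [23, 16, 0]), (2, [21, 20, 1]), (2, [25, 33, 1]), (2, [31, 15]), (2, [33, 6, 9]), (2, [23, 15, 1]), (2, [28, 4, 2]), (2, [8, 36, 2]), (2, [38, 11, 1]), (2, [16, 25, 0]), (2, [25, 38, 0]), (2, [25, 25]), (2, [21, 5, 1]), (2, [37, 2]), (2, [4, 18, 0]), (2, [6, 12, 7]), (2, [34, 3, 0]),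 (2, [8, 7, 3]), (2, [18, 27, 3]), (2, [32, 5]), (2, [22, 36, 0]), (2, [11, 15, 2]), (2, [13, 20]), (2, [12, 30, 2]), (2, [3, 4, 6]), (2, [19, 4, 0]), (2, [10]), (2, [28, 11]), (2, [37, 33, 1]), (2, [17, 5, 0]), (2, [18, 3, 4]), (2, [35, 12, 9]), (2, [4, 6, 1]), (2, [5, 32, 2]), (2, [18, 8]), (2, [15, 12]), (2, [0, 27, 0]), (2, [24, 37, 1]), (2, [16, 8]), (2, [20, 16, 3]), (2, [26, 13, 1]), (2, [25, 18]), (2, [3, 27, 5]), (2, [36, 1]), (2, [22, 5, 6]), (2, [8, 23]), (2, [7, 1]), (2, [15, 18]), (2, [34, 12]), (2, [25, 28, 3]), (2, [33, 8, 0]), (2, [9, 34, 0]), (2, [9, 37]), (2, [20, 21, 0]), (2, [32, 14, 1]), (2, [34, 6, 1]), (2, [3, 13, 3]), (2, [22, 32]), (2, [8, 12]), (2, [31, 14, 3]), (2, [31, 17]), (2, [31, 7]), (2, [2, 16]), (2, [37, 25]), (2, [18, 15]), (2, [9, 22]), (2, [22, 5, 0]), (2, [28, 10]), (2, [36, 2]), (2,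 [12, 23, 1]), (2, [11, 36, 0]), (2, [5, 34, 3]), (2, [4, 10, 0]), (2, [8, 16, 0]), (2, [5, 22]), (2, [30, 23]), (2, [14, 32]), (2, [25, 28, 0]), (2, [30, 11, 2]), (2, [27, 31, 0]), (2, [24, 8]), (2, [22, 5]), (2, [24, 35, 6]), (2, [1, 1, 1]), (2, [28, 17, 2]), (2, [5, 22, 5]), (2, [31, 9, 1]), (2, [23, 13, 0]), (2, [24, 16, 0]), (2, [23, 17, 0]), (2, [30, 15, 0]), (2, [9, 9, 1]), (2, [12, 32, 8]), (2, [35, 12, 4]), (2, [8, 30, 1]), (2, [23, 16, 3]), (2, [25, 18, 1]), (2, [37, 25, 2]), (2, [17, 31, 1]), (2, [29, 2]), (2, [23, 21, 0]), (2, [6, 27, 0]), (2, [16, 38, 0]), (2, [15, 34, 0]), (2, [22, 6, 2]), (2, [10, 11, 1]), (2, [22, 31, 3]), (2, [18, 19, 2]), (2, [5, 18, 4]), (2, [3, 38, 0]), (2, [29, 5, 2]), (2, [22, 10]), (2, [15, 4, 7]), (2, [10, 13]), (2, [2, 33, 0]), (2, [7, 27]), (2, [0, 15]), (2, [7, 17]), (2, [7, 7]),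 (2, [26, 6, 3]), (2, [20, 33, 0]), (2, [25, 26, 2]), (2, [28, 9]), (2, [16, 25, 5]), (2, [38, 30, 1]), (2, [36, 4, 1]), (2, [11, 30, 1]), (2, [14, 3, 0]), (2, [21, 10, 0]), (2, [19, 21, 4]), (2, [7, 13, 0]), (2, [12, 8, 0]), (2, [33, 27]), (2, [8, 31, 0]), (2, [25, 7]), (2, [24, 21, 0]), (2, [20, 25, 1]), (2, [23, 10, 5]), (2, [35]), (2, [3, 18, 0]), (2, [27, 12]), (2, [11, 11, 1]), (2, [25, 1]), (2, [6, 6, 0]), (2, [14, 16]), (2, [11, 13]), (2, [9, 10, 1]), (2, [6, 17]), (2, [27, 38]), (2, [5, 8, 1]), (2, [16, 24, 0]), (2, [23, 25, 5]), (2, [21, 9, 2]), (2, [36, 3, 8]), (2, [22, 2]), (2, [34, 27, 3]), (2, [29, 23, 0]), (2, [17, 36, 5]), (2, [15, 13, 2]), (2, [28, 19, 0]), (2, [22, 14, 0]), (2, [19, 16]), (2, [17, 13, 4]), (2, [4, 3, 0]), (2, [27, 23]), (2, [19, 36, 2]), (2, [18, 21, 0]), (2, [12, 22, 3]), (2, [8, 2]),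 (2, [6, 32]), (2, [28, 5]), (2, [34, 6, 2]), (2, [24, 14]), (2, [24, 15]), (2, [30, 38, 0]), (2, [22, 19, 1]), (2, [8, 20, 4]), (2, [5, 26, 0]), (2, [10, 3, 0]), (2, [32, 32]), (2, [25, 28]), (2, [32, 12, 1]), (2, [22, 4, 2]), (2, [38, 15, 2]), (2, [28, 31, 1]), (2, [6, 5]), (2, [31, 2, 3]), (2, [26, 7, 1]), (2, [8, 26, 2]), (2, [22, 4, 1]), (2, [32, 29, 0]), (2, [29, 20]), (2, [20, 3, 0]), (2, [35, 20, 1]), (2, [2, 21, 0]), (2, [11, 13, 7]), (2, [4, 16]), (2, [32, 30, 2]), (2, [18, 20]), (2, [32, 7]), (2, [26, 33]), (2, [25, 10, 1]), (2, [22, 1]), (2, [14, 26]), (2, [12, 16, 2]), (2, [16, 19, 4]), (2, [19, 13, 2]), (2, [38, 2]), (2, [29, 8, 0]), (2, [0, 5]), (2, [5, 14, 1]), (2, [31, 11]), (2, [34, 34]), (2, [8, 13]), (2, [35, 4, 1]), (2, [17, 1, 1]), (2, [27, 30, 2]), (2, [36, 33, 2]), (2, [19, 5, 6]), (2, [34, 11]),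 (2, [16, 14, 0]), (2, [20, 17, 1]), (2, [17, 29, 2]), (2, [23, 8]), (2, [24, 31, 0]), (2, [33, 17, 4]), (2, [5, 1]), (2, [22, 31, 5]), (2, [34, 28, 4]), (2, [30, 27]), (2, [22, 24, 4]), (2, [5, 4]), (2, [33, 12, 4]), (2, [36, 29, 0]), (2, [25, 14, 2]), (2, [13, 29, 0]), (2, [13, 4]), (2, [34, 11, 2]), (2, [38, 16, 0]), (2, [26, 3]), (2, [33, 20, 0]), (2, [12, 5, 0]), (2, [25, 34, 5]), (2, [35, 13]), (2, [13, 32]), (2, [21, 20, 5]), (2, [1, 31]), (2, [32, 36]), (2, [3, 14, 0]), (2, [30, 37, 2]), (2, [23, 13, 5]), (2, [0, 19, 1]), (2, [28, 12, 1]), (2, [37, 22]), (2, [31, 22]), (2, [35, 30, 1]), (2, [15, 29, 5]), (2, [14, 4, 0]), (2, [32, 19, 3]), (2, [36, 17, 2]), (2, [24, 6, 4]), (2, [35, 6, 4]), (2, [12, 20, 3]), (2, [6, 34, 1]), (2, [35, 8, 2]), (2, [28, 18, 6]), (2, [16, 21, 0]), (2, [3, 36, 3]), (2, [30, 27, 1]), (2,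 [38, 38]), (2, [18, 21]), (2, [5, 22, 0]), (2, [31, 1]), (2, [17, 0, 5]), (2, [7, 14, 1]), (2, [9, 15]), (2, [38, 12]), (2, [10, 17, 4]), (2, [20, 24]), (2, [29, 2, 1]), (2, [36, 7]), (2, [24, 27]), (2, [22, 9]), (2, [23, 36, 1]), (2, [35, 27]), (2, [31, 4, 2]), (2, [20, 20]), (2, [14, 35]), (2, [31, 33, 2]), (2, [20, 0, 16]), (2, [13, 8]), (2, [2, 34, 1]), (2, [2, 12]), (2, [4, 15, 1]), (2, [31, 27, 2]), (2, [5, 12, 1]), (2, [16, 22]), (2, [20, 23, 3]), (2, [32, 1, 1]), (2, [34, 23]), (2, [13, 12, 1]), (2, [36, 18, 1]), (2, [32, 9, 4]), (2, [25, 13]), (2, [26, 34, 0]), (2, [38, 10, 2]), (2, [29, 5, 1]), (2, [20, 20, 1]), (2, [13, 30, 1]), (2, [26, 6, 0]), (2, [15, 21, 0]), (2, [21, 29, 0]), (2, [20, 4]), (2, [37, 10, 0]), (2, [0, 38, 4]), (2, [27, 7, 0]), (2, [21, 2, 5]), (2, [0, 21, 0]), (2, [36, 3]), (2, [23, 14, 2]),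 (2, [38, 36, 0]), (2, [7, 21, 2]), (2, [8, 6, 0]), (2, [7, 28, 0]), (2, [13, 5]), (2, [20, 9]), (2, [32, 31]), (2, [10, 28, 4]), (2, [0, 19, 2]), (2, [34, 13, 4]), (2, [34, 26, 3]), (2, [6, 31]), (2, [26, 27, 0]), (2, [17, 5, 1]), (2, [13, 9, 4]), (2, [1, 1]), (2, [1, 31, 5]), (2, [11, 34, 2]), (2, [3, 8, 1]), (2, [6, 4]), (2, [32, 4]), (2, [4, 3, 6]), (2, [9, 28]), (2, [32, 17]), (2, [38, 34, 2]), (2, [37, 33]), (2, [8, 36, 0]), (2, [35, 8]), (2, [27, 30, 6]), (2, [8, 1]), (2, [6, 7]), (2, [4, 23]), (2, [7, 35, 1]), (2, [16, 28, 2]), (2, [16, 25]), (2, [26, 6]), (2, [33, 8]), (2, [9, 18]), (2, [24, 14, 2]), (2, [7, 6, 1]), (2, [33, 16, 1]), (2, [36, 5]), (2, [23, 27]), (2, [3, 33, 1]), (2, [3, 25]), (2, [2, 10, 13]), (2, [16, 37, 0]), (2, [32, 14]), (2, [3, 38]), (2, [0, 14]), (2, [27, 0, 5]), (2, [23, 13, 8]), (2, [24,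 14, 5]), (2, [13, 7]), (2, [32, 15]), (2, [30, 0, 1]), (2, [25, 17]), (2, [31, 25]), (2, [9, 23]), (2, [19, 10]), (2, [12, 15, 3]), (2, [12, 20]), (2, [25, 28, 2]), (2, [26, 21, 2]), (2, [37, 26]), (2, [30, 9, 1]), (2, [22, 26, 2]), (2, [34, 25, 2]), (2, [12, 31]), (2, [12, 7, 0]), (2, [17, 11, 2]), (2, [33, 18, 0]), (2, [1, 13]), (2, [23, 0]), (2, [15, 29, 3]), (2, [22, 12, 0]), (2, [28, 34]), (2, [34, 14]), (2, [29, 37, 4]), (2, [38, 30, 2]), (2, [12, 16, 1]), (2, [17, 9]), (2, [7, 23, 0]), (2, [0, 31]), (2, [35, 18, 0]), (2, [11, 26, 2]), (2, [37, 25, 0]), (2, [21, 29, 2]), (2, [31, 28, 5]), (2, [3, 32, 0]), (2, [33, 30]), (2, [31, 8, 2]), (2, [19, 24, 0]), (2, [28, 5, 0]), (2, [31, 5, 2]), (2, [0, 20]), (2, [21, 22, 1]), (2, [16, 10, 3]), (2, [23, 24, 3]), (2, [14, 5, 3]), (2, [19, 15, 1]), (2, [4, 0, 5]), (2, [32,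 23, 4]), (2, [27, 18, 5]), (2, [33, 21, 2]), (2, [31, 18, 5]), (2, [7, 10, 2]), (2, [5, 29, 2]), (2, [5, 35]), (2, [27, 30, 4]), (2, [18, 16, 0]), (2, [13, 30, 0]), (2, [0, 10]), (2, [38, 17, 9]), (2, [24, 37, 0]), (2, [29, 19, 7]), (2, [34, 16, 4]), (2, [36, 36, 6]), (2, [4, 7, 4]), (2, [26, 23, 0]), (2, [23, 23]), (2, [21, 11]), (2, [30, 30, 2]), (2, [14, 14]), (2, [2, 36, 1]), (2, [9, 32, 1]), (2, [36, 13]), (2, [20, 25, 7]), (2, [23, 11, 2]), (2, [25, 31, 1]), (2, [26, 4]), (2, [29, 0, 1]), (2, [3, 27]), (2, [10, 4, 3]), (2, [21, 4]), (2, [34, 16, 9]), (2, [3, 7, 2]), (2, [15, 28, 0]), (2, [18, 33, 4]), (2, [10, 26, 1]), (2, [31, 27]), (2, [17, 0]), (2, [6, 37]), (2, [16, 18, 0]), (2, [31, 3, 6]), (2, [18, 38]), (2, [24, 6]), (2, [36, 6, 3]), (2, [38, 30]), (2, [38, 37, 6]), (2, [18, 13]), (2, [32, 32, 0]), (2, [9,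 6]), (2, [21, 34]), (2, [30, 31]), (2, [12, 5, 6]), (2, [28, 18]), (2, [33, 23, 0]), (2, [8, 32, 0]), (2, [16]), (2, [18, 6, 3]), (2, [27, 31, 1]), (2, [8, 4]), (2, [20, 21, 4]), (2, [36, 38]), (2, [31, 37, 1]), (2, [16, 27]), (2, [36, 30, 1]), (2, [8, 28, 11]), (2, [14, 26, 0]), (2, [9, 33]), (2, [29, 34]), (2, [8, 9]), (2, [30, 6, 0]), (2, [26, 16, 0]), (2, [21, 4, 1]), (2, [31, 0]), (2, [11, 35]), (2, [6, 17, 2]), (2, [16, 12, 4]), (2, [35, 28, 2]), (2, [19, 25, 2]), (2, [28, 15]), (2, [35, 25, 3]), (2, [0, 4, 3]), (2, [26, 17, 0]), (2, [26, 19]), (2, [17, 22, 0]), (2, [26, 14]), (2, [0, 35, 0]), (2, [2, 6]), (2, [12, 30, 1]), (2, [8, 6, 1]), (2, [29, 22, 5]), (2, [37, 7, 6]), (2, [1, 8]), (2, [5, 3]), (2, [4]), (2, [11, 34, 0]), (2, [11, 1, 6]), (2, [20, 37]), (2, [16, 4, 0]), (2, [24, 8, 7]), (2, [30, 31, 2]), (2,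 [37, 4, 1]), (2, [22, 12]), (2, [10, 25, 2]), (2, [32, 12, 0]), (2, [29, 16]), (2, [13, 17, 2]), (2, [32, 36, 0]), (2, [15, 33, 2]), (2, [29, 11]), (2, [20, 38, 5]), (2, [38, 35]), (2, [30, 34, 2]), (2, [22, 7, 4]), (2, [9, 7, 1]), (2, [12, 4, 3]), (2, [14, 6, 0]), (2, [12, 0, 4]), (2, [9, 21, 2]), (2, [8, 14]), (2, [34, 8, 1]), (2, [33, 27, 0]), (2, [11, 33, 0]), (2, [37, 3]), (2, [12, 4]), (2, [19, 26]), (2, [37, 18, 2]), (2, [38, 9]), (2, [24, 14, 1]), (2, [30, 36]), (2, [10, 19]), (2, [15, 21, 1]), (2, [32, 0]), (2, [17, 20, 3]), (2, [27, 5]), (2, [25, 38]), (2, [13, 4, 1]), (2, [26, 25, 2]), (2, [38, 24, 0]), (2, [29, 0]), (2, [34, 38]), (2, [14, 25, 3]), (2, [10, 21]), (2, [37, 11]), (2, [14, 37, 0]), (2, [13, 10, 3]), (2, [37, 34]), (2, [17, 27, 3]), (2, [14, 28]), (2, [34, 38, 2]), (2, [22, 6, 5]), (2, [0, 17, 3]),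 (2, [3, 22]), (2, [28, 9, 1]), (2, [34, 25]), (2, [31, 36, 0]), (2, [17, 11, 3]), (2, [35, 13, 0]), (2, [9, 27]), (2, [8, 10, 5]), (2, [1, 10, 1]), (2, [29, 30, 3]), (2, [28, 23]), (2, [34, 36, 3]), (2, [20, 8]), (2, [36, 20, 5]), (2, [24, 12]), (2, [1, 5]), (2, [37, 19, 1]), (2, [10, 37]), (2, [14, 29, 0]), (2, [26, 33, 0]), (2, [5, 6, 0]), (2, [3, 6, 2]), (2, [24, 12, 5]), (2, [13, 22, 6]), (2, [31, 7, 1]), (2, [17, 9, 2]), (2, [28, 23, 1]), (2, [33, 2]), (2, [14, 7]), (2, [15, 35, 4]), (2, [2, 14, 4]), (2, [8, 8, 3]), (2, [24, 23, 0]), (2, [4, 2]), (2, [17, 18, 1]), (2, [22, 13, 1]), (2, [34, 3, 8]), (2, [12, 4, 0]), (2, [4, 36, 0]), (2, [2, 1, 17]), (2, [2, 30, 1]), (2, [17, 3]), (2, [30, 11, 1]), (2, [23, 1, 1]), (2, [14, 12, 2]), (2, [23, 36]), (2, [13, 5, 2]), (2, [31, 14, 0]), (2, [25, 29]), (2, [29, 31]), (2, [14,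 17]), (2, [27, 13, 0]), (2, [21, 35, 0]), (2, [6, 29, 4]), (2, [29, 1, 12]), (2, [31, 36, 1]), (2, [6, 25, 2]), (2, [30, 15, 1]), (2, [24, 30]), (2, [24, 8, 0]), (2, [30, 1]), (2, [26, 34, 1]), (2, [22, 1, 1]), (2, [38, 27, 1]), (2, [12, 28]), (2, [4, 3]), (2, [34, 38, 0]), (2, [26, 11]), (2, [24, 3, 7]), (2, [1, 17]), (2, [36, 31, 0]), (2, [14, 21]), (2, [16, 25, 1]), (2, [25, 9, 5]), (2, [7, 0, 5]), (2, [12, 32]), (2, [27, 19]), (2, [12, 5, 3]), (2, [23, 35, 2]), (2, [18, 37, 4]), (2, [8, 27, 2]), (2, [5, 3, 0]), (2, [18, 30, 0]), (2, [16, 3, 0]), (2, [10, 35, 0]), (2, [26, 27, 1]), (2, [21, 11, 1]), (2, [12, 16]), (2, [33, 9]), (2, [15, 37]), (2, [24, 32, 0]), (2, [9, 27, 0]), (2, [13, 2]), (2, [9, 36]), (2, [8, 13, 4]), (2, [34, 28, 3]), (2, [3, 6]), (2, [4, 0]), (2, [31, 16, 0]), (2, [19, 3, 2]), (2, [17, 38]), (2,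 [27, 19, 0]), (2, [32]), (2, [32, 31, 4]), (2, [36, 9, 6]), (2, [8, 3, 0]), (2, [0, 12, 6]), (2, [38, 34, 12]), (2, [4, 37, 7]), (2, [3, 7, 1]), (2, [32, 3]), (2, [31, 19, 0]), (2, [27, 14]), (2, [29, 26, 0]), (2, [26, 15, 1]), (2, [32, 20, 4]), (2, [7, 26, 1]), (2, [15, 32, 0]), (2, [19, 29, 1]), (2, [24, 21]), (2, [20, 7]), (2, [17, 32, 1]), (2, [8, 20]), (2, [37, 26, 2]), (2, [28, 22, 1]), (2, [25, 21, 1]), (2, [29, 26, 1]), (2, [14, 15]), (2, [20, 7, 10]), (2, [21, 22]), (2, [0, 7, 2]), (2, [29, 20, 0]), (2, [21, 32]), (2, [5, 19, 1]), (2, [7, 13]), (2, [37, 12, 0]), (2, [19]), (2, [25, 6, 0]), (2, [35, 6, 3]), (2, [35, 17, 0]), (2, [30, 16, 0]), (2, [33, 17, 2]), (2, [20, 17]), (2, [18, 24, 3]), (2, [9, 24]), (2, [33, 8, 1]), (2, [4, 1, 2]), (2, [13, 0]), (2, [37, 33, 0]), (2, [34, 34, 0]), (2, [3, 20]), (2, [22, 14,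 1]), (2, [17, 14]), (2, [19, 6, 6]), (2, [18, 34, 7]), (2, [4, 6, 4]), (2, [18, 15, 1]), (2, [21, 23, 0]), (2, [8, 5, 6]), (2, [25, 29, 0]), (2, [4, 17, 9]), (2, [0, 18]), (2, [21, 36, 2]), (2, [22, 32, 0]), (2, [33, 6, 1]), (2, [34, 26]), (2, [32, 38, 3]), (2, [19, 13, 0]), (2, [8, 29, 3]), (2, [17, 21, 1]), (2, [7, 19]), (2, [0, 10, 1]), (2, [5, 25, 11]), (2, [7, 31, 4]), (2, [12, 31, 2]), (2, [37, 18]), (2, [23, 33, 0]), (2, [17, 15]), (2, [16, 28]), (2, [3, 26, 0]), (2, [5, 7, 0]), (2, [33, 6, 7]), (2, [16, 8, 4]), (2, [25, 30, 2]), (2, [9, 30]), (2, [16, 26, 3]), (2, [8, 27, 0]), (2, [28, 9, 0]), (2, [1, 30, 0]), (2, [21, 23]), (2, [36, 29]), (2, [30, 27, 3]), (2, [0, 5, 1]), (2, [28, 24, 2]), (2, [6, 13, 2]), (2, [31, 26, 0]), (2, [21, 25, 1]), (2, [14, 27, 2]), (2, [15, 20, 2]), (2, [31, 9, 0]), (2, [4, 34, 9]),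 (2, [2, 5, 1]), (2, [32, 38]), (2, [24, 33, 11]), (2, [37, 20, 3]), (2, [5, 1, 2]), (2, [13, 34]), (2, [28, 30, 0]), (2, [36, 34, 6]), (2, [32, 23, 11]), (2, [5, 9, 1]), (2, [33, 6, 3]), (2, [12, 33, 0]), (2, [16, 19, 1]), (2, [8, 7, 1]), (2, [7, 36, 1]), (2, [32, 32, 1]), (2, [28, 20]), (2, [23, 22, 0]), (2, [12, 5, 1]), (2, [35, 3, 9]), (2, [5, 24, 0]), (2, [20, 0, 1]), (2, [4, 25]), (2, [27, 21, 9]), (2, [1, 20, 3]), (2, [23, 20]), (2, [35, 35, 1]), (2, [37, 12]), (2, [13, 16]), (2, [20, 20, 0]), (2, [9, 0]), (2, [37, 1, 1]), (2, [1, 35]), (2, [22, 31, 0]), (2, [15, 8]), (2, [0, 5, 2]), (2, [11, 25, 0]), (2, [19, 21, 1]), (2, [29, 8]), (2, [30, 17, 1]), (2, [12, 29]), (2, [13, 10, 2]), (2, [3, 32, 3]), (2, [27, 4, 0]), (2, [35, 28]), (2, [0, 38, 0]), (2, [30, 10, 1]), (2, [10, 6, 0]), (2, [38, 29]), (2, [23, 24]), (2,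 [33, 6, 2]), (2, [16, 30, 4]), (2, [1, 5, 0]), (2, [34, 26, 1]), (2, [2, 9, 0]), (2, [17, 17]), (2, [3, 11, 2]), (2, [34, 31, 4]), (2, [22, 13]), (2, [11]), (2, [36, 37, 4]), (2, [15, 20, 1]), (2, [31, 19, 1]), (2, [36, 30, 0]), (2, [9, 20, 0]), (2, [21, 24]), (2, [14, 25, 1]), (2, [34]), (2, [1, 34, 0]), (2, [16, 14]), (2, [9, 24, 3]), (2, [28, 8, 0]), (2, [37, 2, 5]), (2, [35, 37, 2]), (2, [26, 37, 2]), (2, [28, 29]), (2, [22, 15, 3]), (2, [29, 1]), (2, [38, 18, 0]), (2, [36, 27, 6]), (2, [8, 6]), (2, [6, 22]), (2, [7, 7, 1]), (2, [22, 24, 5]), (2, [30, 2, 1]), (2, [26, 5, 0]), (2, [30, 17, 2]), (2, [22, 16, 1]), (2, [8, 32, 2]), (2, [22, 14, 2]), (2, [8, 36, 1]), (2, [15, 4, 1]), (2, [7, 2, 13]), (2, [29, 35, 0]), (2, [7, 15]), (2, [7, 14]), (2, [15, 13]), (2, [23, 8, 3]), (2, [26, 22, 3]), (2, [38, 25, 0]), (2, [38,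 20, 1]), (2, [13, 11]), (2, [20, 35]), (2, [11, 18, 0]), (2, [9, 12, 5]), (2, [27, 24, 4]), (2, [20, 28, 2]), (2, [5, 25]), (2, [6, 35]), (2, [27, 18]), (2, [35, 21]), (2, [25, 17, 2]), (2, [22, 5, 1]), (2, [19, 14, 0]), (2, [14, 34]), (2, [14, 11]), (2, [32, 28, 0]), (2, [23, 27, 3]), (2, [11, 12, 4]), (2, [15, 16, 0]), (2, [7, 17, 0]), (2, [29, 17, 6]), (2, [13, 0, 1]), (2, [23, 16, 2]), (2, [6, 9]), (2, [23, 0, 1]), (2, [27, 28]), (2, [15, 6]), (2, [34, 35]), (2, [13, 23, 1]), (2, [8, 4, 1]), (2, [0, 27, 4]), (2, [19, 3, 0]), (2, [2, 38, 1]), (2, [37, 38, 13]), (2, [2, 10, 0]), (2, [28, 0]), (2, [0, 10, 6]), (2, [38, 3]), (2, [33, 6, 0]), (2, [27, 20]), (2, [1, 8, 0]), (2, [5, 11]), (2, [31, 7, 0]), (2, [8, 3, 16]), (2, [30, 3, 5]), (2, [14, 1]), (2, [33, 38]), (2, [30, 3, 0]), (2, [21, 8, 0]), (2, [6, 7, 6]), (2, [30,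 37]), (2, [9, 36, 2]), (2, [22, 6]), (2, [6, 5, 0]), (2, [28, 32, 6]), (2, [33, 4, 3]), (2, [16, 36, 1]), (2, [30, 0, 4]), (2, [20, 29]), (2, [25, 36, 1]), (2, [32, 7, 2]), (2, [15, 23, 1]), (2, [17, 18, 0]), (2, [6, 10]), (2, [12, 36, 3]), (2, [11, 27, 0]), (2, [10, 35]), (2, [25, 7, 1]), (2, [5, 20, 0]), (2, [19, 16, 5]), (2, [16, 7, 1]), (2, [5, 16]), (2, [6, 12, 0]), (2, [6, 11]), (2, [27, 22, 0]), (2, [29, 23]), (2, [37, 21, 2]), (2, [3, 14, 1]), (2, [36, 0, 1]), (2, [31, 23, 5]), (2, [30, 8, 2]), (2, [9, 36, 5]), (2, [37, 3, 5]), (2, [14, 36, 3]), (2, [14, 18, 6]), (2, [34, 17]), (2, [29, 4]), (2, [14, 20, 4]), (2, [19, 18, 0]), (2, [29, 12, 1]), (2, [3, 31]), (2, [5, 38]), (2, [27, 18, 8]), (2, [18, 18, 0]), (2, [1, 16, 1]), (2, [3, 5]), (2, [12, 26, 2]), (2, [21, 2]), (2, [19, 20, 1]), (2, [33, 18, 2]), (2, [37,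 8, 0]), (2, [4, 20, 0]), (2, [20, 18]), (2, [16, 32, 0]), (2, [20, 15, 0]), (2, [19, 17, 4]), (2, [30, 31, 1]), (2, [14, 13]), (2, [32, 10]), (2, [37, 5, 1]), (2, [31, 32, 2]), (2, [16, 17, 0]), (2, [31, 6]), (2, [28, 31, 0]), (2, [7, 35, 0]), (2, [23, 30, 3]), (2, [8, 5, 0]), (2, [11, 37]), (2, [37, 6, 9]), (2, [17, 3, 2]), (2, [16, 27, 0]), (2, [15, 21, 8]), (2, [19, 34]), (2, [17, 9, 0]), (2, [5, 0, 1]), (2, [34, 36]), (2, [19, 11]), (2, [10, 33, 0]), (2, [33, 32, 0]), (2, [34, 29, 2]), (2, [8, 5]), (2, [13, 20, 5]), (2, [15, 37, 3]), (2, [13, 22, 0]), (2, [20, 28, 0]), (2, [15, 29, 0]), (2, [16, 4]), (2, [11, 3, 2]), (2, [7, 21]), (2, [14, 26, 1]), (2, [5, 34]), (2, [28, 19]), (2, [23, 20, 0]), (2, [12, 25, 1]), (2, [14, 38, 0]), (2, [38, 19, 0]), (2, [19, 31, 2]), (2, [26, 2]), (2, [10, 22, 1]), (2, [38, 5]), (2, [33,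 24, 0]), (2, [3, 37, 7]), (2, [14, 25, 5]), (2, [6, 23, 0]), (2, [33, 35, 0]), (2, [29, 23, 1]), (2, [35, 10]), (2, [12, 32, 7]), (2, [24, 32, 11]), (2, [29, 5]), (2, [5, 23, 1]), (2, [37, 38]), (2, [16, 31, 1]), (2, [32, 16]), (2, [31, 12, 2]), (2, [28, 7, 8]), (2, [13]), (2, [36, 4, 0]), (2, [14, 24, 0]), (2, [29]), (2, [35, 26, 3]), (2, [29, 31, 4]), (2, [4, 14, 2]), (2, [10, 32, 0]), (2, [36, 37]), (2, [19, 35]), (2, [2, 28, 3]), (2, [17, 33, 5]), (2, [35, 19, 1]), (2, [30, 22]), (2, [7, 25]), (2, [21, 36]), (2, [3, 23, 0]), (2, [21, 0, 1]), (2, [23, 6]), (2, [7, 32, 0]), (2, [18, 20, 0]), (2, [9, 9, 0]), (2, [15, 7, 3]), (2, [11, 17, 0]), (2, [27, 4]), (2, [26, 28, 2]), (2, [27, 12, 1]), (2, [28, 16]), (2, [26, 38, 0]), (2, [30, 29, 1]), (2, [22, 16, 0]), (2, [0, 10, 0]), (2, [10, 4, 2]), (2, [7, 38, 0]), (2, [4, 13,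 2]), (2, [8, 5, 1]), (2, [23, 20, 2]), (2, [34, 11, 7]), (2, [28, 20, 3]), (2, [5, 17, 1]), (2, [18, 4, 0]), (2, [7, 33, 1]), (2, [14, 25]), (2, [33, 16, 0]), (2, [7, 18, 0]), (2, [20, 29, 0]), (2, [26, 24, 0]), (2, [16, 4, 10]), (2, [28, 38]), (2, [20, 5, 6]), (2, [2, 13]), (2, [21, 14, 4]), (2, [10, 25]), (2, [18, 14, 2]), (2, [32, 24]), (2, []), (2, [23, 28]), (2, [17, 11]), (2, [7, 5, 1]), (2, [31, 5, 3]), (2, [17, 34]), (2, [21, 28]), (2, [30, 4]), (2, [15, 31, 4]), (2, [20, 1, 2]), (2, [3, 16, 0]), (2, [37, 11, 2]), (2, [21, 12, 0]), (2, [15]), (2, [4, 18]), (2, [26, 24, 2]), (2, [0, 13, 1]), (2, [36, 27, 8]), (2, [10, 7, 1]), (2, [35, 22, 1]), (2, [11, 4, 2]), (2, [11, 33, 2]), (2, [3, 10, 0]), (2, [33, 17, 0]), (2, [2, 15]), (2, [12, 1, 2]), (2, [24, 18]), (2, [4, 37]), (2, [5, 4, 5]), (2, [4, 14, 5]), (2, [22,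 27]), (2, [15, 2]), (2, [11, 5, 1]), (2, [34, 12, 3]), (2, [24, 24]), (2, [38, 19]), (2, [14]), (2, [20, 16, 1]), (2, [26, 4, 2]), (2, [4, 31, 2]), (2, [36, 30, 3]), (2, [25, 8]), (2, [0, 9]), (2, [13, 26]), (2, [23, 34, 0]), (2, [36, 29, 1]), (2, [8, 33]), (2, [32, 31, 6]), (2, [10, 30, 4]), (2, [21, 31]), (2, [38, 30, 0]), (2, [22, 15]), (2, [11, 24, 0]), (2, [23, 30]), (2, [22, 27, 0]), (2, [22, 36, 1]), (2, [17, 4, 1]), (2, [12, 28, 0]), (2, [35, 27, 0]), (2, [38, 20]), (2, [12, 16, 4]), (2, [25, 36]), (2, [26, 31]), (2, [33, 10, 0]), (2, [10, 21, 1]), (2, [6, 16, 0]), (2, [34, 26, 2]), (2, [35, 14]), (2, [3, 0]), (2, [16, 34, 0]), (2, [21, 30, 2]), (2, [22, 14]), (2, [15, 8, 5]), (2, [0, 33]), (2, [34, 0]), (2, [11, 15]), (2, [18, 18]), (2, [22, 23]), (2, [7, 25, 0]), (2, [22, 9, 1]), (2, [26, 18]), (2, [19, 25]),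 (2, [11, 14]), (2, [8, 6, 4]), (2, [1, 6]), (2, [26, 15, 0]), (2, [19, 38, 0]), (2, [11, 10]), (2, [32, 28, 7]), (2, [38, 37, 0]), (2, [28, 16, 1]), (2, [30, 8]), (2, [15, 14, 2]), (2, [32, 18, 4]), (2, [27, 16, 1]), (2, [19, 22, 1]), (2, [14, 22, 2]), (2, [9, 19]), (2, [36, 6]), (2, [33, 19, 1]), (2, [12, 21]), (2, [7, 25, 3]), (2, [16, 13, 0]), (2, [31, 23, 0]), (2, [14, 35, 1]), (2, [3, 10]), (2, [23, 18, 4]), (2, [13, 13]), (2, [3, 11]), (2, [3, 34]), (2, [31, 0, 4]), (2, [8, 8, 2]), (2, [2, 8, 1]), (2, [24, 23]), (2, [11, 21]), (2, [21, 7, 0]), (2, [20, 13, 2]), (2, [5, 12]), (2, [28, 12]), (2, [4, 26]), (2, [27, 22, 5]), (2, [2, 23]), (2, [35, 7, 1]), (2, [2, 11, 2]), (2, [21, 6]), (2, [10, 14]), (2, [31, 4]), (2, [10, 38, 0]), (2, [31, 12, 1]), (2, [12, 12, 2]), (2, [24, 36]), (2, [23, 5, 1]), (2, [13, 27]), (2,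 [9, 8]), (2, [26, 30, 0]), (2, [33, 31]), (2, [31, 33]), (2, [32, 13]), (2, [16, 35, 1]), (2, [3, 16, 2]), (2, [13, 1]), (2, [9, 4, 0]), (2, [12, 38, 0]), (2, [16, 33, 0]), (2, [18, 37]), (2, [35, 38, 5]), (2, [33, 17, 6]), (2, [3, 11, 1]), (2, [19, 35, 2]), (2, [21, 1]), (2, [16, 35]), (2, [0, 38]), (2, [7, 4, 2]), (2, [32, 3, 2]), (2, [34, 5]), (2, [2, 38]), (2, [29, 30, 1]), (2, [16, 17]), (2, [33, 5]), (2, [30, 7]), (2, [17, 29]), (2, [31, 11, 1]), (2, [24, 20]), (2, [11, 25]), (2, [1, 20, 2]), (2, [15, 11, 3]), (2, [9, 18, 0]), (2, [8, 32, 1]), (2, [11, 19]), (2, [29, 5, 0]), (2, [28, 8, 1]), (2, [20, 26]), (2, [35, 21, 1]), (2, [17, 27, 4]), (2, [6, 32, 8]), (2, [32, 35]), (2, [32, 29, 2]), (2, [10, 33]), (2, [12, 34]), (2, [12, 11]), (2, [33, 33, 4]), (2, [34, 13]), (2, [15, 27]), (2, [20, 29, 3]), (2, [12, 26, 0]),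 (2, [32, 25, 1]), (2, [0, 20, 2]), (2, [21, 30]), (2, [0, 29, 6]), (2, [27, 5, 1]), (2, [29, 3, 9]), (2, [31, 34, 1]), (2, [4, 4, 6]), (2, [18, 16, 11]), (2, [29, 10]), (2, [34, 1, 1]), (2, [38, 21, 0]), (2, [30, 21, 4]), (2, [31, 12]), (2, [4, 1]), (2, [33, 21]), (2, [15, 20]), (2, [19, 22]), (2, [36, 20, 0]), (2, [19, 9, 0]), (2, [34, 7]), (2, [8, 21, 1]), (2, [37, 22, 1]), (2, [3, 7, 0]), (2, [33, 3]), (2, [15, 2, 1]), (2, [19, 25, 0]), (2, [15, 17, 2]), (2, [37, 30]), (2, [13, 31, 3]), (2, [15, 1]), (2, [25, 16, 1]), (2, [32, 11, 3]), (2, [13, 16, 0]), (2, [18, 27]), (2, [35, 6, 0]), (2, [37, 18, 0]), (2, [33, 19, 10]), (2, [1, 29]), (2, [20, 25]), (2, [18, 16]), (2, [20, 26, 8]), (2, [29, 22, 8]), (2, [12, 11, 1]), (2, [2, 19, 5]), (2, [7]), (2, [17]), (2, [0, 15, 0]), (2, [37, 15, 0]), (2, [35, 27, 1]), (2, [33, 14,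 0]), (2, [9, 37, 1]), (2, [37, 29]), (2, [34, 2, 8]), (2, [2, 11, 1]), (2, [38, 29, 1]), (2, [3, 23, 2]), (2, [30, 24]), (2, [3, 2]), (2, [11, 9, 0]), (2, [14, 25, 0]), (2, [14, 14, 0]), (2, [34, 8]), (2, [23, 22]), (2, [34, 3, 4]), (2, [25, 35]), (2, [8, 16, 1]), (2, [17, 29, 1]), (2, [14, 22]), (2, [36, 2, 3]), (2, [10, 34]), (2, [30, 10, 8]), (2, [37, 36]), (2, [2, 10, 7]), (2, [18, 0]), (2, [29, 1, 2]), (2, [5, 35, 0]), (2, [4, 33, 1]), (2, [4, 38, 0]), (2, [33, 6]), (2, [37, 18, 3]), (2, [19, 13]), (2, [38, 9, 0]), (2, [36, 1, 6]), (2, [17, 13]), (2, [14, 10]), (2, [17, 36, 6]), (2, [36, 28, 8]), (2, [7, 10]), (2, [22, 20]), (2, [9, 12]), (2, [21, 19, 1]), (2, [35, 36, 6]), (2, [26, 31, 2]), (2, [5, 18, 6]), (2, [9, 0, 1]), (2, [27, 9]), (2, [2, 18, 0]), (2, [25, 26]), (2, [6, 32, 0]), (2, [0, 34]), (2, [15, 22, 0]),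 (2, [28, 18, 0]), (2, [10, 11]), (2, [19, 5, 2]), (2, [25, 31]), (2, [25, 2, 1]), (2, [30, 9]), (2, [31, 2]), (2, [32, 18, 2]), (2, [8, 32]), (2, [8, 5, 3]), (2, [18, 15, 2]), (2, [6, 3]), (2, [17, 9, 4]), (2, [23, 16]), (2, [23, 26, 0]), (2, [14, 0, 4]), (2, [37, 35]), (2, [37, 29, 2]), (2, [22, 16, 3]), (2, [34, 36, 7]), (2, [29, 35, 3]), (2, [21, 27, 2]), (2, [4, 18, 5]), (2, [26, 8, 7]), (2, [11, 29]), (2, [35, 3, 2]), (2, [27, 8, 2]), (2, [15, 15]), (2, [4, 5, 0]), (2, [15, 14]), (2, [34, 21]), (2, [1, 32, 1]), (2, [13, 13, 0]), (2, [21, 22, 0]), (2, [16, 9, 0]), (2, [2, 23, 0]), (2, [17, 5]), (2, [21, 16, 6]), (2, [20, 29, 1]), (2, [2, 20]), (2, [12, 23, 0]), (2, [21, 15, 2]), (2, [32, 11]), (2, [35, 25]), (2, [35, 38, 0]), (2, [38, 19, 1]), (2, [29, 19]), (2, [1, 28, 5]), (2, [22, 33]), (2, [9, 7, 4]), (2, [28, 14]),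 (2, [27]), (2, [25, 31, 0]), (2, [4, 4, 0]), (2, [26, 15]), (2, [13, 27, 6]), (2, [3, 7]), (2, [18, 22, 0]), (2, [38, 24]), (2, [2, 21, 5]), (2, [18, 25, 2]), (2, [12, 1]), (2, [28, 15, 1]), (2, [15, 31, 0]), (2, [38, 27, 0]), (2, [31, 30, 5]), (2, [1, 8, 2]), (2, [11, 22, 10]), (2, [8, 15]), (2, [17, 12]), (2, [17, 34, 1]), (2, [12, 12, 1]), (2, [24, 12, 11]), (2, [35, 7]), (2, [2, 16, 1]), (2, [8, 22]), (2, [4, 20, 5]), (2, [37, 25, 1]), (2, [18, 24, 2]), (2, [1, 27, 0]), (2, [3, 4, 1]), (2, [34, 12, 2]), (2, [5, 29, 0]), (2, [22, 36]), (2, [15, 21]), (2, [0, 36, 0]), (2, [27, 10]), (2, [2, 27]), (2, [5, 32, 0]), (2, [17, 31, 3]), (2, [28, 11, 2]), (2, [36, 23, 1]), (2, [12, 25, 3]), (2, [16, 14, 1]), (2, [31, 27, 0]), (2, [14, 12, 4]), (2, [0, 15, 9]), (2, [24, 36, 2]), (2, [0, 30, 0]), (2, [19, 28, 0]), (2, [32, 22,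 0]), (2, [3, 13]), (2, [36, 0]), (2, [7, 11]), (2, [29, 30, 2]), (2, [16, 29, 1]), (2, [31, 6, 1]), (2, [7, 34]), (2, [38, 10, 0]), (2, [35, 8, 1]), (2, [18, 32, 1]), (2, [37, 38, 2]), (2, [10, 24, 0]), (2, [35, 17]), (2, [29, 36, 5]), (2, [17, 18]), (2, [8, 25, 0]), (2, [20, 28, 5]), (2, [6, 28, 0]), (2, [24, 22, 0]), (2, [26, 14, 0]), (2, [34, 3]), (2, [1, 5, 2]), (2, [23, 9, 1]), (2, [6, 22, 2]), (2, [26, 32]), (2, [8, 27]), (2, [4, 38, 1]), (2, [36, 6, 0]), (2, [11, 16]), (2, [31, 14]), (2, [32, 12]), (2, [14, 4]), (2, [15, 29]), (2, [32, 8, 1]), (2, [36, 29, 5]), (2, [31, 19, 3]), (2, [29, 13, 0]), (2, [6, 17, 1]), (2, [26, 28, 9]), (2, [14, 36]), (2, [0, 19]), (2, [13, 15, 3]), (2, [32, 17, 0]), (2, [14, 19, 7]), (2, [30, 13, 1]), (2, [24, 35, 1]), (2, [20, 27]), (2, [16, 1, 2]), (2, [36, 10, 2]), (2, [5, 6]), (2,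 [25, 15, 0]), (2, [23, 13]), (2, [37, 35, 5]), (2, [21, 35]), (2, [2, 16, 8]), (2, [28, 28, 0]), (2, [6, 19]), (2, [10, 29, 0]), (2, [27, 0]), (2, [22, 3, 0]), (2, [29, 18, 1]), (2, [32, 19]), (2, [28]), (2, [20, 15]), (2, [34, 33, 7]), (2, [8, 23, 0]), (2, [21, 20]), (2, [15, 4]), (2, [0, 17, 1]), (2, [18, 12]), (2, [20, 33, 7]), (2, [3, 15]), (2, [12, 2]), (2, [37, 7, 4]), (2, [35, 29, 0]), (2, [12, 9]), (2, [13, 17, 0]), (2, [21, 16]), (2, [32, 15, 8]), (2, [4, 10]), (2, [0, 28, 3]), (2, [36, 16, 4]), (2, [4, 7, 7]), (2, [5, 24, 5]), (2, [30, 20, 0]), (2, [17, 6, 6]), (2, [24, 27, 1]), (2, [16, 21]), (2, [18, 15, 8]), (2, [38, 16]), (2, [37, 1, 2]), (2, [3, 37, 1]), (2, [11, 38, 2]), (2, [21, 7, 3]), (2, [6, 6]), (2, [33, 0]), (2, [5, 16, 1]), (2, [6, 7, 1]), (2, [2, 30, 7]), (2, [19, 27]), (2, [7, 8]), (2, [13, 6]),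 (2, [18, 17, 0]), (2, [36, 38, 5]), (2, [6, 33, 2]), (2, [12, 34, 1]), (2, [12, 12]), (2, [35, 1]), (2, [34, 22]), (2, [27, 9, 1]), (2, [31, 5, 0]), (2, [29, 23, 2]), (2, [6, 7, 0]), (2, [6, 5, 3]), (2, [36, 26]), (2, [26, 36, 1]), (2, [4, 27]), (2, [20, 21, 2]), (2, [23, 29, 1]), (2, [36]), (2, [24, 27, 0]), (2, [7, 28]), (2, [25, 13, 2]), (2, [19, 23, 0]), (2, [13, 32, 2]), (2, [14, 35, 2]), (2, [5, 31, 5]), (2, [31, 33, 0]), (2, [25, 36, 4]), (2, [17, 33, 0]), (2, [26, 34, 2]), (2, [28, 31]), (2, [29, 30]), (2, [31, 34]), (2, [3, 9]), (2, [0, 16, 3]), (2, [4, 3, 2]), (2, [16, 6, 1]), (2, [11, 34]), (2, [18, 6]), (2, [37, 26, 0]), (2, [10, 0, 4]), (2, [33, 29, 0]), (2, [6, 8, 1]), (2, [5, 32]), (2, [27, 11]), (2, [0, 12]), (2, [19, 1]), (2, [10, 26, 6]), (2, [34, 9, 1]), (2, [27, 23, 1]), (2, [38, 11, 4]), (2, [34, 14,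 1]), (2, [28, 4]), (2, [36, 2, 1]), (2, [20, 22]), (2, [7, 8, 4]), (2, [37, 21]), (2, [27, 23, 0]), (2, [6, 12]), (2, [24, 8, 2]), (2, [36, 17]), (2, [2, 36]), (2, [6, 31, 0]), (2, [9, 14]), (2, [23, 27, 0]), (2, [27, 16]), (2, [6, 18, 3]), (2, [15, 26, 2]), (2, [9, 15, 1]), (2, [27, 34]), (2, [20, 25, 0]), (2, [22, 6, 0]), (2, [17, 36]), (2, [21, 18, 1]), (2, [9, 33, 0]), (2, [24, 32, 1]), (2, [3, 31, 0]), (2, [16, 37]), (2, [30, 18]), (2, [37, 8, 3]), (2, [13, 19]), (2, [22, 17, 4]), (2, [3, 28, 2]), (2, [20, 3, 2]), (2, [32, 31, 0]), (2, [14, 16, 3]), (2, [5, 1, 1]), (2, [17, 23]), (2, [28, 28, 11]), (2, [20, 10]), (2, [22, 4]), (2, [12, 0, 1]), (2, [6, 17, 0]), (2, [18, 6, 0]), (2, [4, 25, 13]), (2, [13, 33, 0]), (2, [18, 4]), (2, [33, 30, 7]), (2, [28, 7]), (2, [9, 17]), (2, [13, 27, 0]), (2, [37, 1]), (2, [3, 18,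 2]), (2, [4, 17, 0]), (2, [4, 19]), (2, [11, 12]), (2, [22, 31, 2]), (2, [36, 4, 3]), (2, [32, 21]), (2, [14, 15, 2]), (2, [10, 1, 1]), (2, [25, 10]), (2, [36, 5, 3]), (2, [28, 4, 1]), (2, [11, 23]), (2, [19, 37, 1]), (2, [32, 6, 0]), (2, [29, 9]), (2, [28, 36, 0]), (2, [28, 17, 3]), (2, [25, 1, 5]), (2, [22, 25]), (2, [22, 38, 0]), (2, [28, 23, 4]), (2, [29, 4, 2]), (2, [20, 26, 3]), (2, [27, 1, 1]), (2, [36, 14, 0]), (2, [8, 11, 1]), (2, [18, 17]), (2, [22, 7]), (2, [11, 2]), (2, [35, 29]), (2, [20, 22, 0]), (2, [22, 30, 2]), (2, [3, 28, 0]), (2, [21, 21]), (2, [26, 35]), (2, [25, 9, 1]), (2, [27, 31, 3]), (2, [2, 3, 0]), (2, [9]), (2, [28, 12, 4]), (2, [23, 31, 4]), (2, [2, 35]), (2, [24, 21, 1]), (2, [23, 17]), (2, [13, 30, 2]), (2, [35, 2, 6]), (2, [32, 8, 8]), (2, [37, 19, 8]), (2, [27, 13]), (2, [10, 8]), (2, [21,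 9]), (2, [34, 37]), (2, [4, 30]), (2, [20, 25, 5]), (2, [23, 11, 3]), (2, [29, 28, 2]), (2, [7, 16, 0]), (2, [17, 14, 2]), (2, [20, 18, 5]), (2, [23, 31]), (2, [16, 16]), (2, [11, 24]), (2, [25, 7, 7]), (2, [27, 7]), (2, [37, 7, 0]), (2, [27, 36, 1]), (2, [19, 18]), (2, [6, 18]), (2, [31, 17, 0]), (2, [26, 36, 9]), (2, [15, 18, 0]), (2, [29, 33, 4]), (2, [17, 17, 1]), (2, [7, 2]), (2, [1, 14, 0]), (2, [18, 28, 0]), (2, [31, 8]), (2, [8, 10, 0]), (2, [33, 27, 4]), (2, [10, 33, 3]), (2, [8, 16, 2]), (2, [9, 6, 0]), (2, [7, 23]), (2, [4, 6]), (2, [9, 26]), (2, [12, 10]), (2, [32, 16, 2]), (2, [28, 13]), (2, [4, 8, 0]), (2, [37, 12, 1]), (2, [22, 10, 0]), (2, [37, 30, 0]), (2, [24, 20, 1]), (2, [13, 10, 1]), (2, [9, 31]), (2, [28, 36, 1]), (2, [25, 32]), (2, [36, 15]), (2, [9, 2, 1]), (2, [29, 37, 0]), (2, [33, 4]), (2, [33,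 35, 2]), (2, [11, 0, 1]), (2, [2, 9, 2]), (2, [6, 13, 1]), (2, [33, 12, 1]), (2, [24, 26]), (2, [4, 31, 1]), (2, [23, 13, 4]), (2, [32, 37]), (2, [12, 5, 2]), (2, [23, 23, 6]), (2, [1, 32]), (2, [4, 37, 2]), (2, [23, 4]), (2, [20, 30, 0]), (2, [7, 5]), (2, [25, 35, 5]), (2, [35, 29, 4]), (2, [30, 5, 0]), (2, [30, 30, 0]), (2, [2, 21, 1]), (2, [7, 37, 1]), (2, [15, 34, 3]), (2, [8, 32, 3]), (2, [31, 3]), (2, [14, 11, 1]), (2, [2, 25, 0]), (2, [6, 2]), (2, [36, 3, 2]), (2, [37, 1, 10]), (2, [30, 33, 2]), (2, [8, 7]), (2, [19, 11, 2]), (2, [17, 26, 0]), (2, [19, 23]), (2, [3, 8]), (2, [28, 22, 2]), (2, [37, 20]), (2, [21, 33]), (2, [29, 14]), (2, [8, 38, 0]), (2, [17, 21]), (2, [36, 27]), (2, [8, 25]), (2, [10, 32]), (2, [19, 9]), (2, [24, 4]), (2, [37, 23, 0]), (2, [24, 16, 4]), (2, [6, 5, 1]), (2, [23, 26]), (2, [34, 16,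 1]), (2, [35, 26, 2]), (2, [16, 11]), (2, [31, 6, 3]), (2, [27, 29, 0]), (2, [10, 14, 0]), (2, [29, 37, 1]), (2, [29, 32, 6]), (2, [32, 20, 0]), (2, [5]), (2, [20, 35, 0]), (2, [16, 34]), (2, [4, 31, 0]), (2, [21, 28, 2]), (2, [10, 27, 2]), (2, [9, 29, 24]), (2, [7, 27, 7]), (2, [9, 4]), (2, [8, 26, 6]), (2, [19, 2]), (2, [34, 31]), (2, [34, 7, 0]), (2, [2, 17]), (2, [17, 6, 0]), (2, [3, 22, 5]), (2, [31, 24, 0]), (2, [6, 38]), (2, [28, 1, 1]), (2, [11, 37, 1]), (2, [0, 9, 0]), (2, [31, 21, 2]), (2, [27, 4, 1]), (2, [28, 32, 0]), (2, [6, 14, 2]), (2, [34, 1]), (2, [12]), (2, [20, 34, 0]), (2, [26, 38]), (2, [1, 22]), (2, [3, 23, 1]), (2, [18, 26]), (2, [18]), (2, [31, 2, 6]), (2, [7, 9]), (2, [35, 4]), (2, [31, 35, 8]), (2, [32, 10, 2]), (2, [13, 24]), (2, [8, 17]), (2, [29, 15]), (2, [2, 6, 0]), (2, [13, 10, 0]), (2, [24,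 6, 0]), (2, [29, 21]), (2, [1, 27, 4]), (2, [17, 6, 1]), (2, [15, 33, 6]), (2, [25, 25, 0]), (2, [38, 14, 4]), (2, [31, 27, 1]), (2, [9, 13, 4]), (2, [37, 31]), (2, [5, 13]), (2, [4, 33, 2]), (2, [30, 11]), (2, [1, 10]), (2, [32, 16, 9]), (2, [13, 8, 0]), (2, [30, 30, 1]), (2, [24]), (2, [19, 16, 0]), (2, [16, 26, 0]), (2, [34, 27]), (2, [38, 34]), (2, [23, 4, 4]), (2, [23]), (2, [28, 37, 3]), (2, [28, 11, 3]), (0, [2, 32, 0]), (0, [35, 31]), (0, [24, 18]), (0, [35, 1]), (0, [7, 17]), (0, [27, 19]), (0, [12, 8, 3]), (0, [29, 29, 0]), (0, [36, 4, 0]), (0, [28, 19]), (0, [22, 35, 0]), (0, [14, 5]), (0, [17, 27]), (0, [36, 6]), (0, [7, 10, 2]), (0, [14, 4]), (0, [14, 31]), (0, [14, 1]), (0, [37]), (0, [36, 1, 0]), (0, [12, 32]), (0, [36, 18]), (0, [7, 2]), (0, [15, 1]), (0, [16, 7, 1]), (0, [26, 37, 0]), (0, [28, 11, 0]),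 (0, [29, 21]), (0, [10, 25]), (0, [35, 29]), (0, [26, 4, 0]), (0, [7, 15]), (0, [3, 26, 0]), (0, [22, 27, 1]), (0, [6, 10]), (0, [8, 6]), (0, [35, 25]), (0, [4, 37]), (0, [26, 35]), (0, [16, 3]), (0, [29, 22, 0]), (0, [27, 8]), (0, [29, 8, 0]), (0, [8, 11, 0]), (0, [22, 38]), (0, [2]), (0, [11, 19]), (0, [24, 7]), (0, [36, 34]), (0, [22]), (0, [4, 14]), (0, [14, 3]), (0, [23, 3]), (0, [3, 7, 0]), (0, [36, 13]), (0, [4, 17]), (0, [20, 16]), (0, [4, 5, 1]), (0, [25, 22, 0]), (0, [33, 32]), (0, [24, 10]), (0, [38, 14]), (0, [35, 3]), (0, [17, 30]), (0, [1, 18, 1]), (0, [38, 7]), (0, [28, 20]), (0, [10, 6, 0]), (0, [13, 9]), (0, [20, 20]), (0, [4, 33]), (4, [25, 11]), (0, [14, 13, 1]), (0, [12, 11]), (0, [30, 27]), (0, [9, 7]), (0, [1, 19]), (0, [28, 8]), (4, [19, 19]), (0, [6, 7, 0]), (0, [34, 20, 0]), (4, [8, 29]), (0, [34,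 13]), (0, [22, 30]), (0, [29, 26]), (0, [17, 7]), (0, [8, 9]), (0, [25, 21]), (0, [17, 15]), (0, [15, 0]), (0, [38, 10, 2]), (0, [17, 14]), (0, [8, 29, 0]), (0, [5, 13, 0]), (0, [14, 36, 0]), (4, [2, 16]), (4, [6, 10]), (0, [31, 7]), (4, [19, 13, 0]), (0, [10, 1, 0]), (0, [37, 21, 0]), (0, [2, 12]), (0, [7, 8]), (0, [24, 14]), (0, [5, 6, 0]), (0, [17, 9, 0]), (0, [29, 0]), (0, [23, 14]), (0, [26, 9]), (0, [1, 12, 1]), (0, [18, 4]), (4, [23, 14]), (0, [7, 11]), (0, [1, 9, 0]), (0, [15, 6]), (0, [25, 26]), (4, [33, 35]), (0, [30, 7]), (0, [28, 2]), (0, [6, 23]), (0, [6, 27]), (4, [20, 9]), (4, [12, 4]), (4, [21, 29]), (0, [34, 37]), (0, [18, 7, 0]), (4, [5, 17]), (0, [34, 8, 3]), (4, [2, 38]), (0, [12, 3, 4]), (0, [21, 13]), (4, [23, 23]), (0, [0, 12]), (0, [12, 0]), (0, [16, 1]), (4, [18, 7]), (4, [30, 15]), (4, [29, 1]),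 (4, [15, 1]), (0, [23, 1, 1]), (0, [36, 3]), (0, [3, 4]), (0, [24, 18, 0]), (0, [12, 37]), (0, [8, 36]), (0, [27, 22]), (0, [4, 1]), (0, [8, 8]), (0, [16, 16, 0]), (0, [32, 30]), (0, [21, 8, 0]), (0, [23, 13, 0]), (0, [23, 5]), (0, [25, 11]), (4, [0, 32]), (4, [14, 28]), (0, [3, 2]), (0, [13, 14]), (0, [16, 4]), (0, [35, 12]), (0, [22, 12]), (4, [13, 0]), (0, [5, 6]), (0, [14, 25]), (0, [4, 3]), (4, [13, 15]), (4, [17]), (0, [23, 22]), (0, [18, 26, 0]), (0, [13, 35]), (0, [38, 9, 0]), (4, [22, 5]), (4, [6, 29, 0]), (4, [29, 4]), (4, [11, 6]), (4, [32, 2]), (4, [8, 3]), (4, [23, 5]), (0, [8, 9, 0]), (0, [23, 10]), (4, [24, 0]), (0, [18, 0]), (0, [36, 38]), (0, [3, 18]), (4, [9, 9]), (4, [22, 3]), (4, [32]), (4, [27, 5]), (0, [7, 9]), (4, [29, 1, 0]), (0, [17, 23, 0]), (0, [33, 3]), (4, [38, 14, 0]), (4, [37, 10]), (4, [13,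 5, 1]), (4, [29, 20]), (0, [36, 20]), (0, [8, 22, 1]), (0, [23, 29]), (0, [0, 14]), (0, [38, 18]), (0, [4, 29, 0]), (0, [16, 25, 0]), (0, [22, 9]), (0, [36, 26, 0]), (0, [21, 1]), (0, [29, 16, 0]), (0, [29, 17]), (0, [26, 5]), (4, [10, 2]), (0, [18, 3]), (0, [22, 16]), (0, [16, 5]), (4, [7, 4]), (0, [16, 7, 3]), (4, [13]), (0, [13, 30]), (0, [12, 30, 0]), (0, [26, 24]), (4, [23, 9]), (4, [10, 5]), (0, [14, 1, 0]), (0, [0, 7]), (0, [17, 36]), (0, [11, 7]), (0, [32, 25, 1]), (4, [11, 8]), (0, [35, 6, 0]), (4, [26, 17]), (0, [27, 13]), (0, [12, 10]), (4, [28, 23]), (4, [2, 3]), (4, [10, 27]), (4, [15, 24]), (4, [32, 7]), (0, [27, 2]), (0, [23, 9, 1]), (0, [16, 36]), (0, [14, 29]), (4, [34, 14]), (4, [31, 1]), (4, [4, 37]), (4, [7, 17]), (4, [14, 18]), (4, [37, 6]), (4, [18, 5]), (4, [2, 5]), (4, [12, 0]), (4, [21, 29, 0]),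 (4, [24, 8]), (4, [36, 9]), (0, [1, 23, 0]), (0, [21, 2]), (0, [24, 21]), (0, [15, 3]), (0, [34, 35, 0]), (4, [35, 2]), (4, [22, 9]), (4, [34, 6]), (4, [7, 7, 0]), (4, [3, 4]), (4, [9, 16]), (4, [0]), (4, [8, 5]), (4, [14, 12]), (4, [31, 7]), (4, [0, 15, 0]), (4, [25, 6]), (0, [10, 16]), (4, [4, 4]), (4, [0, 1, 1]), (4, [9, 1]), (4, [32, 22]), (0, [33, 30]), (0, [19]), (4, [37, 22]), (4, [17, 2]), (4, [13, 2]), (4, [0, 8]), (4, [0, 5, 0]), (4, [20, 21]), (4, [6, 31]), (4, [33]), (0, [21, 12]), (0, [0, 13, 5]), (0, [13, 5]), (0, [18, 20]), (0, [12, 21]), (0, [37, 13]), (0, [11, 17, 0]), (0, [6, 5]), (0, [16, 1, 0]), (0, [17, 6]), (0, [4, 2]), (0, [2, 17]), (0, [23, 9]), (0, [23, 5, 2]), (4, [7, 20]), (0, [3, 14]), (0, [13]), (0, [20, 0]), (0, [2, 5, 1]), (0, [10, 5]), (0, [36, 11]), (4, [23, 3]), (0, [2, 9]), (0, [18, 13]),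 (0, [22, 9, 0]), (0, [15, 4]), (4, [4, 2]), (4, [35, 1]), (4, [4]), (0, [19, 15]), (0, [28, 23]), (0, [10, 21]), (0, [7, 14]), (0, [7, 7]), (4, [11, 26]), (4, [3, 10]), (4, [15, 29]), (0, [15, 11]), (4, [26, 4]), (0, [18, 34]), (0, [17, 7, 0]), (4, [17, 9, 0]), (4, [8, 16]), (4, [17, 8]), (0, [32, 6]), (4, [24, 2]), (0, [33, 14, 1]), (0, [15, 7, 0]), (0, [11, 0]), (4, [7, 8]), (4, [14, 15, 0]), (4, [11]), (4, [4, 10]), (4, [31, 22, 0]), (4, [11, 11]), (4, [32, 18, 0]), (4, [28, 12]), (4, [33, 0]), (4, [33, 3]), (4, [1, 19]), (0, [18, 4, 0]), (0, [36, 1]), (4, [25, 4]), (0, [17, 5, 0]), (0, [17, 34]), (0, [37, 2]), (4, [12, 14]), (4, [17, 3]), (4, [6, 1]), (4, [26, 14]), (4, [18, 9]), (4, [29, 11]), (4, [21, 12]), (4, [21, 1]), (4, [10, 1]), (4, [15, 4]), (4, [1, 21, 0]), (0, [11, 26]), (0, [38, 26]), (0, [18, 24]), (4,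 [1, 9]), (4, [9, 5]), (4, [37, 29]), (4, [1, 4]), (4, [20, 0]), (4, [23, 2]), (4, [30, 5]), (4, [7, 15]), (4, [31, 18]), (4, [5, 19]), (4, [18, 1]), (4, [23, 32]), (0, [2, 36]), (0, [19, 6]), (0, [12, 2, 1]), (0, [24, 33, 0]), (0, [16, 21]), (0, [8, 17, 0]), (0, [26, 10]), (4, [32, 7, 0]), (0, [8]), (0, [29, 8, 1]), (0, [24, 23, 0]), (4, [15, 22]), (4, [34, 22]), (4, [6, 3]), (4, [31, 7, 0]), (4, [26, 0]), (4, [2, 8]), (4, [2, 9]), (4, [11, 33]), (4, [18, 3]), (0, [20]), (0, [14, 16]), (0, [30, 16, 1]), (4, [36, 19]), (4, [12, 18]), (4, [38, 11]), (4, [15, 9]), (4, [38, 1, 0]), (4, [25, 3]), (4, [14, 9]), (4, [6, 6]), (4, [16, 12]), (4, [20]), (4, [29, 7]), (4, [35, 12]), (0, [23]), (4, [17, 16, 0]), (4, [19, 3]), (4, [18, 11]), (4, [5, 11]), (4, [17, 1]), (4, [16, 38]), (4, [9, 18]), (0, [25, 35]), (4, [5, 19, 0]), (4,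 [25, 10, 0]), (0, [8, 27, 1]), (4, [13, 6]), (4, [23, 13]), (4, [32, 14]), (4, [36, 4]), (4, [30, 9]), (4, [10, 9]), (4, [32, 6]), (4, [14, 34]), (4, [25, 26]), (0, [19, 13, 4]), (0, [38, 30]), (0, [23, 4, 1]), (0, [34, 6]), (0, [23, 15]), (0, [23, 12, 0]), (0, [15, 34]), (0, [4, 38]), (0, [27, 29, 0]), (0, [28, 21]), (0, [38, 19]), (0, [3, 15, 0]), (0, [25, 24]), (0, [7, 4]), (0, [11, 3]), (0, [16, 12]), (0, [18, 11]), (0, [20, 22, 0]), (0, [25, 4]), (0, [35, 4]), (4, [22, 2]), (0, [33, 16]), (0, [24, 32]), (0, [19, 1, 0]), (0, [37, 25]), (4, [3, 8]), (0, [21, 5, 0]), (4, [21, 26]), (0, [20, 26]), (4, [37, 1]), (0, [19, 29]), (0, [10, 3]), (4, [30, 8]), (0, [18, 23]), (0, [8, 17]), (0, [29, 31]), (0, [18, 27]), (4, [4, 32, 0]), (4, [37, 16, 0]), (4, [19, 14]), (4, [20, 4]), (4, [30, 20]), (4, [24, 14, 0]), (4, [29, 16]),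 (0, [7, 36]), (0, [13, 3]), (4, [30, 6]), (0, [19, 5]), (0, [15, 23]), (0, [36, 4]), (4, [36, 25]), (4, [31, 16]), (0, [31, 36]), (0, [32, 37]), (0, [0, 18, 0]), (4, [25, 1]), (4, [36, 7]), (4, [26, 3]), (4, [17, 0]), (4, [11, 28]), (4, [5, 10]), (4, [18, 20]), (4, [37, 2]), (4, [25, 7]), (0, [1, 4]), (0, [5, 20, 0]), (0, [21]), (0, [10, 29]), (0, [5, 13]), (4, [6, 0]), (4, [24, 17]), (4, [9, 12]), (4, [14, 2]), (4, [36, 8]), (0, [16, 28, 0]), (4, [37, 36]), (0, [33, 33]), (0, [32, 15, 1]), (4, [5, 22]), (4, [11, 12]), (4, [15, 11, 0]), (4, [2, 6]), (4, [33, 8]), (4, [18, 26]), (4, [20, 13, 0]), (4, [31, 38]), (4, [21, 13]), (4, [38, 14]), (4, [17, 13]), (4, [31, 9]), (4, [6, 4]), (4, [11, 16, 0]), (4, [21, 31]), (4, [37, 7]), (4, [15, 28]), (4, [36, 5]), (0, [37, 1]), (0, [38, 18, 5]), (0, [0, 26]), (0, [38, 3]), (0, [22,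 17]), (0, [3, 11]), (0, [25, 22]), (4, [38, 8]), (4, [16, 10]), (4, [24, 19]), (4, [36, 1]), (4, [2, 26]), (4, [8, 31, 0]), (4, [5, 13]), (0, [21, 9]), (4, [31, 6]), (4, [0, 20]), (0, [18, 1]), (0, [17, 37, 1]), (4, [28, 0]), (4, [13, 31]), (4, [27, 29]), (0, [36, 0]), (4, [33, 22]), (0, [29, 10]), (0, [6, 19, 0]), (4, [37, 31]), (4, [5, 2]), (4, [16, 1]), (4, [37]), (4, [6, 17]), (4, [20, 24]), (4, [7, 9]), (4, [10, 12, 1]), (4, [4, 16]), (0, [10, 12]), (0, [1, 2]), (0, [2, 6]), (4, [29, 21]), (4, [18, 4]), (4, [33, 30, 2]), (4, [4, 11]), (4, [17, 12]), (4, [0, 12, 0]), (4, [8, 2]), (4, [8, 8]), (4, [7, 10]), (4, [30, 1]), (4, [21, 2]), (4, [28, 29]), (4, [29, 0]), (4, [21]), (4, [22, 8]), (4, [12, 13]), (4, [12]), (4, [4, 3]), (0, [20, 24]), (0, [18, 6]), (0, [32, 13]), (0, [17, 23]), (0, [11, 12]), (0, [3, 9]), (0, [1,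 0]), (4, [10, 12]), (4, [28, 20]), (0, [1, 28, 0]), (0, [0, 28]), (0, [15, 18]), (4, [7, 25]), (4, [36, 20]), (4, [19, 18]), (4, [29, 24]), (4, [33, 4]), (4, [36, 31]), (4, [34, 7, 0]), (4, [7, 14]), (4, [30, 7]), (4, [13, 3]), (0, [11, 29]), (4, [29]), (4, [5, 6]), (4, [1, 0]), (4, [22, 26]), (4, [34, 7]), (0, [17, 8]), (0, [13, 1, 0]), (4, [19, 25]), (4, [21, 6]), (4, [0, 6]), (4, [15, 7]), (4, [38]), (0, [6, 2, 1]), (4, [21, 15]), (4, [0, 14]), (4, [26, 18]), (4, [18, 19]), (0, [30, 18, 1]), (4, [34, 27]), (0, [35, 36]), (4, [26, 16]), (4, [35, 9]), (4, [24, 12]), (4, [31, 33]), (4, [30, 28, 0]), (4, [14, 10]), (4, [3, 9]), (4, [31, 5]), (4, [27, 0]), (4, [19, 1]), (4, [29, 13]), (4, [11, 18]), (4, [1, 17]), (4, [14, 14]), (4, [35, 10]), (4, [3, 15]), (4, [31, 3]), (4, [32, 11]), (4, [20, 1]), (4, [10, 16, 0]), (4, [37,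 12]), (4, [1, 13]), (4, [24, 6]), (4, [5]), (4, [21, 3]), (4, [20, 13]), (4, [29, 2]), (4, [23, 26]), (4, [26, 1]), (4, [17, 5]), (4, [20, 22]), (4, [34]), (4, [12, 1]), (4, [31, 5, 0]), (4, [23]), (4, [5, 24]), (4, [22, 15]), (4, [32, 13]), (4, [10, 16]), (4, [12, 2]), (4, [0, 18]), (4, [33, 14]), (4, [15, 36]), (4, [34, 31]), (4, [34, 2]), (2, [25, 11]), (2, [3, 15, 0]), (2, [9, 18, 1]), (2, [5, 13, 0]), (2, [6, 3, 8]), (2, [22, 3]), (2, [10, 28, 7]), (2, [2, 31, 1]), (2, [0, 1, 1]), (2, [13, 36, 7]), (2, [19, 6]), (2, [24, 7]), (2, [11, 0, 8]), (2, [14, 18]), (2, [0, 8]), (2, [16, 2]), (2, [27, 37]), (2, [5, 7, 1]), (2, [20, 0]), (2, [19, 17, 1]), (2, [36, 23]), (2, [18, 7, 6]), (2, [13, 33]), (2, [38, 12, 0]), (2, [4, 5]), (2, [27, 19, 6]), (2, [19, 30]), (2, [37, 10]), (2, [33, 33, 0]), (2, [36, 6, 6]), (2, [13, 9]),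 (2, [33, 13, 2]), (2, [16, 9, 4]), (2, [4, 36, 1]), (2, [14, 9]), (2, [17, 10, 3]), (2, [23, 9]), (2, [27, 13, 3]), (2, [6, 3, 6]), (2, [24, 38, 0]), (2, [7, 15, 0]), (2, [29, 32, 0]), (2, [14, 2]), (2, [37, 27, 0]), (2, [8, 3]), (2, [12, 34, 5]), (2, [23, 3]), (2, [20, 38, 2]), (2, [16, 31, 3]), (2, [28, 13, 3]), (2, [3, 27, 4]), (2, [6, 9, 0]), (2, [36, 10, 0]), (2, [7, 24, 2]), (2, [12, 22, 2]), (2, [11, 17, 2]), (2, [36, 24]), (2, [2, 3]), (2, [33, 29, 5]), (2, [24, 30, 2]), (2, [23, 4, 2]), (2, [18, 38, 0]), (2, [17, 1]), (2, [18, 33, 1]), (2, [12, 7]), (2, [35, 12]), (2, [26, 23, 8]), (2, [32, 11, 1]), (2, [13, 37, 1]), (2, [18, 15, 4]), (2, [33, 15, 1]), (2, [15, 10, 1]), (2, [17, 16, 0]), (2, [12, 36, 0]), (2, [0, 16, 1]), (2, [38, 28]), (2, [15, 4, 10]), (2, [19, 15, 3]), (2, [19, 7, 0]), (2, [28, 6, 0]), (2, [19,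 19]), (2, [35, 0, 1]), (2, [16, 0, 1]), (2, [36, 18, 6]), (2, [21, 13]), (2, [18, 27, 0]), (2, [0, 32]), (2, [18, 12, 2]), (2, [38, 36, 2]), (2, [17, 31]), (2, [19, 37, 2]), (2, [34, 18, 0]), (2, [17, 7, 0]), (2, [24, 19]), (2, [11, 31, 2]), (2, [6, 29, 0]), (2, [22, 38, 3]), (2, [35, 16, 11]), (2, [23, 14]), (2, [14, 24]), (2, [18, 36]), (2, [36, 0, 6]), (2, [4, 27, 2]), (2, [30, 20]), (2, [36, 38, 0]), (2, [30, 21, 1]), (2, [15, 24]), (2, [37, 27, 1]), (2, [19, 0, 4]), (2, [0, 33, 3]), (2, [18, 33, 0]), (2, [34, 15, 2]), (2, [1, 2]), (2, [13, 21]), (2, [4, 13, 0]), (2, [18, 28]), (2, [11, 36, 2]), (2, [17, 23, 0]), (2, [1, 38]), (2, [33, 14, 4]), (2, [16, 19, 5]), (2, [13, 15]), (2, [13, 14]), (2, [25, 34, 0]), (2, [7, 4]), (2, [35, 22, 7]), (2, [27, 35, 2]), (2, [35, 23]), (2, [25, 5, 1]), (2, [21, 35, 1]), (2, [4, 25,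 2]), (2, [34, 13, 0]), (2, [3, 29]), (2, [28, 6, 1]), (2, [21, 10]), (2, [27, 22, 3]), (2, [14, 12]), (2, [34, 23, 5]), (2, [4, 22, 0]), (2, [22, 5, 5]), (2, [6, 29, 1]), (2, [30, 7, 3]), (2, [24, 10, 0]), (2, [28, 16, 5]), (2, [17, 2, 1]), (2, [11, 4, 0]), (2, [10, 9, 4]), (2, [32, 18, 0]), (2, [21, 5, 2]), (2, [4, 2, 3]), (2, [17, 20]), (2, [10, 18]), (2, [11, 26]), (2, [21, 27, 0]), (2, [25, 4, 0]), (2, [10, 24]), (2, [17, 37, 4]), (2, [10, 23, 4]), (2, [17, 30, 0]), (2, [12, 32, 0]), (2, [31, 21, 0]), (2, [0, 36, 2]), (2, [2, 17, 0]), (2, [34, 8, 2]), (2, [14, 5]), (2, [8, 27, 1]), (2, [4, 24, 2]), (2, [7, 26, 2]), (2, [28, 1, 2]), (2, [11, 32]), (2, [5, 27, 6]), (2, [12, 29, 0]), (2, [24, 18, 0]), (2, [36, 36]), (2, [14, 24, 4]), (2, [23, 22, 3]), (2, [27, 14, 2]), (2, [18, 22]), (2, [0, 13, 2]), (2, [9, 7, 9]), (2,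 [10, 12]), (2, [15, 27, 0]), (2, [13, 3]), (2, [3, 36, 10]), (2, [16, 37, 1]), (2, [26, 0]), (2, [18, 23]), (2, [31, 20]), (2, [25, 35, 0]), (2, [25, 24, 0]), (2, [17, 27]), (2, [10, 34, 1]), (2, [10, 2]), (2, [1, 18]), (2, [9, 20]), (2, [26, 1]), (2, [2, 30, 8]), (2, [27, 2, 3]), (2, [38, 8]), (2, [34, 30]), (2, [11, 8]), (2, [13, 25, 2]), (2, [0, 12, 0]), (2, [37, 32, 1]), (2, [32, 8, 2]), (2, [28, 23, 3]), (2, [36, 27, 0]), (2, [10, 16, 0]), (2, [38, 4, 0]), (2, [5, 30]), (2, [21, 31, 6]), (2, [36, 12, 2]), (2, [38, 4, 1]), (2, [11, 4, 1]), (2, [5, 11, 1]), (2, [18, 24]), (2, [5, 18, 1]), (2, [35, 2]), (2, [3, 22, 10]), (2, [37, 36, 6]), (2, [12, 1, 1]), (2, [2, 8]), (2, [1, 20, 0]), (2, [11, 27, 2]), (2, [3, 4]), (2, [2, 9, 10]), (2, [36, 28]), (2, [37, 28, 5]), (2, [18, 10, 0]), (2, [38, 13, 9]), (2, [6, 1]), (2, [25,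 30, 1]), (2, [0, 26]), (2, [16, 24]), (2, [38, 26]), (2, [31, 35]), (2, [35, 5]), (2, [22, 35, 6]), (2, [8, 8]), (2, [16, 9]), (2, [34, 11, 1]), (2, [21]), (2, [14, 0, 1]), (2, [6, 23, 3]), (2, [11, 8, 4]), (2, [32, 13, 0]), (2, [16, 5]), (2, [23, 33]), (2, [22, 27, 1]), (2, [38, 32]), (2, [10, 5]), (2, [29, 36, 0]), (2, [35, 9]), (2, [22, 8]), (2, [28, 20, 0]), (2, [28, 21]), (2, [29, 13]), (2, [32, 15, 2]), (2, [29, 12, 4]), (2, [4, 32, 1]), (2, [5, 23, 2]), (2, [1, 33, 1]), (2, [15, 12, 5]), (2, [15, 8, 0]), (2, [10, 9]), (2, [17, 6, 3]), (2, [0, 14, 0]), (2, [17, 34, 3]), (2, [36, 8, 0]), (2, [10, 19, 5]), (2, [4, 37, 15]), (2, [19, 8, 1]), (2, [38, 30, 3]), (2, [15, 23]), (2, [11, 28]), (2, [28, 22, 3]), (2, [6, 0]), (2, [27, 16, 2]), (2, [0, 10, 4]), (2, [17, 35, 7]), (2, [8, 1, 2]), (2, [35, 37, 1]), (2, [9, 16]),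 (2, [3, 35, 2]), (2, [1, 25]), (2, [23, 21]), (2, [19, 26, 2]), (2, [19, 29]), (2, [17, 3, 7]), (2, [33, 14]), (2, [13, 29, 3]), (2, [27, 20, 0]), (2, [5, 18, 0]), (2, [27, 21]), (2, [0, 15, 1]), (2, [26, 32, 4]), (2, [26, 31, 5]), (2, [7, 5, 2]), (2, [16, 18]), (2, [4, 10, 1]), (2, [19, 31, 1]), (2, [27, 6, 1]), (2, [22, 2, 6]), (2, [0, 17, 2]), (2, [15, 38, 11]), (2, [30, 16]), (2, [37]), (2, [29, 7]), (2, [30, 38]), (2, [3, 33]), (2, [37, 24, 7]), (2, [0, 6]), (2, [22, 28, 0]), (2, [25, 5, 0]), (2, [27, 26, 0]), (2, [13, 26, 5]), (2, [15, 36]), (2, [13, 31, 0]), (2, [12, 23, 4]), (2, [18, 8, 0]), (2, [20, 11]), (2, [36, 19, 1]), (2, [38, 15, 1]), (2, [24, 17]), (2, [1, 19, 0]), (2, [9, 35]), (2, [9, 21, 1]), (2, [15, 38, 0]), (2, [17, 37]), (2, [36, 22]), (2, [19, 12]), (2, [12, 13]), (2, [2, 28, 0]), (2, [15, 10, 0]),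 (2, [7, 36, 10]), (2, [9, 17, 4])]

set_option maxRecDepth 1000000 in
theorem Q1_ok : TabOK Q1Tab Q1InvTab :=
  ⟨by decide +kernel, by decide +kernel, by unfold dotInt; decide +kernel,
    by unfold coef dotInt; decide +kernel, by unfold coef dotInt; decide +kernel⟩

set_option maxRecDepth 1000000 in
theorem Q2_ok : TabOK Q2Tab Q2InvTab :=
  ⟨by decide +kernel, by decide +kernel, by unfold dotInt; decide +kernel,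
    by unfold coef dotInt; decide +kernel, by unfold coef dotInt; decide +kernel⟩

/-- generators -/
def famQ : GenFam where
  gens := [genOf Q1Tab Q1InvTab Q1_ok, genOf Q2Tab Q2InvTab Q2_ok]
  tabs := [Q1Tab, Q2Tab]
  len := rfl
  spec := by
    intro k hk v
    match k, hk with
    | 0, _ => exact genOf_smul Q1Tab Q1InvTab Q1_ok v
    | 1, _ => exact genOf_smul Q2Tab Q2InvTab Q2_ok v
    | (k + 2), hk => exact absurd hk (by simp)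

/-- the packed root `(-4, 0, 4, 0^21)` -/
def y0P : ℕ := 3150858910311745638317572730080710985337652928985868566652

/-- the classes by the scalar product with the root -/
def cm8 (n : ℕ) : Bool := Nat.beq (dig n 2 + 2) (dig n 0)
def c16 (n : ℕ) : Bool := Nat.beq (dig n 0 + 4) (dig n 2)
def c0 (n : ℕ) : Bool := Nat.beq (dig n 0) (dig n 2)
def c8 (n : ℕ) : Bool := Nat.beq (dig n 0 + 2) (dig n 2)

set_option maxRecDepth 1000000 in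
theorem fixQ_check : [Q1Tab, Q2Tab].all (fun T =>
    stepB T McL.u0L McL.u0C McL.u0L && stepB T Co3.y0L Co3.y0C Co3.y0L) = true := by decide +kernel

set_option maxRecDepth 1000000 in
theorem perms22p_check : perms22p.all (fun d => d.inM24 && (permL d McL.u0L == McL.u0L) &&
    (permL d Co3.y0L == Co3.y0L)) = true := by decide +kernel

set_option maxRecDepth 1000000 in
theorem y0P_eq : unpack y0P = Co3.y0L := by decide +kernel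

set_option maxRecDepth 1000000 in
theorem cover_check : Co3.XcP.all (fun n => Nat.beq n y0P || cm8 n || c16 n || c0 n || c8 n) = true := by
  decide +kernel

set_option maxRecDepth 1000000 in
theorem C_lengths : (Co3.XcP.filter cm8).length = 352 ∧ (Co3.XcP.filter c16).length = 1100 ∧
    (Co3.XcP.filter c0).length = 4125 ∧ (Co3.XcP.filter c8).length = 5600 := by decide +kernel

set_option maxRecDepth 1000000 in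
theorem root_m8 : SLm8P.getD 0 0 ∈ Co3.XcP.filter cm8 ∧ 0 < SLm8P.length := by decide +kernel

set_option maxRecDepth 1000000 in
theorem tree_m8 : checkTree famQ.tabs (SLm8P.map unpack) SCm8 [0] stepsm8 = true := by decide +kernel

set_option maxRecDepth 1000000 in
theorem all_m8 : (List.range (SLm8P.map unpack).length).all
    (fun i => (0 :: stepsm8.map (·.1)).contains i) = true := by decide +kernel

set_option maxRecDepth 1000000 in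
theorem words_m8 : checkW3 perms22p SLm8P (Co3.XcP.filter cm8) Wm8 = true := by decide +kernel

set_option maxRecDepth 1000000 in
theorem root_p16 : SLp16P.getD 0 0 ∈ Co3.XcP.filter c16 ∧ 0 < SLp16P.length := by decide +kernel

set_option maxRecDepth 1000000 in
theorem tree_p16 : checkTree famQ.tabs (SLp16P.map unpack) SCp16 [0] stepsp16 = true := by decide +kernel

set_option maxRecDepth 1000000 in
theorem all_p16 : (List.range (SLp16P.map unpack).length).all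
    (fun i => (0 :: stepsp16.map (·.1)).contains i) = true := by decide +kernel

set_option maxRecDepth 1000000 in
theorem words_p16 : checkW3 perms22p SLp16P (Co3.XcP.filter c16) Wp16 = true := by decide +kernel

set_option maxRecDepth 1000000 in
theorem root_p0 : SLp0P.getD 0 0 ∈ Co3.XcP.filter c0 ∧ 0 < SLp0P.length := by decide +kernel

set_option maxRecDepth 1000000 in
theorem tree_p0 : checkTree famQ.tabs (SLp0P.map unpack) SCp0 [0] stepsp0 = true := by decide +kernel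

set_option maxRecDepth 1000000 in
theorem all_p0 : (List.range (SLp0P.map unpack).length).all
    (fun i => (0 :: stepsp0.map (·.1)).contains i) = true := by decide +kernel

set_option maxRecDepth 1000000 in
theorem words_p0 : checkW3 perms22p SLp0P (Co3.XcP.filter c0) Wp0 = true := by decide +kernel

set_option maxRecDepth 1000000 in
theorem root_p8 : SLp8P.getD 0 0 ∈ Co3.XcP.filter c8 ∧ 0 < SLp8P.length := by decide +kernel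

set_option maxRecDepth 1000000 in
theorem tree_p8 : checkTree famQ.tabs (SLp8P.map unpack) SCp8 [0] stepsp8 = true := by decide +kernel

set_option maxRecDepth 1000000 in
theorem all_p8 : (List.range (SLp8P.map unpack).length).all
    (fun i => (0 :: stepsp8.map (·.1)).contains i) = true := by decide +kernel

set_option maxRecDepth 1000000 in
theorem words_p8 : checkW3 perms22p SLp8P (Co3.XcP.filter c8) Wp8 = true := by decide +kernel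

end Cfsg.Agent.Lib.Helper27.R5
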