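import Mathlib
import Cfsg.Agent.Lib.Helper18.RtNU
import Cfsg.Agent.Lib.Helper12.RtNonsplitC
import Cfsg.Agent.Lib.Helper41.SL2Count

/-! # Rc hive (helper52, S2357), round 2, leaf RC-U3: `U` has `q² - 1` elements of order 3

The elements of `U` are the `u p` (`u` injective); by the cube formula `u p` has order 3 iff
`p.1 = 0` and `p ≠ 0`. -/

set_option autoImplicit false
set_option linter.unusedSectionVars false

namespace Cfsg.Agent.Lib.Helper52.Rc

open Cfsg.Agent.Lib.Helper12.Rt Cfsg.Agent.Lib.Helper12.ReeOut Cfsg.Agent.Lib.Helper12.ReeInv Matrix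

section U
variable {K : Type*} [Field K] [Fintype K] {G : Type*} [Group G] {m : ℕ}

/-- counting elements of `U` with a property through the parametrisation `u` -/
theorem rcu3_card_param (R : ReeOutData K G m) (P : G → Prop) (S : Set (K × K × K))
    (h : ∀ p, P (R.u p) ↔ p ∈ S) : Nat.card {x : G // x ∈ R.U ∧ P x} = Nat.card S := by
  symm
  apply Nat.card_congr
  refine Equiv.ofBijective (fun p => ⟨R.u p.1, R.u_mem_U _, (h _).2 p.2⟩) ⟨?_, ?_⟩
  · intro p q hpq
    have := congrArg Subtype.val hpq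
    exact Subtype.ext (R.u_inj this)
  · rintro ⟨x, hxU, hxP⟩
    obtain ⟨p, rfl⟩ := (R.mem_U x).1 hxU
    exact ⟨⟨p, (h p).1 hxP⟩, rfl⟩

theorem rcu3_u_eq_one_iff (R : ReeOutData K G m) (p : K × K × K) : R.u p = 1 ↔ p = 0 := by
  constructor
  · intro h
    rw [← R.u_zero] at h
    exact R.u_inj h
  · rintro rfl
    exact R.u_zero

theorem rcu3_order_iff (R : ReeOutData K G m)
    (hcube : ∀ p : K × K × K, R.u p ^ 3 = R.u (0, 0, -(p.1 ^ (3 ^ m * 3 + 2))))
    (p : K × K × K) : orderOf (R.u p) = 3 ↔ p ∈ {p : K × K × K | p.1 = 0 ∧ p ≠ 0} := by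
  change orderOf (R.u p) = 3 ↔ (p.1 = 0 ∧ p ≠ 0)
  constructor
  · intro h
    have h3 : R.u p ^ 3 = 1 := by rw [← h]; exact pow_orderOf_eq_one _
    rw [hcube, rcu3_u_eq_one_iff] at h3
    have ht : p.1 ^ (3 ^ m * 3 + 2) = 0 := by
      have := congrArg (fun q : K × K × K => q.2.2) h3
      simpa using this
    refine ⟨pow_eq_zero_iff (by omega) |>.1 ht, ?_⟩
    rintro rfl
    rw [R.u_zero, orderOf_one] at h
    omega
  · rintro ⟨ht, hp⟩
    have h3 : R.u p ^ 3 = 1 := by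
      rw [hcube, ht, zero_pow (by omega), neg_zero]
      exact R.u_zero
    have h1 : R.u p ≠ 1 := fun h => hp ((rcu3_u_eq_one_iff R p).1 h)
    exact orderOf_eq_prime h3 h1

theorem rcu3_card_S (q : ℕ) (hq : Fintype.card K = q) :
    Nat.card {p : K × K × K | p.1 = 0 ∧ p ≠ 0} = q ^ 2 - 1 := by
  classical
  have e : {p : K × K × K | p.1 = 0 ∧ p ≠ 0} ≃ {ab : K × K // ¬ ab = 0} :=
    { toFun := fun p => ⟨p.1.2, fun h => p.2.2 (Prod.ext p.2.1 h)⟩
      invFun := fun ab => ⟨(0, ab.1), rfl, fun h => ab.2 (congrArg Prod.snd h)⟩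
      left_inv := by
        rintro ⟨⟨t, ab⟩, ht, hp⟩
        change t = 0 at ht
        subst ht
        rfl
      right_inv := fun ab => rfl }
  rw [Nat.card_congr e, Nat.card_eq_fintype_card, Fintype.card_subtype_compl,
    Fintype.card_subtype_eq, Fintype.card_prod, hq, pow_two]

/-- RC-U3.  `U` has `q² - 1` elements of order 3: the `u(0,a,b)`, `(a,b) ≠ 0` (`u` injective, `u 0 = 1` is `R.u_zero`,
`|K| = q` is `R.hK`). -/
theorem card_U_orderOf_three (R : ReeOutData K G m)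
    (hcube : ∀ p : K × K × K, R.u p ^ 3 = R.u (0, 0, -(p.1 ^ (3 ^ m * 3 + 2)))) :
    Nat.card {x : G // x ∈ R.U ∧ orderOf x = 3} = (3 ^ (2 * m + 1)) ^ 2 - 1 := by
  rw [rcu3_card_param R (fun x => orderOf x = 3) _ (rcu3_order_iff R hcube)]
  exact rcu3_card_S _ R.hK

end U

end Cfsg.Agent.Lib.Helper52.Rc
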