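import Mathlib
import Cfsg.Agent.Lib.Helper18.RtNU
import Cfsg.Agent.Lib.Helper12.RtNonsplitC
import Cfsg.Agent.Lib.Helper41.SL2Count

/-! # Rc hive (helper52, S2357), round 2, leaf RC-U9: `U` has `q³ - q²` elements of order 9

The elements of `U` are the `u p` (`u` injective); by the cube formula `(u p)³ = u(0,0,-t^(e+2))`, which is
`≠ 1` iff `t = p.1 ≠ 0`, and `(u p)⁹ = 1` always; so `u p` has order 9 iff `p.1 ≠ 0`. -/

set_option autoImplicit false
set_option linter.unusedSectionVars false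

namespace Cfsg.Agent.Lib.Helper52.Rc

open Cfsg.Agent.Lib.Helper12.Rt Cfsg.Agent.Lib.Helper12.ReeOut Cfsg.Agent.Lib.Helper12.ReeInv Matrix

section U
variable {K : Type*} [Field K] [Fintype K] {G : Type*} [Group G] {m : ℕ}

/-- counting elements of `U` with a property through the parametrisation `u` -/
theorem rcu9_card_param (R : ReeOutData K G m) (P : G → Prop) (S : Set (K × K × K))
    (h : ∀ p, P (R.u p) ↔ p ∈ S) : Nat.card {x : G // x ∈ R.U ∧ P x} = Nat.card S := by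
  symm
  apply Nat.card_congr
  refine Equiv.ofBijective (fun p => ⟨R.u p.1, R.u_mem_U _, (h _).2 p.2⟩) ⟨?_, ?_⟩
  · intro p q hpq
    have := congrArg Subtype.val hpq
    exact Subtype.ext (R.u_inj this)
  · rintro ⟨x, hxU, hxP⟩
    obtain ⟨p, rfl⟩ := (R.mem_U x).1 hxU
    exact ⟨⟨p, (h p).1 hxP⟩, rfl⟩

theorem rcu9_u_eq_one_iff (R : ReeOutData K G m) (p : K × K × K) : R.u p = 1 ↔ p = 0 := by
  constructor
  · intro h
    rw [← R.u_zero] at h
    exact R.u_inj h
  · rintro rfl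
    exact R.u_zero

theorem rcu9_cube_eq_one_iff (R : ReeOutData K G m)
    (hcube : ∀ p : K × K × K, R.u p ^ 3 = R.u (0, 0, -(p.1 ^ (3 ^ m * 3 + 2))))
    (p : K × K × K) : R.u p ^ 3 = 1 ↔ p.1 = 0 := by
  rw [hcube, rcu9_u_eq_one_iff]
  constructor
  · intro h3
    have ht : p.1 ^ (3 ^ m * 3 + 2) = 0 := by
      have := congrArg (fun q : K × K × K => q.2.2) h3
      simpa using this
    exact pow_eq_zero_iff (by omega) |>.1 ht
  · intro ht
    rw [ht, zero_pow (by omega), neg_zero]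
    rfl

theorem rcu9_order_iff (R : ReeOutData K G m)
    (hcube : ∀ p : K × K × K, R.u p ^ 3 = R.u (0, 0, -(p.1 ^ (3 ^ m * 3 + 2))))
    (p : K × K × K) : orderOf (R.u p) = 9 ↔ p ∈ {p : K × K × K | p.1 ≠ 0} := by
  change orderOf (R.u p) = 9 ↔ p.1 ≠ 0
  constructor
  · intro h ht
    have h3 := (rcu9_cube_eq_one_iff R hcube p).2 ht
    have hd := orderOf_dvd_of_pow_eq_one h3
    rw [h] at hd
    omega
  · intro ht
    have h3 : ¬ R.u p ^ 3 ^ 1 = 1 := by
      rw [pow_one]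
      exact fun h => ht ((rcu9_cube_eq_one_iff R hcube p).1 h)
    have h9 : R.u p ^ 3 ^ (1 + 1) = 1 := by
      have : (3 : ℕ) ^ (1 + 1) = 3 * 3 := by norm_num
      rw [this, pow_mul, hcube p]
      exact (rcu9_cube_eq_one_iff R hcube _).2 rfl
    have := orderOf_eq_prime_pow h3 h9
    rw [this]
    norm_num

theorem rcu9_card_S (q : ℕ) (hq : Fintype.card K = q) :
    Nat.card {p : K × K × K | p.1 ≠ 0} = q ^ 3 - q ^ 2 := by
  classical
  have e : {p : K × K × K | p.1 ≠ 0} ≃ {t : K // ¬ t = 0} × (K × K) :=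
    { toFun := fun p => (⟨p.1.1, p.2⟩, p.1.2)
      invFun := fun x => ⟨(x.1.1, x.2), x.1.2⟩
      left_inv := fun p => rfl
      right_inv := fun x => rfl }
  rw [Nat.card_congr e, Nat.card_eq_fintype_card, Fintype.card_prod, Fintype.card_subtype_compl,
    Fintype.card_subtype_eq, Fintype.card_prod, hq, Nat.sub_mul]
  congr 1 <;> ring

/-- RC-U9.  `U` has `q³ - q²` elements of order 9: the `u(t,a,b)`, `t ≠ 0` (cube `u(0,0,-t^(e+2)) ≠ 1` has order 3). -/
theorem card_U_orderOf_nine (R : ReeOutData K G m)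
    (hcube : ∀ p : K × K × K, R.u p ^ 3 = R.u (0, 0, -(p.1 ^ (3 ^ m * 3 + 2)))) :
    Nat.card {x : G // x ∈ R.U ∧ orderOf x = 9} = (3 ^ (2 * m + 1)) ^ 3 - (3 ^ (2 * m + 1)) ^ 2 := by
  rw [rcu9_card_param R (fun x => orderOf x = 9) _ (rcu9_order_iff R hcube)]
  exact rcu9_card_S _ R.hK

end U

end Cfsg.Agent.Lib.Helper52.Rc
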