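import Cfsg.Agent.Lib.Helper38.RhDefsB

/-! # Rh hive (helper38), PART B, leaf RH-BURN1: `∑_g fix(g) = |G|`

Burnside for the transitive action on the cosets `G ⧸ B`: the pairs `(g, c)` with `g • c = c` are the
sigma type of the `fixedBy` sets, which Mathlib identifies with `orbits × G`, and there is one orbit. -/

set_option autoImplicit false

namespace Cfsg.Agent.Lib.Helper38.Rh

open Cfsg.Agent.Lib.Helper12.Rt

/-- Burnside for the transitive action on the cosets of `B`: the number of pairs `(g, c)` with
`g • c = c` is `|G|` (no finiteness needed). -/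
theorem burn1_core {G : Type*} [Group G] (B : Subgroup G) :
    Nat.card {x : G × (G ⧸ B) // x.1 • x.2 = x.2} = Nat.card G := by
  classical
  have e1 : {x : G × (G ⧸ B) // x.1 • x.2 = x.2} ≃ Σ g : G, MulAction.fixedBy (G ⧸ B) g :=
    { toFun := fun x => ⟨x.1.1, ⟨x.1.2, x.2⟩⟩
      invFun := fun y => ⟨(y.1, y.2.1), y.2.2⟩
      left_inv := fun x => rfl
      right_inv := fun y => rfl }
  have e2 := MulAction.sigmaFixedByEquivOrbitsProdGroup G (G ⧸ B)
  have hsub : Subsingleton (Quotient (MulAction.orbitRel G (G ⧸ B))) := by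
    refine ⟨fun a b => ?_⟩
    induction a using Quotient.inductionOn with | _ a => ?_
    induction b using Quotient.inductionOn with | _ b => ?_
    apply Quotient.sound
    change a ∈ MulAction.orbit G b
    obtain ⟨g, hg⟩ := MulAction.exists_smul_eq G b a
    exact ⟨g, hg⟩
  have hne : Nonempty (Quotient (MulAction.orbitRel G (G ⧸ B))) :=
    ⟨Quotient.mk _ ((1 : G) : G ⧸ B)⟩
  have : Unique (Quotient (MulAction.orbitRel G (G ⧸ B))) := Unique.mk' _
  rw [Nat.card_congr (e1.trans e2), Nat.card_prod, Nat.card_unique, one_mul]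

section partB
variable {K : Type*} [Field K] [Fintype K] {G : Type*} [Group G] {m : ℕ} (D : RtData K G m)

include D

/-- RH-BURN1.  `∑_g fix(g) = |G|` (the action is transitive). -/
theorem card_fix_pairs : Nat.card {x : G × (G ⧸ D.R.B) // x.1 • x.2 = x.2} = Nat.card G :=
  burn1_core D.R.B

end partB

end Cfsg.Agent.Lib.Helper38.Rh
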