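import Cfsg.Agent.Lib.Helper4.RuDefs

/-! # Ru hive (helper4, S1628), leaf RU-ALG: algebra of `sm`, `ip`, `sumTo`, `comb` (no data). -/

set_option autoImplicit false

namespace Cfsg.Agent.Lib.Helper4.Ru

open Cfsg.Spor

theorem sm_eq_zsmul (c : ℤ) (v : RuVec) : sm c v = c • v := by
  funext p
  apply Zsqrtd.ext
  · simp [sm, zsmul_eq_mul]
  · simp [sm, zsmul_eq_mul]

theorem ruNorm_eq_ip (v : RuVec) : ruNorm v = ip v v := by
  unfold ruNorm ip
  refine Finset.sum_congr rfl fun p _ => ?_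
  rw [Zsqrtd.norm_def]
  ring

theorem ip_comm (v w : RuVec) : ip v w = ip w v := by
  unfold ip
  refine Finset.sum_congr rfl fun p _ => ?_
  ring

theorem ip_add_left (u v w : RuVec) : ip (u + v) w = ip u w + ip v w := by
  unfold ip
  rw [← Finset.sum_add_distrib]
  refine Finset.sum_congr rfl fun p _ => ?_
  simp only [Pi.add_apply, Zsqrtd.re_add, Zsqrtd.im_add]
  ring

theorem ip_add_right (u v w : RuVec) : ip u (v + w) = ip u v + ip u w := by
  rw [ip_comm, ip_add_left, ip_comm v u, ip_comm w u]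

theorem ip_neg_left (v w : RuVec) : ip (-v) w = -ip v w := by
  unfold ip
  rw [← Finset.sum_neg_distrib]
  refine Finset.sum_congr rfl fun p _ => ?_
  simp only [Pi.neg_apply, Zsqrtd.re_neg, Zsqrtd.im_neg]
  ring

theorem ip_neg_right (v w : RuVec) : ip v (-w) = -ip v w := by
  rw [ip_comm, ip_neg_left, ip_comm]

theorem ip_zero_left (w : RuVec) : ip 0 w = 0 := by
  unfold ip
  simp

theorem ip_zero_right (v : RuVec) : ip v 0 = 0 := by
  rw [ip_comm, ip_zero_left]

theorem ip_sm_left (c : ℤ) (v w : RuVec) : ip (sm c v) w = c * ip v w := by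
  unfold ip
  rw [Finset.mul_sum]
  refine Finset.sum_congr rfl fun p _ => ?_
  simp only [sm]
  ring

theorem ip_sm_right (c : ℤ) (v w : RuVec) : ip v (sm c w) = c * ip v w := by
  rw [ip_comm, ip_sm_left, ip_comm]

theorem alg_sumTo_succ (n : ℕ) (f : ℕ → RuVec) : sumTo (n + 1) f = sumTo n f + f n := rfl

theorem alg_sumTo_zero (f : ℕ → RuVec) : sumTo 0 f = 0 := rfl

theorem sumTo_mem (S : AddSubgroup RuVec) (n : ℕ) (f : ℕ → RuVec) (h : ∀ k < n, f k ∈ S) :
    sumTo n f ∈ S := by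
  induction n with
  | zero => rw [alg_sumTo_zero]; exact S.zero_mem
  | succ n ih =>
    rw [alg_sumTo_succ]
    exact S.add_mem (ih fun k hk => h k (Nat.lt_succ_of_lt hk)) (h n (Nat.lt_succ_self n))

theorem alg_Bv_mem {k : ℕ} (hk : k < 56) : Bv k ∈ Lspan :=
  AddSubgroup.subset_closure ⟨k, hk, rfl⟩

theorem comb_mem (C : ℕ) : comb C ∈ Lspan := by
  unfold comb
  refine sumTo_mem Lspan 56 _ fun k hk => ?_
  rw [sm_eq_zsmul]
  exact Lspan.zsmul_mem (alg_Bv_mem hk) _

theorem alg_dvd_ip_sumTo (m : ℤ) (x : RuVec) (n : ℕ) (f : ℕ → RuVec)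
    (h : ∀ k < n, m ∣ ip x (f k)) : m ∣ ip x (sumTo n f) := by
  induction n with
  | zero => rw [alg_sumTo_zero, ip_zero_right]; exact dvd_zero m
  | succ n ih =>
    rw [alg_sumTo_succ, ip_add_right]
    exact dvd_add (ih fun k hk => h k (Nat.lt_succ_of_lt hk)) (h n (Nat.lt_succ_self n))

theorem dvd_ip_comb (m : ℤ) (x : RuVec) (h : ∀ k < 56, m ∣ ip x (Bv k)) (C : ℕ) :
    m ∣ ip x (comb C) := by
  unfold comb
  refine alg_dvd_ip_sumTo m x 56 _ fun k hk => ?_
  rw [ip_sm_right]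
  exact Dvd.dvd.mul_left (h k hk) _

end Cfsg.Agent.Lib.Helper4.Ru
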