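import Cfsg.Agent.Lib.Helper27.RuEVENcore
import Cfsg.Agent.Lib.Helper84.RuGRAM

/-! # Ru hive (helper4, S1628), leaf RU-EVEN: `4 ∣ ip x y` and `8 ∣ ruNorm x` on `Lspan`. -/

set_option autoImplicit false

namespace Cfsg.Agent.Lib.Helper4.Ru

open Cfsg.Spor

/-- RU-EVEN (closure induction twice, from `gram4`) -/
theorem ip_dvd_of_mem {x y : RuVec} (hx : x ∈ Lspan) (hy : y ∈ Lspan) : (4 : ℤ) ∣ ip x y :=
  even_ip_core 4 gram4 hx hy

/-- RU-EVEN (`ruNorm (x + y) = ruNorm x + ruNorm y + 2 * ip x y`, `ruNorm (-x) = ruNorm x`) -/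
theorem norm_dvd_of_mem {x : RuVec} (hx : x ∈ Lspan) : (8 : ℤ) ∣ ruNorm x :=
  even_norm_core gram4 gram8 hx

end Cfsg.Agent.Lib.Helper4.Ru
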