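import Cfsg.Agent.Lib.Helper27.RuALG

/-! # Ru hive (helper4, S1628), leaf RU-EVEN, core: divisibility of `ip` and `ruNorm` on `Lspan`,
with the Gram congruences `gram4`, `gram8` (leaf RU-GRAM) as hypotheses. -/

set_option autoImplicit false

namespace Cfsg.Agent.Lib.Helper4.Ru

open Cfsg.Spor

/-- if `m ∣ ip (Bv j) (Bv k)` for all `j, k < 56` then `m ∣ ip x y` on `Lspan` -/
theorem even_ip_core (m : ℤ) (h4 : ∀ j < 56, ∀ k < 56, m ∣ ip (Bv j) (Bv k))
    {x y : RuVec} (hx : x ∈ Lspan) (hy : y ∈ Lspan) : m ∣ ip x y := by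
  have h1 : ∀ j < 56, ∀ y ∈ Lspan, m ∣ ip (Bv j) y := by
    intro j hj y hy
    unfold Lspan at hy
    induction hy using AddSubgroup.closure_induction with
    | mem z hz =>
      obtain ⟨k, hk, rfl⟩ := hz
      exact h4 j hj k hk
    | zero => rw [ip_zero_right]; exact dvd_zero m
    | add a b _ _ iha ihb => rw [ip_add_right]; exact dvd_add iha ihb
    | neg a _ iha => rw [ip_neg_right]; exact (dvd_neg).mpr iha
  unfold Lspan at hx
  induction hx using AddSubgroup.closure_induction with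
  | mem z hz =>
    obtain ⟨j, hj, rfl⟩ := hz
    exact h1 j hj y hy
  | zero => rw [ip_zero_left]; exact dvd_zero m
  | add a b _ _ iha ihb => rw [ip_add_left]; exact dvd_add iha ihb
  | neg a _ iha => rw [ip_neg_left]; exact (dvd_neg).mpr iha

theorem even_norm_add (x y : RuVec) : ruNorm (x + y) = ruNorm x + ruNorm y + 2 * ip x y := by
  rw [ruNorm_eq_ip, ruNorm_eq_ip, ruNorm_eq_ip, ip_add_left, ip_add_right, ip_add_right, ip_comm y x]
  ring

theorem even_norm_neg (x : RuVec) : ruNorm (-x) = ruNorm x := by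
  rw [ruNorm_eq_ip, ruNorm_eq_ip, ip_neg_left, ip_neg_right, neg_neg]

theorem even_norm_zero : ruNorm (0 : RuVec) = 0 := by
  rw [ruNorm_eq_ip, ip_zero_left]

theorem even_norm_core (h4 : ∀ j < 56, ∀ k < 56, (4 : ℤ) ∣ ip (Bv j) (Bv k))
    (h8 : ∀ k < 56, (8 : ℤ) ∣ ip (Bv k) (Bv k)) {x : RuVec} (hx : x ∈ Lspan) :
    (8 : ℤ) ∣ ruNorm x := by
  have key : ∀ x ∈ AddSubgroup.closure {v : RuVec | ∃ k < 56, v = Bv k}, (8 : ℤ) ∣ ruNorm x := by
    intro x hx
    induction hx using AddSubgroup.closure_induction with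
    | mem z hz =>
      obtain ⟨k, hk, rfl⟩ := hz
      rw [ruNorm_eq_ip]
      exact h8 k hk
    | zero => rw [even_norm_zero]; exact dvd_zero _
    | add a b ha hb iha ihb =>
      rw [even_norm_add]
      have hab : (4 : ℤ) ∣ ip a b := even_ip_core 4 h4 (x := a) (y := b) ha hb
      obtain ⟨c, hc⟩ := hab
      refine dvd_add (dvd_add iha ihb) ⟨c, ?_⟩
      rw [hc]; ring
    | neg a _ iha => rw [even_norm_neg]; exact iha
  exact key x hx

end Cfsg.Agent.Lib.Helper4.Ru
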