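import Cfsg.Agent.Lib.Helper4.RuDefs

/-! # Ru hive (helper4, S1628), leaf RU-MAPS: the four monomial maps are additive; closure of `Lspan`
under an additive map. -/

set_option autoImplicit false

namespace Cfsg.Agent.Lib.Helper4.Ru

open Cfsg.Spor

theorem ruRj_add (v w : RuVec) : ruRj (v + w) = ruRj v + ruRj w := by
  funext p
  obtain ⟨n, t⟩ := p
  fin_cases t <;> simp [ruRj, mul_add, add_comm]

theorem ruRk_add (v w : RuVec) : ruRk (v + w) = ruRk v + ruRk w := by
  funext p
  obtain ⟨n, t⟩ := p
  fin_cases t <;> simp [ruRk, mul_add, add_comm]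

theorem ruSign_add (v w : RuVec) : ruSign (v + w) = ruSign v + ruSign w := by
  funext p
  simp only [ruSign, Pi.add_apply]
  split_ifs
  · rw [neg_add]
  · rfl

theorem ruShift_add (v w : RuVec) : ruShift (v + w) = ruShift v + ruShift w := by
  funext p
  rfl

/-- an additive map sending the 56 generators into `Lspan` maps `Lspan` into itself
(`g 0 = 0` and `g (-v) = - g v` follow from additivity) -/
theorem map_mem_Lspan (g : RuVec → RuVec) (hadd : ∀ v w, g (v + w) = g v + g w)
    (hgen : ∀ k < 56, g (Bv k) ∈ Lspan) : ∀ v ∈ Lspan, g v ∈ Lspan := by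
  have h0 : g 0 = 0 := by
    have h := hadd 0 0
    rw [add_zero] at h
    exact left_eq_add.mp h
  have hneg : ∀ v, g (-v) = -g v := by
    intro v
    have h := hadd v (-v)
    rw [add_neg_cancel, h0] at h
    exact (neg_eq_of_add_eq_zero_right h.symm).symm
  intro v hv
  unfold Lspan at hv
  induction hv using AddSubgroup.closure_induction with
  | mem x hx =>
    obtain ⟨k, hk, rfl⟩ := hx
    exact hgen k hk
  | zero => rw [h0]; exact Lspan.zero_mem
  | add x y _ _ ihx ihy => rw [hadd]; exact Lspan.add_mem ihx ihy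
  | neg x _ ihx => rw [hneg]; exact Lspan.neg_mem ihx

end Cfsg.Agent.Lib.Helper4.Ru
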