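import Cfsg.Agent.Lib.Helper27.GolayRank
import Cfsg.Agent.Lib.Helper27.OrbitClasses
import Cfsg.Agent.Lib.Helper26.M24Inv

set_option autoImplicit false

namespace Cfsg.Agent.Lib.Helper27

open Cfsg Cfsg.Agent.Lib.Helper26
open scoped Pointwise

/-- a set of sets of points, from a list of masks. -/
def decQ (l : List ℕ) : Finset (Finset GolayPt) := (l.map dec).toFinset

theorem mem_decQ {l : List ℕ} {t : Finset GolayPt} : t ∈ decQ l ↔ ∃ m ∈ l, dec m = t := by
  simp [decQ]

theorem smul_decQ_of (g : Equiv.Perm GolayPt) (φ : ℕ → ℕ) (h : ∀ m, g • dec m = dec (φ m))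
    (l : List ℕ) : g • decQ l = decQ (l.map φ) := by
  ext t
  simp only [Finset.smul_finset_def, Finset.mem_image, mem_decQ, List.mem_map]
  constructor
  · rintro ⟨_, ⟨m, hm, rfl⟩, rfl⟩
    exact ⟨φ m, ⟨m, hm, rfl⟩, (h m).symm⟩
  · rintro ⟨_, ⟨m, hm, rfl⟩, rfl⟩
    exact ⟨dec m, ⟨m, hm, rfl⟩, h m⟩

theorem PermData.smul_decQ {d : PermData} (h : d.ok = true) (l : List ℕ) :
    d.toPerm • decQ l = decQ (l.map d.applyMask) :=
  smul_decQ_of _ _ (PermData.smul_dec h) l

theorem wordPerm_smul_decQ (gens : List PermData) (hok : ∀ d ∈ gens, d.ok = true) (w : List ℕ)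
    (l : List ℕ) : wordPerm gens w • decQ l = decQ (l.map (applyWord gens w)) :=
  smul_decQ_of _ _ (wordPerm_smul_dec gens hok w) l

/-- canonical form of a list of masks: sorted. -/
def canon (l : List ℕ) : List ℕ := l.insertionSort (· ≤ ·)

theorem decQ_canon (l : List ℕ) : decQ (canon l) = decQ l := by
  unfold decQ canon
  apply List.toFinset_eq_of_perm
  exact (List.perm_insertionSort _ l).map dec

/-- strictly increasing Boolean check. -/
def chainLt : List ℕ → Bool
  | [] => true
  | [_] => true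
  | a :: b :: r => decide (a < b) && chainLt (b :: r)

theorem chainLt_spec : ∀ l : List ℕ, chainLt l = true → l.Pairwise (· < ·)
  | [], _ => List.Pairwise.nil
  | [a], _ => List.pairwise_singleton _ a
  | a :: b :: r, h => by
    simp only [chainLt, Bool.and_eq_true, decide_eq_true_eq] at h
    have ih := chainLt_spec (b :: r) h.2
    rw [List.pairwise_cons]
    refine ⟨?_, ih⟩
    intro c hc
    rcases List.mem_cons.mp hc with rfl | hc
    · exact h.1
    · exact lt_trans h.1 ((List.pairwise_cons.mp ih).1 c hc)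

/-- canonical lists of masks: strictly increasing, below `2 ^ 24`. -/
def isCanon (l : List ℕ) : Bool := l.all (fun m => decide (m < 2 ^ 24)) && chainLt l

theorem isCanon_lt {l : List ℕ} (h : isCanon l = true) : ∀ m ∈ l, m < 2 ^ 24 := by
  simp only [isCanon, Bool.and_eq_true, List.all_eq_true, decide_eq_true_eq] at h
  exact h.1

theorem isCanon_sorted {l : List ℕ} (h : isCanon l = true) : l.Pairwise (· < ·) := by
  simp only [isCanon, Bool.and_eq_true] at h
  exact chainLt_spec l h.2

theorem isCanon_nodup {l : List ℕ} (h : isCanon l = true) : l.Nodup :=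
  (isCanon_sorted h).imp (fun h => ne_of_lt h)

theorem isCanon_map_dec_nodup {l : List ℕ} (h : isCanon l = true) : (l.map dec).Nodup := by
  apply List.Nodup.map_on _ (isCanon_nodup h)
  intro a ha b hb hab
  exact dec_injOn (isCanon_lt h a ha) (isCanon_lt h b hb) hab

theorem card_decQ {l : List ℕ} (h : isCanon l = true) : (decQ l).card = l.length := by
  rw [decQ, List.toFinset_card_of_nodup (isCanon_map_dec_nodup h), List.length_map]

/-- `decQ` is injective on canonical lists. -/
theorem decQ_injOn {l l' : List ℕ} (h : isCanon l = true) (h' : isCanon l' = true)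
    (heq : decQ l = decQ l') : l = l' := by
  have hsub : ∀ {a b : List ℕ}, isCanon a = true → isCanon b = true → decQ a = decQ b →
      ∀ m ∈ a, m ∈ b := by
    intro a b ha hb hab m hm
    have : dec m ∈ decQ b := by rw [← hab]; exact mem_decQ.mpr ⟨m, hm, rfl⟩
    obtain ⟨m', hm', h2⟩ := mem_decQ.mp this
    have := dec_injOn (isCanon_lt hb m' hm') (isCanon_lt ha m hm) h2
    rwa [← this]
  have hperm : l.Perm l' := by
    apply List.perm_of_nodup_nodup_toFinset_eq (isCanon_nodup h) (isCanon_nodup h')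
    ext m
    simp only [List.mem_toFinset]
    exact ⟨hsub h h' heq m, hsub h' h heq.symm m⟩
  exact hperm.eq_of_pairwise (fun a b _ _ h1 h2 => absurd h1 (not_lt_of_gt h2))
    (isCanon_sorted h) (isCanon_sorted h')

/-- a list of codes with strictly increasing keys has no duplicates. -/
theorem nodup_of_keys {α : Type*} (key : α → ℕ) (L : List α) (h : chainLt (L.map key) = true) :
    L.Nodup :=
  List.Nodup.of_map key ((chainLt_spec _ h).imp (fun h => ne_of_lt h))

/-! ### word certificates on configurations -/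

/-- check that each target configuration is reached from the start by the corresponding word. -/
def checkPathsQ (gens : List PermData) (l₀ : List ℕ) : List (List ℕ) → List (List ℕ) → Bool
  | [], _ => true
  | _ :: _, [] => false
  | t :: ts, w :: ws => (canon (l₀.map (applyWord gens w)) == t) && checkPathsQ gens l₀ ts ws

theorem checkPathsQ_spec (gens : List PermData) (l₀ : List ℕ) (ts : List (List ℕ))
    (ws : List (List ℕ)) (h : checkPathsQ gens l₀ ts ws = true) :
    ∀ t ∈ ts, ∃ w, canon (l₀.map (applyWord gens w)) = t := by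
  induction ts generalizing ws with
  | nil => simp
  | cons t ts ih =>
    cases ws with
    | nil => simp [checkPathsQ] at h
    | cons w ws =>
      simp only [checkPathsQ, Bool.and_eq_true, beq_iff_eq] at h
      intro x hx
      rcases List.mem_cons.mp hx with rfl | hx
      · exact ⟨w, h.1⟩
      · exact ih ws h.2 x hx

/-- orbit certificate for configurations. -/
theorem orbit_certQ (gens : List PermData) (hok : ∀ d ∈ gens, d.ok = true)
    (K : Subgroup (Equiv.Perm GolayPt)) (hK : ∀ d ∈ gens, d.toPerm ∈ K)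
    (l₀ : List ℕ) (ts : List (List ℕ)) (ws : List (List ℕ))
    (h : checkPathsQ gens l₀ ts ws = true) :
    ∀ t ∈ ts, ∃ g ∈ K, g • decQ l₀ = decQ t := by
  intro t ht
  obtain ⟨w, hw⟩ := checkPathsQ_spec gens l₀ ts ws h t ht
  exact ⟨wordPerm gens w, wordPerm_mem gens K hK w, by
    rw [wordPerm_smul_decQ gens hok, ← hw, decQ_canon]⟩

/-! ### stabilisers inside `M24` -/

/-- the stabiliser in `M24` of a point of a `Perm`-set, as a subgroup of `Perm`. -/
def stabIn {α : Type*} [MulAction (Equiv.Perm GolayPt) α] (a : α) :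
    Subgroup (Equiv.Perm GolayPt) := M24 ⊓ MulAction.stabilizer (Equiv.Perm GolayPt) a

theorem mem_stabIn {α : Type*} [MulAction (Equiv.Perm GolayPt) α] {a : α}
    {g : Equiv.Perm GolayPt} : g ∈ stabIn a ↔ g ∈ M24 ∧ g • a = a := by
  simp [stabIn, Subgroup.mem_inf, MulAction.mem_stabilizer_iff]

theorem stabIn_le {α : Type*} [MulAction (Equiv.Perm GolayPt) α] (a : α) : stabIn a ≤ M24 :=
  inf_le_left

theorem stabIn_smul {α : Type*} [MulAction (Equiv.Perm GolayPt) α] (a : α)
    (g0 : Equiv.Perm GolayPt) (hg0 : g0 ∈ M24) (g : Equiv.Perm GolayPt) :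
    g ∈ stabIn (g0 • a) ↔ g0⁻¹ * g * g0 ∈ stabIn a := by
  rw [mem_stabIn, mem_stabIn]
  constructor
  · rintro ⟨h1, h2⟩
    refine ⟨M24.mul_mem (M24.mul_mem (M24.inv_mem hg0) h1) hg0, ?_⟩
    rw [mul_smul, mul_smul, h2, inv_smul_smul]
  · rintro ⟨h1, h2⟩
    have : g = g0 * (g0⁻¹ * g * g0) * g0⁻¹ := by group
    refine ⟨?_, ?_⟩
    · rw [this]
      exact M24.mul_mem (M24.mul_mem hg0 h1) (M24.inv_mem hg0)
    · rw [mul_smul, mul_smul] at h2
      have h3 := congrArg (fun y => g0 • y) h2
      simp only [smul_inv_smul] at h3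
      exact h3

/-- Boolean check: a table permutation is in `M24` and fixes a mask. -/
def fixesMask (d : PermData) (m : ℕ) : Bool := d.inM24 && (d.applyMask m == m)

theorem toPerm_mem_stabIn_dec {d : PermData} {m : ℕ} (h : fixesMask d m = true) :
    d.toPerm ∈ stabIn (dec m) := by
  simp only [fixesMask, Bool.and_eq_true, beq_iff_eq] at h
  rw [mem_stabIn]
  exact ⟨PermData.toPerm_mem_M24 h.1, by rw [PermData.smul_dec (PermData.ok_of_inM24 h.1), h.2]⟩

/-- Boolean check: a table permutation is in `M24` and fixes a canonical configuration. -/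
def fixesCfg (d : PermData) (q : List ℕ) : Bool := d.inM24 && (canon (q.map d.applyMask) == q)

theorem toPerm_mem_stabIn_decQ {d : PermData} {q : List ℕ} (h : fixesCfg d q = true) :
    d.toPerm ∈ stabIn (decQ q) := by
  simp only [fixesCfg, Bool.and_eq_true, beq_iff_eq] at h
  rw [mem_stabIn]
  refine ⟨PermData.toPerm_mem_M24 h.1, ?_⟩
  rw [PermData.smul_decQ (PermData.ok_of_inM24 h.1), ← decQ_canon, h.2]

theorem ok_of_fixesMask {d : PermData} {m : ℕ} (h : fixesMask d m = true) : d.ok = true := by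
  simp only [fixesMask, Bool.and_eq_true] at h
  exact PermData.ok_of_inM24 h.1

theorem ok_of_fixesCfg {d : PermData} {q : List ℕ} (h : fixesCfg d q = true) : d.ok = true := by
  simp only [fixesCfg, Bool.and_eq_true] at h
  exact PermData.ok_of_inM24 h.1

/-! ### intersection-pattern invariants -/

/-- invariant of a set against a configuration. -/
def invSC (f : ℕ → ℕ) (o : Finset GolayPt) (S : Finset (Finset GolayPt)) : ℕ :=
  ∑ t ∈ S, f (t ∩ o).card

theorem invSC_smul (f : ℕ → ℕ) (g : Equiv.Perm GolayPt) (o : Finset GolayPt)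
    (S : Finset (Finset GolayPt)) : invSC f (g • o) (g • S) = invSC f o S := by
  unfold invSC
  rw [Finset.smul_finset_def, Finset.sum_image]
  · apply Finset.sum_congr rfl
    intro t _
    rw [smul_inter_card]
  · intro a _ b _ h
    exact MulAction.injective g h

/-- the same invariant on masks. -/
def invSCm (f : ℕ → ℕ) (o : ℕ) (l : List ℕ) : ℕ := (l.map fun m => f (pc 24 (m &&& o))).sum

theorem invSC_dec (f : ℕ → ℕ) (o : ℕ) {l : List ℕ} (hl : isCanon l = true) :
    invSC f (dec o) (decQ l) = invSCm f o l := by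
  have h1 : invSC f (dec o) (decQ l) = ((l.map dec).map fun t => f (t ∩ dec o).card).sum :=
    List.sum_toFinset _ (isCanon_map_dec_nodup hl)
  have h2 : ((l.map dec).map fun t => f (t ∩ dec o).card) = l.map fun m => f (pc 24 (m &&& o)) := by
    rw [List.map_map]
    apply List.map_congr_left
    intro m _
    show f (dec m ∩ dec o).card = f (pc 24 (m &&& o))
    rw [card_dec_inter]
  rw [h1, h2]
  rfl

/-- invariant of a configuration against a configuration. -/
def invCC (f : ℕ → ℕ) (A S : Finset (Finset GolayPt)) : ℕ := ∑ s ∈ A, invSC f s S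

theorem invCC_smul (f : ℕ → ℕ) (g : Equiv.Perm GolayPt) (A S : Finset (Finset GolayPt)) :
    invCC f (g • A) (g • S) = invCC f A S := by
  unfold invCC
  rw [Finset.smul_finset_def, Finset.sum_image]
  · apply Finset.sum_congr rfl
    intro t _
    rw [invSC_smul]
  · intro a _ b _ h
    exact MulAction.injective g h

/-- the same invariant on masks. -/
def invCCm (f : ℕ → ℕ) (a l : List ℕ) : ℕ := (a.map fun n => invSCm f n l).sum

theorem invCC_dec (f : ℕ → ℕ) {a l : List ℕ} (ha : isCanon a = true) (hl : isCanon l = true) :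
    invCC f (decQ a) (decQ l) = invCCm f a l := by
  have h1 : invCC f (decQ a) (decQ l) = ((a.map dec).map fun s => invSC f s (decQ l)).sum :=
    List.sum_toFinset _ (isCanon_map_dec_nodup ha)
  have h2 : ((a.map dec).map fun s => invSC f s (decQ l)) = a.map fun n => invSCm f n l := by
    rw [List.map_map]
    apply List.map_congr_left
    intro m _
    show invSC f (dec m) (decQ l) = invSCm f m l
    rw [invSC_dec f m hl]
  rw [h1, h2]
  rfl

/-! ### invariance under stabilisers -/

theorem invSC_stab_left (f : ℕ → ℕ) {o : Finset GolayPt} {g : Equiv.Perm GolayPt}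
    (hg : g ∈ stabIn o) (S : Finset (Finset GolayPt)) : invSC f o (g • S) = invSC f o S := by
  conv_lhs => rw [← (mem_stabIn.mp hg).2]
  exact invSC_smul f g o S

theorem invSC_stab_right (f : ℕ → ℕ) {S : Finset (Finset GolayPt)} {g : Equiv.Perm GolayPt}
    (hg : g ∈ stabIn S) (o : Finset GolayPt) : invSC f (g • o) S = invSC f o S := by
  conv_lhs => rw [← (mem_stabIn.mp hg).2]
  exact invSC_smul f g o S

theorem invCC_stab (f : ℕ → ℕ) {A : Finset (Finset GolayPt)} {g : Equiv.Perm GolayPt}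
    (hg : g ∈ stabIn A) (S : Finset (Finset GolayPt)) : invCC f A (g • S) = invCC f A S := by
  conv_lhs => rw [← (mem_stabIn.mp hg).2]
  exact invCC_smul f g A S

/-! ### bridging to `MulAction.orbit` of stabilisers in `M24` -/

theorem orbit_stab_eq {α β : Type*} [MulAction (Equiv.Perm GolayPt) α]
    [MulAction (Equiv.Perm GolayPt) β] (a : α) (x : β) :
    MulAction.orbit ↥(MulAction.stabilizer ↥M24 a) x = orbK (stabIn a) x := by
  ext y
  constructor
  · rintro ⟨⟨⟨g, hg⟩, hs⟩, rfl⟩
    exact ⟨g, mem_stabIn.mpr ⟨hg, MulAction.mem_stabilizer_iff.mp hs⟩, rfl⟩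
  · rintro ⟨g, hg, rfl⟩
    obtain ⟨h1, h2⟩ := mem_stabIn.mp hg
    exact ⟨⟨⟨g, h1⟩, MulAction.mem_stabilizer_iff.mpr h2⟩, rfl⟩

theorem orbit_stab_inf_eq {α α' β : Type*} [MulAction (Equiv.Perm GolayPt) α]
    [MulAction (Equiv.Perm GolayPt) α'] [MulAction (Equiv.Perm GolayPt) β] (a : α) (a' : α')
    (x : β) :
    MulAction.orbit ↥(MulAction.stabilizer ↥M24 a ⊓ MulAction.stabilizer ↥M24 a') x =
      orbK (stabIn a ⊓ stabIn a') x := by
  ext y
  constructor
  · rintro ⟨⟨⟨g, hg⟩, hs⟩, rfl⟩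
    rw [Subgroup.mem_inf] at hs
    exact ⟨g, Subgroup.mem_inf.mpr ⟨mem_stabIn.mpr ⟨hg, MulAction.mem_stabilizer_iff.mp hs.1⟩,
      mem_stabIn.mpr ⟨hg, MulAction.mem_stabilizer_iff.mp hs.2⟩⟩, rfl⟩
  · rintro ⟨g, hg, rfl⟩
    obtain ⟨h1, h2⟩ := Subgroup.mem_inf.mp hg
    obtain ⟨h1a, h1b⟩ := mem_stabIn.mp h1
    obtain ⟨-, h2b⟩ := mem_stabIn.mp h2
    exact ⟨⟨⟨g, h1a⟩, Subgroup.mem_inf.mpr ⟨MulAction.mem_stabilizer_iff.mpr h1b,
      MulAction.mem_stabilizer_iff.mpr h2b⟩⟩, rfl⟩

/-- transport of stabiliser orbits along an element of `M24`. -/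
theorem orbK_stabIn_smul {α β : Type*} [MulAction (Equiv.Perm GolayPt) α]
    [MulAction (Equiv.Perm GolayPt) β] (a : α) (x : β) {g0 : Equiv.Perm GolayPt}
    (hg0 : g0 ∈ M24) :
    orbK (stabIn (g0 • a)) (g0 • x) = (fun y => g0 • y) '' orbK (stabIn a) x :=
  orbK_conj _ _ g0 (stabIn_smul a g0 hg0) x

theorem orbK_stabIn_inf_smul {α α' β : Type*} [MulAction (Equiv.Perm GolayPt) α]
    [MulAction (Equiv.Perm GolayPt) α'] [MulAction (Equiv.Perm GolayPt) β] (a : α) (a' : α')
    (x : β) {g0 : Equiv.Perm GolayPt} (hg0 : g0 ∈ M24) :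
    orbK (stabIn (g0 • a) ⊓ stabIn (g0 • a')) (g0 • x) =
      (fun y => g0 • y) '' orbK (stabIn a ⊓ stabIn a') x :=
  orbK_conj _ _ g0 (fun g => by
    rw [Subgroup.mem_inf, Subgroup.mem_inf, stabIn_smul a g0 hg0, stabIn_smul a' g0 hg0]) x

/-! ### class certificates -/

/-- sort key of a configuration: its two smallest masks. -/
def key2 (l : List ℕ) : ℕ := l.getD 0 0 * 2 ^ 24 + l.getD 1 0

/-- Boolean certificate of a class of configurations. -/
def checkClsQ (gens : List PermData) (invM : List ℕ → ℕ) (c : OrbCls (List ℕ))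
    (ws : List (List ℕ)) : Bool :=
  checkPathsQ gens c.rep c.elems ws && c.elems.all isCanon && chainLt (c.elems.map key2) &&
    c.elems.all (fun l => invM l == c.val) && c.elems.contains c.rep

theorem checkClsQ_canon {gens : List PermData} {invM : List ℕ → ℕ} {c : OrbCls (List ℕ)}
    {ws : List (List ℕ)} (h : checkClsQ gens invM c ws = true) :
    ∀ l ∈ c.elems, isCanon l = true := by
  simp only [checkClsQ, Bool.and_eq_true, List.all_eq_true] at h
  exact h.1.1.1.2

theorem checkClsQ_valid {gens : List PermData} {invM : List ℕ → ℕ} {c : OrbCls (List ℕ)}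
    {ws : List (List ℕ)} (h : checkClsQ gens invM c ws = true)
    (hok : ∀ d ∈ gens, d.ok = true)
    (K : Subgroup (Equiv.Perm GolayPt)) (hK : ∀ d ∈ gens, d.toPerm ∈ K)
    (inv : Finset (Finset GolayPt) → ℕ)
    (hinv : ∀ l, isCanon l = true → inv (decQ l) = invM l) :
    c.Valid K decQ inv := by
  have hcanon := checkClsQ_canon h
  simp only [checkClsQ, Bool.and_eq_true, List.all_eq_true, beq_iff_eq,
    List.contains_iff_mem] at h
  obtain ⟨⟨⟨⟨h1, -⟩, h3⟩, h4⟩, h5⟩ := h
  exact ⟨orbit_certQ gens hok K hK c.rep c.elems ws h1,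
    fun l hl => by rw [hinv l (hcanon l hl), h4 l hl],
    nodup_of_keys key2 c.elems h3, h5⟩

/-- Boolean certificate of a class of sets. -/
def checkClsS (gens : List PermData) (invM : ℕ → ℕ) (c : OrbCls ℕ)
    (ws : List (List ℕ)) : Bool :=
  checkPaths gens c.rep c.elems ws && c.elems.all (fun m => decide (m < 2 ^ 24)) &&
    chainLt c.elems && c.elems.all (fun l => invM l == c.val) && c.elems.contains c.rep

theorem checkClsS_lt {gens : List PermData} {invM : ℕ → ℕ} {c : OrbCls ℕ}
    {ws : List (List ℕ)} (h : checkClsS gens invM c ws = true) :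
    ∀ l ∈ c.elems, l < 2 ^ 24 := by
  simp only [checkClsS, Bool.and_eq_true, List.all_eq_true, decide_eq_true_eq] at h
  exact h.1.1.1.2

theorem checkClsS_valid {gens : List PermData} {invM : ℕ → ℕ} {c : OrbCls ℕ}
    {ws : List (List ℕ)} (h : checkClsS gens invM c ws = true)
    (hok : ∀ d ∈ gens, d.ok = true)
    (K : Subgroup (Equiv.Perm GolayPt)) (hK : ∀ d ∈ gens, d.toPerm ∈ K)
    (inv : Finset GolayPt → ℕ)
    (hinv : ∀ m, inv (dec m) = invM m) :
    c.Valid K dec inv := by
  simp only [checkClsS, Bool.and_eq_true, List.all_eq_true, beq_iff_eq,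
    List.contains_iff_mem] at h
  obtain ⟨⟨⟨⟨h1, -⟩, h3⟩, h4⟩, h5⟩ := h
  exact ⟨orbit_cert gens hok K hK c.rep c.elems ws h1,
    fun l hl => by rw [hinv l, h4 l hl],
    (chainLt_spec _ h3).imp (fun h => ne_of_lt h), h5⟩

/-! ### recognising sextets and trios on masks -/

/-- Boolean check that a list of masks is a sextet. -/
def isSextetL (l : List ℕ) : Bool :=
  isCanon l && (l.length == 6) && l.all (fun a => pc 24 a == 4) &&
    l.all (fun a => l.all (fun b => (a == b) || octL.contains (a ||| b)))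

theorem sextet_of_check {l : List ℕ} (h : isSextetL l = true) : decQ l ∈ sextets := by
  simp only [isSextetL, Bool.and_eq_true, beq_iff_eq, List.all_eq_true, Bool.or_eq_true,
    List.contains_iff_mem] at h
  obtain ⟨⟨⟨h1, h2⟩, h3⟩, h4⟩ := h
  refine ⟨by rw [card_decQ h1, h2], ?_, ?_⟩
  · intro t ht
    obtain ⟨m, hm, rfl⟩ := mem_decQ.mp ht
    rw [card_dec, h3 m hm]
  · intro t ht u hu htu
    obtain ⟨a, ha, rfl⟩ := mem_decQ.mp ht
    obtain ⟨b, hb, rfl⟩ := mem_decQ.mp hu
    rcases h4 a ha b hb with hab | hab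
    · exact absurd (by rw [hab]) htu
    · rw [← dec_lor]
      exact (mem_octads_iff _).mpr ⟨_, hab, rfl⟩

/-- Boolean check that a list of masks is a trio. -/
def isTrioL (l : List ℕ) : Bool :=
  isCanon l && (l.length == 3) && l.all (fun a => octL.contains a) &&
    l.all (fun a => l.all (fun b => (a == b) || (a &&& b == 0)))

theorem trio_of_check {l : List ℕ} (h : isTrioL l = true) : decQ l ∈ trios := by
  simp only [isTrioL, Bool.and_eq_true, beq_iff_eq, List.all_eq_true, Bool.or_eq_true,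
    List.contains_iff_mem] at h
  obtain ⟨⟨⟨h1, h2⟩, h3⟩, h4⟩ := h
  refine ⟨by rw [card_decQ h1, h2], ?_, ?_⟩
  · intro t ht
    obtain ⟨m, hm, rfl⟩ := mem_decQ.mp ht
    exact (mem_octads_iff _).mpr ⟨m, h3 m hm, rfl⟩
  · intro t ht u hu htu
    obtain ⟨a, ha, rfl⟩ := mem_decQ.mp ht
    obtain ⟨b, hb, rfl⟩ := mem_decQ.mp hu
    rcases h4 a ha b hb with hab | hab
    · exact absurd (by rw [hab]) htu
    · rw [Finset.disjoint_iff_inter_eq_empty, ← dec_land, hab, dec_zero]

/-! ### packaged decomposition theorems -/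

/-- decomposition of an invariant family of configurations into stabiliser orbits, from
kernel-checked class certificates and a count of the family. -/
theorem cfg_decomp (gens : List PermData) (K : Subgroup (Equiv.Perm GolayPt))
    (hok : ∀ d ∈ gens, d.ok = true) (hK : ∀ d ∈ gens, d.toPerm ∈ K)
    (inv : Finset (Finset GolayPt) → ℕ) (invM : List ℕ → ℕ)
    (hinvM : ∀ l, isCanon l = true → inv (decQ l) = invM l)
    (hinvK : ∀ g ∈ K, ∀ y, inv (g • y) = inv y)
    (Ω : Set (Finset (Finset GolayPt))) (hΩK : ∀ g ∈ K, ∀ y ∈ Ω, g • y ∈ Ω)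
    (cw : List (OrbCls (List ℕ) × List (List ℕ)))
    (hchk : cw.all (fun p => checkClsQ gens invM p.1 p.2) = true)
    (hrep : ∀ p ∈ cw, decQ p.1.rep ∈ Ω)
    (hvals : (cw.map Prod.fst).Pairwise (fun c c' => c.val ≠ c'.val))
    (hcard : Ω.ncard ≤ ((cw.map Prod.fst).map (fun c => c.elems.length)).sum) :
    (∀ c ∈ cw.map Prod.fst, orbK K (decQ c.rep) = decQ '' {l | l ∈ c.elems} ∧
      (orbK K (decQ c.rep)).ncard = c.elems.length) ∧
    (∀ y, y ∈ Ω ↔ ∃ c ∈ cw.map Prod.fst, y ∈ orbK K (decQ c.rep)) := by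
  have hmem : ∀ c ∈ cw.map Prod.fst, ∃ ws, checkClsQ gens invM c ws = true := by
    intro c hc
    obtain ⟨p, hp, rfl⟩ := List.mem_map.mp hc
    exact ⟨p.2, List.all_eq_true.mp hchk p hp⟩
  have hv : ∀ c ∈ cw.map Prod.fst, c.Valid K decQ inv := by
    intro c hc
    obtain ⟨ws, hws⟩ := hmem c hc
    exact checkClsQ_valid hws hok K hK inv hinvM
  have hrep' : ∀ c ∈ cw.map Prod.fst, decQ c.rep ∈ Ω := by
    intro c hc
    obtain ⟨p, hp, rfl⟩ := List.mem_map.mp hc
    exact hrep p hp
  have hinj : ∀ c ∈ cw.map Prod.fst, ∀ c' ∈ cw.map Prod.fst, ∀ l ∈ c.elems, ∀ l' ∈ c'.elems,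
      decQ l = decQ l' → l = l' := by
    intro c hc c' hc' l hl l' hl' h
    obtain ⟨ws, hws⟩ := hmem c hc
    obtain ⟨ws', hws'⟩ := hmem c' hc'
    exact decQ_injOn (checkClsQ_canon hws l hl) (checkClsQ_canon hws' l' hl') h
  exact orbit_classes K decQ inv Ω _ hv hinvK hΩK hrep' hvals hinj
    (complete_of_ncard K decQ inv Ω _ hv hΩK hrep' hvals hinj (Set.toFinite _) hcard)

/-- decomposition of an invariant family of sets into stabiliser orbits. -/
theorem set_decomp (gens : List PermData) (K : Subgroup (Equiv.Perm GolayPt))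
    (hok : ∀ d ∈ gens, d.ok = true) (hK : ∀ d ∈ gens, d.toPerm ∈ K)
    (inv : Finset GolayPt → ℕ) (invM : ℕ → ℕ)
    (hinvM : ∀ m, inv (dec m) = invM m)
    (hinvK : ∀ g ∈ K, ∀ y, inv (g • y) = inv y)
    (Ω : Set (Finset GolayPt)) (hΩK : ∀ g ∈ K, ∀ y ∈ Ω, g • y ∈ Ω)
    (cw : List (OrbCls ℕ × List (List ℕ)))
    (hchk : cw.all (fun p => checkClsS gens invM p.1 p.2) = true)
    (hrep : ∀ p ∈ cw, dec p.1.rep ∈ Ω)
    (hvals : (cw.map Prod.fst).Pairwise (fun c c' => c.val ≠ c'.val))
    (hcard : Ω.ncard ≤ ((cw.map Prod.fst).map (fun c => c.elems.length)).sum) :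
    (∀ c ∈ cw.map Prod.fst, orbK K (dec c.rep) = dec '' {l | l ∈ c.elems} ∧
      (orbK K (dec c.rep)).ncard = c.elems.length) ∧
    (∀ y, y ∈ Ω ↔ ∃ c ∈ cw.map Prod.fst, y ∈ orbK K (dec c.rep)) := by
  have hmem : ∀ c ∈ cw.map Prod.fst, ∃ ws, checkClsS gens invM c ws = true := by
    intro c hc
    obtain ⟨p, hp, rfl⟩ := List.mem_map.mp hc
    exact ⟨p.2, List.all_eq_true.mp hchk p hp⟩
  have hv : ∀ c ∈ cw.map Prod.fst, c.Valid K dec inv := by
    intro c hc
    obtain ⟨ws, hws⟩ := hmem c hc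
    exact checkClsS_valid hws hok K hK inv hinvM
  have hrep' : ∀ c ∈ cw.map Prod.fst, dec c.rep ∈ Ω := by
    intro c hc
    obtain ⟨p, hp, rfl⟩ := List.mem_map.mp hc
    exact hrep p hp
  have hinj : ∀ c ∈ cw.map Prod.fst, ∀ c' ∈ cw.map Prod.fst, ∀ l ∈ c.elems, ∀ l' ∈ c'.elems,
      dec l = dec l' → l = l' := by
    intro c hc c' hc' l hl l' hl' h
    obtain ⟨ws, hws⟩ := hmem c hc
    obtain ⟨ws', hws'⟩ := hmem c' hc'
    exact dec_injOn (checkClsS_lt hws l hl) (checkClsS_lt hws' l' hl') h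
  exact orbit_classes K dec inv Ω _ hv hinvK hΩK hrep' hvals hinj
    (complete_of_ncard K dec inv Ω _ hv hΩK hrep' hvals hinj (Set.toFinite _) hcard)

/-- the invariant weight function: base-100 histogram of intersection sizes. -/
def fInv (k : ℕ) : ℕ := 100 ^ k

end Cfsg.Agent.Lib.Helper27
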