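import Cfsg.Agent.Lib.Helper76.SlDefs

/-! # Sl hive (helper76, S2332), sub-hive K2 (helper27): definitions.
`pt0 F m` = the projective point `[e_0]`, `P0 F m` = its stabiliser in `SL_{m+2}(F)` (the maximal parabolic
`{g | column 0 of g is a multiple of e_0}`, see `mem_P0_iff`). -/

set_option autoImplicit false
set_option linter.unusedSectionVars false

namespace Cfsg.Agent.Lib.Helper76.Sl

open Matrix
open scoped LinearAlgebra.Projectivization

variable (F : Type*) [Field F] [Fintype F] [DecidableEq F]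

theorem k2_e0_ne_zero (m : ℕ) : (Pi.single (0 : Fin (m + 2)) (1 : F) : Fin (m + 2) → F) ≠ 0 := by
  intro h
  have := congrFun h 0
  simp at this

/-- the projective point `[e_0]` -/
def pt0 (m : ℕ) : ℙ F (Fin (m + 2) → F) :=
  Projectivization.mk F (Pi.single (0 : Fin (m + 2)) (1 : F)) (k2_e0_ne_zero F m)

/-- the stabiliser of the point `[e_0]` in `SL_{m+2}(F)` -/
def P0 (m : ℕ) : Subgroup (Gm F m) := MulAction.stabilizer (Gm F m) (pt0 F m)

variable {F}

theorem k2_mulVec_e0 {m : ℕ} (g : Gm F m) (i : Fin (m + 2)) :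
    (g.1 *ᵥ (Pi.single (0 : Fin (m + 2)) (1 : F))) i = g.1 i 0 := by
  simp

/-- `g ∈ P0` iff column `0` of `g` vanishes below the diagonal -/
theorem mem_P0_iff {m : ℕ} (g : Gm F m) : g ∈ P0 F m ↔ ∀ i : Fin (m + 2), i ≠ 0 → g.1 i 0 = 0 := by
  unfold P0 pt0
  rw [MulAction.mem_stabilizer_iff, Projectivization.smul_mk, Projectivization.mk_eq_mk_iff]
  have hsm : ∀ i, (g • (Pi.single (0 : Fin (m + 2)) (1 : F) : Fin (m + 2) → F)) i = g.1 i 0 := by
    intro i
    rw [Matrix.SpecialLinearGroup.smul_def]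
    exact k2_mulVec_e0 g i
  constructor
  · rintro ⟨a, ha⟩ i hi
    have h := congrFun ha i
    rw [hsm] at h
    rw [← h]
    simp [hi]
  · intro h
    have h00 : g.1 0 0 ≠ 0 := by
      intro h0
      have hcol : g.1 *ᵥ (Pi.single (0 : Fin (m + 2)) (1 : F)) = 0 := by
        funext i
        rw [k2_mulVec_e0]
        by_cases hi : i = 0
        · subst hi; simpa using h0
        · simpa using h i hi
      have hdet : g.1.det ≠ 0 := by rw [g.2]; exact one_ne_zero
      have := Matrix.eq_zero_of_mulVec_eq_zero hdet hcol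
      exact k2_e0_ne_zero F m this
    refine ⟨Units.mk0 _ h00, ?_⟩
    funext i
    rw [hsm]
    by_cases hi : i = 0
    · subst hi; simp
    · rw [h i hi]; simp [hi]

end Cfsg.Agent.Lib.Helper76.Sl
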