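import Cfsg.Agent.Lib.Helper27.SlK2Defs
import Cfsg.Agent.Lib.Helper3.Degree

/-! # Sl hive (helper76, S2332), sub-hive K2 (helper27), leaf K2-GEN: the degree of an irreducible character divides
`|G : C_G(g)| * χ(g)` whenever `χ(g)` is a rational integer. -/

set_option autoImplicit false

namespace Cfsg.Agent.Lib.Helper76.Sl

open Matrix Cfsg
open scoped LinearAlgebra.Projectivization

variable {F : Type*} [Field F] [Fintype F] [DecidableEq F]

theorem k2_generic {G : Type*} [Group G] [Fintype G] (χ : G → ℂ) (hχ : IsIrrCharacter G χ) (g : G) (d : ℕ)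
    (z : ℤ) (hd : χ 1 = d) (hz : χ g = z) :
    (d : ℤ) ∣ ((Subgroup.centralizer ({g} : Set G)).index : ℤ) * z := by
  obtain ⟨n, ρ, hirr, rfl⟩ := hχ
  have := hirr
  have hint := Cfsg.Agent.Lib.Helper3.isIntegral_omega ρ g
  have hfr : (Module.finrank ℂ (Fin n → ℂ) : ℂ) = d := by
    rw [← hd, Representation.char_one]
  have hV : Nontrivial (Fin n → ℂ) := ((Cfsg.Agent.Lib.Helper3.isIrreducible_iff ρ).mp hirr).1
  have hd0 : d ≠ 0 := by
    intro h0
    have hpos : 0 < Module.finrank ℂ (Fin n → ℂ) := Module.finrank_pos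
    have : (Module.finrank ℂ (Fin n → ℂ) : ℂ) = 0 := by rw [hfr, h0]; simp
    have h2 : Module.finrank ℂ (Fin n → ℂ) = 0 := by exact_mod_cast this
    omega
  rw [hfr, hz] at hint
  set idx := (Subgroup.centralizer ({g} : Set G)).index with hidx
  have h1 : ((idx : ℂ) * (z : ℂ) / (d : ℂ)) = ((((idx : ℚ) * (z : ℚ) / (d : ℚ)) : ℚ) : ℂ) := by
    push_cast
    rfl
  rw [h1] at hint
  obtain ⟨w, hw⟩ := Cfsg.Agent.Lib.Helper3.int_of_isIntegral_ratCast hint
  have hdq : (d : ℚ) ≠ 0 := by exact_mod_cast hd0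
  have h2 : (idx : ℚ) * (z : ℚ) = w * d := by
    rw [hw]
    field_simp
  have h3 : (idx : ℤ) * z = w * d := by exact_mod_cast h2
  exact ⟨w, by rw [h3, mul_comm]⟩

end Cfsg.Agent.Lib.Helper76.Sl
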