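import Cfsg.Agent.Lib.Helper27.SlK3COMBcore
import Cfsg.Agent.Lib.Helper90.SlK3CombTA

/-! # Sl hive (S2332) / K3 sub-hive (helper9) / leaf K3-COMB (helper27): the pure combinatorics of the multiplicity
function `μ` (`k3comb_core` + helper90's transitivity lemma `k3comb_transA`). -/

set_option autoImplicit false

namespace Cfsg.Agent.Lib.Helper76.Sl

open Matrix Cfsg
open scoped ComplexConjugate

variable (F : Type*) [Field F] [Fintype F] [DecidableEq F]

/-- K3-COMB (pure combinatorics) -/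
theorem k3_comb (m m0 : ℕ) (μ : (Fin (m + 1) → F) → (Fin (m + 1) → F) → ℕ)
    (hrow : ∀ α, ∑ β, μ α β = if α = 0 then m0 else 1)
    (hcol : ∀ β, ∑ α, μ α β = if β = 0 then m0 else 1)
    (hD : ∀ d : Fin (m + 3) → F, (∀ i, d i ≠ 0) → ∏ i, d i = 1 → ∀ α β,
      μ α β = μ (fun j => α j * d (k3mid m j) / d 0)
        (fun j => β j * d (Fin.last (m + 2)) / d (k3mid m j)))
    (hT : ∀ i j : Fin (m + 1), i ≠ j → ∀ (c : F) (α β : Fin (m + 1) → F),
      μ α β = μ (fun l => α l + if l = i then c * α j else 0)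
        (fun l => β l - if l = j then c * β i else 0)) :
    ((∀ β, β ≠ 0 → μ 0 β = 1) ∧ m0 = μ 0 0 + (Fintype.card F ^ (m + 1) - 1)) ∨
      (μ 0 0 = m0 ∧ Exc (m + 3) (Fintype.card F)) :=
  k3comb_core F m m0 μ hrow hcol hD hT (k3comb_transA F m μ hD hT)

end Cfsg.Agent.Lib.Helper76.Sl
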