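import Cfsg.Agent.Lib.Helper9.SlK3Defs

/-! # Sl hive (S2332) / K3 sub-hive (helper9) / leaf K3-COMB (helper27), core: the pure combinatorics of the
multiplicity function `μ`, with the transitivity statement `k3comb_transA` as a hypothesis. -/

set_option autoImplicit false
set_option linter.unusedSectionVars false

namespace Cfsg.Agent.Lib.Helper76.Sl

open Matrix

variable (F : Type*) [Field F] [Fintype F] [DecidableEq F]

/-- a sum of natural numbers equal to `1` has exactly one non-zero term, equal to `1` -/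
theorem k3comb_unique {ι : Type*} [Fintype ι] [DecidableEq ι] (f : ι → ℕ) (h : ∑ b, f b = 1) :
    ∃ b, f b = 1 ∧ ∀ b', b' ≠ b → f b' = 0 := by
  have hex : ∃ b, f b ≠ 0 := by
    by_contra hne
    have hne' : ∀ b, f b = 0 := fun b => by
      by_contra hb
      exact hne ⟨b, hb⟩
    rw [Finset.sum_eq_zero (fun b _ => hne' b)] at h
    exact absurd h (by norm_num)
  obtain ⟨b, hb⟩ := hex
  have hsplit := Finset.add_sum_erase Finset.univ f (Finset.mem_univ b)
  rw [h] at hsplit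
  have hb1 : f b = 1 := by omega
  refine ⟨b, hb1, fun b' hb' => ?_⟩
  have hrest : ∑ x ∈ Finset.univ.erase b, f x = 0 := by omega
  exact Finset.sum_eq_zero_iff.mp hrest b' (Finset.mem_erase.mpr ⟨hb', Finset.mem_univ _⟩)

/-- `x^k = 1` for all non-zero `x` forces `q - 1 ∣ k` -/
theorem k3comb_dvd_of_forall_pow (k : ℕ) (h : ∀ x : F, x ≠ 0 → x ^ k = 1) : Fintype.card F - 1 ∣ k := by
  rw [← FiniteField.forall_pow_eq_one_iff F k]
  intro x
  apply Units.ext
  rw [Units.val_pow_eq_pow_val, Units.val_one]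
  exact h x x.ne_zero


/-- the stabiliser argument for `n = 3`: `x^3 = 1` for all `x ≠ 0` -/
theorem k3comb_case3 (μ : (Fin (0 + 1) → F) → (Fin (0 + 1) → F) → ℕ)
    (hD : ∀ d : Fin (0 + 3) → F, (∀ i, d i ≠ 0) → ∏ i, d i = 1 → ∀ α β,
      μ α β = μ (fun j => α j * d (k3mid 0 j) / d 0)
        (fun j => β j * d (Fin.last (0 + 2)) / d (k3mid 0 j)))
    (b : Fin (0 + 1) → F) (hb : b ≠ 0) (hb1 : μ (Pi.single 0 1) b = 1)
    (hfix : ∀ β, μ (Pi.single 0 1) β = 1 → β = b) : ∀ r : F, r ≠ 0 → r ^ 3 = 1 := by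
  intro r hr
  have hb0 : b 0 ≠ 0 := by
    intro h0
    apply hb
    funext i
    rw [Fin.fin_one_eq_zero i]
    exact h0
  obtain ⟨d, hd0v, hd1v, hd2v⟩ : ∃ d : Fin (0 + 3) → F, d 0 = r ∧ d 1 = r ∧ d 2 = (r * r)⁻¹ :=
    ⟨![r, r, (r * r)⁻¹], rfl, rfl, rfl⟩
  have hrr : r * r ≠ 0 := mul_ne_zero hr hr
  have hd0 : ∀ i : Fin (0 + 3), d i ≠ 0 := by
    intro i
    fin_cases i
    · show d 0 ≠ 0
      rw [hd0v]; exact hr
    · show d 1 ≠ 0
      rw [hd1v]; exact hr
    · show d 2 ≠ 0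
      rw [hd2v]; exact inv_ne_zero hrr
  have hprod : ∏ i : Fin (0 + 3), d i = 1 := by
    rw [Fin.prod_univ_three, hd0v, hd1v, hd2v]
    exact mul_inv_cancel₀ hrr
  have h := hD d hd0 hprod (Pi.single 0 1) b
  have hmid : (k3mid 0 (0 : Fin (0 + 1)) : Fin (0 + 3)) = 1 := rfl
  have hlast : (Fin.last (0 + 2) : Fin (0 + 3)) = 2 := rfl
  have hα : (fun j : Fin (0 + 1) => (Pi.single 0 1 : Fin (0 + 1) → F) j *
      d (k3mid 0 j) / d 0) = Pi.single 0 1 := by
    funext j
    rw [Fin.fin_one_eq_zero j, hmid, hd1v, hd0v, Pi.single_eq_same, one_mul, div_self hr]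
  rw [hα, hb1] at h
  have h2 := hfix _ h.symm
  have h3 := congrFun h2 0
  simp only [hmid, hlast, hd1v, hd2v] at h3
  have h4 : (r * r)⁻¹ / r = 1 := by
    have : b 0 * ((r * r)⁻¹ / r) = b 0 * 1 := by
      rw [mul_one, ← mul_div_assoc]
      exact h3
    exact mul_left_cancel₀ hb0 this
  have h5 : r ^ 3 * ((r * r)⁻¹ / r) = 1 := by
    field_simp
  rw [h4, mul_one] at h5
  exact h5

/-- the stabiliser argument for `n = 4`: `x^2 = 1` for all `x ≠ 0` -/
theorem k3comb_case4 (μ : (Fin (1 + 1) → F) → (Fin (1 + 1) → F) → ℕ)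
    (hD : ∀ d : Fin (1 + 3) → F, (∀ i, d i ≠ 0) → ∏ i, d i = 1 → ∀ α β,
      μ α β = μ (fun j => α j * d (k3mid 1 j) / d 0)
        (fun j => β j * d (Fin.last (1 + 2)) / d (k3mid 1 j)))
    (hT : ∀ i j : Fin (1 + 1), i ≠ j → ∀ (c : F) (α β : Fin (1 + 1) → F),
      μ α β = μ (fun l => α l + if l = i then c * α j else 0)
        (fun l => β l - if l = j then c * β i else 0))
    (b : Fin (1 + 1) → F) (hb : b ≠ 0) (hb1 : μ (Pi.single 0 1) b = 1)
    (hfix : ∀ β, μ (Pi.single 0 1) β = 1 → β = b) : ∀ r : F, r ≠ 0 → r ^ 2 = 1 := by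
  intro r hr
  -- step 1: `b 0 = 0`
  have h01 : (0 : Fin (1 + 1)) ≠ 1 := by decide
  have hT1 := hT 0 1 h01 1 (Pi.single 0 1) b
  have hs1 : (Pi.single 0 1 : Fin (1 + 1) → F) 1 = 0 := Pi.single_eq_of_ne (Ne.symm h01) 1
  have hα1 : (fun l : Fin (1 + 1) => (Pi.single 0 1 : Fin (1 + 1) → F) l +
      if l = 0 then (1 : F) * (Pi.single 0 1 : Fin (1 + 1) → F) 1 else 0) = Pi.single 0 1 := by
    funext l
    rw [hs1, mul_zero, ite_self, add_zero]
  rw [hα1, hb1] at hT1
  have hb0 : b 0 = 0 := by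
    have h3 := congrFun (hfix _ hT1.symm) 1
    simp only [if_true, one_mul] at h3
    have : b 1 - b 0 = b 1 := h3
    linear_combination -this
  have hb1' : b 1 ≠ 0 := by
    intro h1
    apply hb
    funext i
    fin_cases i
    · exact hb0
    · exact h1
  -- step 2: the diagonal move
  obtain ⟨d, hd0v, hd1v, hd2v, hd3v⟩ :
      ∃ d : Fin (1 + 3) → F, d 0 = r ∧ d 1 = r ∧ d 2 = 1 ∧ d 3 = (r * r)⁻¹ :=
    ⟨![r, r, 1, (r * r)⁻¹], rfl, rfl, rfl, rfl⟩
  have hrr : r * r ≠ 0 := mul_ne_zero hr hr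
  have hd0 : ∀ i : Fin (1 + 3), d i ≠ 0 := by
    intro i
    fin_cases i
    · show d 0 ≠ 0
      rw [hd0v]; exact hr
    · show d 1 ≠ 0
      rw [hd1v]; exact hr
    · show d 2 ≠ 0
      rw [hd2v]; exact one_ne_zero
    · show d 3 ≠ 0
      rw [hd3v]; exact inv_ne_zero hrr
  have hprod : ∏ i : Fin (1 + 3), d i = 1 := by
    rw [Fin.prod_univ_four, hd0v, hd1v, hd2v, hd3v, mul_one]
    exact mul_inv_cancel₀ hrr
  have h := hD d hd0 hprod (Pi.single 0 1) b
  have hmid0 : (k3mid 1 (0 : Fin (1 + 1)) : Fin (1 + 3)) = 1 := rfl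
  have hmid1 : (k3mid 1 (1 : Fin (1 + 1)) : Fin (1 + 3)) = 2 := rfl
  have hlast : (Fin.last (1 + 2) : Fin (1 + 3)) = 3 := rfl
  have hα : (fun j : Fin (1 + 1) => (Pi.single 0 1 : Fin (1 + 1) → F) j *
      d (k3mid 1 j) / d 0) = Pi.single 0 1 := by
    funext j
    fin_cases j
    · show (Pi.single 0 1 : Fin (1 + 1) → F) 0 * d (k3mid 1 0) / d 0 = (Pi.single 0 1 : Fin (1 + 1) → F) 0
      rw [hmid0, hd1v, hd0v, Pi.single_eq_same, one_mul, div_self hr]
    · show (Pi.single 0 1 : Fin (1 + 1) → F) 1 * d (k3mid 1 1) / d 0 = (Pi.single 0 1 : Fin (1 + 1) → F) 1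
      rw [hs1, zero_mul, zero_div]
  rw [hα, hb1] at h
  have h3 := congrFun (hfix _ h.symm) 1
  simp only [hmid1, hlast, hd2v, hd3v] at h3
  have h4 : (r * r)⁻¹ = 1 := by
    have : b 1 * (r * r)⁻¹ = b 1 * 1 := by
      rw [mul_one]
      rw [div_one] at h3
      exact h3
    exact mul_left_cancel₀ hb1' this
  rw [pow_two]
  exact inv_eq_one.mp h4

/-- the stabiliser argument for `n ≥ 5`: impossible -/
theorem k3comb_case5 (m : ℕ) (hm : 2 ≤ m) (μ : (Fin (m + 1) → F) → (Fin (m + 1) → F) → ℕ)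
    (hT : ∀ i j : Fin (m + 1), i ≠ j → ∀ (c : F) (α β : Fin (m + 1) → F),
      μ α β = μ (fun l => α l + if l = i then c * α j else 0)
        (fun l => β l - if l = j then c * β i else 0))
    (b : Fin (m + 1) → F) (hb : b ≠ 0) (hb1 : μ (Pi.single 0 1) b = 1)
    (hfix : ∀ β, μ (Pi.single 0 1) β = 1 → β = b) : False := by
  apply hb
  funext i
  -- an index `j ∉ {0, i}`
  obtain ⟨j, hj0, hji⟩ : ∃ j : Fin (m + 1), j ≠ 0 ∧ j ≠ i := by
    by_cases hi : i.val = 1
    · refine ⟨⟨2, by omega⟩, ?_, ?_⟩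
      · intro h; have := congrArg Fin.val h; simp at this
      · intro h; have := congrArg Fin.val h; simp at this; omega
    · refine ⟨⟨1, by omega⟩, ?_, ?_⟩
      · intro h; have := congrArg Fin.val h; simp at this
      · intro h; have := congrArg Fin.val h; simp at this; omega
  have h := hT i j (Ne.symm hji) 1 (Pi.single 0 1) b
  have hα : (fun l : Fin (m + 1) => (Pi.single 0 1 : Fin (m + 1) → F) l +
      if l = i then (1 : F) * (Pi.single 0 1 : Fin (m + 1) → F) j else 0) = Pi.single 0 1 := by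
    funext l
    rw [Pi.single_eq_of_ne hj0]
    simp
  rw [hα, hb1] at h
  have h3 := congrFun (hfix _ h.symm) j
  simp only [if_true, one_mul] at h3
  have : b j - b i = b j := h3
  show b i = 0
  linear_combination -this

/-- K3-COMB with the transitivity statement as a hypothesis -/
theorem k3comb_core (m m0 : ℕ) (μ : (Fin (m + 1) → F) → (Fin (m + 1) → F) → ℕ)
    (hrow : ∀ α, ∑ β, μ α β = if α = 0 then m0 else 1)
    (hcol : ∀ β, ∑ α, μ α β = if β = 0 then m0 else 1)
    (hD : ∀ d : Fin (m + 3) → F, (∀ i, d i ≠ 0) → ∏ i, d i = 1 → ∀ α β,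
      μ α β = μ (fun j => α j * d (k3mid m j) / d 0)
        (fun j => β j * d (Fin.last (m + 2)) / d (k3mid m j)))
    (hT : ∀ i j : Fin (m + 1), i ≠ j → ∀ (c : F) (α β : Fin (m + 1) → F),
      μ α β = μ (fun l => α l + if l = i then c * α j else 0)
        (fun l => β l - if l = j then c * β i else 0))
    (hA : ∀ α : Fin (m + 1) → F, α ≠ 0 → μ α 0 = μ (Pi.single 0 1) 0) :
    ((∀ β, β ≠ 0 → μ 0 β = 1) ∧ m0 = μ 0 0 + (Fintype.card F ^ (m + 1) - 1)) ∨
      (μ 0 0 = m0 ∧ Exc (m + 3) (Fintype.card F)) := by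
  classical
  have he0ne : (Pi.single 0 1 : Fin (m + 1) → F) ≠ 0 := by
    intro h
    have := congrFun h 0
    simp at this
  have hrow1 : ∀ α : Fin (m + 1) → F, α ≠ 0 → ∃ b, μ α b = 1 ∧ ∀ b', b' ≠ b → μ α b' = 0 :=
    fun α hα => k3comb_unique (μ α) (by rw [hrow α, if_neg hα])
  obtain ⟨b, hb1, hb0⟩ := hrow1 _ he0ne
  by_cases hb : b = 0
  · -- `D = 1`
    left
    subst hb
    have hD1 : ∀ α : Fin (m + 1) → F, α ≠ 0 → μ α 0 = 1 := fun α hα => (hA α hα).trans hb1
    have hzero : ∀ α : Fin (m + 1) → F, α ≠ 0 → ∀ β, β ≠ 0 → μ α β = 0 := by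
      intro α hα β hβ
      obtain ⟨b', hb'1, hb'0⟩ := hrow1 α hα
      have hb' : b' = 0 := by
        by_contra hne
        have h0 := hb'0 0 (Ne.symm hne)
        rw [hD1 α hα] at h0
        exact one_ne_zero h0
      subst hb'
      exact hb'0 β hβ
    have hE : ∀ β : Fin (m + 1) → F, β ≠ 0 → μ 0 β = 1 := by
      intro β hβ
      have hc := hcol β
      rw [if_neg hβ, ← Finset.add_sum_erase Finset.univ (fun α => μ α β) (Finset.mem_univ 0)] at hc
      rw [Finset.sum_eq_zero (fun α hα => hzero α (Finset.ne_of_mem_erase hα) β hβ), add_zero] at hc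
      exact hc
    refine ⟨hE, ?_⟩
    have hr := hrow 0
    rw [if_pos rfl, ← Finset.add_sum_erase Finset.univ (fun β => μ 0 β) (Finset.mem_univ 0)] at hr
    rw [Finset.sum_congr rfl (fun β hβ => hE β (Finset.ne_of_mem_erase hβ))] at hr
    rw [Finset.sum_const, smul_eq_mul, mul_one, Finset.card_erase_of_mem (Finset.mem_univ _),
      Finset.card_univ, Fintype.card_fun, Fintype.card_fin] at hr
    exact hr.symm
  · -- `D = 0`
    right
    have hD0 : μ (Pi.single 0 1) (0 : Fin (m + 1) → F) = 0 := hb0 0 (Ne.symm hb)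
    have hA0 : ∀ α : Fin (m + 1) → F, α ≠ 0 → μ α 0 = 0 := fun α hα => (hA α hα).trans hD0
    constructor
    · have hc := hcol 0
      rw [if_pos rfl, ← Finset.add_sum_erase Finset.univ (fun α => μ α 0) (Finset.mem_univ 0)] at hc
      rw [Finset.sum_eq_zero (fun α hα => hA0 α (Finset.ne_of_mem_erase hα)), add_zero] at hc
      exact hc
    · have hfix : ∀ β, μ (Pi.single 0 1) β = 1 → β = b := by
        intro β hβ
        by_contra hne
        rw [hb0 β hne] at hβ
        exact zero_ne_one hβ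
      have hq : 1 < Fintype.card F := Fintype.one_lt_card
      obtain rfl | rfl | hm : m = 0 ∨ m = 1 ∨ 2 ≤ m := by omega
      · have h3 := k3comb_dvd_of_forall_pow F 3 (k3comb_case3 F μ hD b hb hb1 hfix)
        have hle := Nat.le_of_dvd (by norm_num) h3
        have hq' : Fintype.card F - 1 = 1 ∨ Fintype.card F - 1 = 3 := by
          have : Fintype.card F - 1 ≠ 2 := by
            intro h2; rw [h2] at h3; omega
          have : Fintype.card F - 1 ≠ 0 := by omega
          omega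
        unfold Exc
        rcases hq' with h | h
        · left; exact ⟨rfl, by omega⟩
        · right; left; exact ⟨rfl, by omega⟩
      · have h2 := k3comb_dvd_of_forall_pow F 2 (k3comb_case4 F μ hD hT b hb hb1 hfix)
        have hle := Nat.le_of_dvd (by norm_num) h2
        unfold Exc
        have hq' : Fintype.card F - 1 = 1 ∨ Fintype.card F - 1 = 2 := by omega
        rcases hq' with h | h
        · right; right; left; exact ⟨rfl, by omega⟩
        · right; right; right; exact ⟨rfl, by omega⟩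
      · exact (k3comb_case5 F m hm μ hT b hb hb1 hfix).elim

end Cfsg.Agent.Lib.Helper76.Sl
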