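import Cfsg.Agent.Lib.Helper61.SlK3MODBDefs

/-! # Sl hive (S2332) / K3 sub-hive (helper9) / K3-MODB sub-sub-hive (helper61), leaf K3-MODB-FIX (helper27):
`dim C_W(K) = |K|⁻¹ Σ_{x ∈ K} χ x` (trace of the averaging projection). -/

set_option autoImplicit false

namespace Cfsg.Agent.Lib.Helper76.Sl

open Matrix Cfsg
open scoped ComplexConjugate

variable (F : Type*) [Field F] [Fintype F] [DecidableEq F]

/-- the averaging operator over the finite set `s` -/
noncomputable def k3modbfix_avg {G : Type*} [Group G] {W : Type*} [AddCommGroup W] [Module ℂ W]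
    (ρ : Representation ℂ G W) (s : Finset G) : W →ₗ[ℂ] W :=
  ((s.card : ℂ))⁻¹ • ∑ x ∈ s, ρ x

theorem k3modbfix_isProj {G : Type*} [Group G] {W : Type*} [AddCommGroup W] [Module ℂ W]
    (ρ : Representation ℂ G W) (K : Subgroup G) (s : Finset G) (hs : ∀ x, x ∈ s ↔ x ∈ K) :
    LinearMap.IsProj (k3modbFix ρ (K : Set G)) (k3modbfix_avg ρ s) := by
  classical
  have hne : (s.card : ℂ) ≠ 0 := by
    have h1 : (1 : G) ∈ s := (hs 1).mpr K.one_mem
    have : 0 < s.card := Finset.card_pos.mpr ⟨1, h1⟩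
    exact_mod_cast this.ne'
  constructor
  · intro w k hk
    have hk' : k ∈ K := hk
    unfold k3modbfix_avg
    rw [LinearMap.smul_apply, LinearMap.sum_apply, map_smul, map_sum]
    congr 1
    have hbij : ∑ x ∈ s, ρ k (ρ x w) = ∑ x ∈ s, ρ x w := by
      refine Finset.sum_bij (fun x _ => k * x) ?_ ?_ ?_ ?_
      · intro x hx
        exact (hs _).mpr (K.mul_mem hk' ((hs x).mp hx))
      · intro x _ y _ hxy
        exact mul_left_cancel hxy
      · intro y hy
        refine ⟨k⁻¹ * y, (hs _).mpr (K.mul_mem (K.inv_mem hk') ((hs y).mp hy)), ?_⟩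
        simp
      · intro x _
        rw [map_mul]
        rfl
    exact hbij
  · intro w hw
    unfold k3modbfix_avg
    rw [LinearMap.smul_apply, LinearMap.sum_apply]
    have : ∑ x ∈ s, ρ x w = ∑ _x ∈ s, w :=
      Finset.sum_congr rfl fun x hx => hw x ((hs x).mp hx)
    rw [this, Finset.sum_const, ← Nat.cast_smul_eq_nsmul ℂ, smul_smul, inv_mul_cancel₀ hne, one_smul]

/-- MODB-FIX: `dim C_W(K) = |K|⁻¹ Σ_{x ∈ K} χ x`. -/
theorem k3modb_fix_dim {G : Type*} [Group G] {n : ℕ} (ρ : Representation ℂ G (Fin n → ℂ))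
    (K : Subgroup G) (s : Finset G) (hs : ∀ x, x ∈ s ↔ x ∈ K) :
    ((s.card : ℂ))⁻¹ * ∑ x ∈ s, ρ.character x =
      (Module.finrank ℂ (k3modbFix ρ (K : Set G)) : ℂ) := by
  have h := (k3modbfix_isProj ρ K s hs).trace
  rw [← h]
  unfold k3modbfix_avg
  rw [map_smul, map_sum, smul_eq_mul]
  rfl

end Cfsg.Agent.Lib.Helper76.Sl
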