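import Mathlib
import Cfsg.Prelude.Def_GeometricClasses
import Cfsg.Agent.Lib.Helper31.SpTns.Defs
import Cfsg.Agent.Lib.Helper44.TnsObs
import Cfsg.Agent.Lib.Helper8.SpExtElts
import Cfsg.Agent.Lib.Helper83.TnsO2b
import Cfsg.Agent.Lib.Helper31.TnsO2a

/-! # SPT-S4 (helper27, for helper31's S5980 hive): one self-dual irreducible block

An element of odd prime order `r` of `Sp_{2d}(q)`, `i = ord_r(q)` even, `i ≤ 2d`, acting
irreducibly on a nondegenerate subspace of dimension `i` and trivially on its orthogonal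
complement. -/

set_option autoImplicit false
open scoped MatrixGroups Kronecker
open Matrix Polynomial Module

namespace Cfsg.Agent.Lib.Helper31.SpTns

universe v

variable {F : Type v} [Field F]

/-- arithmetic: `r ∣ q^(i/2) + 1` when `i = ord_r(q)` is even -/
theorem s4_dvd_pow_half_add_one (q r : ℕ) [Fact r.Prime] (j : ℕ) (hj1 : 1 ≤ j)
    (hj : orderOf ((q : ℕ) : ZMod r) = j + j) : r ∣ q ^ j + 1 := by
  have h1 : ((q : ZMod r)) ^ (j + j) = 1 := by rw [← hj]; exact pow_orderOf_eq_one _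
  have h2 : ((q : ZMod r) ^ j - 1) * ((q : ZMod r) ^ j + 1) = 0 := by
    rw [pow_add] at h1
    linear_combination h1
  rcases mul_eq_zero.1 h2 with h | h
  · exfalso
    have h3 : (q : ZMod r) ^ j = 1 := sub_eq_zero.1 h
    have h4 := orderOf_dvd_of_pow_eq_one h3
    have h5 := Nat.le_of_dvd (by omega) h4
    omega
  · rw [← ZMod.natCast_eq_zero_iff]
    push_cast
    exact h

section S
variable [Fintype F]

/-- the linear algebra behind SPT-S4 -/
theorem s4_core {p : ℕ} [Fact p.Prime] [CharP F p] (r : ℕ) [Fact r.Prime] (hrp : r ≠ p)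
    {n : Type} [Fintype n] [DecidableEq n] (M : Matrix n n F) (hM : M ^ r = 1)
    (W U : Submodule F (n → F)) (j : ℕ)
    (hspan : ∀ v : n → F, ∃ w ∈ W, ∃ u ∈ U, v = w + u)
    (hfix : ∀ u ∈ U, M *ᵥ u = u)
    (hstab : ∀ w ∈ W, M *ᵥ w ∈ W)
    (hsurj : ∀ w ∈ W, ∃ w' ∈ W, w = M *ᵥ w' - w')
    (hdimW : finrank F W = 2 * j) (hj : 1 ≤ j)
    (hord : orderOf ((Fintype.card F : ℕ) : ZMod r) = 2 * j)
    (hdimU : Fintype.card n ≤ finrank F U + 2 * j) :
    ∃ g : F[X], Irreducible g ∧ g.natDegree = 2 * j ∧ (M - 1).rank = 2 * j ∧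
      (aeval M g).rank = Fintype.card n - 2 * j := by
  classical
  set f : Module.End F (n → F) := Matrix.toLinAlgEquiv' M with hf
  have hfv : ∀ v, f v = M *ᵥ v := fun v => Matrix.toLinAlgEquiv'_apply M v
  have hfr : f ^ r = 1 := by
    rw [hf, ← map_pow, hM, map_one]
  have hstab' : ∀ v ∈ W, f v ∈ W := fun v hv => by rw [hfv]; exact hstab v hv
  set T : Module.End F W := f.restrict hstab' with hT
  have hTv : ∀ w : W, ((T w : W) : n → F) = M *ᵥ (w : n → F) := by
    intro w
    rw [hT, LinearMap.coe_restrict_apply, hfv]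
  have hTr : T ^ r = 1 := by
    rw [hT, Module.End.pow_restrict r hstab']
    apply LinearMap.ext
    intro w
    apply Subtype.ext
    rw [LinearMap.coe_restrict_apply, hfr]
    rfl
  have hTsurj : Function.Surjective ⇑(T - 1 : Module.End F W) := by
    intro w
    obtain ⟨w', hw', hww⟩ := hsurj w w.2
    refine ⟨⟨w', hw'⟩, Subtype.ext ?_⟩
    rw [LinearMap.sub_apply, Submodule.coe_sub, hTv, hww]
    rfl
  have hTinj : Function.Injective ⇑(T - 1 : Module.End F W) :=
    LinearMap.injective_iff_surjective.2 hTsurj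
  have hcyc : aeval T (cyclotomic r F) = 0 := by
    have h1 : aeval T (cyclotomic r F * (X - 1)) = 0 := by
      rw [cyclotomic_prime_mul_X_sub_one, map_sub, map_pow, aeval_X, map_one, hTr, sub_self]
    rw [map_mul, map_sub, aeval_X, map_one] at h1
    apply LinearMap.ext
    intro w
    obtain ⟨w', rfl⟩ := hTsurj w
    have := LinearMap.congr_fun h1 w'
    rw [Module.End.mul_apply] at this
    rw [this]
    rfl
  have hmin_dvd : minpoly F T ∣ cyclotomic r F := minpoly.dvd F T hcyc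
  have hmin_ne : minpoly F T ≠ 0 := minpoly.ne_zero (Algebra.IsIntegral.isIntegral T)
  have hnontriv : Nontrivial W := by
    apply Module.nontrivial_of_finrank_pos (R := F)
    omega
  have hmin_nu : ¬ IsUnit (minpoly F T) := minpoly.not_isUnit F T
  obtain ⟨g, hgirr, hgmin⟩ := WfDvdMonoid.exists_irreducible_factor hmin_nu hmin_ne
  have hgcyc : g ∣ cyclotomic r F := hgmin.trans hmin_dvd
  have hgdeg : g.natDegree = 2 * j := by
    rw [← hord]
    exact Cfsg.Agent.Lib.Helper44.Tns.o2b_natDegree_of_dvd_cyclotomic (p := p) r hrp hgcyc hgirr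
  have hmin_deg : (minpoly F T).natDegree ≤ 2 * j := by
    rw [← hdimW, ← LinearMap.charpoly_natDegree T]
    exact natDegree_le_of_dvd (LinearMap.minpoly_dvd_charpoly T) (LinearMap.charpoly_monic T).ne_zero
  obtain ⟨c, hc⟩ := hgmin
  have hc0 : c ≠ 0 := by
    rintro rfl
    rw [mul_zero] at hc
    exact hmin_ne hc
  have hcdeg : c.natDegree = 0 := by
    have := congrArg natDegree hc
    rw [natDegree_mul hgirr.ne_zero hc0] at this
    omega
  obtain ⟨a, rfl⟩ : ∃ a, c = C a := ⟨_, eq_C_of_natDegree_eq_zero hcdeg⟩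
  have ha : a ≠ 0 := by
    rintro rfl
    simp at hc0
  have hgT : aeval T g = 0 := by
    have h := minpoly.aeval F T
    rw [hc, map_mul, aeval_C] at h
    have h2 : aeval T g * (algebraMap F (Module.End F W) a * algebraMap F (Module.End F W) a⁻¹)
        = 0 := by rw [← mul_assoc, h, zero_mul]
    rwa [← map_mul, mul_inv_cancel₀ ha, map_one, mul_one] at h2
  have hgW : ∀ w ∈ W, aeval f g w = 0 := by
    intro w hw
    have h := Cfsg.Agent.Lib.Helper44.Tns.tnsO2a_aeval_restrict f W hstab' g ⟨w, hw⟩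
    rw [← hT, hgT] at h
    exact h.symm
  have hgU : ∀ u ∈ U, aeval f g u = g.eval 1 • u := by
    intro u hu
    by_cases hu0 : u = 0
    · rw [hu0, map_zero, smul_zero]
    · apply Module.End.aeval_apply_of_hasEigenvector
      refine ⟨?_, hu0⟩
      rw [Module.End.mem_eigenspace_iff, hfv, hfix u hu, one_smul]
  have hg1 : g.eval 1 ≠ 0 := by
    intro h0
    obtain ⟨e, he⟩ := hgcyc
    have h1 := congrArg (eval 1) he
    rw [eval_mul, h0, zero_mul, eval_one_cyclotomic_prime] at h1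
    have h2 : (p : ℕ) ∣ r := (CharP.cast_eq_zero_iff F p r).1 h1
    exact hrp ((Nat.prime_dvd_prime_iff_eq Fact.out Fact.out).1 h2).symm
  have hmat : (aeval M g).mulVecLin = aeval f g := by
    rw [hf, Polynomial.aeval_algHom_apply]
    rfl
  refine ⟨g, hgirr, hgdeg, ?_, ?_⟩
  · rw [← hdimW]
    have hr : LinearMap.range (M - 1).mulVecLin = W := by
      apply le_antisymm
      · rintro _ ⟨v, rfl⟩
        obtain ⟨w, hw, u, hu, rfl⟩ := hspan v
        rw [Matrix.mulVecLin_apply, Matrix.sub_mulVec, Matrix.one_mulVec, Matrix.mulVec_add,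
          hfix u hu]
        have h3 : M *ᵥ w + u - (w + u) = M *ᵥ w - w := by abel
        rw [h3]
        exact W.sub_mem (hstab w hw) hw
      · intro w hw
        obtain ⟨w', hw', rfl⟩ := hsurj w hw
        exact ⟨w', by rw [Matrix.mulVecLin_apply, Matrix.sub_mulVec, Matrix.one_mulVec]⟩
    rw [Matrix.rank, hr]
  · have hr : LinearMap.range (aeval M g).mulVecLin = U := by
      rw [hmat]
      apply le_antisymm
      · rintro _ ⟨v, rfl⟩
        obtain ⟨w, hw, u, hu, rfl⟩ := hspan v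
        rw [map_add, hgW w hw, hgU u hu, zero_add]
        exact U.smul_mem _ hu
      · intro u hu
        refine ⟨(g.eval 1)⁻¹ • u, ?_⟩
        rw [map_smul, hgU u hu, smul_smul, inv_mul_cancel₀ hg1, one_smul]
    have hker : W ≤ LinearMap.ker (aeval M g).mulVecLin := by
      rw [hmat]
      exact fun w hw => LinearMap.mem_ker.2 (hgW w hw)
    have h1 := LinearMap.finrank_range_add_finrank_ker (aeval M g).mulVecLin
    have h2 := Submodule.finrank_mono hker
    rw [Module.finrank_fintype_fun_eq_card, hr] at h1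
    rw [Matrix.rank, hr]
    omega

set_option linter.unusedVariables false in
/-- SPT-S4 : one self-dual irreducible block (`i = ord_r(q)` even, `i ≤ 2d`). -/
theorem sp_exists_block_even {p : ℕ} [Fact p.Prime] [CharP F p] (hodd : Odd (Fintype.card F))
    (d : ℕ) (r : ℕ) [Fact r.Prime]
    (hr2 : r ≠ 2) (hrp : r ≠ p) (hie : Even (orderOf ((Fintype.card F : ℕ) : ZMod r)))
    (hi2 : 2 ≤ orderOf ((Fintype.card F : ℕ) : ZMod r))
    (hid : orderOf ((Fintype.card F : ℕ) : ZMod r) ≤ 2 * d) :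
    ∃ (x : GL (Fin d ⊕ Fin d) F) (g : F[X]), x ∈ Cfsg.spGL d F ∧ x ^ r = 1 ∧
      (∀ z : F, (x : Matrix (Fin d ⊕ Fin d) (Fin d ⊕ Fin d) F) ≠ z • 1) ∧ Irreducible g ∧
      g.natDegree = orderOf ((Fintype.card F : ℕ) : ZMod r) ∧
      ((x : Matrix (Fin d ⊕ Fin d) (Fin d ⊕ Fin d) F) - 1).rank = g.natDegree ∧
      (aeval (x : Matrix (Fin d ⊕ Fin d) (Fin d ⊕ Fin d) F) g).rank = 2 * d - g.natDegree := by
  classical
  obtain ⟨j, hj⟩ := hie
  have hj1 : 1 ≤ j := by omega
  have hjd : j ≤ d := by omega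
  have hrj : r ∣ Fintype.card F ^ j + 1 := s4_dvd_pow_half_add_one (Fintype.card F) r j hj1 hj
  obtain ⟨x, hxsp, hxr, hxns, W, U, hfd⟩ :=
    Cfsg.Agent.Lib.Helper8.SpExt.exists_nonsplit d p j hj1 hjd r hr2 hrj
  have hM : (x : Matrix (Fin d ⊕ Fin d) (Fin d ⊕ Fin d) F) ^ r = 1 := by
    rw [← Units.val_pow_eq_pow_val, hxr, Units.val_one]
  have hcard : Fintype.card (Fin d ⊕ Fin d) = 2 * d := by
    rw [Fintype.card_sum, Fintype.card_fin]; ring
  obtain ⟨g, hgirr, hgdeg, hrk1, hrk2⟩ := s4_core (p := p) r hrp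
    (x : Matrix (Fin d ⊕ Fin d) (Fin d ⊕ Fin d) F) hM W U j hfd.span hfd.fixU hfd.stab hfd.surj
    hfd.dimW hj1 (by rw [hj]; ring) (by rw [hcard]; exact hfd.dimU)
  refine ⟨x, g, hxsp, hxr, hxns, hgirr, by rw [hgdeg, hj]; ring, by rw [hrk1, hgdeg], ?_⟩
  rw [hrk2, hgdeg, hcard]

end S

end Cfsg.Agent.Lib.Helper31.SpTns
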