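import Mathlib
import Cfsg.Prelude.Def_GeometricClasses
import Cfsg.Agent.Lib.Helper44.TnsDefs

/-! # S5980 hive, leaf SPT-T1 (isKronSimilar_swap) -/

set_option autoImplicit false
open scoped MatrixGroups Kronecker
open Matrix Polynomial

namespace Cfsg.Agent.Lib.Helper31.SpTns

open Cfsg.Agent.Lib.Helper44.Tns (IsKronSimilar)

universe v

variable {F : Type v} [Field F]

theorem t1_reindex_kron {a b : ℕ} (A : Matrix (Fin a) (Fin a) F) (B : Matrix (Fin b) (Fin b) F) :
    Matrix.reindex (Equiv.prodComm (Fin a) (Fin b)) (Equiv.prodComm (Fin a) (Fin b)) (A ⊗ₖ B) =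
      B ⊗ₖ A := by
  ext ⟨j, i⟩ ⟨j', i'⟩
  simp [Matrix.kroneckerMap_apply, mul_comm]

/-- SPT-T1.  Swap the two Kronecker factors. -/
theorem isKronSimilar_swap {n a b : ℕ} (e : Fin n ≃ Fin a × Fin b) (x : Matrix (Fin n) (Fin n) F)
    (h : IsKronSimilar a b e x) :
    IsKronSimilar b a (e.trans (Equiv.prodComm (Fin a) (Fin b))) x := by
  obtain ⟨A, B, V, V', hA, hB, hVV, hx⟩ := h
  refine ⟨B, A, Matrix.reindex (Equiv.prodComm (Fin a) (Fin b)) (Equiv.prodComm (Fin a) (Fin b)) V,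
    Matrix.reindex (Equiv.prodComm (Fin a) (Fin b)) (Equiv.prodComm (Fin a) (Fin b)) V',
    hB, hA, ?_, ?_⟩
  · simp only [Matrix.reindex_apply]
    rw [Matrix.submatrix_mul_equiv, hVV, Matrix.submatrix_one_equiv]
  · have h1 : Matrix.reindex (e.trans (Equiv.prodComm (Fin a) (Fin b)))
        (e.trans (Equiv.prodComm (Fin a) (Fin b))) x =
        Matrix.reindex (Equiv.prodComm (Fin a) (Fin b)) (Equiv.prodComm (Fin a) (Fin b))
          (Matrix.reindex e e x) := by
      ext p q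
      simp [Matrix.reindex_apply]
    rw [h1, hx, ← t1_reindex_kron A B]
    simp only [Matrix.reindex_apply]
    rw [Matrix.submatrix_mul_equiv, Matrix.submatrix_mul_equiv]

end Cfsg.Agent.Lib.Helper31.SpTns
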