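import Cfsg.Agent.Lib.Helper70.SpUDefs

/-! # SPU-LEV1 + SPU-LEV2 (helper27, for helper70's S2316 hive): levels and joined positions -/

set_option autoImplicit false

namespace Cfsg.Agent.Lib.Helper70.SpU

open Matrix Cfsg Cfsg.Agent.Lib.Helper13 Cfsg.Agent.Lib.Helper41.SpBN

universe u

variable {F : Type u} [Field F] {m : ℕ}

/-- SPU-LEV1. Joined positions have the same level (the filter for `b` is the filter for `a` plus possibly `a`
itself, which is not a cut). -/
theorem lev_eq_of_joined (J : Set (SpG F m)) {a b : Idx m} (h : Joined J a b) : lev J a = lev J b := by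
  classical
  unfold lev
  congr 1
  ext c
  rw [Finset.mem_filter, Finset.mem_filter]
  constructor
  · rintro ⟨h1, h2, h3⟩
    refine ⟨h1, ?_, h3⟩
    rw [h.1]
    omega
  · rintro ⟨h1, h2, h3⟩
    refine ⟨h1, ?_, h3⟩
    rw [h.1] at h2
    rcases Nat.lt_or_ge (pos c) (pos a) with h4 | h4
    · exact h4
    · exfalso
      have h5 : pos c = pos a := by omega
      have h6 : c = a := pos_injective h5
      subst h6
      exact h3 ⟨b, h⟩

/-- SPU-LEV2. Inside a block all consecutive positions are joined (a cut `c` with `pos a ≤ pos c < pos b` is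
counted by `lev J b` and not by `lev J a`). -/
theorem joined_of_lev_eq (J : Set (SpG F m)) {a b c : Idx m} (h : lev J a = lev J b)
    (hac : pos a ≤ pos c) (hcb : pos c < pos b) : ∃ d, Joined J c d := by
  classical
  by_contra hcut
  unfold lev at h
  have hsub : (Finset.univ.filter (fun c : Idx m => pos c < pos a ∧ ¬ ∃ d, Joined J c d)) ⊂
      (Finset.univ.filter (fun c : Idx m => pos c < pos b ∧ ¬ ∃ d, Joined J c d)) := by
    rw [Finset.ssubset_iff_of_subset]
    · refine ⟨c, ?_, ?_⟩
      · rw [Finset.mem_filter]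
        exact ⟨Finset.mem_univ c, hcb, hcut⟩
      · rw [Finset.mem_filter]
        rintro ⟨-, h2, -⟩
        omega
    · intro x hx
      rw [Finset.mem_filter] at hx ⊢
      exact ⟨hx.1, by omega, hx.2.2⟩
  have := Finset.card_lt_card hsub
  omega

end Cfsg.Agent.Lib.Helper70.SpU
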