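import Cfsg.Agent.Lib.Helper70.SpUDefs

/-! # SPU-NORM (helper27, for helper70's S2316 hive): `Pl ℓ` normalises `Vl ℓ` -/

set_option autoImplicit false

namespace Cfsg.Agent.Lib.Helper70.SpU

open Matrix Cfsg Cfsg.Agent.Lib.Helper13 Cfsg.Agent.Lib.Helper41.SpBN

universe u

variable {F : Type u} [Field F] {m : ℕ}

/-- conjugating an element of `Vl ℓ` by elements of `Pl ℓ` (written with two elements `g`, `g'` of `Pl ℓ` with
`g * g' = 1`) -/
theorem norm_conj_mem [Finite F] (ℓ : Idx m → ℕ) {g g' v : SpG F m} (hg : g ∈ Pl F ℓ)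
    (hg' : g' ∈ Pl F ℓ) (hgg' : g * g' = 1) (hv : v ∈ Vl F ℓ) : g * v * g' ∈ Vl F ℓ := by
  rw [mem_Vl]
  intro a b hab
  rw [mem_Pl] at hg hg'
  rw [mem_Vl] at hv
  have key : ∀ c d : Idx m, g.1 a c * v.1 c d * g'.1 d b =
      g.1 a c * (1 : Matrix (Idx m) (Idx m) F) c d * g'.1 d b := by
    intro c d
    by_cases h1 : ℓ c < ℓ a
    · rw [hg a c h1, zero_mul, zero_mul, zero_mul, zero_mul]
    by_cases h2 : ℓ b < ℓ d
    · rw [hg' d b h2, mul_zero, mul_zero]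
    rw [hv c d (by omega)]
  have h3 : (g * v * g').1 a b = (g.1 * (1 : Matrix (Idx m) (Idx m) F) * g'.1) a b := by
    rw [coe_mul', coe_mul', Matrix.mul_apply, Matrix.mul_apply]
    refine Finset.sum_congr rfl (fun d _ => ?_)
    rw [Matrix.mul_apply, Matrix.mul_apply, Finset.sum_mul, Finset.sum_mul]
    exact Finset.sum_congr rfl (fun c _ => key c d)
  rw [h3, Matrix.mul_one, ← coe_mul', hgg', coe_one']

/-- SPU-NORM. `Pl ℓ` normalises `Vl ℓ`. -/
theorem Pl_le_normalizer [Finite F] (ℓ : Idx m → ℕ) :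
    Pl F ℓ ≤ Subgroup.normalizer (Vl F ℓ : Set (SpG F m)) := by
  intro g hg
  have hg' : g⁻¹ ∈ Pl F ℓ := Subgroup.inv_mem _ hg
  rw [Subgroup.mem_normalizer_iff]
  intro v
  constructor
  · intro hv
    exact norm_conj_mem ℓ hg hg' (mul_inv_cancel g) hv
  · intro hv
    have h1 := norm_conj_mem ℓ hg' hg (inv_mul_cancel g) hv
    have h2 : g⁻¹ * (g * v * g⁻¹) * g = v := by group
    rwa [h2] at h1

end Cfsg.Agent.Lib.Helper70.SpU
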