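import Cfsg.Prelude.Def_SporadicCombinatorics

set_option autoImplicit false

namespace Cfsg.Agent.Lib.Helper27

open Cfsg

/-- information positions -/
def tinfo : Fin 6 → ArrayPt := ![(0, 0), (0, 1), (0, 2), (1, 0), (1, 1), (2, 0)]

/-- reduced echelon basis of the ternary code, as a table -/
def tbasisTab : Fin 6 → Fin 4 → Fin 3 → ZMod 3 :=
  ![![![1, 0, 0], ![0, 0, 1], ![0, 0, 1], ![1, 1, 2]],
    ![![0, 1, 0], ![0, 0, 1], ![0, 2, 2], ![2, 0, 2]],
    ![![0, 0, 1], ![0, 0, 1], ![0, 1, 0], ![2, 1, 1]],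
    ![![0, 0, 0], ![1, 0, 2], ![0, 2, 1], ![2, 1, 0]],
    ![![0, 0, 0], ![0, 1, 2], ![0, 1, 2], ![0, 1, 2]],
    ![![0, 0, 0], ![0, 0, 0], ![1, 1, 1], ![2, 2, 2]]]

def tbasis (k : Fin 6) : ArrayPt → ZMod 3 := fun p => tbasisTab k p.1 p.2

def tenc (c : Fin 6 → ZMod 3) : ArrayPt → ZMod 3 := fun p => ∑ k, c k * tbasis k p

theorem sum_zmod3 {M : Type*} [AddCommMonoid M] (f : ZMod 3 → M) : ∑ r : ZMod 3, f r = f 0 + f 1 + f 2 :=
  Fin.sum_univ_three f

theorem tetracode_forall (P : (Fin 4 → ZMod 3) → Prop) :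
    (∀ t ∈ tetracode, P t) ↔ ∀ a b : ZMod 3, P (a • ![0, 1, 1, 1] + b • ![1, 0, 1, 2]) := by
  constructor
  · intro h a b
    exact h _ (Submodule.mem_span_pair.mpr ⟨a, b, rfl⟩)
  · intro h t ht
    obtain ⟨a, b, rfl⟩ := Submodule.mem_span_pair.mp ht
    exact h a b

theorem isTernaryGolayWord_iff (x : ArrayPt → ZMod 3) :
    IsTernaryGolayWord x ↔ ∃ s : ZMod 3, (∀ i : Fin 4, ∑ r : ZMod 3, x (i, r) = -s) ∧
      ∀ a b : ZMod 3, ∑ i : Fin 4, x (i, (a • ![0, 1, 1, 1] + b • ![1, 0, 1, 2] : Fin 4 → ZMod 3) i) = s := by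
  unfold IsTernaryGolayWord
  constructor
  · rintro ⟨s, h1, h2⟩
    exact ⟨s, h1, (tetracode_forall _).mp h2⟩
  · rintro ⟨s, h1, h2⟩
    exact ⟨s, h1, (tetracode_forall _).mpr h2⟩

theorem tbasis_mem (k : Fin 6) : tbasis k ∈ ternaryGolayCode := by
  show IsTernaryGolayWord (tbasis k)
  rw [isTernaryGolayWord_iff]
  revert k
  decide

theorem tenc_mem (c : Fin 6 → ZMod 3) : tenc c ∈ ternaryGolayCode := by
  have : tenc c = ∑ k, c k • tbasis k := by
    funext p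
    simp [tenc, Finset.sum_apply]
  rw [this]
  exact Submodule.sum_mem _ fun k _ => Submodule.smul_mem _ _ (tbasis_mem k)


theorem tg_solve (x00 x01 x02 x10 x11 x12 x20 x21 x22 x30 x31 x32 s : ZMod 3)
    (hc0 : x00 + x01 + x02 = -s) (hc1 : x10 + x11 + x12 = -s) (hc2 : x20 + x21 + x22 = -s)
    (hc3 : x30 + x31 + x32 = -s)
    (ht0000 : x00 + x10 + x20 + x30 = s) (ht0111 : x00 + x11 + x21 + x31 = s)
    (ht1012 : x01 + x10 + x21 + x32 = s) :
    x12 = x00 + x01 + x02 - x10 - x11 ∧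
    x21 = -x01 + x02 - x10 + x11 + x20 ∧
    x22 = x00 - x01 + x10 - x11 + x20 ∧
    x30 = x00 - x01 - x02 - x10 - x20 ∧
    x31 = x00 + x02 + x10 + x11 - x20 ∧
    x32 = -x00 - x01 + x02 - x11 - x20 := by
  have h3 : (3 : ZMod 3) = 0 := by decide
  refine ⟨?_, ?_, ?_, ?_, ?_, ?_⟩
  · linear_combination (-1) * hc0 + (1) * hc1
  · linear_combination (-1) * hc0 + (1) * hc3 + (-1) * ht0000 + (-1) * ht0111 + (-1) * ht1012 + ( (1) * x00 + (1) * x01 + (1) * x10 + (1) * x21 + (-1) * s ) * h3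
  · linear_combination (1) * hc2 + (-1) * hc3 + (1) * ht0000 + (1) * ht0111 + (1) * ht1012 + ( (-1) * x00 + (-1) * x10 + (-1) * x20 + (-1) * x21 + (1) * s ) * h3
  · linear_combination (1) * hc0 + (1) * ht0000 + ( (-1) * x00 ) * h3
  · linear_combination (-1) * hc0 + (-1) * hc3 + (1) * ht0000 + (-1) * ht0111 + (1) * ht1012 + ( (-1) * x10 + (1) * x31 + (1) * s ) * h3
  · linear_combination (-1) * hc0 + (-1) * hc3 + (1) * ht0000 + (1) * ht0111 + (-1) * ht1012 + ( (1) * x01 + (1) * x32 + (1) * s ) * h3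

theorem eq_tenc_of_mem {x : ArrayPt → ZMod 3} (hx : x ∈ ternaryGolayCode) :
    x = tenc (fun k => x (tinfo k)) := by
  obtain ⟨s, h1, h2⟩ := (isTernaryGolayWord_iff x).mp hx
  have hc0 := h1 0
  have hc1 := h1 1
  have hc2 := h1 2
  have hc3 := h1 3
  have ht0000 := h2 0 0
  have ht0111 := h2 1 0
  have ht1012 := h2 0 1
  simp only [sum_zmod3, Fin.sum_univ_four] at hc0 hc1 hc2 hc3 ht0000 ht0111 ht1012
  simp only [zero_smul, one_smul, add_zero, zero_add, Pi.add_apply, Matrix.cons_val_zero,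
    Matrix.cons_val_one, Matrix.cons_val] at ht0000 ht0111 ht1012
  obtain ⟨e12, e21, e22, e30, e31, e32⟩ := tg_solve _ _ _ _ _ _ _ _ _ _ _ _ s hc0 hc1 hc2 hc3 ht0000 ht0111 ht1012
  have h3 : (3 : ZMod 3) = 0 := by decide
  have k00 : x (0, 0) = tenc (fun k => x (tinfo k)) (0, 0) := by
    show x (0, 0) = ∑ k, x (tinfo k) * tbasis k (0, 0)
    rw [Fin.sum_univ_six]
    show x (0, 0) = x (0, 0) * 1 + x (0, 1) * 0 + x (0, 2) * 0 + x (1, 0) * 0 + x (1, 1) * 0 + x (2, 0) * 0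
    ring
  have k01 : x (0, 1) = tenc (fun k => x (tinfo k)) (0, 1) := by
    show x (0, 1) = ∑ k, x (tinfo k) * tbasis k (0, 1)
    rw [Fin.sum_univ_six]
    show x (0, 1) = x (0, 0) * 0 + x (0, 1) * 1 + x (0, 2) * 0 + x (1, 0) * 0 + x (1, 1) * 0 + x (2, 0) * 0
    ring
  have k02 : x (0, 2) = tenc (fun k => x (tinfo k)) (0, 2) := by
    show x (0, 2) = ∑ k, x (tinfo k) * tbasis k (0, 2)
    rw [Fin.sum_univ_six]
    show x (0, 2) = x (0, 0) * 0 + x (0, 1) * 0 + x (0, 2) * 1 + x (1, 0) * 0 + x (1, 1) * 0 + x (2, 0) * 0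
    ring
  have k10 : x (1, 0) = tenc (fun k => x (tinfo k)) (1, 0) := by
    show x (1, 0) = ∑ k, x (tinfo k) * tbasis k (1, 0)
    rw [Fin.sum_univ_six]
    show x (1, 0) = x (0, 0) * 0 + x (0, 1) * 0 + x (0, 2) * 0 + x (1, 0) * 1 + x (1, 1) * 0 + x (2, 0) * 0
    ring
  have k11 : x (1, 1) = tenc (fun k => x (tinfo k)) (1, 1) := by
    show x (1, 1) = ∑ k, x (tinfo k) * tbasis k (1, 1)
    rw [Fin.sum_univ_six]
    show x (1, 1) = x (0, 0) * 0 + x (0, 1) * 0 + x (0, 2) * 0 + x (1, 0) * 0 + x (1, 1) * 1 + x (2, 0) * 0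
    ring
  have k12 : x (1, 2) = tenc (fun k => x (tinfo k)) (1, 2) := by
    show x (1, 2) = ∑ k, x (tinfo k) * tbasis k (1, 2)
    rw [Fin.sum_univ_six]
    show x (1, 2) = x (0, 0) * 1 + x (0, 1) * 1 + x (0, 2) * 1 + x (1, 0) * 2 + x (1, 1) * 2 + x (2, 0) * 0
    linear_combination e12 - (x (1, 0) + x (1, 1)) * h3
  have k20 : x (2, 0) = tenc (fun k => x (tinfo k)) (2, 0) := by
    show x (2, 0) = ∑ k, x (tinfo k) * tbasis k (2, 0)
    rw [Fin.sum_univ_six]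
    show x (2, 0) = x (0, 0) * 0 + x (0, 1) * 0 + x (0, 2) * 0 + x (1, 0) * 0 + x (1, 1) * 0 + x (2, 0) * 1
    ring
  have k21 : x (2, 1) = tenc (fun k => x (tinfo k)) (2, 1) := by
    show x (2, 1) = ∑ k, x (tinfo k) * tbasis k (2, 1)
    rw [Fin.sum_univ_six]
    show x (2, 1) = x (0, 0) * 0 + x (0, 1) * 2 + x (0, 2) * 1 + x (1, 0) * 2 + x (1, 1) * 1 + x (2, 0) * 1
    linear_combination e21 - (x (0, 1) + x (1, 0)) * h3
  have k22 : x (2, 2) = tenc (fun k => x (tinfo k)) (2, 2) := by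
    show x (2, 2) = ∑ k, x (tinfo k) * tbasis k (2, 2)
    rw [Fin.sum_univ_six]
    show x (2, 2) = x (0, 0) * 1 + x (0, 1) * 2 + x (0, 2) * 0 + x (1, 0) * 1 + x (1, 1) * 2 + x (2, 0) * 1
    linear_combination e22 - (x (0, 1) + x (1, 1)) * h3
  have k30 : x (3, 0) = tenc (fun k => x (tinfo k)) (3, 0) := by
    show x (3, 0) = ∑ k, x (tinfo k) * tbasis k (3, 0)
    rw [Fin.sum_univ_six]
    show x (3, 0) = x (0, 0) * 1 + x (0, 1) * 2 + x (0, 2) * 2 + x (1, 0) * 2 + x (1, 1) * 0 + x (2, 0) * 2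
    linear_combination e30 - (x (0, 1) + x (0, 2) + x (1, 0) + x (2, 0)) * h3
  have k31 : x (3, 1) = tenc (fun k => x (tinfo k)) (3, 1) := by
    show x (3, 1) = ∑ k, x (tinfo k) * tbasis k (3, 1)
    rw [Fin.sum_univ_six]
    show x (3, 1) = x (0, 0) * 1 + x (0, 1) * 0 + x (0, 2) * 1 + x (1, 0) * 1 + x (1, 1) * 1 + x (2, 0) * 2
    linear_combination e31 - (x (2, 0)) * h3
  have k32 : x (3, 2) = tenc (fun k => x (tinfo k)) (3, 2) := by
    show x (3, 2) = ∑ k, x (tinfo k) * tbasis k (3, 2)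
    rw [Fin.sum_univ_six]
    show x (3, 2) = x (0, 0) * 2 + x (0, 1) * 2 + x (0, 2) * 1 + x (1, 0) * 0 + x (1, 1) * 2 + x (2, 0) * 2
    linear_combination e32 - (x (0, 0) + x (0, 1) + x (1, 1) + x (2, 0)) * h3
  funext ⟨i, r⟩
  fin_cases i <;> fin_cases r
  exacts [k00, k01, k02, k10, k11, k12, k20, k21, k22, k30, k31, k32]


theorem tenc_tinfo (c : Fin 6 → ZMod 3) (k : Fin 6) : tenc c (tinfo k) = c k := by
  fin_cases k
  · show ∑ j, c j * tbasis j (0, 0) = c 0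
    rw [Fin.sum_univ_six]
    show c 0 * 1 + c 1 * 0 + c 2 * 0 + c 3 * 0 + c 4 * 0 + c 5 * 0 = c 0
    ring
  · show ∑ j, c j * tbasis j (0, 1) = c 1
    rw [Fin.sum_univ_six]
    show c 0 * 0 + c 1 * 1 + c 2 * 0 + c 3 * 0 + c 4 * 0 + c 5 * 0 = c 1
    ring
  · show ∑ j, c j * tbasis j (0, 2) = c 2
    rw [Fin.sum_univ_six]
    show c 0 * 0 + c 1 * 0 + c 2 * 1 + c 3 * 0 + c 4 * 0 + c 5 * 0 = c 2
    ring
  · show ∑ j, c j * tbasis j (1, 0) = c 3
    rw [Fin.sum_univ_six]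
    show c 0 * 0 + c 1 * 0 + c 2 * 0 + c 3 * 1 + c 4 * 0 + c 5 * 0 = c 3
    ring
  · show ∑ j, c j * tbasis j (1, 1) = c 4
    rw [Fin.sum_univ_six]
    show c 0 * 0 + c 1 * 0 + c 2 * 0 + c 3 * 0 + c 4 * 1 + c 5 * 0 = c 4
    ring
  · show ∑ j, c j * tbasis j (2, 0) = c 5
    rw [Fin.sum_univ_six]
    show c 0 * 0 + c 1 * 0 + c 2 * 0 + c 3 * 0 + c 4 * 0 + c 5 * 1 = c 5
    ring

theorem mem_iff (x : ArrayPt → ZMod 3) :
    x ∈ ternaryGolayCode ↔ x = tenc (fun k => x (tinfo k)) :=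
  ⟨eq_tenc_of_mem, fun h => h ▸ tenc_mem _⟩

theorem tenc_injective : Function.Injective tenc := by
  intro c c' h
  funext k
  rw [← tenc_tinfo c k, ← tenc_tinfo c' k, h]

/-- the code as the bijective image of `(ZMod 3)^6` -/
noncomputable def tencEquiv : (Fin 6 → ZMod 3) ≃ ternaryGolayCode :=
  Equiv.ofBijective (fun c => ⟨tenc c, tenc_mem c⟩)
    ⟨fun _ _ h => tenc_injective (Subtype.ext_iff.mp h),
     fun x => ⟨fun k => (x : ArrayPt → ZMod 3) (tinfo k), Subtype.ext (eq_tenc_of_mem x.2).symm⟩⟩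

theorem card_ternaryGolayCode : Nat.card ternaryGolayCode = 729 := by
  rw [← Nat.card_congr tencEquiv, Nat.card_eq_fintype_card, Fintype.card_pi]
  simp [ZMod.card]

theorem mem_iff_exists (x : ArrayPt → ZMod 3) :
    x ∈ ternaryGolayCode ↔ ∃ c, tenc c = x :=
  ⟨fun h => ⟨_, (eq_tenc_of_mem h).symm⟩, fun ⟨c, h⟩ => h ▸ tenc_mem c⟩

def tvec (a b c d e f : ZMod 3) : Fin 6 → ZMod 3 := ![a, b, c, d, e, f]

theorem forall_tvec (P : (Fin 6 → ZMod 3) → Prop) :
    (∀ c, P c) ↔ ∀ a b c d e f, P (tvec a b c d e f) := by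
  constructor
  · intro h a b c d e f; exact h _
  · intro h c
    have : c = tvec (c 0) (c 1) (c 2) (c 3) (c 4) (c 5) := by
      funext k; fin_cases k <;> rfl
    rw [this]; exact h _ _ _ _ _ _

def tw (a b c d e f : ZMod 3) : List (ZMod 3) :=
  [a, b, c, d, e, a + b + c + 2 * d + 2 * e, f, 2 * b + c + 2 * d + e + f, a + 2 * b + d + 2 * e + f, a + 2 * b + 2 * c + 2 * d + 2 * f, a + c + d + e + 2 * f, 2 * a + 2 * b + c + 2 * e + 2 * f]

def tpts : List ArrayPt :=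
  [(0, 0), (0, 1), (0, 2), (1, 0), (1, 1), (1, 2), (2, 0), (2, 1), (2, 2), (3, 0), (3, 1), (3, 2)]

theorem map_tenc_tvec (a b c d e f : ZMod 3) : tpts.map (tenc (tvec a b c d e f)) = tw a b c d e f := by
  have h0 : tenc (tvec a b c d e f) (0, 0) = a := by
    show ∑ k, tvec a b c d e f k * tbasis k (0, 0) = _
    rw [Fin.sum_univ_six]
    show a * 1 + b * 0 + c * 0 + d * 0 + e * 0 + f * 0 = _
    ring
  have h1 : tenc (tvec a b c d e f) (0, 1) = b := by
    show ∑ k, tvec a b c d e f k * tbasis k (0, 1) = _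
    rw [Fin.sum_univ_six]
    show a * 0 + b * 1 + c * 0 + d * 0 + e * 0 + f * 0 = _
    ring
  have h2 : tenc (tvec a b c d e f) (0, 2) = c := by
    show ∑ k, tvec a b c d e f k * tbasis k (0, 2) = _
    rw [Fin.sum_univ_six]
    show a * 0 + b * 0 + c * 1 + d * 0 + e * 0 + f * 0 = _
    ring
  have h3 : tenc (tvec a b c d e f) (1, 0) = d := by
    show ∑ k, tvec a b c d e f k * tbasis k (1, 0) = _
    rw [Fin.sum_univ_six]
    show a * 0 + b * 0 + c * 0 + d * 1 + e * 0 + f * 0 = _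
    ring
  have h4 : tenc (tvec a b c d e f) (1, 1) = e := by
    show ∑ k, tvec a b c d e f k * tbasis k (1, 1) = _
    rw [Fin.sum_univ_six]
    show a * 0 + b * 0 + c * 0 + d * 0 + e * 1 + f * 0 = _
    ring
  have h5 : tenc (tvec a b c d e f) (1, 2) = a + b + c + 2 * d + 2 * e := by
    show ∑ k, tvec a b c d e f k * tbasis k (1, 2) = _
    rw [Fin.sum_univ_six]
    show a * 1 + b * 1 + c * 1 + d * 2 + e * 2 + f * 0 = _
    ring
  have h6 : tenc (tvec a b c d e f) (2, 0) = f := by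
    show ∑ k, tvec a b c d e f k * tbasis k (2, 0) = _
    rw [Fin.sum_univ_six]
    show a * 0 + b * 0 + c * 0 + d * 0 + e * 0 + f * 1 = _
    ring
  have h7 : tenc (tvec a b c d e f) (2, 1) = 2 * b + c + 2 * d + e + f := by
    show ∑ k, tvec a b c d e f k * tbasis k (2, 1) = _
    rw [Fin.sum_univ_six]
    show a * 0 + b * 2 + c * 1 + d * 2 + e * 1 + f * 1 = _
    ring
  have h8 : tenc (tvec a b c d e f) (2, 2) = a + 2 * b + d + 2 * e + f := by
    show ∑ k, tvec a b c d e f k * tbasis k (2, 2) = _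
    rw [Fin.sum_univ_six]
    show a * 1 + b * 2 + c * 0 + d * 1 + e * 2 + f * 1 = _
    ring
  have h9 : tenc (tvec a b c d e f) (3, 0) = a + 2 * b + 2 * c + 2 * d + 2 * f := by
    show ∑ k, tvec a b c d e f k * tbasis k (3, 0) = _
    rw [Fin.sum_univ_six]
    show a * 1 + b * 2 + c * 2 + d * 2 + e * 0 + f * 2 = _
    ring
  have h10 : tenc (tvec a b c d e f) (3, 1) = a + c + d + e + 2 * f := by
    show ∑ k, tvec a b c d e f k * tbasis k (3, 1) = _
    rw [Fin.sum_univ_six]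
    show a * 1 + b * 0 + c * 1 + d * 1 + e * 1 + f * 2 = _
    ring
  have h11 : tenc (tvec a b c d e f) (3, 2) = 2 * a + 2 * b + c + 2 * e + 2 * f := by
    show ∑ k, tvec a b c d e f k * tbasis k (3, 2) = _
    rw [Fin.sum_univ_six]
    show a * 2 + b * 2 + c * 1 + d * 0 + e * 2 + f * 2 = _
    ring
  simp only [tpts, tw, List.map_cons, List.map_nil, h0, h1, h2, h3, h4, h5, h6, h7, h8, h9, h10, h11]

theorem tpts_nodup : tpts.Nodup := by decide

theorem mem_tpts (p : ArrayPt) : p ∈ tpts := by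
  revert p; decide

theorem card_filter_eq_countP (P : ArrayPt → Prop) [DecidablePred P] :
    (Finset.univ.filter P).card = tpts.countP (fun p => decide (P p)) := by
  have : Finset.univ.filter P = (tpts.filter (fun p => decide (P p))).toFinset := by
    ext p
    simp [mem_tpts]
  rw [this, List.toFinset_card_of_nodup (tpts_nodup.filter _), List.countP_eq_length_filter]

theorem card_support_eq (x : ArrayPt → ZMod 3) :
    (ternarySupport x).card = (tpts.map x).countP (fun z => decide (z ≠ 0)) := by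
  unfold ternarySupport
  rw [card_filter_eq_countP, List.countP_map]
  rfl

def twt (a b c d e f : ZMod 3) : ℕ := (tw a b c d e f).countP (fun z => decide (z ≠ 0))

theorem card_support_tenc_tvec (a b c d e f : ZMod 3) :
    (ternarySupport (tenc (tvec a b c d e f))).card = twt a b c d e f := by
  rw [card_support_eq, map_tenc_tvec, twt]

set_option maxRecDepth 100000 in
theorem twt_vals : ∀ a b c d e f : ZMod 3, twt a b c d e f = 0 ∨ twt a b c d e f = 6 ∨
    twt a b c d e f = 9 ∨ twt a b c d e f = 12 := by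
  decide

theorem card_support_eq_zero_iff (x : ArrayPt → ZMod 3) : (ternarySupport x).card = 0 ↔ x = 0 := by
  unfold ternarySupport
  rw [Finset.card_eq_zero, Finset.filter_eq_empty_iff]
  constructor
  · intro h; funext p; simpa using h (Finset.mem_univ p)
  · rintro rfl p _; simp

theorem weight_tenc : ∀ c : Fin 6 → ZMod 3, tenc c ≠ 0 →
    ((ternarySupport (tenc c)).card = 6 ∨ (ternarySupport (tenc c)).card = 9 ∨
      (ternarySupport (tenc c)).card = 12) := by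
  rw [forall_tvec]
  intro a b c d e f h0
  rw [card_support_tenc_tvec]
  rcases twt_vals a b c d e f with h | h
  · exfalso
    apply h0
    rw [← card_support_eq_zero_iff, card_support_tenc_tvec, h]
  · exact h

theorem weight_of_mem {x : ArrayPt → ZMod 3} (hx : x ∈ ternaryGolayCode) (h0 : x ≠ 0) :
    (ternarySupport x).card = 6 ∨ (ternarySupport x).card = 9 ∨ (ternarySupport x).card = 12 := by
  obtain ⟨c, rfl⟩ := (mem_iff_exists x).mp hx
  exact weight_tenc c h0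

/-- explicit equivalence between 6-tuples and coefficient vectors -/
def tvecEquiv : (ZMod 3 × ZMod 3 × ZMod 3 × ZMod 3 × ZMod 3 × ZMod 3) ≃ (Fin 6 → ZMod 3) where
  toFun t := tvec t.1 t.2.1 t.2.2.1 t.2.2.2.1 t.2.2.2.2.1 t.2.2.2.2.2
  invFun c := (c 0, c 1, c 2, c 3, c 4, c 5)
  left_inv t := rfl
  right_inv c := by funext k; fin_cases k <;> rfl

theorem ncard_code_filter (P : (ArrayPt → ZMod 3) → Prop) [DecidablePred P] :
    {x : ArrayPt → ZMod 3 | x ∈ ternaryGolayCode ∧ P x}.ncard =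
      ∑ a : ZMod 3, ∑ b : ZMod 3, ∑ c : ZMod 3, ∑ d : ZMod 3, ∑ e : ZMod 3, ∑ f : ZMod 3,
        if P (tenc (tvec a b c d e f)) then 1 else 0 := by
  have h1 : {x : ArrayPt → ZMod 3 | x ∈ ternaryGolayCode ∧ P x} =
      tenc '' {c | P (tenc c)} := by
    ext x
    simp only [Set.mem_ofPred_eq, Set.mem_image, mem_iff_exists]
    constructor
    · rintro ⟨⟨c, rfl⟩, hp⟩; exact ⟨c, hp, rfl⟩
    · rintro ⟨c, hp, rfl⟩; exact ⟨⟨c, rfl⟩, hp⟩
  rw [h1, Set.ncard_image_of_injective _ tenc_injective]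
  rw [Set.ncard_eq_toFinset_card' {c | P (tenc c)}]
  simp only [Set.toFinset_ofPred]
  rw [Finset.card_filter]
  rw [← Fintype.sum_equiv tvecEquiv (fun t => if P (tenc (tvecEquiv t)) then 1 else 0) _ (fun _ => rfl)]
  simp only [Fintype.sum_prod_type]
  rfl

end Cfsg.Agent.Lib.Helper27
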