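import Cfsg.Agent.Lib.Helper27.TernaryGolay
import Cfsg.Agent.S1590

set_option autoImplicit false

namespace Cfsg.Agent.Lib.Helper27

open Cfsg

theorem mem_tsupp {x : ArrayPt → ZMod 3} {p : ArrayPt} : p ∈ ternarySupport x ↔ x p ≠ 0 := by
  simp [ternarySupport]

theorem tsupp_neg (x : ArrayPt → ZMod 3) : ternarySupport (-x) = ternarySupport x := by
  ext p; simp [mem_tsupp]

theorem z3_cases : ∀ a b : ZMod 3, a ≠ 0 → b ≠ 0 → b ≠ a → b = -a := by decide

/-- a codeword of weight less than six is zero -/
theorem eq_zero_of_card_lt {z : ArrayPt → ZMod 3} (hz : z ∈ ternaryGolayCode)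
    (h : (ternarySupport z).card < 6) : z = 0 := by
  by_contra h0
  rcases weight_of_mem hz h0 with h' | h' | h' <;> omega

/-- if `z` vanishes on a subset `A` of `S ∪ T` with `|S ∪ T| - |A| < 6`, `z` supported in `S ∪ T`, then `z = 0`. -/
theorem small_support {z : ArrayPt → ZMod 3} (hz : z ∈ ternaryGolayCode)
    (U A : Finset ArrayPt) (hAU : A ⊆ U) (hU : ternarySupport z ⊆ U \ A)
    (hc : U.card < A.card + 6) : z = 0 := by
  apply eq_zero_of_card_lt hz
  have h1 := Finset.card_le_card hU
  have h2 := Finset.card_sdiff_of_subset hAU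
  have h3 := Finset.card_le_card hAU
  omega

/-- Two weight-six codewords whose supports share five points are equal or opposite. -/
theorem eq_or_neg_of_inter {x y : ArrayPt → ZMod 3} (hx : x ∈ ternaryGolayCode)
    (hy : y ∈ ternaryGolayCode) (wx : (ternarySupport x).card = 6)
    (wy : (ternarySupport y).card = 6)
    (hI : 5 ≤ (ternarySupport x ∩ ternarySupport y).card) : y = x ∨ y = -x := by
  classical
  set S := ternarySupport x with hS
  set T := ternarySupport y with hT
  obtain ⟨A, hA⟩ : ∃ A, A = (S ∩ T).filter (fun p => y p = x p) := ⟨_, rfl⟩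
  obtain ⟨A', hA'⟩ : ∃ A', A' = (S ∩ T).filter (fun p => ¬ y p = x p) := ⟨_, rfl⟩
  have hcard : A.card + A'.card = (S ∩ T).card := by
    rw [hA, hA']; exact Finset.card_filter_add_card_filter_not _
  have hAI : A ⊆ S ∩ T := by rw [hA]; exact Finset.filter_subset _ _
  have hA'I : A' ⊆ S ∩ T := by rw [hA']; exact Finset.filter_subset _ _
  have hIU : S ∩ T ⊆ S ∪ T := fun p hp => Finset.mem_union_left _ (Finset.mem_inter.mp hp).1
  have hU : (S ∪ T).card + (S ∩ T).card = 12 := by
    have := Finset.card_union_add_card_inter S T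
    omega
  by_cases h3 : 3 ≤ A.card
  · left
    have hz : y - x ∈ ternaryGolayCode := Submodule.sub_mem _ hy hx
    have : y - x = 0 := by
      apply small_support hz (S ∪ T) A (hAI.trans hIU) _ (by omega)
      intro p hp
      rw [mem_tsupp] at hp
      rw [Finset.mem_sdiff, Finset.mem_union, hS, hT, mem_tsupp, mem_tsupp]
      refine ⟨?_, ?_⟩
      · by_contra hcon
        push Not at hcon
        apply hp
        simp [hcon.1, hcon.2]
      · intro hpA
        apply hp
        rw [hA] at hpA
        have := (Finset.mem_filter.mp hpA).2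
        simp [this]
    exact sub_eq_zero.mp this
  · right
    have h3' : 3 ≤ A'.card := by omega
    have hz : y + x ∈ ternaryGolayCode := Submodule.add_mem _ hy hx
    have : y + x = 0 := by
      apply small_support hz (S ∪ T) A' (hA'I.trans hIU) _ (by omega)
      intro p hp
      rw [mem_tsupp] at hp
      rw [Finset.mem_sdiff, Finset.mem_union, hS, hT, mem_tsupp, mem_tsupp]
      refine ⟨?_, ?_⟩
      · by_contra hcon
        push Not at hcon
        apply hp
        simp [hcon.1, hcon.2]
      · intro hpA
        apply hp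
        rw [hA'] at hpA
        have hm := Finset.mem_filter.mp hpA
        have hpI := Finset.mem_inter.mp hm.1
        rw [hS, mem_tsupp] at hpI
        have hpT := hpI.2
        rw [hT, mem_tsupp] at hpT
        have := z3_cases (x p) (y p) hpI.1 hpT hm.2
        simp [this]
    exact eq_neg_of_add_eq_zero_left this


open Classical in
/-- the weight six codewords -/
noncomputable def W6 : Finset (ArrayPt → ZMod 3) :=
  Finset.univ.filter (fun x => x ∈ ternaryGolayCode ∧ (ternarySupport x).card = 6)

/-- the hexads: supports of weight six codewords -/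
noncomputable def hexads : Finset (Finset ArrayPt) := W6.image ternarySupport

theorem mem_W6 {x : ArrayPt → ZMod 3} :
    x ∈ W6 ↔ x ∈ ternaryGolayCode ∧ (ternarySupport x).card = 6 := by
  classical
  simp [W6]

theorem card_W6 : W6.card = 264 := by
  classical
  have h := Cfsg.Agent.S1590.result.2.2.1
  rw [Set.ncard_eq_toFinset_card' ] at h
  rw [← h]
  congr 1
  ext x
  simp [mem_W6]

theorem mem_hexads {h : Finset ArrayPt} :
    h ∈ hexads ↔ ∃ x ∈ ternaryGolayCode, ternarySupport x = h ∧ h.card = 6 := by
  simp only [hexads, Finset.mem_image, mem_W6]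
  constructor
  · rintro ⟨x, ⟨hx, hw⟩, rfl⟩; exact ⟨x, hx, rfl, hw⟩
  · rintro ⟨x, hx, rfl, hw⟩; exact ⟨x, ⟨hx, hw⟩, rfl⟩

theorem neg_ne_self {x : ArrayPt → ZMod 3} (hw : (ternarySupport x).card = 6) : -x ≠ x := by
  intro h
  have : x = 0 := by
    funext p
    have hp := congrFun h p
    simp only [Pi.neg_apply, Pi.zero_apply] at hp ⊢
    revert hp
    generalize x p = a
    revert a
    decide
  rw [this] at hw
  simp [ternarySupport] at hw

theorem fiber_eq {x : ArrayPt → ZMod 3} (hx : x ∈ W6) :
    W6.filter (fun y => ternarySupport y = ternarySupport x) = {x, -x} := by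
  classical
  ext y
  simp only [Finset.mem_filter, Finset.mem_insert, Finset.mem_singleton]
  rw [mem_W6] at hx
  constructor
  · rintro ⟨hy, hs⟩
    rw [mem_W6] at hy
    apply eq_or_neg_of_inter hx.1 hy.1 hx.2 hy.2
    rw [hs, Finset.inter_self, hx.2]
    norm_num
  · rintro (rfl | rfl)
    · exact ⟨mem_W6.mpr hx, rfl⟩
    · refine ⟨mem_W6.mpr ⟨Submodule.neg_mem _ hx.1, ?_⟩, tsupp_neg x⟩
      rw [tsupp_neg]; exact hx.2

theorem card_hexads : hexads.card = 132 := by
  classical
  have h1 := Finset.card_eq_sum_card_image ternarySupport W6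
  have h2 : ∀ b ∈ W6.image ternarySupport, (W6.filter (fun y => ternarySupport y = b)).card = 2 := by
    intro b hb
    obtain ⟨x, hx, rfl⟩ := Finset.mem_image.mp hb
    rw [fiber_eq hx, Finset.card_pair]
    exact (neg_ne_self (mem_W6.mp hx).2).symm
  rw [Finset.sum_congr rfl h2, Finset.sum_const, card_W6, smul_eq_mul] at h1
  unfold hexads
  omega

theorem card_of_mem_hexads {h : Finset ArrayPt} (hh : h ∈ hexads) : h.card = 6 := by
  obtain ⟨x, _, _, hc⟩ := mem_hexads.mp hh
  exact hc

/-- two hexads sharing a five-set are equal -/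
theorem hexads_unique {h h' s : Finset ArrayPt} (hh : h ∈ hexads) (hh' : h' ∈ hexads)
    (hs : s.card = 5) (h1 : s ⊆ h) (h2 : s ⊆ h') : h = h' := by
  obtain ⟨x, hx, rfl, wx⟩ := mem_hexads.mp hh
  obtain ⟨y, hy, rfl, wy⟩ := mem_hexads.mp hh'
  have hI : 5 ≤ (ternarySupport x ∩ ternarySupport y).card := by
    rw [← hs]
    exact Finset.card_le_card (Finset.subset_inter h1 h2)
  rcases eq_or_neg_of_inter hx hy wx wy hI with rfl | rfl
  · rfl
  · rw [tsupp_neg]

/-- every five-set lies in a hexad -/
theorem hexads_exists {s : Finset ArrayPt} (hs : s.card = 5) : ∃ h ∈ hexads, s ⊆ h := by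
  classical
  set F := hexads.biUnion (fun b => b.powersetCard 5) with hF
  have hdisj : (hexads : Set (Finset ArrayPt)).PairwiseDisjoint (fun b => b.powersetCard 5) := by
    intro b hb b' hb' hne
    rw [Function.onFun, Finset.disjoint_left]
    intro t ht ht'
    rw [Finset.mem_powersetCard] at ht ht'
    exact hne (hexads_unique hb hb' ht.2 ht.1 ht'.1)
  have hcardF : F.card = 792 := by
    rw [hF, Finset.card_biUnion hdisj]
    have : ∀ b ∈ hexads, (b.powersetCard 5).card = 6 := by
      intro b hb
      rw [Finset.card_powersetCard, card_of_mem_hexads hb]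
      rfl
    rw [Finset.sum_congr rfl this, Finset.sum_const, card_hexads]
    rfl
  have hsub : F ⊆ (Finset.univ : Finset ArrayPt).powersetCard 5 := by
    intro t ht
    rw [hF, Finset.mem_biUnion] at ht
    obtain ⟨b, _, htb⟩ := ht
    rw [Finset.mem_powersetCard] at htb ⊢
    exact ⟨Finset.subset_univ _, htb.2⟩
  have hcardU : ((Finset.univ : Finset ArrayPt).powersetCard 5).card = 792 := by
    rw [Finset.card_powersetCard]
    simp only [Finset.card_univ, Fintype.card_prod, Fintype.card_fin, ZMod.card]
    rfl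
  have heq : F = (Finset.univ : Finset ArrayPt).powersetCard 5 :=
    Finset.eq_of_subset_of_card_le hsub (by rw [hcardF, hcardU])
  have hsF : s ∈ F := by
    rw [heq, Finset.mem_powersetCard]
    exact ⟨Finset.subset_univ _, hs⟩
  rw [hF, Finset.mem_biUnion] at hsF
  obtain ⟨b, hb, hsb⟩ := hsF
  exact ⟨b, hb, (Finset.mem_powersetCard.mp hsb).1⟩

end Cfsg.Agent.Lib.Helper27
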