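import Mathlib
import Cfsg.Prelude.Def_ClassicalGeometry
import Cfsg.Prelude.Def_GeometricClasses
import Cfsg.Agent.Lib.Helper99.SympForm
import Cfsg.Agent.Lib.Helper59.TqDefs
import Cfsg.Agent.Lib.Helper43.Witt
import Cfsg.Agent.Lib.Helper79.TsSplit

/-! # TQ-WITT (helper27, for helper59's Tq hive S5973 + S5987)

Totally singular subspaces of a nondegenerate even-dimensional quadratic space over a finite field
(`exists_ts_of_nd`), and the bound in the non-plus case (`ts_bound_of_not_plus`). -/

set_option autoImplicit false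

namespace Cfsg.Agent.Lib.Helper59.Tq

open Module
open Cfsg.Agent.Lib.Helper99

section tools

universe u

variable {F : Type u} [Field F] {V : Type u} [AddCommGroup V] [Module F V] [FiniteDimensional F V]

omit [FiniteDimensional F V] in
/-- a totally singular subspace is totally isotropic for the polar form -/
theorem witt_ti_of_ts (Q : QuadraticForm F V) {U : Submodule F V} (hU : ∀ u ∈ U, Q u = 0) :
    Cfsg.Agent.Lib.Helper48.Ti.TI (QuadraticMap.polarBilin Q) U := by
  intro u hu v hv
  show QuadraticMap.polar Q u v = 0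
  unfold QuadraticMap.polar
  rw [hU _ (U.add_mem hu hv), hU u hu, hU v hv]
  simp

omit [FiniteDimensional F V] in
/-- the span of pairwise orthogonal singular vectors is totally singular -/
theorem witt_ts_span {κ : Type*} (Q : QuadraticForm F V) (v : κ → V) (hs : ∀ i, Q (v i) = 0)
    (ho : ∀ i j, QuadraticMap.polar Q (v i) (v j) = 0) :
    ∀ u ∈ Submodule.span F (Set.range v), Q u = 0 := by
  have h1 : ∀ x ∈ Submodule.span F (Set.range v), ∀ j, QuadraticMap.polar Q x (v j) = 0 := by
    intro x hx j
    have hle : Submodule.span F (Set.range v) ≤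
        LinearMap.ker ((QuadraticMap.polarBilin Q).flip (v j)) := by
      rw [Submodule.span_le]
      rintro _ ⟨i, rfl⟩
      exact LinearMap.mem_ker.2 (ho i j)
    exact LinearMap.mem_ker.1 (hle hx)
  have h2 : ∀ x ∈ Submodule.span F (Set.range v), ∀ y ∈ Submodule.span F (Set.range v),
      QuadraticMap.polar Q x y = 0 := by
    intro x hx y hy
    have hle : Submodule.span F (Set.range v) ≤ LinearMap.ker (QuadraticMap.polarBilin Q x) := by
      rw [Submodule.span_le]
      rintro _ ⟨j, rfl⟩
      exact LinearMap.mem_ker.2 (h1 x hx j)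
    exact LinearMap.mem_ker.1 (hle hy)
  intro u hu
  induction hu using Submodule.span_induction with
  | mem x hx =>
    obtain ⟨i, rfl⟩ := hx
    exact hs i
  | zero => exact QuadraticMap.map_zero Q
  | add x y hx hy hQx hQy =>
    have := h2 x hx y hy
    unfold QuadraticMap.polar at this
    rw [hQx, hQy, sub_zero, sub_zero] at this
    exact this
  | smul c x hx hQx =>
    rw [QuadraticMap.map_smul, hQx, smul_zero]

omit [FiniteDimensional F V] in
/-- an initial segment of a linearly independent family spans a subspace of the right dimension -/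
theorem witt_finrank_span {k : ℕ} (v : Fin k → V) (hv : LinearIndependent F v) (a : ℕ)
    (ha : a ≤ k) :
    finrank F (Submodule.span F (Set.range (fun i : Fin a => v (Fin.castLE ha i)))) = a := by
  have hli : LinearIndependent F (fun i : Fin a => v (Fin.castLE ha i)) :=
    hv.comp _ (Fin.castLE_injective ha)
  rw [finrank_span_eq_card hli, Fintype.card_fin]

/-- TQ-WITT (1): totally singular subspaces of a nondegenerate even-dimensional space over a finite
field: every dimension `a` with `2 a + 2 ≤ dim`, and every `a` with `2 a ≤ dim` in the plus case. -/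
theorem exists_ts_of_nd [Finite F] (Q : QuadraticForm F V) {Z : Submodule F V}
    (hZ : Nd (QuadraticMap.polarBilin Q) Z) (hev : Even (finrank F Z)) (a : ℕ)
    (ha : 2 * a + 2 ≤ finrank F Z ∨ (PlusOn Q Z ∧ 2 * a ≤ finrank F Z)) :
    ∃ U : Submodule F V, U ≤ Z ∧ (∀ u ∈ U, Q u = 0) ∧ finrank F U = a := by
  rcases ha with ha | ⟨⟨U₀, hU₀Z, hU₀, hU₀d⟩, ha⟩
  · obtain ⟨k, e, f, W, h1, h2, h3, -, h5, h6, -, -⟩ :=
      Cfsg.Agent.Lib.Helper43.witt_decomp (F := F) (finrank F Z) Z (Q.comp Z.subtype) rfl
        (Cfsg.Agent.Lib.Helper43.nondegenerate_comp_subtype Q Z (fun w hw h => hZ w hw h))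
    have hak : a ≤ k := by omega
    have hli : LinearIndependent F (fun i : Fin k => ((e i : Z) : V)) := by
      have h0 : LinearIndependent F e := by
        refine Cfsg.Agent.Lib.Helper43.linearIndependent_of_dual (Q.comp Z.subtype) e f ?_
        intro j l
        rw [QuadraticMap.polar_comm, h2 l j]
        simp only [eq_comm]
      exact h0.map' Z.subtype (Submodule.ker_subtype Z)
    refine ⟨Submodule.span F (Set.range (fun i : Fin a => ((e (Fin.castLE hak i) : Z) : V))),
      ?_, ?_, ?_⟩
    · rw [Submodule.span_le]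
      rintro _ ⟨i, rfl⟩
      exact (e (Fin.castLE hak i)).2
    · apply witt_ts_span Q
      · intro i
        exact (h1 (Fin.castLE hak i)).1
      · intro i j
        exact (h3 (Fin.castLE hak i) (Fin.castLE hak j)).1
    · exact witt_finrank_span (fun i : Fin k => ((e i : Z) : V)) hli a hak
  · have hak : a ≤ finrank F U₀ := by omega
    have hli : LinearIndependent F (fun i : Fin (finrank F U₀) => ((finBasis F U₀ i : U₀) : V)) :=
      (finBasis F U₀).linearIndependent.map' U₀.subtype (Submodule.ker_subtype U₀)
    have hle : Submodule.span F (Set.range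
        (fun i : Fin a => ((finBasis F U₀ (Fin.castLE hak i) : U₀) : V))) ≤ U₀ := by
      rw [Submodule.span_le]
      rintro _ ⟨i, rfl⟩
      exact (finBasis F U₀ (Fin.castLE hak i)).2
    refine ⟨Submodule.span F (Set.range
      (fun i : Fin a => ((finBasis F U₀ (Fin.castLE hak i) : U₀) : V))), hle.trans hU₀Z,
      fun u hu => hU₀ u (hle hu), ?_⟩
    exact witt_finrank_span (fun i : Fin (finrank F U₀) => ((finBasis F U₀ i : U₀) : V)) hli a hak

/-- TQ-WITT (2): in a space that is not of plus type a t.s. subspace has dimension `< dim / 2` -/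
theorem ts_bound_of_not_plus (Q : QuadraticForm F V) {Z U : Submodule F V}
    (hZ : Nd (QuadraticMap.polarBilin Q) Z) (hev : Even (finrank F Z)) (hUZ : U ≤ Z)
    (hU : ∀ u ∈ U, Q u = 0) (hnp : ¬ PlusOn Q Z) : 2 * finrank F U + 2 ≤ finrank F Z := by
  have h1 := Cfsg.Agent.Lib.Helper79.TsSwap.ti_bound_refl (B := QuadraticMap.polarBilin Q)
    (fun u v h => by
      show QuadraticMap.polar Q v u = 0
      rw [QuadraticMap.polar_comm]
      exact h) hZ hUZ (witt_ti_of_ts Q hU)
  by_contra hcon
  apply hnp
  refine ⟨U, hUZ, hU, ?_⟩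
  obtain ⟨k, hk⟩ := hev
  omega

end tools

end Cfsg.Agent.Lib.Helper59.Tq
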