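import Mathlib
import Cfsg.Prelude.Def_Classical
import Cfsg.Prelude.Def_LieClassical
import Cfsg.Agent.Lib.Helper14.TuDefs
import Cfsg.Agent.Lib.Helper21.TuSUM

/-!
# TU-D2A-STEP (helper27, for helper14's S5953 "Tu" hive): adding a block with coprime minimal polynomial
-/

set_option autoImplicit false

namespace Cfsg.Agent.Lib.Helper14.Tu

open Cfsg.Agent.Lib.Helper40.Herm Cfsg.Agent.Lib.Helper2.BG Polynomial Module Matrix

section aux
variable {F : Type*} [Field F]

theorem d2astep_add {a b : ℕ} (A A' : Matrix (Fin a) (Fin a) F) (B B' : Matrix (Fin b) (Fin b) F) :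
    sum_blk (A + A') (B + B') = sum_blk A B + sum_blk A' B' := by
  unfold sum_blk
  simp only [Matrix.reindex_apply]
  have h : Matrix.fromBlocks (A + A') 0 0 (B + B') =
      Matrix.fromBlocks A 0 0 B + Matrix.fromBlocks A' 0 0 B' := by
    rw [Matrix.fromBlocks_add, add_zero, add_zero]
  rw [h]
  ext i j
  simp only [Matrix.submatrix_apply, Matrix.add_apply]

theorem d2astep_smul {a b : ℕ} (c : F) (A : Matrix (Fin a) (Fin a) F) (B : Matrix (Fin b) (Fin b) F) :
    sum_blk (c • A) (c • B) = c • sum_blk A B := by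
  unfold sum_blk
  simp only [Matrix.reindex_apply]
  have h : Matrix.fromBlocks (c • A) 0 0 (c • B) = c • Matrix.fromBlocks A 0 0 B := by
    rw [Matrix.fromBlocks_smul, smul_zero, smul_zero]
  rw [h]
  ext i j
  simp only [Matrix.submatrix_apply, Matrix.smul_apply]

theorem d2astep_zero {a b : ℕ} :
    sum_blk (0 : Matrix (Fin a) (Fin a) F) (0 : Matrix (Fin b) (Fin b) F) = 0 := by
  unfold sum_blk
  simp only [Matrix.reindex_apply]
  rw [Matrix.fromBlocks_zero, Matrix.submatrix_zero]
  rfl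

theorem d2astep_pow {a b : ℕ} (A : Matrix (Fin a) (Fin a) F) (B : Matrix (Fin b) (Fin b) F) (n : ℕ) :
    sum_blk A B ^ n = sum_blk (A ^ n) (B ^ n) := by
  induction n with
  | zero => rw [pow_zero, pow_zero, pow_zero, sum_blk_one]
  | succ n ih => rw [pow_succ, pow_succ, pow_succ, ih, sum_blk_mul]

/-- polynomials in a block sum -/
theorem d2astep_aeval {a b : ℕ} (A : Matrix (Fin a) (Fin a) F) (B : Matrix (Fin b) (Fin b) F)
    (f : F[X]) : aeval (sum_blk A B) f = sum_blk (aeval A f) (aeval B f) := by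
  induction f using Polynomial.induction_on' with
  | add p q hp hq => rw [map_add, map_add, map_add, hp, hq, d2astep_add]
  | monomial n c =>
    rw [aeval_monomial, aeval_monomial, aeval_monomial, d2astep_pow,
      Algebra.algebraMap_eq_smul_one, Algebra.algebraMap_eq_smul_one,
      Algebra.algebraMap_eq_smul_one, smul_mul_assoc, smul_mul_assoc, smul_mul_assoc, one_mul,
      one_mul, one_mul, d2astep_smul]

/-- `toLin'` commutes with polynomial evaluation -/
theorem d2astep_toLin_aeval {n : ℕ} (M : Matrix (Fin n) (Fin n) F) (f : F[X]) :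
    Matrix.toLin' (aeval M f) = aeval (Matrix.toLin' M) f := by
  have h := Polynomial.aeval_algHom_apply
    (Matrix.toLinAlgEquiv' : Matrix (Fin n) (Fin n) F ≃ₐ[F] _).toAlgHom M f
  exact h.symm

end aux

section top
variable {F : Type*} [Field F] [Fintype F] {p : ℕ} [Fact p.Prime] [CharP F p] {q : ℕ}

set_option linter.unusedSectionVars false in
/-- TU-D2A-STEP. -/
theorem d2a_step {b n' : ℕ} (U : Matrix (Fin b) (Fin b) F) (A : Matrix (Fin n') (Fin n') F) (Q : F[X])
    (hQ : aeval A Q = 0) (hcop : IsCoprime (minpoly F U) Q)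
    (hU0 : ∀ W : Submodule F (Fin b → F), W.map (Matrix.toLin' U) ≤ W →
      (∀ v ∈ W, ∀ w ∈ W, Cfsg.hermForm b F q v w = 0) → W = ⊥)
    (k : ℕ)
    (hA : ∀ W : Submodule F (Fin n' → F), W.map (Matrix.toLin' A) ≤ W →
      (∀ v ∈ W, ∀ w ∈ W, Cfsg.hermForm n' F q v w = 0) → 2 * finrank F ↥W ≤ k) :
    aeval (sum_blk U A) (minpoly F U * Q) = 0 ∧
    ∀ W : Submodule F (Fin (b + n') → F), W.map (Matrix.toLin' (sum_blk U A)) ≤ W →
      (∀ v ∈ W, ∀ w ∈ W, Cfsg.hermForm (b + n') F q v w = 0) → 2 * finrank F ↥W ≤ k := by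
  classical
  constructor
  · rw [d2astep_aeval, map_mul, map_mul, minpoly.aeval, hQ, zero_mul, mul_zero, d2astep_zero]
  intro W hWinv hWiso
  obtain ⟨a, c, hac⟩ := hcop
  -- the projection onto the first block is a polynomial in the block sum
  have hE : aeval (sum_blk U A) (c * Q) = sum_blk (1 : Matrix (Fin b) (Fin b) F) 0 := by
    rw [d2astep_aeval]
    congr 1
    · have h1 := congrArg (aeval U) hac
      rw [map_add, map_mul, map_mul, minpoly.aeval, mul_zero, zero_add, map_one] at h1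
      rw [map_mul]
      exact h1
    · rw [map_mul, hQ, mul_zero]
  have hWI : Inv (Matrix.toLin' (sum_blk U A)) W := (inv_iff_map_le _ W).2 hWinv
  have hEW : ∀ w ∈ W, (sum_blk (1 : Matrix (Fin b) (Fin b) F) (0 : Matrix (Fin n') (Fin n') F)) *ᵥ w ∈ W := by
    intro w hw
    have h1 := hWI.aeval (c * Q) w hw
    rw [← d2astep_toLin_aeval, hE, Matrix.toLin'_apply] at h1
    exact h1
  set π₁ : (Fin (b + n') → F) →ₗ[F] (Fin b → F) := LinearMap.funLeft F F (Fin.castAdd n') with hπ₁
  set π₂ : (Fin (b + n') → F) →ₗ[F] (Fin n' → F) := LinearMap.funLeft F F (Fin.natAdd b) with hπ₂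
  have hπ₁a : ∀ w, π₁ w = fun j => w (Fin.castAdd n' j) := fun w => rfl
  have hπ₂a : ∀ w, π₂ w = fun j => w (Fin.natAdd b j) := fun w => rfl
  have hform : ∀ x y : Fin (b + n') → F, Cfsg.hermForm (b + n') F q x y =
      Cfsg.hermForm b F q (π₁ x) (π₁ y) + Cfsg.hermForm n' F q (π₂ x) (π₂ y) := by
    intro x y
    rw [sum_hermForm_add]
    rfl
  have hzero : ∀ y : Fin n' → F, Cfsg.hermForm n' F q 0 y = 0 := by
    intro y
    unfold Cfsg.hermForm
    simp
  -- the first components vanish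
  have hW₁ : W.map π₁ = ⊥ := by
    apply hU0
    · rintro _ ⟨_, ⟨w, hw, rfl⟩, rfl⟩
      refine ⟨(sum_blk U A) *ᵥ w, ?_, ?_⟩
      · have := hWinv (Submodule.mem_map_of_mem (f := Matrix.toLin' (sum_blk U A)) hw)
        rwa [Matrix.toLin'_apply] at this
      · rw [Matrix.toLin'_apply, hπ₁a, hπ₁a]
        funext j
        exact sum_blk_mulVec_castAdd U A w j
    · rintro _ ⟨w, hw, rfl⟩ _ ⟨w', hw', rfl⟩
      have h1 := hWiso _ (hEW w hw) w' hw'
      rw [hform] at h1
      have h2 : π₁ ((sum_blk (1 : Matrix (Fin b) (Fin b) F) (0 : Matrix (Fin n') (Fin n') F)) *ᵥ w) =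
          π₁ w := by
        rw [hπ₁a, hπ₁a]
        funext j
        rw [sum_blk_mulVec_castAdd, Matrix.one_mulVec]
      have h3 : π₂ ((sum_blk (1 : Matrix (Fin b) (Fin b) F) (0 : Matrix (Fin n') (Fin n') F)) *ᵥ w) =
          0 := by
        rw [hπ₂a]
        funext j
        rw [sum_blk_mulVec_natAdd, Matrix.zero_mulVec]
      rw [h2, h3, hzero, add_zero] at h1
      exact h1
  have hπ₁W : ∀ w ∈ W, π₁ w = 0 := by
    intro w hw
    have : π₁ w ∈ W.map π₁ := Submodule.mem_map_of_mem hw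
    rw [hW₁, Submodule.mem_bot] at this
    exact this
  -- the second components
  have hW₂ : 2 * finrank F ↥(W.map π₂) ≤ k := by
    apply hA
    · rintro _ ⟨_, ⟨w, hw, rfl⟩, rfl⟩
      refine ⟨(sum_blk U A) *ᵥ w, ?_, ?_⟩
      · have := hWinv (Submodule.mem_map_of_mem (f := Matrix.toLin' (sum_blk U A)) hw)
        rwa [Matrix.toLin'_apply] at this
      · rw [Matrix.toLin'_apply, hπ₂a, hπ₂a]
        funext j
        exact sum_blk_mulVec_natAdd U A w j
    · rintro _ ⟨w, hw, rfl⟩ _ ⟨w', hw', rfl⟩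
      have h1 := hWiso w hw w' hw'
      rw [hform, hπ₁W w hw] at h1
      have hzero' : ∀ y : Fin b → F, Cfsg.hermForm b F q 0 y = 0 := by
        intro y
        unfold Cfsg.hermForm
        simp
      rw [hzero', zero_add] at h1
      exact h1
  -- `π₂` is injective on `W`
  have hle : finrank F ↥W ≤ finrank F ↥(W.map π₂) := by
    let φ : ↥W →ₗ[F] ↥(W.map π₂) :=
      (π₂.domRestrict W).codRestrict (W.map π₂) (fun w => Submodule.mem_map_of_mem w.2)
    apply LinearMap.finrank_le_finrank_of_injective (f := φ)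
    rw [← LinearMap.ker_eq_bot, LinearMap.ker_eq_bot']
    intro w hw
    have h2 : π₂ (w : Fin (b + n') → F) = 0 := by
      have := congrArg (fun x : ↥(W.map π₂) => (x : Fin n' → F)) hw
      exact this
    have h1 : π₁ (w : Fin (b + n') → F) = 0 := hπ₁W w w.2
    apply Subtype.ext
    funext i
    refine Fin.addCases (fun j => ?_) (fun j => ?_) i
    · exact congrFun h1 j
    · exact congrFun h2 j
  omega

end top

end Cfsg.Agent.Lib.Helper14.Tu
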