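import Mathlib
import Cfsg.Prelude.Def_Classical
import Cfsg.Prelude.Def_LieClassical
import Cfsg.Agent.Lib.Helper14.TuDefs
import Cfsg.Agent.Lib.Helper55.TuPEEL
import Cfsg.Agent.Lib.Helper53.TuB

/-!
# TU-GB (helper27, for helper14's S5953 "Tu" hive): GOOD, type B

`g ^ r = z`, `X ^ r - z` irreducible: totally isotropic invariant subspaces of every dimension `m ≤ n/2`
divisible by `r` inside a nondegenerate invariant subspace.
-/

set_option autoImplicit false

namespace Cfsg.Agent.Lib.Helper14.Tu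

open Cfsg.Agent.Lib.Helper40.Herm Cfsg.Agent.Lib.Helper2.BG Polynomial Module

section abs
variable {F : Type*} [Field F] [Fintype F] {q : ℕ} {hF : Fintype.card F = q ^ 2}
  {V : Type*} [AddCommGroup V] [Module F V] [FiniteDimensional F V]
  {H : V →ₗ[F] V →ₛₗ[tauHom hF] F} {g : Module.End F V} {N : ℕ}

omit [Fintype F] [FiniteDimensional F V] in
/-- `X ^ r - C z` kills `g` -/
theorem gb_kill (r : ℕ) (z : F) (hz : g ^ r = z • (1 : Module.End F V)) (v : V) :
    aeval g (X ^ r - C z : F[X]) v = 0 := by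
  rw [map_sub, map_pow, aeval_X, aeval_C, hz, Algebra.algebraMap_eq_smul_one, sub_self]
  rfl

omit [Fintype F] in
/-- all irreducible factors of an irreducible polynomial have its degree -/
theorem gb_allIrrDeg (r : ℕ) (z : F) (hirr : Irreducible (X ^ r - C z : F[X])) :
    AllIrrDeg (X ^ r - C z : F[X]) r := by
  intro g' hg' hdvd
  have hassoc : Associated g' (X ^ r - C z : F[X]) := hg'.associated_of_dvd hirr hdvd
  rw [Polynomial.natDegree_eq_of_degree_eq (Polynomial.degree_eq_degree_of_associated hassoc),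
    natDegree_X_pow_sub_C]

omit [Fintype F] [FiniteDimensional F V] in
/-- `g` is semisimple -/
theorem gb_ss (r : ℕ) (z : F) (hz : g ^ r = z • (1 : Module.End F V))
    (hirr : Irreducible (X ^ r - C z : F[X])) : g.IsSemisimple := by
  apply Module.End.isSemisimple_of_squarefree_aeval_eq_zero hirr.squarefree
  apply LinearMap.ext
  intro v
  rw [gb_kill r z hz v]
  rfl

omit [Fintype F] in
/-- an invariant subspace of dimension `r` is minimal -/
theorem gb_minimal (r : ℕ) (hr0 : 0 < r) (z : F) (hz : g ^ r = z • (1 : Module.End F V))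
    (hirr : Irreducible (X ^ r - C z : F[X])) {Y : Submodule F V} (hYr : finrank F ↥Y = r)
    (Y' : Submodule F V) (hle : Y' ≤ Y) (hY'i : Inv g Y') : Y' = ⊥ ∨ Y' = Y := by
  have hdvd : r ∣ finrank F ↥Y' :=
    dvd_finrank_of_inv (gb_ss r z hz hirr) hirr.ne_zero (gb_allIrrDeg r z hirr) _ Y' rfl hY'i
      (fun v _ => gb_kill r z hz v)
  have hmono : finrank F ↥Y' ≤ r := by
    rw [← hYr]
    exact Submodule.finrank_mono hle
  obtain ⟨k, hk⟩ := hdvd
  rcases Nat.eq_zero_or_pos k with rfl | hkpos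
  · left
    rw [mul_zero] at hk
    exact Submodule.finrank_eq_zero.1 hk
  · right
    have hk1 : k = 1 := by
      by_contra hne
      have h2 : 2 ≤ k := by omega
      have : r * 2 ≤ r * k := Nat.mul_le_mul_left r h2
      omega
    rw [hk1, mul_one] at hk
    exact Submodule.eq_of_le_of_finrank_eq hle (by rw [hk, hYr])

omit [FiniteDimensional F V] in
/-- an invariant subspace that is minimal and not totally isotropic is nondegenerate -/
theorem gb_nondeg_of_not_iso (hc : Ctx hF H g N) {Y : Submodule F V} (hYi : Inv g Y)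
    (hmin : ∀ Y' : Submodule F V, Y' ≤ Y → Inv g Y' → Y' = ⊥ ∨ Y' = Y)
    (hni : ¬ HIsotropic H Y) : HNondegOn H Y := by
  have hRi : Inv g (Y ⊓ hperp H Y) :=
    hYi.inf (hperp_invt hc.inv hc.pos hc.pow Y hYi)
  rcases hmin (Y ⊓ hperp H Y) inf_le_left hRi with h | h
  · intro x hx hxy
    have hxR : x ∈ Y ⊓ hperp H Y := Submodule.mem_inf.2 ⟨hx, hxy⟩
    rw [h, Submodule.mem_bot] at hxR
    exact hxR
  · exfalso
    apply hni
    intro x hx y hy
    have hxR : x ∈ Y ⊓ hperp H Y := by rw [h]; exact hx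
    exact (Submodule.mem_inf.1 hxR).2 y hy

/-- the basic block: a totally isotropic invariant `r`-dimensional subspace of a nondegenerate invariant
subspace of dimension `≥ 2 r` -/
theorem gb_block (hc : Ctx hF H g N) (r : ℕ) (hr : r.Prime) (z : F)
    (hz : g ^ r = z • (1 : Module.End F V)) (hirr : Irreducible (X ^ r - C z : F[X]))
    {Z : Submodule F V} (hZi : Inv g Z) (hZ : HNondegOn H Z) (hbig : 2 * r ≤ finrank F ↥Z) :
    ∃ Y : Submodule F V, Y ≤ Z ∧ Inv g Y ∧ HIsotropic H Y ∧ finrank F ↥Y = r := by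
  have hr0 : 0 < r := hr.pos
  have hP0 : (X ^ r - C z : F[X]) ≠ 0 := hirr.ne_zero
  have hall := gb_allIrrDeg r z hirr
  have hne_of_pos : ∀ W : Submodule F V, 0 < finrank F ↥W → W ≠ ⊥ := by
    intro W hW h
    rw [h, finrank_bot] at hW
    exact lt_irrefl _ hW
  -- the first minimal subspace
  obtain ⟨-, Y₁, hY₁Z, hY₁i, hY₁r⟩ := exists_inv_finrank_eq g hP0 hall hZi
    (fun v _ => gb_kill r z hz v) (hne_of_pos Z (by omega))
  have hmin₁ := gb_minimal r hr0 z hz hirr hY₁r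
  by_cases hiso₁ : HIsotropic H Y₁
  · exact ⟨Y₁, hY₁Z, hY₁i, hiso₁, hY₁r⟩
  have hnd₁ : HNondegOn H Y₁ := gb_nondeg_of_not_iso hc hY₁i hmin₁ hiso₁
  obtain ⟨hZ₂i, hZ₂, -, -, hZ₂r⟩ := split hc hZi hZ hY₁i hY₁Z hnd₁
  -- the second minimal subspace
  obtain ⟨-, Y₂, hY₂Z, hY₂i, hY₂r⟩ := exists_inv_finrank_eq g hP0 hall hZ₂i
    (fun v _ => gb_kill r z hz v) (hne_of_pos _ (by omega))
  have hmin₂ := gb_minimal r hr0 z hz hirr hY₂r
  by_cases hiso₂ : HIsotropic H Y₂
  · exact ⟨Y₂, hY₂Z.trans inf_le_left, hY₂i, hiso₂, hY₂r⟩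
  have hnd₂ : HNondegOn H Y₂ := gb_nondeg_of_not_iso hc hY₂i hmin₂ hiso₂
  have horth : ∀ u ∈ Y₁, ∀ v ∈ Y₂, H u v = 0 := by
    intro u hu v hv
    have hv' : v ∈ hperp H Y₁ := (Submodule.mem_inf.1 (hY₂Z hv)).2
    exact herm_swap hc.herm (hv' u hu)
  obtain ⟨Y, hYle, hYi, hYiso, hYr⟩ := exists_isotropic_of_pair hc hY₁i hY₂i hnd₁ hnd₂
    (hne_of_pos _ (by omega)) (hne_of_pos _ (by omega)) hmin₁ hmin₂ horth
    (X ^ r - C z : F[X]) hirr (fun v _ => gb_kill r z hz v) (fun v _ => gb_kill r z hz v)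
  exact ⟨Y, hYle.trans (sup_le hY₁Z (hY₂Z.trans inf_le_left)), hYi, hYiso, by rw [hYr, hY₁r]⟩

/-- TU-GB (GOOD, type B).  `g ^ r = z`, `X ^ r - z` irreducible: every minimal invariant subspace has
dimension `r` and annihilator `X ^ r - C z`; in a nondegenerate invariant `Z` of dimension `≥ 2r` take a minimal
`Y₁` (isotropic: peel; else split) then a minimal `Y₂ ≤ Z ⊓ Y₁^⊥` (isotropic: peel; else TU-B); induction. -/
theorem exists_isotropic_inv_irr (hc : Ctx hF H g N) (r : ℕ) (hr : r.Prime) (z : F)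
    (hz : g ^ r = z • (1 : Module.End F V)) (hirr : Irreducible (X ^ r - C z : F[X]))
    {Z : Submodule F V} (hZi : Inv g Z) (hZ : HNondegOn H Z) (m : ℕ) (hm : 2 * m ≤ finrank F ↥Z)
    (hrm : r ∣ m) :
    ∃ W : Submodule F V, W ≤ Z ∧ Inv g W ∧ HIsotropic H W ∧ finrank F ↥W = m := by
  have hr0 : 0 < r := hr.pos
  induction m using Nat.strong_induction_on generalizing Z with
  | _ m ih =>
    rcases Nat.eq_zero_or_pos m with rfl | hmpos
    · refine ⟨⊥, bot_le, inv_bot g, ?_, finrank_bot F V⟩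
      intro x hx y _
      rw [Submodule.mem_bot] at hx
      rw [hx, map_zero, LinearMap.zero_apply]
    · have hrle : r ≤ m := Nat.le_of_dvd hmpos hrm
      obtain ⟨Y, hYZ, hYi, hYiso, hYr⟩ := gb_block hc r hr z hz hirr hZi hZ (by omega)
      obtain ⟨Z', hZ'i, hZ'Z, hZ', horth, hdisj, hdim⟩ := peel hc hZi hZ hYi hYZ hYiso
      obtain ⟨W', hW'Z', hW'i, hW'iso, hW'r⟩ := ih (m - r) (by omega) hZ'i hZ' (by omega)
        (Nat.dvd_sub hrm dvd_rfl)
      refine ⟨Y ⊔ W', sup_le hYZ (hW'Z'.trans hZ'Z), hYi.sup hW'i, ?_, ?_⟩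
      · intro x hx y hy
        obtain ⟨y₁, hy₁, w₁, hw₁, rfl⟩ := Submodule.mem_sup.1 hx
        obtain ⟨y₂, hy₂, w₂, hw₂, rfl⟩ := Submodule.mem_sup.1 hy
        have e : H (y₁ + w₁) (y₂ + w₂) = H y₁ y₂ + H y₁ w₂ + (H w₁ y₂ + H w₁ w₂) := by
          simp only [map_add, LinearMap.add_apply]
          abel
        rw [e, hYiso y₁ hy₁ y₂ hy₂, horth y₁ hy₁ w₂ (hW'Z' hw₂),
          herm_swap hc.herm (horth y₂ hy₂ w₁ (hW'Z' hw₁)), hW'iso w₁ hw₁ w₂ hw₂]
        simp
      · rw [finrank_sup_of_disjoint' Y W' (hdisj.mono_right hW'Z'), hYr, hW'r]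
        omega

end abs

end Cfsg.Agent.Lib.Helper14.Tu
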