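import Mathlib
import Cfsg.Prelude.Def_Classical
import Cfsg.Prelude.Def_LieClassical
import Cfsg.Agent.Lib.Helper14.TuDefs

/-!
# TU-ROOT (helper27, for helper14's S5953 "Tu" hive)
-/

set_option autoImplicit false

namespace Cfsg.Agent.Lib.Helper14.Tu

open Polynomial Module

/-- the pure power computation behind TU-ROOT: in any monoid, if `z ^ k = 1`, `0 < k` and `r` is prime to
`k` then `z` is the `r`-th power of a power of `z`. -/
theorem root_exists_pow {M : Type*} [Monoid M] (k r : ℕ) (hk0 : 0 < k) (hcop : Nat.Coprime r k) (z : M)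
    (hz : z ^ k = 1) : ∃ a : ℕ, (z ^ a) ^ k = 1 ∧ (z ^ a) ^ r = z := by
  rcases Nat.lt_or_ge 1 k with hk | hk
  · obtain ⟨a, -, ha⟩ := Nat.exists_mul_mod_eq_one_of_coprime hcop hk
    refine ⟨a, ?_, ?_⟩
    · rw [← pow_mul, mul_comm, pow_mul, hz, one_pow]
    · rw [← pow_mul, mul_comm]
      have h1 : r * a = k * (r * a / k) + 1 := by
        have := Nat.div_add_mod (r * a) k
        rw [ha] at this
        exact this.symm
      rw [h1, pow_succ, pow_mul, hz, one_pow, one_mul]
  · have hk1 : k = 1 := by omega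
    subst hk1
    rw [pow_one] at hz
    refine ⟨0, by rw [pow_zero, one_pow], ?_⟩
    rw [pow_zero, one_pow, hz]

section cnt
variable {F : Type*} [Field F] [Fintype F] {p : ℕ} [Fact p.Prime] [CharP F p] {q : ℕ}

set_option linter.unusedVariables false in
/-- TU-ROOT.  If `r ∤ q + 1` every element of norm one is the `r`-th power of an element of norm one. -/
theorem exists_root_of_not_dvd (hq : Fintype.card F = q ^ 2) (r : ℕ) (hr : r.Prime)
    (hrq : ¬ r ∣ q + 1) (z : F) (hz : z ^ (q + 1) = 1) : ∃ w : F, w ^ (q + 1) = 1 ∧ w ^ r = z := by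
  obtain ⟨a, h1, h2⟩ := root_exists_pow (q + 1) r (Nat.succ_pos q)
    ((Nat.Prime.coprime_iff_not_dvd hr).2 hrq) z hz
  exact ⟨z ^ a, h1, h2⟩

end cnt

end Cfsg.Agent.Lib.Helper14.Tu
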