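import Mathlib
import Cfsg.Prelude.Def_Classical
import Cfsg.Prelude.Def_LieClassical
import Cfsg.Agent.Lib.Helper14.TuDefs
import Cfsg.Agent.Lib.Helper2.BGFix

/-!
# TU-TB (helper27, for helper14's S5953 "Tu" hive): type B facts
-/

set_option autoImplicit false

namespace Cfsg.Agent.Lib.Helper14.Tu

open Polynomial Module

section cnt
variable {F : Type*} [Field F] [Fintype F] {q : ℕ}

/-- `2 ≤ q` when `|F| = q²` -/
theorem tb_two_le (hq : Fintype.card F = q ^ 2) : 2 ≤ q := by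
  have h1 : 1 < Fintype.card F := Fintype.one_lt_card
  rw [hq] at h1
  by_contra h
  have : q = 0 ∨ q = 1 := by omega
  rcases this with rfl | rfl <;> simp at h1

/-- a norm-one element which is an `r`-th power in `F` is an `r`-th power of a norm-one element, when `r` is
prime to `q - 1` -/
theorem tb_not_pow (hq : Fintype.card F = q ^ 2) (r : ℕ) (hr0 : r ≠ 0)
    (hcop : Nat.Coprime r (q - 1)) (z : F)
    (hzn : z ^ (q + 1) = 1) (hB : ¬ ∃ w : F, w ^ (q + 1) = 1 ∧ w ^ r = z) : ∀ b : F, b ^ r ≠ z := by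
  intro b hb
  have hq2 := tb_two_le hq
  have hb0 : b ≠ 0 := by
    rintro rfl
    rw [zero_pow hr0] at hb
    rw [← hb, zero_pow (Nat.succ_ne_zero q)] at hzn
    exact zero_ne_one hzn
  have h1 : (b ^ (q + 1)) ^ r = 1 := by rw [← pow_mul, mul_comm, pow_mul, hb, hzn]
  have h2 : (b ^ (q + 1)) ^ (q - 1) = 1 := by
    rw [← pow_mul]
    have h3 : (q + 1) * (q - 1) = Fintype.card F - 1 := by
      rw [hq]
      obtain ⟨k, rfl⟩ : ∃ k, q = k + 1 := ⟨q - 1, by omega⟩
      rw [Nat.add_sub_cancel]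
      have : (k + 1) ^ 2 = (k + 1 + 1) * k + 1 := by ring
      rw [this, Nat.add_sub_cancel]
    rw [h3]
    exact FiniteField.pow_card_sub_one_eq_one b hb0
  have h4 : (b ^ (q + 1)) ^ (Nat.gcd r (q - 1)) = 1 := pow_gcd_eq_one.2 ⟨h1, h2⟩
  rw [hcop, pow_one] at h4
  exact hB ⟨b, h4, hb⟩

/-- a norm-one element killed by `(q+1)/r` is the `r`-th power of a norm-one element -/
theorem tb_exists_root (hq : Fintype.card F = q ^ 2) (r t : ℕ) (hrt : q + 1 = r * t) (z : F)
    (hz : z ^ t = 1) : ∃ w : F, w ^ (q + 1) = 1 ∧ w ^ r = z := by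
  classical
  have hq2 := tb_two_le hq
  have ht0 : t ≠ 0 := by
    rintro rfl
    omega
  have hz0 : z ≠ 0 := by
    rintro rfl
    rw [zero_pow ht0] at hz
    exact zero_ne_one hz
  obtain ⟨γ, hγ⟩ := IsCyclic.exists_monoid_generator (α := Fˣ)
  have hord : orderOf γ = Fintype.card F - 1 := by
    rw [orderOf_eq_card_of_forall_mem_zpowers
      (fun x => (Submonoid.powers_le_zpowers γ) (hγ x)), Nat.card_eq_fintype_card,
      Fintype.card_units]
  obtain ⟨a, ha⟩ := (Submonoid.mem_powers_iff _ _).1 (hγ (Units.mk0 z hz0))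
  have h1 : γ ^ (a * t) = 1 := by
    rw [pow_mul, ha]
    apply Units.ext
    rw [Units.val_pow_eq_pow_val, Units.val_mk0, hz, Units.val_one]
  have h2 : Fintype.card F - 1 ∣ a * t := by
    rw [← hord]
    exact orderOf_dvd_iff_pow_eq_one.2 h1
  have h3 : Fintype.card F - 1 = (q - 1) * r * t := by
    rw [hq]
    obtain ⟨k, rfl⟩ : ∃ k, q = k + 1 := ⟨q - 1, by omega⟩
    rw [Nat.add_sub_cancel, mul_assoc, ← hrt]
    have : (k + 1) ^ 2 = k * (k + 1 + 1) + 1 := by ring
    rw [this, Nat.add_sub_cancel]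
  rw [h3] at h2
  have h4 : (q - 1) * r ∣ a := Nat.dvd_of_mul_dvd_mul_right (Nat.pos_of_ne_zero ht0) h2
  obtain ⟨a', rfl⟩ := h4
  refine ⟨((γ ^ ((q - 1) * a') : Fˣ) : F), ?_, ?_⟩
  · rw [← Units.val_pow_eq_pow_val, ← pow_mul]
    have h5 : (q - 1) * a' * (q + 1) = (Fintype.card F - 1) * a' := by
      rw [h3, hrt]
      ring
    rw [h5, pow_mul, ← hord, pow_orderOf_eq_one, one_pow, Units.val_one]
  · rw [← Units.val_pow_eq_pow_val, ← pow_mul]
    have h5 : (q - 1) * a' * r = (q - 1) * r * a' := by ring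
    rw [h5, ha, Units.val_mk0]

/-- TU-TB.  Type B. -/
theorem typeB_facts (hq : Fintype.card F = q ^ 2) (r : ℕ) (hr : r.Prime) (hr2 : r ≠ 2)
    (hrq : r ∣ q + 1) (n : ℕ) (hn : 0 < n) (x : Matrix.SpecialLinearGroup (Fin n) F) (z : F)
    (hz : ((x ^ r : Matrix.SpecialLinearGroup (Fin n) F) : Matrix (Fin n) (Fin n) F) =
      z • (1 : Matrix (Fin n) (Fin n) F)) (hzn : z ^ (q + 1) = 1)
    (hB : ¬ ∃ w : F, w ^ (q + 1) = 1 ∧ w ^ r = z) :
    Irreducible (X ^ r - C z : F[X]) ∧ padicValNat r (q + 1) < padicValNat r n := by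
  classical
  have : Fact r.Prime := ⟨hr⟩
  have hq2 := tb_two_le hq
  -- `r` is prime to `q - 1`
  have hcop : Nat.Coprime r (q - 1) := by
    rw [Nat.Prime.coprime_iff_not_dvd hr]
    intro h
    have h1 : r ∣ (q + 1) - (q - 1) := Nat.dvd_sub hrq h
    have h2 : (q + 1) - (q - 1) = 2 := by omega
    rw [h2] at h1
    exact hr2 ((Nat.prime_dvd_prime_iff_eq hr Nat.prime_two).1 h1)
  have hroot : ∀ b : F, b ^ r ≠ z := tb_not_pow hq r hr.ne_zero hcop z hzn hB
  refine ⟨X_pow_sub_C_irreducible_of_prime hr hroot, ?_⟩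
  -- the determinant
  set f : Module.End F (Fin n → F) := Matrix.toLin' (x : Matrix (Fin n) (Fin n) F) with hf
  have hfr : f ^ r = algebraMap F _ z := by
    rw [hf, ← Matrix.toLin'_pow, ← Matrix.SpecialLinearGroup.coe_pow, hz, map_smul,
      Matrix.toLin'_one, Algebra.algebraMap_eq_smul_one]
    rfl
  obtain ⟨d, hd1, hd2⟩ := Cfsg.Agent.Lib.Helper2.BG.det_of_pow_eq z hroot f hfr
  rw [Module.finrank_fin_fun] at hd1
  have hdet : LinearMap.det f = 1 := by
    rw [hf, LinearMap.det_toLin']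
    exact x.2
  have hodd : Even (r + 1) := by
    rcases hr.eq_two_or_odd' with h | h
    · exact absurd h hr2
    · exact h.add_one
  rw [hdet, hodd.neg_one_pow, one_mul] at hd2
  have hzd : z ^ d = 1 := hd2.symm
  have hd0 : d ≠ 0 := by
    rintro rfl
    omega
  -- reduce to `r ^ e ∣ d`
  set e := padicValNat r (q + 1) with he
  have hgoal : r ^ e ∣ d := by
    by_contra hnd
    have ho1 : orderOf z ∣ d := orderOf_dvd_iff_pow_eq_one.2 hzd
    have ho2 : orderOf z ∣ q + 1 := orderOf_dvd_iff_pow_eq_one.2 hzn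
    obtain ⟨t, ht⟩ := ho2
    have hno : ¬ r ^ e ∣ orderOf z := fun h => hnd (h.trans ho1)
    have hrt : r ∣ t := by
      by_contra hrt
      have hc : Nat.Coprime (r ^ e) t := Nat.Coprime.pow_left e ((Nat.Prime.coprime_iff_not_dvd hr).2 hrt)
      have h1 : r ^ e ∣ orderOf z * t := by
        rw [← ht]
        exact pow_padicValNat_dvd
      exact hno (hc.dvd_of_dvd_mul_right h1)
    obtain ⟨t', rfl⟩ := hrt
    have h2 : z ^ (orderOf z * t') = 1 := by rw [pow_mul, pow_orderOf_eq_one, one_pow]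
    exact hB (tb_exists_root hq r (orderOf z * t') (by rw [ht]; ring) z h2)
  have hn0 : n ≠ 0 := by omega
  have h3 : r ^ (e + 1) ∣ n := by
    rw [hd1, pow_succ, mul_comm]
    exact Nat.mul_dvd_mul_left r hgoal
  exact Nat.lt_of_succ_le ((padicValNat_dvd_iff_le hn0).1 h3)

end cnt

end Cfsg.Agent.Lib.Helper14.Tu
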