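import Cfsg.Agent.Lib.Helper23.U3Defs

/-!
# U3 hive (S2283, owner helper23), leaf U3-LINE3 (helper27): definitions of the sub-hive

`l3pt q a b c = a + (c h(a,b)) b`: for isotropic `a, b` and `c + c^q = 0` this is an isotropic point of
the line `a b` (it is `utv q b c` applied to `a`).
`l3cone q u v w`: the points `l3pt v u c` of the line `v u`, and the cone with vertex `u` over the points
`l3pt w v c` of the line `w v`: `l3pt (l3pt w v c) u d`.  These are `t + t²` pairwise non-proportional
isotropic vectors (`t` = number of trace-zero elements `≥ q`), more than the `q² + 1` lines through a point.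
-/

set_option autoImplicit false

namespace Cfsg.Agent.Lib.Helper23.U3

open Matrix Cfsg.Agent.Lib.Helper99 Cfsg.Agent.Lib.Helper13 Cfsg.Agent.Lib.Helper90.Psu

variable {F : Type*} [Field F]

/-- the point `a + (c h(a,b)) b` of the line `a b` -/
def l3pt (q : ℕ) (a b : Fin 3 → F) (c : F) : Fin 3 → F :=
  a + (c * Cfsg.hermForm 3 F q a b) • b

/-- the line `v u` and the cone with vertex `u` over the line `w v` -/
def l3cone (q : ℕ) (u v w : Fin 3 → F) :
    {c : F // c + c ^ q = 0} ⊕ ({c : F // c + c ^ q = 0} × {c : F // c + c ^ q = 0}) → (Fin 3 → F)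
  | Sum.inl c => l3pt q v u c.1
  | Sum.inr cd => l3pt q (l3pt q w v cd.1.1) u cd.2.1

end Cfsg.Agent.Lib.Helper23.U3
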