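import Mathlib
import Cfsg.Prelude.Def_Classical
import Cfsg.Prelude.Def_LieClassical
import Cfsg.Agent.Lib.Helper65.UndDefs
import Cfsg.Agent.Lib.Helper55.UndC1
import Cfsg.Agent.Lib.Helper27.TuGB

/-!
# UND-D1 (helper27, for helper65's S5954 "Und" hive): type B, nondegenerate invariant subspaces

`g ^ r = z`, `X ^ r - z` irreducible: nondegenerate invariant subspaces of every dimension `m ≤ dim Z`
divisible by `r` inside a nondegenerate invariant subspace `Z`.  Twin of TU-GB.
-/

set_option autoImplicit false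

namespace Cfsg.Agent.Lib.Helper65.Und

open Cfsg.Agent.Lib.Helper40.Herm Cfsg.Agent.Lib.Helper2.BG Cfsg.Agent.Lib.Helper14.Tu Polynomial Module

section absC
variable {F : Type*} [Field F] [Fintype F] {q : ℕ} {hF : Fintype.card F = q ^ 2}
  {V : Type*} [AddCommGroup V] [Module F V] [FiniteDimensional F V]
  {H : V →ₗ[F] V →ₛₗ[tauHom hF] F} {g : Module.End F V} {N : ℕ}

omit [Fintype F] [FiniteDimensional F V] in
/-- every nonzero vector of an invariant subspace lies in an invariant `r`-dimensional subspace of it -/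
theorem d1_exists_inv_mem (r : ℕ) (z : F)
    (hz : g ^ r = z • (1 : Module.End F V)) (hirr : Irreducible (X ^ r - C z : F[X]))
    {Z : Submodule F V} (hZi : Inv g Z) (v : V) (hv : v ∈ Z) (hv0 : v ≠ 0) :
    ∃ Y : Submodule F V, Y ≤ Z ∧ Inv g Y ∧ finrank F ↥Y = r ∧ v ∈ Y := by
  have hCi : Inv g (Cfsg.Agent.Lib.Helper40.SemisimpleConj.cyc g v) :=
    Cfsg.Agent.Lib.Helper40.SemisimpleConj.cyc_invt g v
  have hCZ : Cfsg.Agent.Lib.Helper40.SemisimpleConj.cyc g v ≤ Z :=
    Cfsg.Agent.Lib.Helper40.Symp.cyc_le v Z hZi hv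
  have hCne : Cfsg.Agent.Lib.Helper40.SemisimpleConj.cyc g v ≠ ⊥ := by
    intro h
    have := Cfsg.Agent.Lib.Helper40.Symp.self_mem_cyc (g := g) v
    rw [h, Submodule.mem_bot] at this
    exact hv0 this
  obtain ⟨-, Y, hYC, hYi, hYr⟩ := exists_inv_finrank_eq g hirr.ne_zero (gb_allIrrDeg r z hirr) hCi
    (fun w _ => gb_kill r z hz w) hCne
  have hr0 : 0 < r := by
    rcases Nat.eq_zero_or_pos r with rfl | h
    · exfalso
      rw [pow_zero] at hirr
      -- `1 - C z` is a constant, not irreducible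
      have h1 : (1 - C z : F[X]) = C (1 - z) := by rw [C_sub, C_1]
      rw [h1] at hirr
      by_cases h0 : (1 - z : F) = 0
      · rw [h0, C_0] at hirr
        exact not_irreducible_zero hirr
      · exact hirr.not_isUnit (isUnit_C.2 (IsUnit.mk0 _ h0))
    · exact h
  have hYne : Y ≠ ⊥ := by
    intro h
    rw [h, finrank_bot] at hYr
    omega
  obtain ⟨x, hxY, hx0⟩ := Submodule.exists_mem_ne_zero_of_ne_bot hYne
  have hvx : v ∈ Cfsg.Agent.Lib.Helper40.SemisimpleConj.cyc g x :=
    Cfsg.Agent.Lib.Helper40.Symp.mem_cyc_of_ne_zero (X ^ r - C z : F[X]) hirr v (gb_kill r z hz v) x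
      (hYC hxY) hx0
  exact ⟨Y, hYC.trans hCZ, hYi, hYr, Cfsg.Agent.Lib.Helper40.Symp.cyc_le x Y hYi hxY hvx⟩

/-- the basic block: a nondegenerate invariant `r`-dimensional subspace of a nonzero nondegenerate invariant
subspace -/
theorem d1_block (hc : Ctx hF H g N) (r : ℕ) (hr : r.Prime) (z : F)
    (hz : g ^ r = z • (1 : Module.End F V)) (hirr : Irreducible (X ^ r - C z : F[X]))
    {Z : Submodule F V} (hZi : Inv g Z) (hZ : HNondegOn H Z) (hZ0 : Z ≠ ⊥) :
    ∃ Y : Submodule F V, Y ≤ Z ∧ Inv g Y ∧ HNondegOn H Y ∧ finrank F ↥Y = r := by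
  by_contra hcon
  push Not at hcon
  -- every vector of `Z` is isotropic
  have hall : ∀ v ∈ Z, H v v = 0 := by
    intro v hv
    by_cases hv0 : v = 0
    · rw [hv0, map_zero]
    obtain ⟨Y, hYZ, hYi, hYr, hvY⟩ := d1_exists_inv_mem r z hz hirr hZi v hv hv0
    have hiso : HIsotropic H Y := by
      by_contra hni
      exact hcon Y hYZ hYi
        (gb_nondeg_of_not_iso hc hYi (gb_minimal r hr.pos z hz hirr hYr) hni) hYr
    exact hiso v hvY v hvY
  obtain ⟨c, hcc⟩ : ∃ c : F, tauHom hF c ≠ c := by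
    by_contra h
    push Not at h
    exact tauHom_ne_id hF (RingHom.ext h)
  -- polarisation
  have hiso : ∀ x ∈ Z, ∀ y ∈ Z, H x y = 0 := by
    intro x hx y hy
    have e1 := hall (x + y) (Z.add_mem hx hy)
    have x1 : H (x + y) (x + y) = H x x + H x y + H y x + H y y := by
      simp only [map_add, LinearMap.add_apply]; ring
    rw [x1, hall x hx, hall y hy] at e1
    have e2 := hall (c • x + y) (Z.add_mem (Z.smul_mem c hx) hy)
    have x2 : H (c • x + y) (c • x + y) =
        c * tauHom hF c * H x x + c * H x y + tauHom hF c * H y x + H y y := by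
      simp only [map_add, LinearMap.add_apply, map_smul, LinearMap.smul_apply, map_smulₛₗ,
        smul_eq_mul]
      ring
    rw [x2, hall x hx, hall y hy] at e2
    have e3 : (tauHom hF c - c) * H y x = 0 := by
      linear_combination e2 - c * e1
    rcases mul_eq_zero.1 e3 with h | h
    · exact absurd (sub_eq_zero.1 h) hcc
    · exact herm_swap hc.herm h
  apply hZ0
  rw [eq_bot_iff]
  intro x hx
  rw [Submodule.mem_bot]
  exact hZ x hx (fun y hy => hiso x hx y hy)

/-- UND-D1 (type B). -/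
theorem exists_nd_inv_irr (hc : Ctx hF H g N) (r : ℕ) (hr : r.Prime) (z : F)
    (hz : g ^ r = z • (1 : Module.End F V)) (hirr : Irreducible (X ^ r - C z : F[X]))
    {Z : Submodule F V} (hZi : Inv g Z) (hZ : HNondegOn H Z) (m : ℕ) (hm : m ≤ finrank F ↥Z)
    (hrm : r ∣ m) : FixesIn H g Z m := by
  have hr0 : 0 < r := hr.pos
  induction m using Nat.strong_induction_on generalizing Z with
  | _ m ih =>
    rcases Nat.eq_zero_or_pos m with rfl | hmpos
    · refine ⟨⊥, bot_le, inv_bot g, ?_, finrank_bot F V⟩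
      intro x hx _
      rw [Submodule.mem_bot] at hx
      exact hx
    · have hrle : r ≤ m := Nat.le_of_dvd hmpos hrm
      have hZ0 : Z ≠ ⊥ := by
        intro h
        rw [h, finrank_bot] at hm
        omega
      obtain ⟨Y, hYZ, hYi, hYnd, hYr⟩ := d1_block hc r hr z hz hirr hZi hZ hZ0
      obtain ⟨hZ₂i, hZ₂, -, -, hZ₂r⟩ := split hc hZi hZ hYi hYZ hYnd
      obtain ⟨W', hW'Z₂, hW'i, hW'nd, hW'r⟩ := ih (m - r) (by omega) hZ₂i hZ₂ (by omega)
        (Nat.dvd_sub hrm dvd_rfl)
      have horth : ∀ u ∈ Y, ∀ v ∈ W', H u v = 0 := by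
        intro u hu v hv
        have hv' : v ∈ hperp H Y := (Submodule.mem_inf.1 (hW'Z₂ hv)).2
        exact herm_swap hc.herm (hv' u hu)
      obtain ⟨hnd, -, hfr⟩ := nd_sup hc.herm hYnd hW'nd horth
      refine ⟨Y ⊔ W', sup_le hYZ (hW'Z₂.trans inf_le_left), hYi.sup hW'i, hnd, ?_⟩
      rw [hfr, hYr, hW'r]
      omega

end absC

end Cfsg.Agent.Lib.Helper65.Und
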